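import Mathlib
import Cfsg.Agent.TwoFusion.QDBasic
import Cfsg.Agent.TwoFusion.WreathedBasic

/-!
# The model of a Sylow 2-subgroup of type `PSL(5, q)`, `q` odd: `S = W ≀ 2` inside `G`

`Wr S f w`: `f : W × W →* G` is injective, `w` is an involution swapping the two factors and
`S` is the disjoint union of `range f` and `range f * w`.
-/

set_option autoImplicit false

namespace Cfsg.Agent.TypeLFive.Model

open Cfsg.Agent.TwoFusion.QDBasic Cfsg.Agent.TwoFusion.WreathedBasic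

/-- `S` is the wreath product of `W` (embedded twice by `f`) by the involution `w`. -/
structure Wr {G W : Type*} [Group G] [Group W] (S : Subgroup G) (f : W × W →* G) (w : G) :
    Prop where
  inj : Function.Injective f
  mem : ∀ p, f p ∈ S
  w_mem : w ∈ S
  w_w : w * w = 1
  w_f : ∀ x y, w * f (x, y) = f (y, x) * w
  w_ne : ∀ p, f p ≠ w
  cases : ∀ s ∈ S, (∃ x y, s = f (x, y)) ∨ (∃ x y, s = f (x, y) * w)

section basic

variable {G W : Type*} [Group G] [Group W] {S : Subgroup G} {f : W × W →* G} {w : G}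

namespace Wr

theorem w_inv (h : Wr S f w) : w⁻¹ = w := inv_eq_of_mul_eq_one_left h.w_w

theorem w_ne_one (h : Wr S f w) : w ≠ 1 := by
  intro h1
  exact h.w_ne 1 (by rw [map_one, h1])

theorem f_eq_iff (h : Wr S f w) (p q : W × W) : f p = f q ↔ p = q := h.inj.eq_iff

theorem f_eq_one_iff (h : Wr S f w) (p : W × W) : f p = 1 ↔ p = 1 := by
  rw [← map_one f, h.inj.eq_iff]

theorem f_ne_fw (h : Wr S f w) (p q : W × W) : f p ≠ f q * w := by
  intro h1
  apply h.w_ne (q⁻¹ * p)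
  rw [map_mul, map_inv, h1, inv_mul_cancel_left]

theorem fw_eq_iff (h : Wr S f w) (p q : W × W) : f p * w = f q * w ↔ p = q := by
  rw [mul_left_inj, h.inj.eq_iff]

theorem f_w (h : Wr S f w) (x y : W) : f (x, y) * w = w * f (y, x) := (h.w_f y x).symm

/-- `w f(x,y) w⁻¹ = f(y,x)`. -/
theorem w_conj (h : Wr S f w) (x y : W) : w * f (x, y) * w⁻¹ = f (y, x) := by
  rw [h.w_f, mul_inv_cancel_right]

theorem w_conj' (h : Wr S f w) (x y : W) : w * f (x, y) * w = f (y, x) := by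
  rw [h.w_f, mul_assoc, h.w_w, mul_one]

theorem fw_mul_f (h : Wr S f w) (x y a b : W) :
    f (x, y) * w * f (a, b) = f (x * b, y * a) * w := by
  rw [mul_assoc, h.w_f, ← mul_assoc, ← map_mul, Prod.mk_mul_mk]

theorem fw_mul_fw (h : Wr S f w) (x y a b : W) :
    f (x, y) * w * (f (a, b) * w) = f (x * b, y * a) := by
  rw [← mul_assoc, h.fw_mul_f, mul_assoc, h.w_w, mul_one]

theorem f_mul_fw (_h : Wr S f w) (x y a b : W) :
    f (x, y) * (f (a, b) * w) = f (x * a, y * b) * w := by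
  rw [← mul_assoc, ← map_mul, Prod.mk_mul_mk]

theorem f_mul_f (_h : Wr S f w) (x y a b : W) : f (x, y) * f (a, b) = f (x * a, y * b) := by
  rw [← map_mul, Prod.mk_mul_mk]

theorem fw_inv (h : Wr S f w) (x y : W) : (f (x, y) * w)⁻¹ = f (y⁻¹, x⁻¹) * w := by
  apply inv_eq_of_mul_eq_one_left
  rw [h.fw_mul_fw, inv_mul_cancel, inv_mul_cancel]
  exact map_one f

theorem fw_sq (h : Wr S f w) (x y : W) : f (x, y) * w * (f (x, y) * w) = f (x * y, y * x) :=
  h.fw_mul_fw x y x y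

/-- `f(x,y) w` is an involution iff `y = x⁻¹`. -/
theorem fw_sq_eq_one_iff (h : Wr S f w) (x y : W) :
    f (x, y) * w * (f (x, y) * w) = 1 ↔ y = x⁻¹ := by
  rw [h.fw_sq, h.f_eq_one_iff, Prod.mk_eq_one]
  constructor
  · rintro ⟨h1, -⟩; exact (inv_eq_of_mul_eq_one_right h1).symm
  · rintro rfl; simp

/-- the involutions outside `T` are `T`-conjugate to `w`: `f(x,1) w f(x,1)⁻¹ = f(x, x⁻¹) w`. -/
theorem f_conj_w (h : Wr S f w) (x y : W) : f (x, y) * w * (f (x, y))⁻¹ =
    f (x * y⁻¹, y * x⁻¹) * w := by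
  rw [← map_inv, Prod.inv_mk, h.fw_mul_f]

theorem f_conj_fw (h : Wr S f w) (x y a b : W) : f (x, y) * (f (a, b) * w) * (f (x, y))⁻¹ =
    f (x * a * y⁻¹, y * b * x⁻¹) * w := by
  rw [← map_inv, Prod.inv_mk, h.f_mul_fw, h.fw_mul_f]

theorem fw_mem (h : Wr S f w) (p : W × W) : f p * w ∈ S := S.mul_mem (h.mem p) h.w_mem

theorem range_le (h : Wr S f w) : f.range ≤ S := by
  rintro _ ⟨p, rfl⟩
  exact h.mem p

theorem fw_not_mem_range (h : Wr S f w) (p : W × W) : f p * w ∉ f.range := by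
  rintro ⟨q, hq⟩
  exact h.f_ne_fw q p hq

theorem w_not_mem_range (h : Wr S f w) : w ∉ f.range := by
  rintro ⟨q, hq⟩
  exact h.w_ne q hq

/-- equality of an element of `S` with commuting: `f(x,y) w` commutes with `f(a,b)`. -/
theorem fw_comm_f_iff (h : Wr S f w) (x y a b : W) :
    f (x, y) * w * f (a, b) = f (a, b) * (f (x, y) * w) ↔ x * b = a * x ∧ y * a = b * y := by
  rw [h.fw_mul_f, h.f_mul_fw, h.fw_eq_iff, Prod.mk.injEq]

theorem f_comm_f_iff (h : Wr S f w) (x y a b : W) :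
    f (x, y) * f (a, b) = f (a, b) * f (x, y) ↔ x * a = a * x ∧ y * b = b * y := by
  rw [h.f_mul_f, h.f_mul_f, h.f_eq_iff, Prod.mk.injEq]

theorem f_comm_w_iff (h : Wr S f w) (x y : W) : f (x, y) * w = w * f (x, y) ↔ x = y := by
  rw [h.w_f, h.fw_eq_iff, Prod.mk.injEq]
  constructor
  · rintro ⟨h1, -⟩; exact h1
  · rintro rfl; exact ⟨rfl, rfl⟩

/-- transport along an automorphism of `W × W` commuting with the swap. -/
theorem comp (h : Wr S f w) (φ : W × W ≃* W × W)
    (hφ : ∀ x y, φ (y, x) = ((φ (x, y)).2, (φ (x, y)).1)) :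
    Wr S (f.comp φ.toMonoidHom) w where
  inj := h.inj.comp φ.injective
  mem p := h.mem _
  w_mem := h.w_mem
  w_w := h.w_w
  w_f x y := by
    have h1 := h.w_f (φ (x, y)).1 (φ (x, y)).2
    simp only [MonoidHom.comp_apply, MulEquiv.coe_toMonoidHom]
    rw [hφ x y]
    exact h1
  w_ne p := h.w_ne _
  cases s hs := by
    rcases h.cases s hs with ⟨x, y, rfl⟩ | ⟨x, y, rfl⟩
    · left
      refine ⟨(φ.symm (x, y)).1, (φ.symm (x, y)).2, ?_⟩
      simp
    · right
      refine ⟨(φ.symm (x, y)).1, (φ.symm (x, y)).2, ?_⟩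
      simp

theorem comp_range (φ : W × W ≃* W × W) : (f.comp φ.toMonoidHom).range = f.range := by
  ext g
  constructor
  · rintro ⟨p, rfl⟩; exact ⟨φ p, rfl⟩
  · rintro ⟨p, rfl⟩; exact ⟨φ.symm p, by simp⟩

/-- conjugating the whole model by an element of `G`. -/
theorem conj (h : Wr S f w) (g : G) :
    Wr (S.map (MulAut.conj g).toMonoidHom) ((MulAut.conj g).toMonoidHom.comp f)
      (g * w * g⁻¹) where
  inj := (MulAut.conj g).injective.comp h.inj
  mem p := ⟨f p, h.mem p, rfl⟩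
  w_mem := ⟨w, h.w_mem, rfl⟩
  w_w := by
    have := h.w_w
    calc g * w * g⁻¹ * (g * w * g⁻¹) = g * (w * w) * g⁻¹ := by group
      _ = 1 := by rw [this]; group
  w_f x y := by
    simp only [MonoidHom.comp_apply, MulEquiv.coe_toMonoidHom, MulAut.conj_apply]
    calc g * w * g⁻¹ * (g * f (x, y) * g⁻¹) = g * (w * f (x, y)) * g⁻¹ := by group
      _ = g * (f (y, x) * w) * g⁻¹ := by rw [h.w_f]
      _ = g * f (y, x) * g⁻¹ * (g * w * g⁻¹) := by group
  w_ne p hp := by
    simp only [MonoidHom.comp_apply, MulEquiv.coe_toMonoidHom, MulAut.conj_apply] at hp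
    exact h.w_ne p (mul_left_cancel (mul_right_cancel hp))
  cases s hs := by
    obtain ⟨t, ht, rfl⟩ := hs
    rcases h.cases t ht with ⟨x, y, rfl⟩ | ⟨x, y, rfl⟩
    · exact Or.inl ⟨x, y, rfl⟩
    · refine Or.inr ⟨x, y, ?_⟩
      simp only [MonoidHom.comp_apply, MulEquiv.coe_toMonoidHom, MulAut.conj_apply]
      group

/-! ### orders -/

theorem card_range (h : Wr S f w) : Nat.card f.range = Nat.card W * Nat.card W := by
  rw [← Nat.card_prod]
  exact (Nat.card_congr (MonoidHom.ofInjective h.inj).toEquiv).symm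

end Wr

/-- The twist `(x, y) ↦ (x μ(y), y μ(x))` by a hom `μ : W → Z(W)`. -/
def twistHom (μ : W →* W) (hμ : ∀ x y, μ x * y = y * μ x) : W × W →* W × W where
  toFun p := (p.1 * μ p.2, p.2 * μ p.1)
  map_one' := by simp
  map_mul' p q := by
    ext
    · simp only [Prod.fst_mul, Prod.snd_mul, map_mul]
      calc p.1 * q.1 * (μ p.2 * μ q.2) = p.1 * (q.1 * μ p.2) * μ q.2 := by group
        _ = p.1 * (μ p.2 * q.1) * μ q.2 := by rw [hμ]
        _ = p.1 * μ p.2 * (q.1 * μ q.2) := by group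
    · simp only [Prod.fst_mul, Prod.snd_mul, map_mul]
      calc p.2 * q.2 * (μ p.1 * μ q.1) = p.2 * (q.2 * μ p.1) * μ q.1 := by group
        _ = p.2 * (μ p.1 * q.2) * μ q.1 := by rw [hμ]
        _ = p.2 * μ p.1 * (q.2 * μ q.1) := by group

theorem twistHom_apply (μ : W →* W) (hμ : ∀ x y, μ x * y = y * μ x) (x y : W) :
    twistHom μ hμ (x, y) = (x * μ y, y * μ x) := rfl

theorem twistHom_injective (μ : W →* W) (hμ : ∀ x y, μ x * y = y * μ x)
    (hinj : ∀ x, μ (μ x) = x → x = 1) : Function.Injective (twistHom μ hμ) := by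
  rw [injective_iff_map_eq_one]
  rintro ⟨x, y⟩ hxy
  rw [twistHom_apply, Prod.mk_eq_one] at hxy
  obtain ⟨h1, h2⟩ := hxy
  have hx : x = μ y⁻¹ := by rw [map_inv]; exact eq_inv_of_mul_eq_one_left h1
  have hy : y = μ x⁻¹ := by rw [map_inv]; exact eq_inv_of_mul_eq_one_left h2
  have hx1 : x = 1 := by
    apply hinj
    conv_rhs => rw [hx, hy]
    simp
  have hy1 : y = 1 := by rw [hy, hx1]; simp
  rw [hx1, hy1]; rfl

/-- The twist as an automorphism. -/
noncomputable def twistEquiv [Finite W] (μ : W →* W) (hμ : ∀ x y, μ x * y = y * μ x)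
    (hinj : ∀ x, μ (μ x) = x → x = 1) : W × W ≃* W × W :=
  MulEquiv.ofBijective (twistHom μ hμ)
    (Finite.injective_iff_bijective.1 (twistHom_injective μ hμ hinj))

/-- Twisting the model: `f' (x, y) = f (x μ(y), y μ(x))`. -/
theorem Wr.twist [Finite W] (h : Wr S f w) (μ : W →* W) (hμ : ∀ x y, μ x * y = y * μ x)
    (hinj : ∀ x, μ (μ x) = x → x = 1) : Wr S (f.comp (twistHom μ hμ)) w :=
  h.comp (twistEquiv μ hμ hinj) (fun _ _ => rfl)

end basic

end Cfsg.Agent.TypeLFive.Model
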