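import Mathlib
import Cfsg.Prelude.Def_CaseTheorems
import Cfsg.Agent.TypeLFive.Model

/-!
# Interface between steps (1)-(3) and step (4) of piece (C), S0511

`CData f Q ζ`: `t = f (ζ, 1)`, `C = C_G(t)` has Sylow 2-subgroup `T = f (W × W)`; `f (Q × 1)` and `f (1 × W)` are
strongly closed in `T` with respect to `C`, and the `C`-fusion in `f (1 × W)` generates `W`.
-/

set_option autoImplicit false

namespace Cfsg.Agent.TypeLFive.CentData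

open Subgroup

/-- The data produced by steps (1)-(3). -/
structure CData {G W : Type*} [Group G] [Group W] (f : W × W →* G) (Q : Subgroup W) (ζ : W) : Prop where
  inj : Function.Injective f
  finW : Finite W
  twoW : IsPGroup 2 W
  ζ_Q : ζ ∈ Q
  ζ_center : ∀ x, ζ * x = x * ζ
  /-- `T` is a maximal 2-subgroup of `C_G(t)`. -/
  sylow_t : ∀ R : Subgroup G, IsPGroup 2 R → f.range ≤ R →
    (∀ r ∈ R, r * f (ζ, 1) = f (ζ, 1) * r) → R = f.range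
  clQ : ∀ c : G, c * f (ζ, 1) = f (ζ, 1) * c → ∀ x ∈ Q, ∀ y₁ y₂ : W, c * f (x, 1) * c⁻¹ = f (y₁, y₂) →
    y₁ ∈ Q ∧ y₂ = 1
  clW : ∀ c : G, c * f (ζ, 1) = f (ζ, 1) * c → ∀ x y₁ y₂ : W, c * f (1, x) * c⁻¹ = f (y₁, y₂) → y₁ = 1
  gen : ∀ H : Subgroup W, (∀ c : G, c * f (ζ, 1) = f (ζ, 1) * c → ∀ x y : W, c * f (1, x) * c⁻¹ = f (1, y) →
    x⁻¹ * y ∈ H) → H = ⊤
  centQ : ∃ c : W, ∀ x : W, (∀ q ∈ Q, x * q = q * x) → x ∈ zpowers c
  quoQ : ∃ v : W, ∀ x : W, ∃ i : ℤ, v ^ i * x ∈ Q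
  aut : IsPGroup 2 (MulAut W)
  type : Cfsg.IsQuasiDihedral W ∨ Cfsg.IsWreathed W

end Cfsg.Agent.TypeLFive.CentData
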