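import Mathlib
import Cfsg.Prelude.Def_CaseTheorems
import Cfsg.Prelude.Def_TwoFusion
import Cfsg.Agent.TwoFusion.TransferIndex
import Cfsg.Agent.S0542

/-!
# Strongly closed subgroups with cyclic quotient

`Q` strongly closed in the Sylow 2-subgroup `T` of `X`, `N` the normal closure of `Q`.  If `(N ∩ T)/Q` is cyclic then
`N ∩ T = Q`.
-/

set_option autoImplicit false
set_option linter.style.haveILetI false

namespace Cfsg.Agent.TypeLFive.CentCyc

open Subgroup

variable {X : Type*} [Group X]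

theorem mem_of_odd_zpow [Finite X] {Q : Subgroup X} {c : X} (hc : ∃ k : ℕ, c ^ 2 ^ k = 1) {i : ℤ} (hi : Odd i)
    (h : c ^ i ∈ Q) : c ∈ Q := by
  obtain ⟨k, hk⟩ := hc
  have hcop : IsCoprime i ((2 : ℤ) ^ k) := by
    apply IsCoprime.pow_right
    rw [Int.isCoprime_iff_gcd_eq_one]
    rw [Int.gcd_comm]
    have := (Int.prime_two.coprime_iff_not_dvd (n := i)).2 (by
      rw [← even_iff_two_dvd, Int.not_even_iff_odd]; exact hi)
    rwa [Int.isCoprime_iff_gcd_eq_one] at this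
  obtain ⟨u, v, huv⟩ := hcop
  have : c = (c ^ i) ^ u * (c ^ ((2 : ℕ) ^ k)) ^ v := by
    rw [← zpow_mul, ← zpow_natCast, ← zpow_mul, ← zpow_add]
    have : i * u + ((2 ^ k : ℕ) : ℤ) * v = 1 := by push_cast; linarith
    rw [this, zpow_one]
  rw [this, hk, one_zpow, mul_one]
  exact Q.zpow_mem h u

theorem zpow_mul_pow_mem {T Q : Subgroup X} (hn : ∀ x ∈ T, ∀ q ∈ Q, x * q * x⁻¹ ∈ Q) {c s : X} (hc : c ∈ T) {i : ℤ}
    (h : c ^ i * s ∈ Q) : ∀ k : ℕ, c ^ (i * k) * s ^ k ∈ Q := by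
  intro k
  induction k with
  | zero => simp
  | succ k ih =>
    have e : c ^ (i * (k + 1 : ℕ)) * s ^ (k + 1) =
        (c ^ i * (c ^ (i * k) * s ^ k) * (c ^ i)⁻¹) * (c ^ i * s) := by
      have : i * ((k + 1 : ℕ) : ℤ) = i + i * k := by push_cast; ring
      rw [this, zpow_add, pow_succ]; group
    rw [e]
    exact mul_mem (hn _ (T.zpow_mem hc i) _ ih) h

variable [Finite X]

/-- Cyclic quotient lemma. -/
theorem mem_of_cyclic (T : Sylow 2 X) {Q : Subgroup X} (hQ : Cfsg.IsStronglyClosed Q (T : Subgroup X)) {c : X}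
    (hcT : c ∈ (T : Subgroup X)) (hcN : c ∈ normalClosure (Q : Set X))
    (hcyc : ∀ x ∈ (T : Subgroup X), x ∈ normalClosure (Q : Set X) → ∃ i : ℤ, c ^ i * x ∈ Q) :
    ∀ x ∈ (T : Subgroup X), x ∈ normalClosure (Q : Set X) → x ∈ Q := by
  classical
  haveI : Fact (Nat.Prime 2) := ⟨Nat.prime_two⟩
  suffices hcQ : c ∈ Q by
    intro x hx hxN
    obtain ⟨i, hi⟩ := hcyc x hx hxN
    have := mul_mem (inv_mem (Q.zpow_mem hcQ i)) hi
    rwa [inv_mul_cancel_left] at this
  by_contra hcQ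
  have hQT := hQ.1
  have hsc := hQ.2
  have hn : ∀ x ∈ (T : Subgroup X), ∀ q ∈ Q, x * q * x⁻¹ ∈ Q := fun x hx q hq =>
    hsc q hq x (mul_mem (mul_mem hx (hQT hq)) (inv_mem hx))
  have hc2 : ∃ k : ℕ, c ^ 2 ^ k = 1 := by
    obtain ⟨k, hk⟩ := T.2 ⟨c, hcT⟩
    exact ⟨k, congrArg Subtype.val hk⟩
  have hex : ∃ m : ℕ, c ^ 2 ^ m ∈ Q := by
    obtain ⟨k, hk⟩ := hc2
    exact ⟨k, by rw [hk]; exact one_mem _⟩
  set m := Nat.find hex with hm
  have hm1 : c ^ 2 ^ m ∈ Q := Nat.find_spec hex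
  have hm0 : m ≠ 0 := by
    intro h0
    rw [h0] at hm1
    exact hcQ (by simpa using hm1)
  obtain ⟨l, hl⟩ := Nat.exists_eq_succ_of_ne_zero hm0
  set a := 2 ^ l with ha
  have hca : c ^ a ∉ Q := Nat.find_min hex (m := l) (by omega)
  have h2a : c ^ (2 * a) ∈ Q := by
    have : 2 * a = 2 ^ m := by rw [hl, Nat.succ_eq_add_one, pow_succ, ha, mul_comm]
    rw [this]; exact hm1
  -- parity
  have hpar : ∀ (s : X) (i : ℤ), c ^ i * s ∈ Q → (s ^ a ∈ Q ↔ Even i) := by
    intro s i his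
    have h1 := zpow_mul_pow_mem hn hcT his a
    have h2 : s ^ a ∈ Q ↔ c ^ (i * a) ∈ Q := by
      constructor
      · intro hs
        have := mul_mem h1 (inv_mem hs)
        rwa [mul_inv_cancel_right] at this
      · intro hs
        have := mul_mem (inv_mem hs) h1
        rwa [inv_mul_cancel_left] at this
    rw [h2]
    constructor
    · intro h3
      by_contra h4
      rw [Int.not_even_iff_odd] at h4
      apply hca
      refine mem_of_odd_zpow (Q := Q) (c := c ^ a) ?_ h4 ?_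
      · obtain ⟨k, hk⟩ := hc2
        exact ⟨k, by rw [← pow_mul, mul_comm, pow_mul, hk, one_pow]⟩
      · rw [← zpow_natCast, ← zpow_mul, mul_comm]; exact h3
    · rintro ⟨j, rfl⟩
      have : (j + j) * (a : ℤ) = ((2 * a : ℕ) : ℤ) * j := by push_cast; ring
      rw [this, zpow_mul, zpow_natCast]
      exact Q.zpow_mem h2a j
  set N := normalClosure (Q : Set X) with hN
  have hQN : Q ≤ N := fun x hx => subset_normalClosure hx
  haveI hNn : N.Normal := normalClosure_normal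
  obtain ⟨P, hP⟩ := Cfsg.Agent.S0542.result 2 N hNn.isSubnormal T
  have hPm : ∀ x : N, x ∈ (P : Subgroup N) ↔ (x : X) ∈ (T : Subgroup X) := by
    intro x; rw [hP, mem_subgroupOf]
  let D : Subgroup N :=
    { carrier := {x | (x : X) ∈ (T : Subgroup X) ∧ ∃ i : ℤ, c ^ (2 * i) * (x : X) ∈ Q}
      one_mem' := ⟨by simp [one_mem], 0, by simp⟩
      mul_mem' := by
        rintro x y ⟨hx, i, hi⟩ ⟨hy, j, hj⟩
        refine ⟨by rw [coe_mul]; exact mul_mem hx hy, i + j, ?_⟩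
        have e : c ^ (2 * (i + j)) * ((x * y : N) : X) =
            (c ^ (2 * j) * (c ^ (2 * i) * (x : X)) * (c ^ (2 * j))⁻¹) * (c ^ (2 * j) * (y : X)) := by
          have : 2 * (i + j) = 2 * j + 2 * i := by ring
          rw [this, zpow_add, coe_mul]; group
        rw [e]
        exact mul_mem (hn _ (zpow_mem hcT _) _ hi) hj
      inv_mem' := by
        rintro x ⟨hx, i, hi⟩
        refine ⟨by rw [coe_inv]; exact inv_mem hx, -i, ?_⟩
        have e : c ^ (2 * -i) * ((x⁻¹ : N) : X) = (x : X) * 1 * (c ^ (2 * i) * x)⁻¹ * (x : X)⁻¹ := by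
          have : 2 * -i = -(2 * i) := by ring
          rw [this, zpow_neg, coe_inv]; group
        rw [e, mul_one]
        exact hn _ hx _ (inv_mem hi) }
  have hDm : ∀ x : N, x ∈ D ↔ (x : X) ∈ (T : Subgroup X) ∧ ∃ i : ℤ, c ^ (2 * i) * (x : X) ∈ Q := fun x => Iff.rfl
  obtain ⟨K, hKn, -, hKD⟩ := Cfsg.Agent.TwoFusion.TransferIndex.exists_normal_of_fusion P D
    (fun x hx => (hPm x).2 hx.1) (by
      intro s hs g hgs
      replace hs := (hPm s).1 hs
      replace hgs := (hPm _).1 hgs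
      obtain ⟨i, hi⟩ := hcyc s hs s.2
      obtain ⟨j, hj⟩ := hcyc _ hgs (g * s * g⁻¹).2
      have h1 := hpar _ i hi
      have h2 := hpar _ j hj
      have h3 : ((s : X) ^ a ∈ Q) ↔ (((g * s * g⁻¹ : N) : X) ^ a ∈ Q) := by
        have e : ((g * s * g⁻¹ : N) : X) ^ a = (g : X) * (s : X) ^ a * (g : X)⁻¹ := by
          rw [coe_mul, coe_mul, coe_inv, conj_pow]
        constructor
        · intro h
          rw [e]
          refine hsc _ h _ ?_
          rw [← e]
          exact pow_mem hgs a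
        · intro h
          rw [e] at h
          have := hsc _ h (g : X)⁻¹ (by
            have e2 : (g : X)⁻¹ * ((g : X) * (s : X) ^ a * (g : X)⁻¹) * (g : X)⁻¹⁻¹ = (s : X) ^ a := by group
            rw [e2]; exact pow_mem hs a)
          have e2 : (g : X)⁻¹ * ((g : X) * (s : X) ^ a * (g : X)⁻¹) * (g : X)⁻¹⁻¹ = (s : X) ^ a := by group
          rwa [e2] at this
      have h4 : Even i ↔ Even j := by rw [← h1, ← h2]; exact h3
      have h5 : Even (j - i) := by rw [Int.even_sub]; exact h4.symm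
      obtain ⟨r, hr⟩ := h5
      rw [hDm]
      refine ⟨?_, r, ?_⟩
      · rw [coe_mul, coe_inv]; exact mul_mem (inv_mem hs) hgs
      · have hri : 2 * r = j - i := by rw [hr]; ring
        have e : c ^ (2 * r) * ((s⁻¹ * (g * s * g⁻¹) : N) : X) =
            (c ^ (j - i) * (c ^ i * (s : X))⁻¹ * (c ^ (j - i))⁻¹) * (c ^ j * ((g * s * g⁻¹ : N) : X)) := by
          rw [hri, coe_mul, coe_inv]
          have : j - i = j + -i := by ring
          rw [this, zpow_add, zpow_neg]; group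
        rw [e]
        exact mul_mem (hn _ (zpow_mem hcT _) _ (inv_mem hi)) hj)
  -- every conjugate of `Q` lies in `K`
  have hQK : ∀ (x : N), (x : X) ∈ Q → x ∈ K := by
    intro x hx
    have : x ∈ K ⊓ (P : Subgroup N) := by
      rw [hKD, hDm]
      exact ⟨hQT hx, 0, by simpa using hx⟩
    exact this.1
  have hall : N ≤ K.map N.subtype := by
    have hKle : ∀ (g : X), ∀ q ∈ Q, g * q * g⁻¹ ∈ K.map N.subtype := by
      intro g q hq
      -- the conjugate of `Q` as a subgroup of `N`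
      let R : Subgroup N := (Q.map (MulAut.conj g).toMonoidHom).subgroupOf N
      have hRp : IsPGroup 2 R := by
        rintro ⟨⟨y, hyN⟩, hy⟩
        obtain ⟨q', hq', hqy⟩ := hy
        obtain ⟨k, hk⟩ := T.2 ⟨q', hQT hq'⟩
        refine ⟨k, Subtype.ext (Subtype.ext ?_)⟩
        change y ^ 2 ^ k = 1
        have hk' : q' ^ 2 ^ k = 1 := congrArg Subtype.val hk
        have hy' : y = g * q' * g⁻¹ := by rw [← show (MulAut.conj g).toMonoidHom q' = y from hqy]; simp
        rw [hy', conj_pow, hk']; simp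
      obtain ⟨P', hP'⟩ := hRp.exists_le_sylow
      obtain ⟨n, hn'⟩ := MulAction.exists_smul_eq N P' P
      have hgq : g * q * g⁻¹ ∈ N := hNn.conj_mem _ (hQN hq) g
      have h1 : (⟨g * q * g⁻¹, hgq⟩ : N) ∈ R := ⟨q, hq, by simp⟩
      have h2 : n * ⟨g * q * g⁻¹, hgq⟩ * n⁻¹ ∈ (P : Subgroup N) := by
        rw [← hn']
        exact ⟨_, hP' h1, rfl⟩
      replace h2 := (hPm _).1 h2
      have h3 : ((n * ⟨g * q * g⁻¹, hgq⟩ * n⁻¹ : N) : X) ∈ Q := by
        have e : ((n * ⟨g * q * g⁻¹, hgq⟩ * n⁻¹ : N) : X) = ((n : X) * g) * q * ((n : X) * g)⁻¹ := by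
          push_cast; group
        rw [e] at h2 ⊢
        exact hsc q hq _ h2
      have h4 := hQK _ h3
      have h5 := hKn.conj_mem _ h4 n⁻¹
      have e : n⁻¹ * (n * ⟨g * q * g⁻¹, hgq⟩ * n⁻¹) * n⁻¹⁻¹ = (⟨g * q * g⁻¹, hgq⟩ : N) := by group
      rw [e] at h5
      exact ⟨_, h5, rfl⟩
    have hcl : N = closure (Group.conjugatesOfSet (Q : Set X)) := rfl
    refine hcl.le.trans ?_
    rw [closure_le]
    intro y hy
    rw [Group.mem_conjugatesOfSet_iff] at hy
    obtain ⟨q, hq, hqy⟩ := hy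
    obtain ⟨g, hg⟩ := isConj_iff.1 hqy
    rw [← hg]
    exact hKle g q hq
  obtain ⟨y, hy, hyc⟩ := hall hcN
  have hyc' : (y : X) = c := hyc
  have h1 : y ∈ K ⊓ (P : Subgroup N) := mem_inf.2 ⟨hy, (hPm y).2 (by rw [hyc']; exact hcT)⟩
  rw [hKD, hDm, hyc'] at h1
  obtain ⟨-, i, hi⟩ := h1
  apply hcQ
  refine mem_of_odd_zpow hc2 (i := 2 * i + 1) ⟨i, rfl⟩ ?_
  rw [zpow_add, zpow_one]; exact hi

end Cfsg.Agent.TypeLFive.CentCyc
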