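import Mathlib
import Cfsg.Prelude.Def_CaseTheorems
import Cfsg.Prelude.Def_TwoFusion
import Cfsg.Agent.S0542
import Cfsg.Agent.Lib.Cores
import Cfsg.Agent.TwoFusion.SimpleOddIndex
import Cfsg.Agent.TwoFusion.SylowTypeTransfer
import Cfsg.Agent.TypeLFive.CentCyc

/-!
# The abstract centraliser structure (S0511, piece (C), step (4))

`X` is a finite group with `O(X) = 1` and Sylow 2-subgroup `T = W1 * W2` (commuting factors meeting trivially),
`Q1 ≤ W1` and `W2` are strongly closed in `T`, and their normal closures `K`, `J` commute.  Then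
`J ∩ T = W2`, `J` is simple, `X = J C_X(W2)`, `K ∩ J = 1` and `K ∩ T = Q1`.
-/

set_option autoImplicit false

namespace Cfsg.Agent.TypeLFive.CentAbs

open Subgroup

/-- The hypotheses of step (4). -/
structure CHyp {X : Type*} [Group X] (T : Sylow 2 X) (W1 W2 Q1 : Subgroup X) : Prop where
  core : Cfsg.oddCore X = ⊥
  comm : ∀ a ∈ W1, ∀ b ∈ W2, a * b = b * a
  leT : W1 ≤ T
  fac : ∀ x ∈ (T : Subgroup X), ∃ a ∈ W1, ∃ b ∈ W2, x = a * b
  inf : ∀ x ∈ W1, x ∈ W2 → x = 1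
  leW : Q1 ≤ W1
  clQ : Cfsg.IsStronglyClosed Q1 (T : Subgroup X)
  clW : Cfsg.IsStronglyClosed W2 (T : Subgroup X)
  centQ : ∃ c : X, ∀ x ∈ W1, (∀ q ∈ Q1, x * q = q * x) → x ∈ zpowers c
  quoQ : ∃ w ∈ W1, ∀ x ∈ W1, ∃ i : ℤ, w ^ i * x ∈ Q1
  aut : ∀ g : X, Odd (orderOf g) → (∀ x, x ∈ W2 ↔ g * x * g⁻¹ ∈ W2) → ∀ x ∈ W2, g * x = x * g
  type : Cfsg.IsQuasiDihedral W2 ∨ Cfsg.IsWreathed W2
  gen : ∀ H : Subgroup X, (∀ x ∈ W2, ∀ g : X, g * x * g⁻¹ ∈ W2 → x⁻¹ * (g * x * g⁻¹) ∈ H) → W2 ≤ H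
  kj : ∀ x ∈ normalClosure (Q1 : Set X), ∀ y ∈ normalClosure (W2 : Set X), x * y = y * x

variable {X : Type*} [Group X] [Finite X] {T : Sylow 2 X} {W1 W2 Q1 : Subgroup X}

omit [Finite X] in
/-- elements of the join of two commuting subgroups. -/
theorem exists_of_mem_sup {A B : Subgroup X} (hc : ∀ a ∈ A, ∀ b ∈ B, a * b = b * a) {g : X} (hg : g ∈ A ⊔ B) :
    ∃ a ∈ A, ∃ b ∈ B, g = a * b := by
  let S : Subgroup X :=
    { carrier := {g | ∃ a ∈ A, ∃ b ∈ B, g = a * b}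
      one_mem' := ⟨1, one_mem _, 1, one_mem _, by simp⟩
      mul_mem' := by
        rintro _ _ ⟨a, ha, b, hb, rfl⟩ ⟨a', ha', b', hb', rfl⟩
        refine ⟨a * a', mul_mem ha ha', b * b', mul_mem hb hb', ?_⟩
        have := hc a' ha' b hb
        calc a * b * (a' * b') = a * (b * a') * b' := by group
          _ = a * (a' * b) * b' := by rw [this]
          _ = a * a' * (b * b') := by group
      inv_mem' := by
        rintro _ ⟨a, ha, b, hb, rfl⟩
        refine ⟨a⁻¹, inv_mem ha, b⁻¹, inv_mem hb, ?_⟩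
        rw [mul_inv_rev, hc _ (inv_mem ha) _ (inv_mem hb)] }
  have h1 : A ⊔ B ≤ S := by
    apply sup_le
    · intro a ha; exact ⟨a, ha, 1, one_mem _, by simp⟩
    · intro b hb; exact ⟨1, one_mem _, b, hb, by simp⟩
  exact h1 hg

namespace CHyp

omit [Finite X] in
theorem le_J (_h : CHyp T W1 W2 Q1) : W2 ≤ normalClosure (W2 : Set X) := subset_normalClosure

omit [Finite X] in
theorem le_K (_h : CHyp T W1 W2 Q1) : Q1 ≤ normalClosure (Q1 : Set X) := subset_normalClosure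

/-- (b) `J ∩ T = W2`. -/
theorem mem_W2 (h : CHyp T W1 W2 Q1) {x : X} (hx : x ∈ (T : Subgroup X))
    (hJ : x ∈ normalClosure (W2 : Set X)) : x ∈ W2 := by
  set J := normalClosure (W2 : Set X) with hJd
  obtain ⟨c, hc⟩ := h.centQ
  -- `J ∩ W1` is cyclic
  have h1 : J ⊓ W1 ≤ zpowers c := by
    intro y hy
    refine hc y hy.2 fun q hq => ?_
    exact (h.kj q (h.le_K hq) y hy.1).symm
  obtain ⟨d, hd⟩ : ∃ d : X, zpowers d = J ⊓ W1 := by
    have : IsCyclic ↥(zpowers c) := inferInstance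
    obtain ⟨g, hg⟩ := IsCyclic.exists_generator (α := ↥((J ⊓ W1).subgroupOf (zpowers c)))
    refine ⟨((g : ↥(zpowers c)) : X), ?_⟩
    apply le_antisymm
    · rw [zpowers_le]
      exact mem_subgroupOf.1 g.2
    · intro y hy
      obtain ⟨k, hk⟩ := mem_zpowers_iff.1 (hg ⟨⟨y, h1 hy⟩, mem_subgroupOf.2 hy⟩)
      refine mem_zpowers_iff.2 ⟨k, ?_⟩
      have := congrArg (fun z : ↥((J ⊓ W1).subgroupOf (zpowers c)) => ((z : ↥(zpowers c)) : X)) hk
      simpa using this
  have hdm : d ∈ J ⊓ W1 := by rw [← hd]; exact mem_zpowers d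
  refine CentCyc.mem_of_cyclic T h.clW (c := d) (h.leT hdm.2) hdm.1 ?_ x hx hJ
  intro y hy hyJ
  obtain ⟨a, ha, b, hb, rfl⟩ := h.fac y hy
  have haJ : a ∈ J := by
    have := mul_mem hyJ (inv_mem (h.le_J hb))
    rwa [mul_inv_cancel_right] at this
  have : a ∈ zpowers d := by rw [hd]; exact ⟨haJ, ha⟩
  obtain ⟨k, hk⟩ := mem_zpowers_iff.1 this
  refine ⟨-k, ?_⟩
  rw [zpow_neg, hk, inv_mul_cancel_left]
  exact hb

/-- The Sylow 2-subgroup of `J`. -/
theorem exists_sylow_J (h : CHyp T W1 W2 Q1) :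
    ∃ P : Sylow 2 ↥(normalClosure (W2 : Set X)),
      (P : Subgroup ↥(normalClosure (W2 : Set X))) = W2.subgroupOf (normalClosure (W2 : Set X)) := by
  have : Fact (Nat.Prime 2) := ⟨Nat.prime_two⟩
  obtain ⟨P, hP⟩ := Cfsg.Agent.S0542.result 2 (normalClosure (W2 : Set X))
    (Subgroup.Normal.isSubnormal inferInstance) T
  refine ⟨P, ?_⟩
  rw [hP]
  ext x
  rw [mem_subgroupOf, mem_subgroupOf]
  exact ⟨fun hx => h.mem_W2 hx x.2, fun hx => h.clW.1 hx⟩

/-- A finite group generated modulo ... : an element normalising `W2` is a product of an element of `W2` and one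
centralising `W2`. -/
theorem norm_fac (h : CHyp T W1 W2 Q1) {g : X} (hg : ∀ x, x ∈ W2 ↔ g * x * g⁻¹ ∈ W2) :
    ∃ b ∈ W2, ∀ x ∈ W2, (b⁻¹ * g) * x = x * (b⁻¹ * g) := by
  classical
  have : Fact (Nat.Prime 2) := ⟨Nat.prime_two⟩
  set N := Subgroup.normalizer (W2 : Set X) with hN
  set C := Subgroup.centralizer (W2 : Set X) with hC
  have hTN : (T : Subgroup X) ≤ N := by
    intro x hx
    rw [hN, mem_normalizer_iff]
    intro y
    constructor
    · intro hy
      exact h.clW.2 y hy x (mul_mem (mul_mem hx (h.clW.1 hy)) (inv_mem hx))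
    · intro hy
      have := h.clW.2 _ hy x⁻¹ (by
        have h1 : x⁻¹ * (x * y * x⁻¹) * x⁻¹⁻¹ = y := by group
        rw [h1]
        have h2 : y = x⁻¹ * (x * y * x⁻¹) * x := by group
        rw [h2]
        exact mul_mem (mul_mem (inv_mem hx) (h.clW.1 hy)) hx)
      have h1 : x⁻¹ * (x * y * x⁻¹) * x⁻¹⁻¹ = y := by group
      rwa [h1] at this
  -- the subgroup `D = W2 * C` of `N`
  have hD : ∀ g ∈ N, g ∈ W2 ⊔ C := by
    -- `D` is normal in `N`
    have hWN : W2 ≤ N := h.clW.1.trans hTN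
    have hCN : C ≤ N := centralizer_le_normalizer _
    -- work in `N`
    set D : Subgroup ↥N := (W2 ⊔ C).subgroupOf N with hDd
    have hDn : D.Normal := by
      have h1 : (W2.subgroupOf N).Normal := by
        rw [hN]; infer_instance
      have h2 : (C.subgroupOf N).Normal := by
        constructor
        intro n hn g
        rw [mem_subgroupOf, hC, mem_centralizer_iff] at hn ⊢
        intro x hx
        have hx' : (g : X)⁻¹ * x * g ∈ W2 := by
          have := (mem_normalizer_iff.1 (inv_mem g.2) x).1 hx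
          simpa using this
        have h3 := hn _ hx'
        calc x * ((g * n * g⁻¹ : ↥N) : X) = g * (((g : X)⁻¹ * x * g) * n) * (g : X)⁻¹ := by
              push_cast; group
          _ = g * (n * ((g : X)⁻¹ * x * g)) * (g : X)⁻¹ := by rw [h3]
          _ = ((g * n * g⁻¹ : ↥N) : X) * x := by push_cast; group
      have h3 : D = W2.subgroupOf N ⊔ C.subgroupOf N := by
        rw [hDd, Subgroup.subgroupOf_sup hWN hCN]
      rw [h3]
      infer_instance
    -- every element of `N ⧸ D` is trivial: it is generated by odd order elements and 2-elements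
    have hTD : ∀ x : ↥N, (x : X) ∈ (T : Subgroup X) → x ∈ D := by
      intro x hx
      obtain ⟨a, ha, b, hb, hab⟩ := h.fac x hx
      rw [hDd, mem_subgroupOf, hab]
      refine mul_mem ?_ (mem_sup_left hb)
      apply mem_sup_right
      rw [hC, mem_centralizer_iff]
      intro y hy
      exact (h.comm a ha y hy).symm
    have hodd : ∀ x : ↥N, Odd (orderOf x) → x ∈ D := by
      intro x hx
      rw [hDd, mem_subgroupOf]
      apply mem_sup_right
      rw [hC, mem_centralizer_iff]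
      intro y hy
      refine (h.aut (x : X) ?_ ?_ y hy).symm
      · rw [orderOf_coe]; exact hx
      · intro z; exact mem_normalizer_iff.1 x.2 z
    -- `D` contains a Sylow 2-subgroup, so its index is odd
    have hidx : Odd D.index := by
      rw [← Nat.not_even_iff_odd, even_iff_two_dvd]
      intro h2
      have h3 : ((T : Subgroup X).subgroupOf N).index ∣ (T : Subgroup X).index := by
        have := Subgroup.relIndex_dvd_index_of_le hTN
        exact this
      have h4 : D.index ∣ ((T : Subgroup X).subgroupOf N).index :=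
        Subgroup.index_dvd_of_le fun x hx => hTD x (mem_subgroupOf.1 hx)
      exact T.not_dvd_index ((h2.trans h4).trans h3)
    intro g hg
    -- the quotient has odd order
    have hq : ∀ x : ↥N, x ∈ D := by
      intro x
      -- `x ^ (2^k)` has odd order
      obtain ⟨k, m, hm, hkm⟩ : ∃ k m : ℕ, Odd m ∧ orderOf x = 2 ^ k * m := by
        obtain ⟨k, m, hm, hkm⟩ := Nat.exists_eq_two_pow_mul_odd (orderOf_pos x).ne'
        exact ⟨k, m, hm, hkm⟩
      have h5 : x ^ 2 ^ k ∈ D := by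
        apply hodd
        have : orderOf (x ^ 2 ^ k) = m := by
          rw [orderOf_pow_of_dvd (by positivity) (by rw [hkm]; exact Dvd.intro _ rfl), hkm]
          exact Nat.mul_div_cancel_left _ (by positivity)
        rw [this]; exact hm
      have h6 : x ^ D.index ∈ D := Subgroup.pow_index_mem D x
      have hcop : Nat.Coprime (2 ^ k) D.index := by
        apply Nat.Coprime.pow_left
        exact (Nat.coprime_two_left).2 hidx
      have h7 : (QuotientGroup.mk x : ↥N ⧸ D) = 1 := by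
        have e1 : (QuotientGroup.mk x : ↥N ⧸ D) ^ 2 ^ k = 1 := by
          rw [← QuotientGroup.mk_pow]; exact (QuotientGroup.eq_one_iff _).2 h5
        have e2 : (QuotientGroup.mk x : ↥N ⧸ D) ^ D.index = 1 := by
          rw [← QuotientGroup.mk_pow]; exact (QuotientGroup.eq_one_iff _).2 h6
        have e3 := Nat.dvd_gcd (orderOf_dvd_of_pow_eq_one e1) (orderOf_dvd_of_pow_eq_one e2)
        rw [hcop.gcd_eq_one, Nat.dvd_one] at e3
        exact orderOf_eq_one_iff.1 e3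
      exact (QuotientGroup.eq_one_iff _).1 h7
    exact mem_subgroupOf.1 (hq ⟨g, hg⟩)
  have hgN : g ∈ N := by
    rw [hN, mem_normalizer_iff]
    exact hg
  have hsup := hD g hgN
  have hcomm : ∀ b ∈ W2, ∀ c ∈ C, b * c = c * b := fun b hb c hc => mem_centralizer_iff.1 hc b hb
  have hfac : ∃ b ∈ W2, ∃ c ∈ C, g = b * c := exists_of_mem_sup hcomm hsup
  obtain ⟨b, hb, c, hc, rfl⟩ := hfac
  refine ⟨b, hb, fun x hx => ?_⟩
  rw [inv_mul_cancel_left]
  exact (hcomm x hx c hc).symm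

/-- (f) `X = J C_X(W2)`. -/
theorem exists_fac (h : CHyp T W1 W2 Q1) (g : X) :
    ∃ j ∈ normalClosure (W2 : Set X), ∃ c : X, (∀ x ∈ W2, c * x = x * c) ∧ g = j * c := by
  have : Fact (Nat.Prime 2) := ⟨Nat.prime_two⟩
  obtain ⟨P, hP⟩ := h.exists_sylow_J
  have hmap : (P : Subgroup ↥(normalClosure (W2 : Set X))).map (normalClosure (W2 : Set X)).subtype = W2 := by
    rw [hP, subgroupOf_map_subtype, inf_eq_left.2 h.le_J]
  have hF := Sylow.normalizer_sup_eq_top P
  rw [hmap] at hF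
  have hg : g ∈ Subgroup.normalizer (W2 : Set X) ⊔ normalClosure (W2 : Set X) := by rw [hF]; exact mem_top _
  rw [mem_sup_of_normal_right] at hg
  obtain ⟨n, hn, j, hj, rfl⟩ := hg
  obtain ⟨b, hb, hbc⟩ := h.norm_fac (g := n) (fun x => mem_normalizer_iff.1 hn x)
  refine ⟨n * j * n⁻¹ * b, ?_, b⁻¹ * n, hbc, by group⟩
  exact mul_mem (normalClosure_normal.conj_mem j hj n) (h.le_J hb)

/-- `J` lies in every subgroup of `J` containing `W2` normalised by `J`. -/
theorem J_le (h : CHyp T W1 W2 Q1) {L : Subgroup X} (hL : W2 ≤ L)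
    (hn : ∀ j ∈ normalClosure (W2 : Set X), ∀ l ∈ L, j * l * j⁻¹ ∈ L) : normalClosure (W2 : Set X) ≤ L := by
  rw [normalClosure, closure_le]
  intro x hx
  obtain ⟨y, hy, hyx⟩ := Group.mem_conjugatesOfSet_iff.1 hx
  obtain ⟨g, rfl⟩ := isConj_iff.1 hyx
  obtain ⟨j, hj, c, hc, rfl⟩ := h.exists_fac g
  have h1 : j * c * y * (j * c)⁻¹ = j * y * j⁻¹ := by
    calc j * c * y * (j * c)⁻¹ = j * (c * y) * c⁻¹ * j⁻¹ := by group
      _ = j * (y * c) * c⁻¹ * j⁻¹ := by rw [hc y hy]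
      _ = j * y * j⁻¹ := by group
  rw [h1]
  exact hn j hj y (hL hy)

/-- `J` has no subgroup of index 2. -/
theorem no_index_two (h : CHyp T W1 W2 Q1) : ∀ H : Subgroup ↥(normalClosure (W2 : Set X)), H.index ≠ 2 := by
  set J := normalClosure (W2 : Set X) with hJ
  intro H hH
  have hHn : H.Normal := Subgroup.normal_of_index_eq_two hH
  -- commutators of `J` are in `H`
  have hcomm : ∀ a b : ↥J, a * b * a⁻¹ * b⁻¹ ∈ H := by
    intro a b
    have h1 : ∀ z : ↥J, z * z ∈ H := by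
      intro z; rw [← sq]; rw [← hH]; exact Subgroup.pow_index_mem H z
    have hm := fun x y => Subgroup.mul_mem_iff_of_index_two hH (a := x) (b := y)
    rw [hm, hm, hm, inv_mem_iff, inv_mem_iff]
    tauto
  have h2 : W2 ≤ H.map J.subtype := by
    apply h.gen
    intro x hx g hg
    obtain ⟨j, hj, c, hc, rfl⟩ := h.exists_fac g
    have h1 : j * c * x * (j * c)⁻¹ = j * x * j⁻¹ := by
      calc j * c * x * (j * c)⁻¹ = j * (c * x) * c⁻¹ * j⁻¹ := by group
        _ = j * (x * c) * c⁻¹ * j⁻¹ := by rw [hc x hx]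
        _ = j * x * j⁻¹ := by group
    rw [h1]
    refine ⟨(⟨x, h.le_J hx⟩ : ↥J)⁻¹ * (⟨j, hj⟩ * ⟨x, h.le_J hx⟩ * (⟨j, hj⟩ : ↥J)⁻¹), ?_, rfl⟩
    have := hcomm (⟨x, h.le_J hx⟩ : ↥J)⁻¹ ⟨j, hj⟩
    rw [inv_inv] at this
    have e : (⟨x, h.le_J hx⟩ : ↥J)⁻¹ * (⟨j, hj⟩ * ⟨x, h.le_J hx⟩ * (⟨j, hj⟩ : ↥J)⁻¹) =
        (⟨x, h.le_J hx⟩ : ↥J)⁻¹ * ⟨j, hj⟩ * ⟨x, h.le_J hx⟩ * (⟨j, hj⟩ : ↥J)⁻¹ := by group
    rw [e]; exact this
  have h3 : J ≤ H.map J.subtype := by
    refine h.J_le h2 ?_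
    rintro j hj _ ⟨l, hl, rfl⟩
    exact ⟨⟨j, hj⟩ * l * ⟨j, hj⟩⁻¹, hHn.conj_mem l hl _, rfl⟩
  have h4 : H = ⊤ := by
    rw [eq_top_iff]
    intro x _
    obtain ⟨y, hy, hyx⟩ := h3 x.2
    have : y = x := Subtype.ext hyx
    rwa [← this]
  rw [h4, index_top] at hH
  omega

/-- `O(J) = 1`. -/
theorem core_J (h : CHyp T W1 W2 Q1) : Cfsg.pPrimeCore 2 ↥(normalClosure (W2 : Set X)) = ⊥ := by
  have h1 := Lib.Cores.map_subtype_pPrimeCore (G := X) 2 (N := normalClosure (W2 : Set X)) normalClosure_normal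
  have h2 : Cfsg.pPrimeCore 2 X = ⊥ := h.core
  rw [h2, inf_bot_eq, Subgroup.map_eq_bot_iff, ker_subtype, le_bot_iff] at h1
  exact h1

/-- (c) `J` is simple and not commutative. -/
theorem simple_J (h : CHyp T W1 W2 Q1) :
    IsSimpleGroup ↥(normalClosure (W2 : Set X)) ∧ ¬ IsMulCommutative ↥(normalClosure (W2 : Set X)) := by
  have : Fact (Nat.Prime 2) := ⟨Nat.prime_two⟩
  set J := normalClosure (W2 : Set X) with hJ
  obtain ⟨P, hP⟩ := h.exists_sylow_J
  have e : ↥W2 ≃* ↥(P : Subgroup ↥J) := by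
    rw [hP]
    exact (Subgroup.subgroupOfEquivOfLe h.le_J).symm
  have hType : Cfsg.IsQuasiDihedral (P : Subgroup ↥J) ∨ Cfsg.IsWreathed (P : Subgroup ↥J) := by
    rcases h.type with h1 | h1
    · exact Or.inl (TwoFusion.SylowTypeTransfer.isQuasiDihedral_of_mulEquiv e h1)
    · exact Or.inr (TwoFusion.SylowTypeTransfer.isWreathed_of_mulEquiv e h1)
  obtain ⟨L, hLn, hLo, hLs, hLc⟩ :=
    TwoFusion.SimpleOddIndex.exists_simple_of_core_free P hType h.no_index_two h.core_J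
  have hLtop : L = ⊤ := by
    have hPL : (P : Subgroup ↥J) ≤ L := by
      intro x hx
      obtain ⟨k, hk⟩ := IsPGroup.iff_orderOf.1 P.isPGroup' ⟨x, hx⟩
      have hk' : x ^ 2 ^ k = 1 := by
        rw [Subgroup.orderOf_mk] at hk
        rw [← hk]; exact pow_orderOf_eq_one x
      have e1 : (QuotientGroup.mk x : ↥J ⧸ L) ^ 2 ^ k = 1 := by
        rw [← QuotientGroup.mk_pow]; exact (QuotientGroup.eq_one_iff _).2 (by rw [hk']; exact one_mem _)
      have e2 : (QuotientGroup.mk x : ↥J ⧸ L) ^ L.index = 1 := by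
        rw [← QuotientGroup.mk_pow]; exact (QuotientGroup.eq_one_iff _).2 (Subgroup.pow_index_mem L x)
      have hcop : Nat.Coprime (2 ^ k) L.index := by
        apply Nat.Coprime.pow_left
        exact (Nat.coprime_two_left).2 hLo
      have e3 := Nat.dvd_gcd (orderOf_dvd_of_pow_eq_one e1) (orderOf_dvd_of_pow_eq_one e2)
      rw [hcop.gcd_eq_one, Nat.dvd_one] at e3
      exact (QuotientGroup.eq_one_iff _).1 (orderOf_eq_one_iff.1 e3)
    have h2 : W2 ≤ L.map J.subtype := by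
      intro x hx
      refine ⟨⟨x, h.le_J hx⟩, hPL ?_, rfl⟩
      rw [hP, mem_subgroupOf]
      exact hx
    have h3 : J ≤ L.map J.subtype := by
      refine h.J_le h2 ?_
      rintro j hj _ ⟨l, hl, rfl⟩
      exact ⟨⟨j, hj⟩ * l * ⟨j, hj⟩⁻¹, hLn.conj_mem l hl _, rfl⟩
    rw [eq_top_iff]
    intro x _
    obtain ⟨y, hy, hyx⟩ := h3 x.2
    have : y = x := Subtype.ext hyx
    rwa [← this]
  rw [hLtop] at hLs hLc
  have eT : ↥(⊤ : Subgroup ↥J) ≃* ↥J := Subgroup.topEquiv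
  constructor
  · exact eT.isSimpleGroup_congr.1 hLs
  · intro hc
    apply hLc
    constructor
    constructor
    intro a b
    apply Subtype.ext
    have := hc.is_comm.comm (a : ↥J) (b : ↥J)
    simpa using this

/-- (d) `K ∩ J = 1`. -/
theorem K_inf_J (h : CHyp T W1 W2 Q1) {x : X} (hK : x ∈ normalClosure (Q1 : Set X))
    (hJ : x ∈ normalClosure (W2 : Set X)) : x = 1 := by
  obtain ⟨hs, hc⟩ := h.simple_J
  set J := normalClosure (W2 : Set X) with hJd
  have h1 : (⟨x, hJ⟩ : ↥J) ∈ center ↥J := by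
    rw [mem_center_iff]
    intro y
    exact Subtype.ext (h.kj x hK y y.2).symm
  rcases (inferInstance : (center ↥J).Normal).eq_bot_or_eq_top with h2 | h2
  · rw [h2, mem_bot] at h1
    exact congrArg Subtype.val h1
  · exfalso
    apply hc
    constructor
    constructor
    intro a b
    have := (mem_center_iff.1 (by rw [h2]; exact mem_top a : a ∈ center ↥J) b)
    exact this.symm

/-- (e) `K ∩ T = Q1`. -/
theorem mem_Q1 (h : CHyp T W1 W2 Q1) {x : X} (hx : x ∈ (T : Subgroup X))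
    (hK : x ∈ normalClosure (Q1 : Set X)) : x ∈ Q1 := by
  set K := normalClosure (Q1 : Set X) with hKd
  have hcm : ∀ a ∈ Q1, ∀ b ∈ W2, a * b = b * a := fun a ha b hb => h.comm a (h.leW ha) b hb
  have hnQ : ∀ x ∈ (T : Subgroup X), ∀ q ∈ Q1, x * q * x⁻¹ ∈ Q1 := fun x hx q hq =>
    h.clQ.2 q hq x (mul_mem (mul_mem hx (h.clQ.1 hq)) (inv_mem hx))
  have hnW : ∀ x ∈ (T : Subgroup X), ∀ q ∈ W2, x * q * x⁻¹ ∈ W2 := fun x hx q hq =>
    h.clW.2 q hq x (mul_mem (mul_mem hx (h.clW.1 hq)) (inv_mem hx))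
  set D : Subgroup ↥(T : Subgroup X) := (Q1 ⊔ W2).subgroupOf (T : Subgroup X) with hD
  have hDm : ∀ z : ↥(T : Subgroup X), z ∈ D ↔ ∃ q ∈ Q1, ∃ b ∈ W2, (z : X) = q * b := by
    intro z
    rw [hD, mem_subgroupOf]
    constructor
    · intro hz; exact exists_of_mem_sup hcm hz
    · rintro ⟨q, hq, b, hb, hz⟩
      rw [hz]; exact mul_mem (mem_sup_left hq) (mem_sup_right hb)
  have hDn : D.Normal := by
    constructor
    intro n hn g
    obtain ⟨q, hq, b, hb, hz⟩ := (hDm n).1 hn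
    refine (hDm _).2 ⟨g * q * (g : X)⁻¹, hnQ g g.2 q hq, g * b * (g : X)⁻¹, hnW g g.2 b hb, ?_⟩
    push_cast
    rw [hz]; group
  have hKD : ∀ z : ↥(T : Subgroup X), z ∈ D → (z : X) ∈ K → (z : X) ∈ Q1 := by
    intro z hz hzK
    obtain ⟨q, hq, b, hb, hz⟩ := (hDm z).1 hz
    have hbK : b ∈ K := by
      have := mul_mem (inv_mem (h.le_K hq)) hzK
      rwa [hz, inv_mul_cancel_left] at this
    have := h.K_inf_J hbK (h.le_J hb)
    rw [hz, this, mul_one]; exact hq
  have hcyc : IsCyclic (↥(T : Subgroup X) ⧸ D) := by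
    obtain ⟨w, hw, hwi⟩ := h.quoQ
    refine ⟨QuotientGroup.mk (⟨w, h.leT hw⟩ : ↥(T : Subgroup X)), ?_⟩
    intro z
    obtain ⟨z, rfl⟩ := QuotientGroup.mk_surjective z
    obtain ⟨a, ha, b, hb, hz⟩ := h.fac z z.2
    obtain ⟨i, hi⟩ := hwi a ha
    refine mem_zpowers_iff.2 ⟨-i, ?_⟩
    rw [← QuotientGroup.mk_zpow, QuotientGroup.eq, hDm]
    refine ⟨w ^ i * a, hi, b, hb, ?_⟩
    push_cast
    rw [hz, zpow_neg, inv_inv, mul_assoc]
  obtain ⟨g, hg⟩ := IsCyclic.exists_generator (α := ↥((K.subgroupOf (T : Subgroup X)).map (QuotientGroup.mk' D)))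
  obtain ⟨c, hc, hcg⟩ := g.2
  refine CentCyc.mem_of_cyclic T h.clQ (c := (c : X)) c.2 (mem_subgroupOf.1 hc) ?_ x hx hK
  intro y hy hyK
  obtain ⟨k, hk⟩ := mem_zpowers_iff.1 (hg ⟨QuotientGroup.mk' D ⟨y, hy⟩, ⟨⟨y, hy⟩, mem_subgroupOf.2 hyK, rfl⟩⟩)
  have hk' : (QuotientGroup.mk' D c) ^ k = QuotientGroup.mk' D ⟨y, hy⟩ := by
    have := congrArg Subtype.val hk
    rw [hcg]
    simpa using this
  refine ⟨-k, ?_⟩
  rw [← map_zpow, QuotientGroup.mk'_apply, QuotientGroup.mk'_apply, QuotientGroup.eq] at hk'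
  have := hKD _ hk' (by
    push_cast
    exact mul_mem (inv_mem (zpow_mem (mem_subgroupOf.1 hc) k)) hyK)
  rw [zpow_neg]
  simpa using this

/-- The Sylow 2-subgroup of `K`. -/
theorem exists_sylow_K (h : CHyp T W1 W2 Q1) :
    ∃ P : Sylow 2 ↥(normalClosure (Q1 : Set X)),
      (P : Subgroup ↥(normalClosure (Q1 : Set X))) = Q1.subgroupOf (normalClosure (Q1 : Set X)) := by
  have : Fact (Nat.Prime 2) := ⟨Nat.prime_two⟩
  obtain ⟨P, hP⟩ := Cfsg.Agent.S0542.result 2 (normalClosure (Q1 : Set X))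
    (Subgroup.Normal.isSubnormal inferInstance) T
  refine ⟨P, ?_⟩
  rw [hP]
  ext x
  rw [mem_subgroupOf, mem_subgroupOf]
  exact ⟨fun hx => h.mem_Q1 hx x.2, fun hx => h.clQ.1 hx⟩

end CHyp

end Cfsg.Agent.TypeLFive.CentAbs
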