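import Mathlib
import Cfsg.Agent.TypeLFive.CentAbs
import Cfsg.Agent.Lib.LocalCore

/-!
# Step (5) of the centraliser analysis of S0511: comparison of `C(t)` and `C(t')`

`K` (the normal closure of `Q₁` in `C(t)/O(C(t))`) is isomorphic to the normal closure of `Q₂` in
`C_J(t')`.
-/

set_option autoImplicit false

namespace Cfsg.Agent.TypeLFive.CentFive

open Subgroup Cfsg.Agent.TypeLFive.CentAbs

section cc

variable {G : Type*} [Group G]

/-- the subgroup generated by the `N`-conjugates of `S` -/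
def cc (N S : Subgroup G) : Subgroup G := closure {x | ∃ n ∈ N, ∃ s ∈ S, x = n * s * n⁻¹}

theorem le_cc (N S : Subgroup G) : S ≤ cc N S :=
  fun s hs => subset_closure ⟨1, one_mem _, s, hs, by simp⟩

theorem conj_mem_cc {N S : Subgroup G} {n s : G} (hn : n ∈ N) (hs : s ∈ S) :
    n * s * n⁻¹ ∈ cc N S := subset_closure ⟨n, hn, s, hs, rfl⟩

theorem cc_le {N S M : Subgroup G} (h : ∀ n ∈ N, ∀ s ∈ S, n * s * n⁻¹ ∈ M) : cc N S ≤ M := by
  rw [cc, closure_le]
  rintro _ ⟨n, hn, s, hs, rfl⟩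
  exact h n hn s hs

theorem cc_conj {N S : Subgroup G} {n x : G} (hn : n ∈ N) (hx : x ∈ cc N S) :
    n * x * n⁻¹ ∈ cc N S := by
  have h : cc N S ≤ (cc N S).comap (MulAut.conj n).toMonoidHom := by
    apply cc_le
    intro m hm s hs
    have h1 : (MulAut.conj n).toMonoidHom (m * s * m⁻¹) = (n * m) * s * (n * m)⁻¹ := by
      simp only [MulEquiv.coe_toMonoidHom, MulAut.conj_apply]; group
    rw [mem_comap, h1]
    exact conj_mem_cc (mul_mem hn hm) hs
  exact h hx

theorem cc_le_of {N S M : Subgroup G} (hS : S ≤ M) (hM : ∀ n ∈ N, ∀ m ∈ M, n * m * n⁻¹ ∈ M) :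
    cc N S ≤ M := cc_le fun n hn s hs => hM n hn s (hS hs)

theorem map_cc {H : Type*} [Group H] (φ : G →* H) (N S : Subgroup G) :
    (cc N S).map φ = cc (N.map φ) (S.map φ) := by
  apply le_antisymm
  · rw [map_le_iff_le_comap]
    apply cc_le
    intro n hn s hs
    rw [mem_comap, map_mul, map_mul, map_inv]
    exact conj_mem_cc (mem_map_of_mem φ hn) (mem_map_of_mem φ hs)
  · apply cc_le
    rintro _ ⟨n, hn, rfl⟩ _ ⟨s, hs, rfl⟩
    rw [← map_inv, ← map_mul, ← map_mul]
    exact mem_map_of_mem φ (conj_mem_cc hn hs)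

theorem cc_top (S : Subgroup G) : cc ⊤ S = normalClosure (S : Set G) := by
  apply le_antisymm
  · apply cc_le
    intro n _ s hs
    exact normalClosure_normal.conj_mem s (subset_normalClosure hs) n
  · have : (cc ⊤ S).Normal := ⟨fun x hx n => cc_conj (mem_top n) hx⟩
    exact normalClosure_le_normal (le_cc ⊤ S)

end cc

section cores

theorem ker_eq_oddCore {H A : Type*} [Group H] [Finite H] [Group A] [Finite A] (f : H →* A)
    (hf : Function.Surjective f) (hk : Odd (Nat.card f.ker)) (hA : Cfsg.oddCore A = ⊥) :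
    f.ker = Cfsg.oddCore H := by
  apply le_antisymm
  · exact Lib.Cores.le_pPrimeCore inferInstance (Nat.coprime_two_right.2 hk)
  · have hn : ((Cfsg.oddCore H).map f).Normal :=
      Lib.Cores.map_normal_of_surjective hf (Lib.Cores.pPrimeCore_normal 2)
    have h1 : (Cfsg.oddCore H).map f ≤ Cfsg.oddCore A := by
      refine Lib.Cores.le_pPrimeCore hn ?_
      exact Nat.Coprime.coprime_dvd_left (card_map_dvd _ f) (Lib.Cores.pPrimeCore_coprime 2)
    rw [hA, le_bot_iff, Subgroup.map_eq_bot_iff] at h1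
    exact h1

theorem nonempty_equiv {H₁ H₂ A₁ A₂ : Type*} [Group H₁] [Finite H₁] [Group A₁] [Finite A₁]
    [Group H₂] [Finite H₂] [Group A₂] [Finite A₂] (e : H₁ ≃* H₂) (f₁ : H₁ →* A₁) (f₂ : H₂ →* A₂)
    (hf₁ : Function.Surjective f₁) (hf₂ : Function.Surjective f₂) (hk₁ : Odd (Nat.card f₁.ker))
    (hk₂ : Odd (Nat.card f₂.ker)) (hA₁ : Cfsg.oddCore A₁ = ⊥) (hA₂ : Cfsg.oddCore A₂ = ⊥) :
    Nonempty (A₁ ≃* A₂) := by
  have h1 := ker_eq_oddCore f₁ hf₁ hk₁ hA₁
  have h2 := ker_eq_oddCore f₂ hf₂ hk₂ hA₂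
  have h3 : f₁.ker.map (e : H₁ →* H₂) = f₂.ker := by
    rw [h1, h2]
    exact Lib.Cores.map_equiv_pPrimeCore e 2
  exact ⟨((QuotientGroup.quotientKerEquivOfSurjective f₁ hf₁).symm.trans
    (QuotientGroup.congr _ _ e h3)).trans (QuotientGroup.quotientKerEquivOfSurjective f₂ hf₂)⟩

end cores

section lift

/-- An element commuting with `φ t'` lifts to an element commuting with the involution `t'`. -/
theorem exists_lift {C X : Type*} [Group C] [Finite C] [Group X] (φ : C →* X)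
    (hφ : Function.Surjective φ) (hk : Odd (Nat.card φ.ker)) {s : C} (hs : s * s = 1) {x : X}
    (hx : x * φ s = φ s * x) : ∃ m : C, m * s = s * m ∧ φ m = x := by
  obtain ⟨c, rfl⟩ := hφ x
  have h2 : Fact (Nat.Prime 2) := ⟨Nat.prime_two⟩
  have hP : IsPGroup 2 (zpowers s) := by
    apply IsPGroup.of_card (n := Nat.log 2 (Nat.card (zpowers s)))
    rw [Nat.card_zpowers]
    have : orderOf s ∣ 2 := orderOf_dvd_of_pow_eq_one (by rw [pow_two, hs])
    rcases (Nat.dvd_prime Nat.prime_two).1 this with h | h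
    · rw [h]; simp
    · rw [h]; rfl
  have hg : ∀ y ∈ zpowers s, c * y * c⁻¹ ∈ zpowers s ⊔ φ.ker := by
    intro y hy
    obtain ⟨k, rfl⟩ := mem_zpowers_iff.1 hy
    rw [← conj_zpow]
    apply zpow_mem
    have h1 : c * s * c⁻¹ = s * (s⁻¹ * (c * s * c⁻¹)) := by group
    rw [h1]
    refine mul_mem (mem_sup_left (mem_zpowers s)) (mem_sup_right ?_)
    rw [MonoidHom.mem_ker]
    simp only [map_mul, map_inv]
    rw [hx]; group
  obtain ⟨n, hn, hnc⟩ := Lib.LocalCore.exists_mul_mem_normalizer 2 φ.ker (zpowers s)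
    (Nat.coprime_two_right.2 hk) hP hg
  refine ⟨n * c, ?_, by rw [map_mul, MonoidHom.mem_ker.1 hn, one_mul]⟩
  have h3 : (n * c) * s * (n * c)⁻¹ ∈ zpowers s :=
    (mem_normalizer_iff.1 hnc s).1 (mem_zpowers s)
  obtain ⟨k, hk'⟩ := mem_zpowers_iff.1 h3
  have hss : s ^ (2 : ℤ) = 1 := by rw [zpow_two, hs]
  rcases Int.even_or_odd' k with ⟨l, rfl | rfl⟩
  · rw [zpow_mul, hss, one_zpow] at hk'
    have h4 : s = 1 := conj_eq_one_iff.1 hk'.symm
    rw [h4]; simp
  · rw [zpow_add, zpow_mul, hss, one_zpow, one_mul, zpow_one] at hk'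
    calc n * c * s = (n * c) * s * (n * c)⁻¹ * (n * c) := by group
      _ = s * (n * c) := by rw [← hk']

theorem odd_card_ker_subgroupMap {C X : Type*} [Group C] [Finite C] [Group X] (φ : C →* X)
    (hk : Odd (Nat.card φ.ker)) (H : Subgroup C) : Odd (Nat.card (φ.subgroupMap H).ker) := by
  have h1 : (φ.subgroupMap H).ker.map H.subtype ≤ φ.ker := by
    rintro _ ⟨y, hy, rfl⟩
    have := congrArg Subtype.val (MonoidHom.mem_ker.1 hy)
    exact this
  have h2 := card_dvd_of_le h1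
  rw [card_map_of_injective H.subtype_injective] at h2
  exact hk.of_dvd_nat h2

end lift

section main

variable {G : Type*} [Group G] [Finite G] {X : Type*} [Group X] [Finite X]
  {T : Sylow 2 X} {W1 W2 Q1 : Subgroup X}

/-- `K` is the normal closure of `Q₁` in `C_X(z)`, `z ∈ W₂`. -/
theorem cc_Q1 (h : CHyp T W1 W2 Q1) {z : X} (hz : z ∈ W2) :
    cc (centralizer ({z} : Set X)) Q1 = normalClosure (Q1 : Set X) := by
  rw [← cc_top]
  apply le_antisymm
  · exact cc_le fun n _ s hs => conj_mem_cc (mem_top n) hs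
  · apply cc_le
    intro g _ q hq
    obtain ⟨j, hj, c, hc, hg⟩ := h.exists_fac g⁻¹
    have hg' : g = c⁻¹ * j⁻¹ := by rw [← inv_inv g, hg]; group
    have h1 : j⁻¹ * q = q * j⁻¹ := by
      have := h.kj q (h.le_K hq) j⁻¹ (inv_mem hj)
      exact this.symm
    have h2 : g * q * g⁻¹ = c⁻¹ * q * c⁻¹⁻¹ := by
      rw [hg']
      calc c⁻¹ * j⁻¹ * q * (c⁻¹ * j⁻¹)⁻¹ = c⁻¹ * (j⁻¹ * q) * j * c := by group
        _ = c⁻¹ * (q * j⁻¹) * j * c := by rw [h1]
        _ = c⁻¹ * q * c⁻¹⁻¹ := by group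
    rw [h2]
    refine conj_mem_cc ?_ hq
    apply inv_mem
    rw [mem_centralizer_singleton_iff]
    exact hc z hz

/-- the normal closure of `Q₂` in `C_X(z)` and in `C_J(z)` is the same. -/
theorem cc_Q2 (h : CHyp T W1 W2 Q1) {z : X} (hz : z ∈ W2) {Q2 : Subgroup X} (hQ2 : Q2 ≤ W2) :
    cc (centralizer ({z} : Set X)) Q2 =
      cc (normalClosure (W2 : Set X) ⊓ centralizer ({z} : Set X)) Q2 := by
  apply le_antisymm
  · apply cc_le
    intro g hg q hq
    obtain ⟨j, hj, c, hc, rfl⟩ := h.exists_fac g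
    have h1 : j * c * q * (j * c)⁻¹ = j * q * j⁻¹ := by
      calc j * c * q * (j * c)⁻¹ = j * (c * q) * c⁻¹ * j⁻¹ := by group
        _ = j * (q * c) * c⁻¹ * j⁻¹ := by rw [hc q (hQ2 hq)]
        _ = j * q * j⁻¹ := by group
    rw [h1]
    refine conj_mem_cc ⟨hj, ?_⟩ hq
    have h2 : c ∈ centralizer ({z} : Set X) := by
      rw [mem_centralizer_singleton_iff]; exact hc z hz
    have := mul_mem hg (inv_mem h2)
    rwa [mul_inv_cancel_right] at this
  · exact cc_le fun n hn s hs => conj_mem_cc hn.2 hs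

theorem core_K (h : CHyp T W1 W2 Q1) : Cfsg.oddCore ↥(normalClosure (Q1 : Set X)) = ⊥ := by
  have h1 := Lib.Cores.map_subtype_pPrimeCore (G := X) 2 (N := normalClosure (Q1 : Set X)) normalClosure_normal
  have h2 : Cfsg.pPrimeCore 2 X = ⊥ := h.core
  rw [h2, inf_bot_eq, Subgroup.map_eq_bot_iff, ker_subtype, le_bot_iff] at h1
  exact h1

/-- **Comparison of `C(t)` and `C(t')`**. -/
theorem nonempty_equiv_K {t t' w : G} {C : Subgroup G} (hC : ∀ g, g ∈ C ↔ g * t = t * g)
    (φ : ↥C →* X) (hφ : Function.Surjective φ) (hk : Odd (Nat.card φ.ker))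
    (h : CHyp T W1 W2 Q1) (htt : t' * t' = 1) (hc : t' ∈ C)
    (hw : w * t * w⁻¹ = t') (hw' : w * t' * w⁻¹ = t) {P1 P2 : Subgroup G}
    (hP1 : P1 ≤ C ⊓ centralizer ({t'} : Set G)) (hP2 : P2 ≤ C ⊓ centralizer ({t'} : Set G))
    (hPw : P2.map (MulAut.conj w).toMonoidHom = P1)
    (hQ1 : (P1.subgroupOf C).map φ = Q1) {Q2 : Subgroup X}
    (hQ2 : (P2.subgroupOf C).map φ = Q2) (hQW : Q2 ≤ W2)
    (htW : φ ⟨t', hc⟩ ∈ W2)
    (hA : Cfsg.oddCore ↥(cc (normalClosure (W2 : Set X) ⊓ centralizer ({φ ⟨t', hc⟩} : Set X)) Q2) = ⊥) :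
    Nonempty (↥(cc (normalClosure (W2 : Set X) ⊓ centralizer ({φ ⟨t', hc⟩} : Set X)) Q2) ≃*
      ↥(normalClosure (Q1 : Set X))) := by
  set M : Subgroup G := C ⊓ centralizer ({t'} : Set G) with hM
  set z : X := φ ⟨t', hc⟩ with hz
  -- the image of `M` in `X`
  have hMφ : (M.subgroupOf C).map φ = centralizer ({z} : Set X) := by
    apply le_antisymm
    · rintro _ ⟨m, hm, rfl⟩
      rw [mem_centralizer_singleton_iff, hz, ← map_mul, ← map_mul]
      congr 1
      apply Subtype.ext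
      exact mem_centralizer_singleton_iff.1 (mem_inf.1 (mem_subgroupOf.1 hm)).2
    · intro x hx
      rw [mem_centralizer_singleton_iff] at hx
      obtain ⟨m, hm, hmx⟩ := exists_lift φ hφ hk (s := ⟨t', hc⟩) (Subtype.ext htt) hx
      refine ⟨m, mem_subgroupOf.2 (mem_inf.2 ⟨m.2, ?_⟩), hmx⟩
      rw [mem_centralizer_singleton_iff]
      exact congrArg Subtype.val hm
  -- `w` normalises `M`
  have hMw : M.map (MulAut.conj w).toMonoidHom = M := by
    have h1 : M.map (MulAut.conj w).toMonoidHom ≤ M := by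
      rintro _ ⟨m, hm, rfl⟩
      have hm1 := (hC m).1 hm.1
      have hm2 := mem_centralizer_singleton_iff.1 hm.2
      simp only [MulEquiv.coe_toMonoidHom, MulAut.conj_apply]
      refine mem_inf.2 ⟨?_, ?_⟩
      · rw [hC, ← hw']
        calc w * m * w⁻¹ * (w * t' * w⁻¹) = w * (m * t') * w⁻¹ := by group
          _ = w * (t' * m) * w⁻¹ := by rw [hm2]
          _ = w * t' * w⁻¹ * (w * m * w⁻¹) := by group
      · rw [mem_centralizer_singleton_iff, ← hw]
        calc w * m * w⁻¹ * (w * t * w⁻¹) = w * (m * t) * w⁻¹ := by group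
          _ = w * (t * m) * w⁻¹ := by rw [hm1]
          _ = w * t * w⁻¹ * (w * m * w⁻¹) := by group
    apply Subgroup.eq_of_le_of_card_ge h1
    rw [card_map_of_injective (MulAut.conj w).injective]
  -- the two normal closures
  set Y1 : Subgroup ↥C := cc (M.subgroupOf C) (P1.subgroupOf C) with hY1
  set Y2 : Subgroup ↥C := cc (M.subgroupOf C) (P2.subgroupOf C) with hY2
  have hY1m : Y1.map C.subtype = cc M P1 := by
    rw [hY1, map_cc, subgroupOf_map_subtype, subgroupOf_map_subtype,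
      inf_eq_left.2 (hP1.trans inf_le_left), inf_eq_left.2 (inf_le_left : M ≤ C)]
  have hY2m : Y2.map C.subtype = cc M P2 := by
    rw [hY2, map_cc, subgroupOf_map_subtype, subgroupOf_map_subtype,
      inf_eq_left.2 (hP2.trans inf_le_left), inf_eq_left.2 (inf_le_left : M ≤ C)]
  have hY12 : (Y2.map C.subtype).map (MulAut.conj w).toMonoidHom = Y1.map C.subtype := by
    rw [hY1m, hY2m, map_cc, hMw, hPw]
  have e : ↥Y2 ≃* ↥Y1 :=
    ((Y2.equivMapOfInjective C.subtype C.subtype_injective).trans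
      (((Y2.map C.subtype).equivMapOfInjective _ (MulAut.conj w).injective).trans
        (MulEquiv.subgroupCongr hY12))).trans
      (Y1.equivMapOfInjective C.subtype C.subtype_injective).symm
  have hY1X : Y1.map φ = normalClosure (Q1 : Set X) := by
    rw [hY1, map_cc, hMφ, hQ1, cc_Q1 h htW]
  have hY2X : Y2.map φ = cc (normalClosure (W2 : Set X) ⊓ centralizer ({z} : Set X)) Q2 := by
    rw [hY2, map_cc, hMφ, hQ2, cc_Q2 h htW hQW]
  rw [← hY1X, ← hY2X]
  rw [← hY2X] at hA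
  have hK := core_K h
  rw [← hY1X] at hK
  exact nonempty_equiv e (φ.subgroupMap Y2) (φ.subgroupMap Y1) (φ.subgroupMap_surjective Y2)
    (φ.subgroupMap_surjective Y1) (odd_card_ker_subgroupMap φ hk Y2)
    (odd_card_ker_subgroupMap φ hk Y1) hA hK

end main

end Cfsg.Agent.TypeLFive.CentFive
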