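import Mathlib
import Cfsg.Agent.TwoFusion.QDBasic
import Cfsg.Agent.TwoFusion.WreathedBasic
import Cfsg.Agent.ClassificationK.GTwoConfBasic
import Cfsg.Agent.ClassificationK.GTwoFactorBasic

/-!
# The normal quaternion subgroup of a quasi-dihedral or wreathed 2-group is unique
-/

set_option autoImplicit false

namespace Cfsg.Agent.TypeLFive.QUniq

open Subgroup Cfsg.Agent.TwoFusion.QDBasic Cfsg.Agent.TwoFusion.WreathedBasic

/-- The properties of a (generalised) quaternion group which are used. -/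
structure QLike {W : Type*} [Group W] (R : Subgroup W) : Prop where
  inv : ∃ z ∈ R, z ≠ 1 ∧ z * z = 1 ∧ (∀ r ∈ R, r * r = 1 → r = 1 ∨ r = z) ∧
    ∀ r ∈ R, (∀ x ∈ R, r * x = x * r) → r = 1 ∨ r = z
  nc : ∃ a ∈ R, ∃ b ∈ R, a * b ≠ b * a

theorem QLike.map {W X : Type*} [Group W] [Group X] {R : Subgroup W} (h : QLike R) (f : W →* X)
    (hf : Function.Injective f) : QLike (R.map f) := by
  obtain ⟨z, hz, hz1, hz2, hzu, hzc⟩ := h.inv
  obtain ⟨a, ha, b, hb, hab⟩ := h.nc
  refine ⟨⟨f z, mem_map_of_mem f hz, ?_, ?_, ?_, ?_⟩, f a, mem_map_of_mem f ha, f b,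
    mem_map_of_mem f hb, ?_⟩
  · intro hc
    exact hz1 (hf (by rw [hc, map_one]))
  · rw [← map_mul, hz2, map_one]
  · rintro _ ⟨r, hr, rfl⟩ h1
    rw [← map_mul, ← map_one f] at h1
    rcases hzu r hr (hf h1) with h2 | h2
    · left; rw [h2, map_one]
    · right; rw [h2]
  · rintro _ ⟨r, hr, rfl⟩ h1
    rcases hzc r hr (fun x hx => hf (by
      rw [map_mul, map_mul]; exact h1 (f x) (mem_map_of_mem f hx))) with h2 | h2
    · left; rw [h2, map_one]
    · right; rw [h2]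
  · intro hc
    rw [← map_mul, ← map_mul] at hc
    exact hab (hf hc)

theorem QLike.comap {W X : Type*} [Group W] [Group X] {R : Subgroup X} (h : QLike R) (f : W →* X)
    (hf : Function.Injective f) (hR : R ≤ f.range) : QLike (R.comap f) := by
  obtain ⟨z, hz, hz1, hz2, hzu, hzc⟩ := h.inv
  obtain ⟨a, ha, b, hb, hab⟩ := h.nc
  obtain ⟨z', rfl⟩ := hR hz
  obtain ⟨a', rfl⟩ := hR ha
  obtain ⟨b', rfl⟩ := hR hb
  refine ⟨⟨z', hz, ?_, ?_, ?_, ?_⟩, a', ha, b', hb, ?_⟩
  · rintro rfl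
    exact hz1 (map_one f)
  · apply hf
    rw [map_mul, hz2, map_one]
  · intro r hr h1
    rcases hzu (f r) hr (by rw [← map_mul, h1, map_one]) with h2 | h2
    · left; exact hf (by rw [h2, map_one])
    · right; exact hf h2
  · intro r hr h1
    rcases hzc (f r) hr (by
      intro x hx
      obtain ⟨x', rfl⟩ := hR hx
      rw [← map_mul, ← map_mul, h1 x' hx]) with h2 | h2
    · left; exact hf (by rw [h2, map_one])
    · right; exact hf h2
  · intro hc
    exact hab (by rw [← map_mul, ← map_mul, hc])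

/-- The involution of a normal `QLike` subgroup is central. -/
theorem QLike.exists_central {S : Type*} [Group S] {R : Subgroup S} (h : QLike R) (hn : R.Normal) :
    ∃ z ∈ R, z ≠ 1 ∧ z * z = 1 ∧ (∀ r ∈ R, r * r = 1 → r = 1 ∨ r = z) ∧
    (∀ r ∈ R, (∀ x ∈ R, r * x = x * r) → r = 1 ∨ r = z) ∧ ∀ g, g * z = z * g := by
  obtain ⟨z, hz, hz1, hz2, hzu, hzc⟩ := h.inv
  refine ⟨z, hz, hz1, hz2, hzu, hzc, fun g => ?_⟩
  have h1 : g * z * g⁻¹ * (g * z * g⁻¹) = 1 := by
    calc g * z * g⁻¹ * (g * z * g⁻¹) = g * (z * z) * g⁻¹ := by group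
      _ = 1 := by rw [hz2]; group
  rcases hzu _ (hn.conj_mem z hz g) h1 with h2 | h2
  · exfalso
    apply hz1
    have h3 : z = g⁻¹ * (g * z * g⁻¹) * g := by group
    rw [h3, h2]; group
  · exact mul_inv_eq_iff_eq_mul.1 h2

section SD

variable {S : Type*} [Group S] {n : ℕ} {u : ZMod (2 ^ n) → S} {y : S}

theorem sd_y_u (h : IsQDCoord n u y) (a : ZMod (2 ^ n)) :
    y * u a = u ((2 ^ (n - 1) - 1) * a) * y := h.y_u a

theorem sd_sq (h : IsQDCoord n u y) (a : ZMod (2 ^ n)) : u a * y * (u a * y) = u (2 ^ (n - 1) * a) := by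
  calc u a * y * (u a * y) = u a * (y * u a) * y := by group
    _ = u a * (u ((2 ^ (n - 1) - 1) * a) * y) * y := by rw [h.y_u]
    _ = u a * u ((2 ^ (n - 1) - 1) * a) * (y * y) := by group
    _ = u (2 ^ (n - 1) * a) := by rw [h.y_y, mul_one, h.u_mul]; congr 1; ring

theorem sd_pow (h : IsQDCoord n u y) (a : ZMod (2 ^ n)) (k : ℕ) : u a ^ k = u (k * a) := by
  induction k with
  | zero => simp [h.u_zero]
  | succ k ih => rw [pow_succ, ih, h.u_mul]; congr 1; push_cast; ring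

theorem sd_mem_iff (h : IsQDCoord n u y) {R : Subgroup S} (hn : R.Normal) (hR : QLike R) (x : S) :
    x ∈ R ↔ (∃ a, x = u (2 * a)) ∨ ∃ a, x = u (2 * a + 1) * y := by
  have h3 := h.three_le
  obtain ⟨z, hz, hz1, hz2, hzu, hzc, hcent⟩ := hR.exists_central hn
  -- Step 1: `u a * y ∉ R` for `a` even
  have s1 : ∀ a, u a * y ∈ R → ∃ b, a = 2 * b + 1 := by
    intro a ha
    rcases even_or_odd' n a with ⟨b, hb⟩ | hb
    · exfalso
      have h4 : u a * y * (u a * y) = 1 := by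
        rw [sd_sq h, hb, (half_mul_eq_zero_iff n (by omega) _).2 ⟨b, rfl⟩, h.u_zero]
      rcases hzu _ ha h4 with h5 | h5
      · exact h.u_ne 0 a (by rw [h.u_zero, h5])
      · have h6 := hcent (u 1)
        rw [← h5] at h6
        have h7 : u a * y * u 1 = u (a + (2 ^ (n - 1) - 1)) * y := by
          rw [mul_assoc, h.y_u, mul_one, ← mul_assoc, h.u_mul]
        rw [h7, ← mul_assoc, h.u_mul] at h6
        have h8 := h.u_inj _ _ (mul_right_cancel h6)
        have h9 : (2 : ZMod (2 ^ n)) ^ (n - 1) = 2 := by linear_combination -h8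
        have h10 : (2 : ZMod (2 ^ n)) * (2 ^ (n - 2) - 1) = 0 := by
          have : (2 : ZMod (2 ^ n)) ^ (n - 1) = 2 * 2 ^ (n - 2) := by
            rw [← pow_succ']; congr 1; omega
          rw [this] at h9
          linear_combination h9
        rcases (two_mul_eq_zero_iff n (by omega) _).1 h10 with h11 | h11
        · refine two_mul_ne_two_mul_add_one n (by omega) (2 ^ (n - 3)) 0 ?_
          rw [← pow_succ', show n - 3 + 1 = n - 2 by omega]
          linear_combination h11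
        · refine two_mul_ne_two_mul_add_one n (by omega) (2 ^ (n - 3)) (2 ^ (n - 2)) ?_
          rw [← pow_succ', ← pow_succ', show n - 3 + 1 = n - 2 by omega,
            show n - 2 + 1 = n - 1 by omega]
          linear_combination h11
    · exact hb
  -- Step 2: some `u c * y ∈ R`
  obtain ⟨c, hc⟩ : ∃ c, u c * y ∈ R := by
    by_contra hcon
    push Not at hcon
    obtain ⟨a, ha, b, hb, hab⟩ := hR.nc
    apply hab
    rcases h.cases a with ⟨a', rfl⟩ | ⟨a', rfl⟩
    · rcases h.cases b with ⟨b', rfl⟩ | ⟨b', rfl⟩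
      · rw [h.u_mul, h.u_mul, add_comm]
      · exact absurd hb (hcon b')
    · exact absurd ha (hcon a')
  obtain ⟨d, hd⟩ := s1 c hc
  -- Step 3: `u (2 a) ∈ R`
  have s3 : ∀ a, u (2 * a) ∈ R := by
    have h4 : u (2 * (1 - 2 ^ (n - 2))) ∈ R := by
      have h5 : u 1 * (u c * y) * (u 1)⁻¹ * (u c * y)⁻¹ ∈ R :=
        mul_mem (hn.conj_mem _ hc _) (inv_mem hc)
      have hinv : (u 1)⁻¹ = u (-1) := by
        rw [inv_eq_iff_mul_eq_one, h.u_mul, add_neg_cancel, h.u_zero]
      have h6 : u 1 * (u c * y) * (u 1)⁻¹ * (u c * y)⁻¹ = u (2 * (1 - 2 ^ (n - 2))) := by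
        rw [hinv, mul_inv_eq_iff_eq_mul]
        calc u 1 * (u c * y) * u (-1) = u 1 * u c * (y * u (-1)) := by group
          _ = u 1 * u c * (u ((2 ^ (n - 1) - 1) * (-1)) * y) := by rw [h.y_u]
          _ = u 1 * u c * u ((2 ^ (n - 1) - 1) * (-1)) * y := by group
          _ = u (2 * (1 - 2 ^ (n - 2))) * (u c * y) := by
              rw [h.u_mul, h.u_mul, ← mul_assoc, h.u_mul]
              congr 2
              have : (2 : ZMod (2 ^ n)) ^ (n - 1) = 2 * 2 ^ (n - 2) := by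
                rw [← pow_succ']; congr 1; omega
              rw [this]; ring
      rwa [h6] at h5
    intro a
    have h5 : IsUnit ((1 : ZMod (2 ^ n)) - 2 ^ (n - 2)) := by
      refine IsNilpotent.isUnit_one_sub ?_
      refine ⟨n, ?_⟩
      have : n - 2 ≠ 0 := by omega
      rw [← pow_mul]
      obtain ⟨m, hm⟩ : ∃ m, (n - 2) * n = n + m := ⟨(n - 3) * n, by
        obtain ⟨k, rfl⟩ : ∃ k, n = k + 3 := ⟨n - 3, by omega⟩
        simp only [Nat.add_sub_cancel]
        have : k + 3 - 2 = k + 1 := by omega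
        rw [this]; ring⟩
      rw [hm, pow_add, two_pow_eq_zero, zero_mul]
    obtain ⟨v, hv⟩ := h5.exists_left_inv
    have h6 := pow_mem h4 (v * a).val
    rw [sd_pow h] at h6
    rw [ZMod.natCast_zmod_val] at h6
    have h7 : v * a * (2 * (1 - 2 ^ (n - 2))) = 2 * a := by
      calc v * a * (2 * (1 - 2 ^ (n - 2))) = 2 * a * (v * (1 - 2 ^ (n - 2))) := by ring
        _ = 2 * a := by rw [hv, mul_one]
    rwa [h7] at h6
  -- Step 4: `u (2 a + 1) ∉ R`
  have s4 : ∀ a, u (2 * a + 1) ∉ R := by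
    intro a ha
    have h5 : u (-c) ∈ R := by
      have h6 : u (2 * (-(d + 1) - a)) * u (2 * a + 1) = u (-c) := by
        rw [h.u_mul, hd]; congr 1; ring
      rw [← h6]; exact mul_mem (s3 _) ha
    have h7 := mul_mem h5 hc
    rw [← mul_assoc, h.u_mul] at h7
    obtain ⟨b, hb⟩ := s1 _ h7
    exact two_mul_ne_two_mul_add_one n (by omega) 0 b (by rw [← hb]; ring)
  constructor
  · intro hx
    rcases h.cases x with ⟨a, rfl⟩ | ⟨a, rfl⟩
    · left
      rcases even_or_odd' n a with ⟨b, rfl⟩ | ⟨b, rfl⟩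
      · exact ⟨b, rfl⟩
      · exact absurd hx (s4 b)
    · right
      obtain ⟨b, rfl⟩ := s1 a hx
      exact ⟨b, rfl⟩
  · rintro (⟨a, rfl⟩ | ⟨a, rfl⟩)
    · exact s3 a
    · have h6 : u (2 * (a - d)) * (u c * y) = u (2 * a + 1) * y := by
        rw [← mul_assoc, h.u_mul, hd]; congr 2; ring
      rw [← h6]; exact mul_mem (s3 _) hc

end SD

section WR

variable {S : Type*} [Group S] {n : ℕ} {u : ZMod (2 ^ n) → ZMod (2 ^ n) → S} {s : S}

theorem wr_sq (h : IsWCoord n u s) (a b : ZMod (2 ^ n)) :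
    u a b * s * (u a b * s) = u (a + b) (a + b) := by
  calc u a b * s * (u a b * s) = u a b * (s * u a b) * s := by group
    _ = u a b * (u b a * s) * s := by rw [h.z_u]
    _ = u a b * u b a * (s * s) := by group
    _ = u (a + b) (a + b) := by rw [h.z_z, mul_one, h.u_mul, add_comm b a]

theorem wr_pow (h : IsWCoord n u s) (a b : ZMod (2 ^ n)) (k : ℕ) :
    u a b ^ k = u (k * a) (k * b) := by
  induction k with
  | zero => simp [h.u_zero]
  | succ k ih => rw [pow_succ, ih, h.u_mul]; congr 1 <;> (push_cast; ring)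

theorem exists_mul_eq_half (n : ℕ) (hn : 1 ≤ n) (d : ZMod (2 ^ n)) (hd : d ≠ 0) :
    ∃ k : ℕ, (k : ZMod (2 ^ n)) * d = 2 ^ (n - 1) := by
  have key : ∀ (m : ℕ) (d : ZMod (2 ^ n)), d ≠ 0 → 2 ^ m * d = 0 →
      ∃ k : ℕ, (k : ZMod (2 ^ n)) * d = 2 ^ (n - 1) := by
    intro m
    induction m with
    | zero => intro d hd h; exact absurd (by simpa using h) hd
    | succ m ih =>
      intro d hd h
      by_cases h2 : 2 * d = 0
      · rcases (two_mul_eq_zero_iff n hn d).1 h2 with h3 | h3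
        · exact absurd h3 hd
        · exact ⟨1, by rw [h3]; simp⟩
      · obtain ⟨k, hk⟩ := ih (2 * d) h2 (by rw [← mul_assoc, ← pow_succ]; exact h)
        exact ⟨k * 2, by push_cast; rw [mul_assoc]; exact hk⟩
  exact key n d hd (by rw [two_pow_eq_zero, zero_mul])

theorem wr_mem_iff (h : IsWCoord n u s) {R : Subgroup S} (hn : R.Normal) (hR : QLike R) (x : S) :
    x ∈ R ↔ (∃ a, x = u a (-a)) ∨ ∃ a, x = u a (2 ^ (n - 1) - a) * s := by
  have h2 := h.two_le
  obtain ⟨z, hz, hz1, hz2, hzu, hzc, hcent⟩ := hR.exists_central hn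
  -- `z = u h h`
  have hzz : z = u (2 ^ (n - 1)) (2 ^ (n - 1)) := by
    rcases h.cases z with ⟨a, b, rfl⟩ | ⟨a, b, rfl⟩
    · have h4 := hcent s
      rw [h.z_u] at h4
      have h5 := h.u_inj _ _ _ _ (mul_right_cancel h4)
      have h6 : b = a := h5.1
      rw [h6] at hz2 hz1 ⊢
      rw [h.u_mul, ← h.u_zero] at hz2
      have h7 := (h.u_inj _ _ _ _ hz2).1
      rcases (two_mul_eq_zero_iff n (by omega) a).1 (by rw [two_mul]; exact h7) with h8 | h8
      · exact absurd (by rw [h8, h.u_zero]) hz1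
      · rw [h8]
    · exfalso
      have h4 := hcent (u 1 0)
      rw [mul_assoc, h.z_u, ← mul_assoc, ← mul_assoc, h.u_mul, h.u_mul] at h4
      have h5 := (h.u_inj _ _ _ _ (mul_right_cancel h4)).1
      have h6 : (1 : ZMod (2 ^ n)) = 0 := by linear_combination h5
      refine two_mul_ne_two_mul_add_one n (by omega) 0 0 ?_
      rw [h6]; ring
  -- Step 1
  have s1 : ∀ a b, u a b * s ∈ R → a + b = 2 ^ (n - 1) := by
    intro a b hab
    have h4 := mul_mem hab hab
    rw [wr_sq h] at h4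
    have h5 : ∀ x ∈ R, u (a + b) (a + b) * x = x * u (a + b) (a + b) := by
      intro x _
      rcases h.cases x with ⟨c, d, rfl⟩ | ⟨c, d, rfl⟩
      · rw [h.u_mul, h.u_mul, add_comm (a + b) c, add_comm (a + b) d]
      · rw [mul_assoc (u c d), h.z_u, ← mul_assoc, ← mul_assoc, h.u_mul, h.u_mul,
          add_comm (a + b) c, add_comm (a + b) d]
    rcases hzc _ h4 h5 with h6 | h6
    · exfalso
      have h7 : u a b * s * (u a b * s) = 1 := by rw [wr_sq h, h6]
      rcases hzu _ hab h7 with h8 | h8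
      · exact h.u_ne 0 0 a b (by rw [h.u_zero, h8])
      · rw [hzz] at h8
        exact h.u_ne _ _ a b h8.symm
    · rw [hzz] at h6
      exact (h.u_inj _ _ _ _ h6).1
  -- Step 2
  obtain ⟨a, b, hab⟩ : ∃ a b, u a b * s ∈ R := by
    by_contra hcon
    push Not at hcon
    obtain ⟨a, ha, b, hb, hab⟩ := hR.nc
    apply hab
    rcases h.cases a with ⟨a', a'', rfl⟩ | ⟨a', a'', rfl⟩
    · rcases h.cases b with ⟨b', b'', rfl⟩ | ⟨b', b'', rfl⟩
      · rw [h.u_mul, h.u_mul, add_comm a' b', add_comm a'' b'']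
      · exact absurd hb (hcon b' b'')
    · exact absurd ha (hcon a' a'')
  have hsum := s1 a b hab
  -- Step 3
  have s3 : ∀ c, u c (-c) ∈ R := by
    intro c
    have h5 : u c 0 * (u a b * s) * (u c 0)⁻¹ * (u a b * s)⁻¹ ∈ R :=
      mul_mem (hn.conj_mem _ hab _) (inv_mem hab)
    have hinv : (u c 0)⁻¹ = u (-c) 0 := by
      rw [inv_eq_iff_mul_eq_one, h.u_mul, add_neg_cancel, add_zero, h.u_zero]
    have h6 : u c 0 * (u a b * s) * (u c 0)⁻¹ * (u a b * s)⁻¹ = u c (-c) := by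
      rw [hinv, mul_inv_eq_iff_eq_mul]
      calc u c 0 * (u a b * s) * u (-c) 0 = u c 0 * u a b * (s * u (-c) 0) := by group
        _ = u c 0 * u a b * (u 0 (-c) * s) := by rw [h.z_u]
        _ = u c 0 * u a b * u 0 (-c) * s := by group
        _ = u c (-c) * (u a b * s) := by
            rw [h.u_mul, h.u_mul, ← mul_assoc, h.u_mul]
            congr 2 <;> ring
    rwa [h6] at h5
  -- Step 4
  have s4 : ∀ c d, u c d ∈ R → d = -c := by
    intro c d hcd
    have h5 : u 0 (c + d) ∈ R := by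
      have h6 : u c d * u (-c) (-(-c)) = u 0 (c + d) := by
        rw [h.u_mul]; congr 1 <;> ring
      rw [← h6]; exact mul_mem hcd (s3 _)
    by_contra hne
    have h6 : c + d ≠ 0 := fun h7 => hne (by linear_combination h7)
    obtain ⟨k, hk⟩ := exists_mul_eq_half n (by omega) _ h6
    have h7 := pow_mem h5 k
    rw [wr_pow h, hk, mul_zero] at h7
    have h8 : u 0 (2 ^ (n - 1)) * u 0 (2 ^ (n - 1)) = 1 := by
      rw [h.u_mul, add_zero, ← two_mul, two_mul_half n (by omega), h.u_zero]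
    rcases hzu _ h7 h8 with h9 | h9
    · rw [← h.u_zero] at h9
      exact half_ne_zero n (by omega) (h.u_inj _ _ _ _ h9).2
    · rw [hzz] at h9
      exact half_ne_zero n (by omega) (h.u_inj _ _ _ _ h9).1.symm
  constructor
  · intro hx
    rcases h.cases x with ⟨c, d, rfl⟩ | ⟨c, d, rfl⟩
    · left; exact ⟨c, by rw [s4 c d hx]⟩
    · right
      refine ⟨c, ?_⟩
      have := s1 c d hx
      rw [← this]; congr 2; ring
  · rintro (⟨c, rfl⟩ | ⟨c, rfl⟩)
    · exact s3 c
    · have h6 : u (c - a) (-(c - a)) * (u a b * s) = u c (2 ^ (n - 1) - c) * s := by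
        rw [← mul_assoc, h.u_mul, ← hsum]; congr 2 <;> ring
      rw [← h6]; exact mul_mem (s3 _) hab

end WR

/-- **Uniqueness**. -/
theorem unique {S : Type*} [Group S] [Finite S] (hS : Cfsg.IsQuasiDihedral S ∨ Cfsg.IsWreathed S)
    {R R' : Subgroup S} (hn : R.Normal) (hn' : R'.Normal) (h : QLike R) (h' : QLike R') :
    R = R' := by
  rcases hS with hS | hS
  · obtain ⟨n, u, y, hc⟩ := exists_qdcoord hS
    ext x
    rw [sd_mem_iff hc hn h, sd_mem_iff hc hn' h']
  · obtain ⟨n, u, y, hc⟩ := exists_wcoord hS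
    ext x
    rw [wr_mem_iff hc hn h, wr_mem_iff hc hn' h']

section quat

open QuaternionGroup in
theorem qlike_top {k : ℕ} (hk : 1 ≤ k) : QLike (⊤ : Subgroup (QuaternionGroup (2 ^ k))) := by
  have hne : NeZero (2 ^ k) := ⟨by positivity⟩
  refine ⟨⟨a ((2 ^ k : ℕ) : ZMod (2 * 2 ^ k)), mem_top _,
    ClassificationK.GTwoFactorBasic.an_ne_one, ?_, ?_, ?_⟩, ?_⟩
  · rw [← sq]; exact ClassificationK.GTwoFactorBasic.an_sq
  · intro r _ hr
    exact ClassificationK.GTwoFactorBasic.sq_one (by rw [sq]; exact hr)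
  · intro r _ hr
    exact ClassificationK.GTwoConfBasic.eq_of_central hk r (fun x => hr x (mem_top x))
  · by_contra hcon
    push Not at hcon
    have h1 : ∀ r : QuaternionGroup (2 ^ k), r = 1 ∨ r = a ((2 ^ k : ℕ) : ZMod (2 * 2 ^ k)) := fun r =>
      ClassificationK.GTwoConfBasic.eq_of_central hk r (fun x => hcon r (mem_top r) x (mem_top x))
    rcases h1 (xa 0) with h2 | h2
    · rw [one_def] at h2; cases h2
    · cases h2

theorem qlike_of_equiv {W : Type*} [Group W] {R : Subgroup W} {k : ℕ} (hk : 1 ≤ k)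
    (e : ↥R ≃* QuaternionGroup (2 ^ k)) : QLike R := by
  have h := (qlike_top hk).map (R.subtype.comp e.symm.toMonoidHom)
    (R.subtype_injective.comp e.symm.injective)
  have h1 : (⊤ : Subgroup (QuaternionGroup (2 ^ k))).map (R.subtype.comp e.symm.toMonoidHom) = R := by
    rw [← MonoidHom.range_eq_map, MonoidHom.range_comp, MonoidHom.range_eq_top.2 e.symm.surjective,
      ← MonoidHom.range_eq_map, range_subtype]
  rwa [h1] at h

end quat

section converse

/-- The coordinates of the normal quaternion subgroup, quasi-dihedral case. -/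
theorem sd_qlike {S : Type*} [Group S] {n : ℕ} {u : ZMod (2 ^ n) → S} {y : S}
    (h : IsQDCoord n u y) {R : Subgroup S}
    (hR : ∀ x, x ∈ R ↔ (∃ a, x = u (2 * a)) ∨ ∃ a, x = u (2 * a + 1) * y) : QLike R := by
  have h3 := h.three_le
  have hh : ∀ a : ZMod (2 ^ n), 2 ^ (n - 1) * (2 * a) = 0 := fun a =>
    (half_mul_eq_zero_iff n (by omega) _).2 ⟨a, rfl⟩
  have hne : ∀ a : ZMod (2 ^ n), (2 : ZMod (2 ^ n)) ^ (n - 1) * (2 * a + 1) ≠ 0 := by
    intro a h1
    obtain ⟨b, hb⟩ := (half_mul_eq_zero_iff n (by omega) _).1 h1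
    exact two_mul_ne_two_mul_add_one n (by omega) b a hb.symm
  have h4 : (2 : ZMod (2 ^ n)) * 2 ≠ 0 := by
    intro h1
    rcases (two_mul_eq_zero_iff n (by omega) _).1 h1 with h2 | h2
    · have h5 := (half_mul_eq_zero_iff n (by omega) (1 : ZMod (2 ^ n))).1
      have h6 : (2 : ZMod (2 ^ n)) * 1 = 0 := by rw [mul_one]; exact h2
      rcases (two_mul_eq_zero_iff n (by omega) _).1 h6 with h7 | h7
      · refine two_mul_ne_two_mul_add_one n (by omega) 0 0 ?_
        rw [h7]; ring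
      · refine two_mul_ne_two_mul_add_one n (by omega) (2 ^ (n - 2)) 0 ?_
        rw [← pow_succ', show n - 2 + 1 = n - 1 by omega, ← h7]; ring
    · -- `2 = 2 ^ (n - 1)`
      have h10 : (2 : ZMod (2 ^ n)) * (2 ^ (n - 2) - 1) = 0 := by
        have : (2 : ZMod (2 ^ n)) ^ (n - 1) = 2 * 2 ^ (n - 2) := by
          rw [← pow_succ']; congr 1; omega
        rw [this] at h2
        linear_combination -h2
      rcases (two_mul_eq_zero_iff n (by omega) _).1 h10 with h11 | h11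
      · refine two_mul_ne_two_mul_add_one n (by omega) (2 ^ (n - 3)) 0 ?_
        rw [← pow_succ', show n - 3 + 1 = n - 2 by omega]
        linear_combination h11
      · refine two_mul_ne_two_mul_add_one n (by omega) (2 ^ (n - 3)) (2 ^ (n - 2)) ?_
        rw [← pow_succ', ← pow_succ', show n - 3 + 1 = n - 2 by omega,
          show n - 2 + 1 = n - 1 by omega]
        linear_combination h11
  have hmem2 : ∀ a, u (2 * a) ∈ R := fun a => (hR _).2 (Or.inl ⟨a, rfl⟩)
  have hmem1 : ∀ a, u (2 * a + 1) * y ∈ R := fun a => (hR _).2 (Or.inr ⟨a, rfl⟩)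
  have hhalf : (2 : ZMod (2 ^ n)) ^ (n - 1) = 2 * 2 ^ (n - 2) := by
    rw [← pow_succ']; congr 1; omega
  refine ⟨⟨u (2 ^ (n - 1)), by rw [hhalf]; exact hmem2 _, ?_, ?_, ?_, ?_⟩, ?_⟩
  · intro hc
    rw [← h.u_zero] at hc
    exact half_ne_zero n (by omega) (h.u_inj _ _ hc)
  · rw [h.u_mul, ← two_mul, two_mul_half n (by omega), h.u_zero]
  · intro r hr hr2
    rcases (hR r).1 hr with ⟨a, rfl⟩ | ⟨a, rfl⟩
    · rw [h.u_mul, ← h.u_zero] at hr2
      have h5 := h.u_inj _ _ hr2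
      rcases (two_mul_eq_zero_iff n (by omega) (2 * a)).1 (by rw [two_mul]; exact h5) with h6 | h6
      · left; rw [h6, h.u_zero]
      · right; rw [h6]
    · rw [sd_sq h, ← h.u_zero] at hr2
      exact absurd (h.u_inj _ _ hr2) (hne a)
  · intro r hr hc
    rcases (hR r).1 hr with ⟨a, rfl⟩ | ⟨a, rfl⟩
    · have h5 := hc _ (hmem1 0)
      rw [← mul_assoc, h.u_mul, mul_assoc, h.y_u, ← mul_assoc, h.u_mul] at h5
      have h6 := h.u_inj _ _ (mul_right_cancel h5)
      have h7 : 2 * (2 * a) = 2 ^ (n - 1) * (2 * a) := by linear_combination h6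
      rw [hh] at h7
      rcases (two_mul_eq_zero_iff n (by omega) (2 * a)).1 h7 with h8 | h8
      · left; rw [h8, h.u_zero]
      · right; rw [h8]
    · exfalso
      have h5 := hc _ (hmem2 1)
      rw [mul_assoc, h.y_u, ← mul_assoc (u (2 * a + 1)), h.u_mul, ← mul_assoc (u (2 * 1)),
        h.u_mul] at h5
      have h6 := h.u_inj _ _ (mul_right_cancel h5)
      have h7 : (2 : ZMod (2 ^ n)) * 2 = 2 ^ (n - 1) * (2 * 1) := by linear_combination -h6
      rw [hh] at h7
      exact h4 h7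
  · refine ⟨_, hmem2 1, _, hmem1 0, ?_⟩
    intro h5
    rw [← mul_assoc, h.u_mul, mul_assoc, h.y_u, ← mul_assoc, h.u_mul] at h5
    have h6 := h.u_inj _ _ (mul_right_cancel h5)
    have h7 : (2 : ZMod (2 ^ n)) * 2 = 2 ^ (n - 1) * (2 * 1) := by linear_combination h6
    rw [hh] at h7
    exact h4 h7

theorem sd_normal {S : Type*} [Group S] {n : ℕ} {u : ZMod (2 ^ n) → S} {y : S}
    (h : IsQDCoord n u y) {R : Subgroup S}
    (hR : ∀ x, x ∈ R ↔ (∃ a, x = u (2 * a)) ∨ ∃ a, x = u (2 * a + 1) * y) : R.Normal := by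
  have h3 := h.three_le
  have hhalf : (2 : ZMod (2 ^ n)) ^ (n - 1) = 2 * 2 ^ (n - 2) := by
    rw [← pow_succ']; congr 1; omega
  have hinv : ∀ c, (u c)⁻¹ = u (-c) := fun c => by
    rw [inv_eq_iff_mul_eq_one, h.u_mul, add_neg_cancel, h.u_zero]
  have hy : y⁻¹ = y := by rw [inv_eq_iff_mul_eq_one, h.y_y]
  have hu : ∀ c, ∀ x ∈ R, u c * x * (u c)⁻¹ ∈ R := by
    intro c x hx
    rcases (hR x).1 hx with ⟨a, rfl⟩ | ⟨a, rfl⟩
    · rw [hinv, h.u_mul, h.u_mul]
      refine (hR _).2 (Or.inl ⟨a, ?_⟩)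
      congr 1; ring
    · have e1 : u c * (u (2 * a + 1) * y) * (u c)⁻¹ = u (2 * (a + c - 2 ^ (n - 2) * c) + 1) * y := by
        rw [hinv]
        calc u c * (u (2 * a + 1) * y) * u (-c) = u c * u (2 * a + 1) * (y * u (-c)) := by group
          _ = u c * u (2 * a + 1) * u ((2 ^ (n - 1) - 1) * (-c)) * y := by rw [h.y_u]; group
          _ = _ := by rw [h.u_mul, h.u_mul, hhalf]; congr 2; ring
      rw [e1]
      exact (hR _).2 (Or.inr ⟨_, rfl⟩)
  have hyc : ∀ x ∈ R, y * x * y⁻¹ ∈ R := by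
    intro x hx
    rw [hy]
    rcases (hR x).1 hx with ⟨a, rfl⟩ | ⟨a, rfl⟩
    · have e1 : y * u (2 * a) * y = u (2 * ((2 ^ (n - 1) - 1) * a)) := by
        rw [h.y_u, mul_assoc, h.y_y, mul_one]; congr 1; ring
      rw [e1]; exact (hR _).2 (Or.inl ⟨_, rfl⟩)
    · have e1 : y * (u (2 * a + 1) * y) * y = u (2 * ((2 ^ (n - 1) - 1) * a + 2 ^ (n - 2) - 1) + 1) * y := by
        calc y * (u (2 * a + 1) * y) * y = (y * u (2 * a + 1)) * (y * y) := by group
          _ = _ := by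
            rw [h.y_y, mul_one, h.y_u]; congr 2; rw [hhalf]; ring
      rw [e1]; exact (hR _).2 (Or.inr ⟨_, rfl⟩)
  constructor
  intro x hx g
  rcases h.cases g with ⟨c, rfl⟩ | ⟨c, rfl⟩
  · exact hu c x hx
  · have e1 : u c * y * x * (u c * y)⁻¹ = u c * (y * x * y⁻¹) * (u c)⁻¹ := by group
    rw [e1]
    exact hu c _ (hyc x hx)

/-- The coordinates of the normal quaternion subgroup, wreathed case. -/
theorem wr_qlike {S : Type*} [Group S] {n : ℕ} {u : ZMod (2 ^ n) → ZMod (2 ^ n) → S} {s : S}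
    (h : IsWCoord n u s) {R : Subgroup S}
    (hR : ∀ x, x ∈ R ↔ (∃ a, x = u a (-a)) ∨ ∃ a, x = u a (2 ^ (n - 1) - a) * s) : QLike R := by
  have h2 := h.two_le
  have hh : (2 : ZMod (2 ^ n)) * 2 ^ (n - 1) = 0 := two_mul_half n (by omega)
  have hmem2 : ∀ a, u a (-a) ∈ R := fun a => (hR _).2 (Or.inl ⟨a, rfl⟩)
  have hmem1 : ∀ a, u a (2 ^ (n - 1) - a) * s ∈ R := fun a => (hR _).2 (Or.inr ⟨a, rfl⟩)
  have h4 : (2 : ZMod (2 ^ n)) ≠ 0 := by
    intro h1
    have h5 := half_ne_zero n (by omega)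
    apply h5
    obtain ⟨m, hm⟩ : ∃ m, n - 1 = m + 1 := ⟨n - 2, by omega⟩
    rw [hm, pow_succ, h1, mul_zero]
  have hneg : -(2 : ZMod (2 ^ n)) ^ (n - 1) = 2 ^ (n - 1) := by linear_combination -hh
  refine ⟨⟨u (2 ^ (n - 1)) (2 ^ (n - 1)), by
    have := hmem2 (2 ^ (n - 1))
    rwa [hneg] at this, ?_, ?_, ?_, ?_⟩, ?_⟩
  · intro hc
    rw [← h.u_zero] at hc
    exact half_ne_zero n (by omega) (h.u_inj _ _ _ _ hc).1
  · rw [h.u_mul, ← two_mul, hh, h.u_zero]
  · intro r hr hr2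
    rcases (hR r).1 hr with ⟨a, rfl⟩ | ⟨a, rfl⟩
    · rw [h.u_mul, ← h.u_zero] at hr2
      have h5 := (h.u_inj _ _ _ _ hr2).1
      rcases (two_mul_eq_zero_iff n (by omega) a).1 (by rw [two_mul]; exact h5) with h6 | h6
      · left; rw [h6, neg_zero, h.u_zero]
      · right; rw [h6, hneg]
    · rw [wr_sq h, ← h.u_zero] at hr2
      refine absurd ?_ (half_ne_zero n (by omega : 1 ≤ n))
      have := (h.u_inj _ _ _ _ hr2).1
      linear_combination this
  · intro r hr hc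
    rcases (hR r).1 hr with ⟨a, rfl⟩ | ⟨a, rfl⟩
    · have h5 := hc _ (hmem1 0)
      rw [← mul_assoc, h.u_mul, mul_assoc, h.z_u, ← mul_assoc, h.u_mul] at h5
      have h6 := (h.u_inj _ _ _ _ (mul_right_cancel h5)).1
      rcases (two_mul_eq_zero_iff n (by omega) a).1 (by linear_combination h6) with h8 | h8
      · left; rw [h8, neg_zero, h.u_zero]
      · right; rw [h8, hneg]
    · exfalso
      have h5 := hc _ (hmem2 1)
      rw [mul_assoc, h.z_u, ← mul_assoc, ← mul_assoc, h.u_mul, h.u_mul] at h5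
      have h6 := (h.u_inj _ _ _ _ (mul_right_cancel h5)).1
      exact h4 (by linear_combination -h6)
  · refine ⟨_, hmem2 1, _, hmem1 0, ?_⟩
    intro h5
    rw [← mul_assoc, h.u_mul, mul_assoc, h.z_u, ← mul_assoc, h.u_mul] at h5
    have h6 := (h.u_inj _ _ _ _ (mul_right_cancel h5)).1
    exact h4 (by linear_combination h6)

theorem wr_normal {S : Type*} [Group S] {n : ℕ} {u : ZMod (2 ^ n) → ZMod (2 ^ n) → S} {s : S}
    (h : IsWCoord n u s) {R : Subgroup S}
    (hR : ∀ x, x ∈ R ↔ (∃ a, x = u a (-a)) ∨ ∃ a, x = u a (2 ^ (n - 1) - a) * s) : R.Normal := by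
  have h2 := h.two_le
  have hinv : ∀ c d, (u c d)⁻¹ = u (-c) (-d) := fun c d => by
    rw [inv_eq_iff_mul_eq_one, h.u_mul, add_neg_cancel, add_neg_cancel, h.u_zero]
  have hy : s⁻¹ = s := by rw [inv_eq_iff_mul_eq_one, h.z_z]
  have hu : ∀ c d, ∀ x ∈ R, u c d * x * (u c d)⁻¹ ∈ R := by
    intro c d x hx
    rcases (hR x).1 hx with ⟨a, rfl⟩ | ⟨a, rfl⟩
    · rw [hinv, h.u_mul, h.u_mul]
      refine (hR _).2 (Or.inl ⟨a, ?_⟩)
      congr 1 <;> ring
    · have e1 : u c d * (u a (2 ^ (n - 1) - a) * s) * (u c d)⁻¹ =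
          u (a + c - d) (2 ^ (n - 1) - (a + c - d)) * s := by
        rw [hinv]
        calc u c d * (u a (2 ^ (n - 1) - a) * s) * u (-c) (-d)
            = u c d * u a (2 ^ (n - 1) - a) * (s * u (-c) (-d)) := by group
          _ = u c d * u a (2 ^ (n - 1) - a) * u (-d) (-c) * s := by rw [h.z_u]; group
          _ = _ := by rw [h.u_mul, h.u_mul]; congr 2 <;> ring
      rw [e1]
      exact (hR _).2 (Or.inr ⟨_, rfl⟩)
  have hyc : ∀ x ∈ R, s * x * s⁻¹ ∈ R := by
    intro x hx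
    rw [hy]
    rcases (hR x).1 hx with ⟨a, rfl⟩ | ⟨a, rfl⟩
    · have e1 : s * u a (-a) * s = u (-a) (-(-a)) := by
        rw [h.z_u, mul_assoc, h.z_z, mul_one, neg_neg]
      rw [e1]; exact (hR _).2 (Or.inl ⟨_, rfl⟩)
    · have e1 : s * (u a (2 ^ (n - 1) - a) * s) * s =
          u (2 ^ (n - 1) - a) (2 ^ (n - 1) - (2 ^ (n - 1) - a)) * s := by
        calc s * (u a (2 ^ (n - 1) - a) * s) * s = (s * u a (2 ^ (n - 1) - a)) * (s * s) := by group
          _ = _ := by
            rw [h.z_z, mul_one, h.z_u]; congr 2; ring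
      rw [e1]; exact (hR _).2 (Or.inr ⟨_, rfl⟩)
  constructor
  intro x hx g
  rcases h.cases g with ⟨c, d, rfl⟩ | ⟨c, d, rfl⟩
  · exact hu c d x hx
  · have e1 : u c d * s * x * (u c d * s)⁻¹ = u c d * (s * x * s⁻¹) * (u c d)⁻¹ := by group
    rw [e1]
    exact hu c d _ (hyc x hx)

end converse

end Cfsg.Agent.TypeLFive.QUniq
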