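import Mathlib
import Cfsg.Prelude.Def_CaseTheorems
import Cfsg.Agent.Lib.Cores
import Cfsg.Agent.TwoFusion.SLTwoFacts
import Cfsg.Agent.TwoFusion.QuatCoverSL
import Cfsg.Agent.S0261
import Cfsg.Agent.S0257
import Cfsg.Agent.TypeLFive.QUniq

/-!
# Normal subgroups of `SL(2,q)`, `q` odd, and its Sylow 2-subgroup
-/

set_option autoImplicit false

namespace Cfsg.Agent.TypeLFive.SLTwoCore

open Subgroup Cfsg.Agent.TypeLFive.QUniq
open scoped commutatorElement

variable {F : Type*} [Field F] [Fintype F]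

/-- A normal subgroup of `SL(2,q)`, `q > 3`, is central or everything. -/
theorem normal_cases (h : 3 < Fintype.card F) (N : Subgroup (Matrix.SpecialLinearGroup (Fin 2) F))
    (hN : N.Normal) : N ≤ center (Matrix.SpecialLinearGroup (Fin 2) F) ∨ N = ⊤ := by
  have hs := TwoFusion.SLTwoFacts.isSimpleGroup_psl h
  set Z := center (Matrix.SpecialLinearGroup (Fin 2) F) with hZ
  have hs' : IsSimpleGroup (Matrix.SpecialLinearGroup (Fin 2) F ⧸ Z) := hs
  have hm : (N.map (QuotientGroup.mk' Z)).Normal := hN.map _ (QuotientGroup.mk'_surjective Z)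
  rcases hm.eq_bot_or_eq_top with h1 | h1
  · left
    rw [Subgroup.map_eq_bot_iff, QuotientGroup.ker_mk'] at h1
    exact h1
  · right
    have h2 : ∀ g, ∃ m ∈ N, ∃ z ∈ Z, g = m * z := by
      intro g
      have h3 : QuotientGroup.mk' Z g ∈ N.map (QuotientGroup.mk' Z) := by rw [h1]; exact mem_top _
      obtain ⟨m, hm, hmg⟩ := h3
      have h4 : m⁻¹ * g ∈ Z := by
        rw [QuotientGroup.mk'_apply, QuotientGroup.mk'_apply] at hmg
        exact QuotientGroup.eq.1 hmg
      exact ⟨m, hm, m⁻¹ * g, h4, by group⟩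
    rw [eq_top_iff, ← TwoFusion.SLTwoFacts.commutator_eq_top h, commutator_eq_closure, closure_le]
    rintro _ ⟨a, b, rfl⟩
    obtain ⟨m, hm, z, hz, rfl⟩ := h2 a
    obtain ⟨m', hm', z', hz', rfl⟩ := h2 b
    have hzc : ∀ x, z * x = x * z := fun x => (mem_center_iff.1 hz x).symm
    have hzc' : ∀ x, z' * x = x * z' := fun x => (mem_center_iff.1 hz' x).symm
    have e : ⁅m * z, m' * z'⁆ = ⁅m, m'⁆ := by
      rw [commutatorElement_def, commutatorElement_def]
      calc m * z * (m' * z') * (m * z)⁻¹ * (m' * z')⁻¹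
          = m * (z * (m' * z')) * z⁻¹ * m⁻¹ * z'⁻¹ * m'⁻¹ := by group
        _ = m * ((m' * z') * z) * z⁻¹ * m⁻¹ * z'⁻¹ * m'⁻¹ := by rw [hzc]
        _ = m * m' * (z' * m⁻¹) * z'⁻¹ * m'⁻¹ := by group
        _ = m * m' * (m⁻¹ * z') * z'⁻¹ * m'⁻¹ := by rw [hzc']
        _ = m * m' * m⁻¹ * m'⁻¹ := by group
    rw [e]
    exact mul_mem (mul_mem (mul_mem hm hm') (inv_mem hm)) (inv_mem hm')

/-- `O(SL(2,q)) = 1`, `q > 3`. -/
theorem oddCore_eq_bot (hF : Odd (Fintype.card F)) (h3 : 3 < Fintype.card F) :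
    Cfsg.oddCore (Matrix.SpecialLinearGroup (Fin 2) F) = ⊥ := by
  classical
  have hodd : Odd (Nat.card (Cfsg.oddCore (Matrix.SpecialLinearGroup (Fin 2) F))) :=
    Nat.coprime_two_right.1 (Lib.Cores.pPrimeCore_coprime (G := Matrix.SpecialLinearGroup (Fin 2) F) 2)
  have hN : (Cfsg.oddCore (Matrix.SpecialLinearGroup (Fin 2) F)).Normal := Lib.Cores.pPrimeCore_normal 2
  have horder : ∀ x ∈ Cfsg.oddCore (Matrix.SpecialLinearGroup (Fin 2) F), orderOf x ∣ 2 → x = 1 := by
    intro x hx h3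
    have h4 : orderOf x ∣ Nat.card (Cfsg.oddCore (Matrix.SpecialLinearGroup (Fin 2) F)) := by
      have h5 := orderOf_dvd_natCard (⟨x, hx⟩ : Cfsg.oddCore (Matrix.SpecialLinearGroup (Fin 2) F))
      rwa [← Subgroup.orderOf_coe] at h5
    have h5 : orderOf x = 1 :=
      Nat.eq_one_of_dvd_coprimes (Nat.coprime_two_left.2 hodd) h3 h4
    exact orderOf_eq_one_iff.1 h5
  rcases normal_cases h3 _ hN with h | h
  · rw [eq_bot_iff]
    intro x hx
    have h2 := h hx
    rw [Cfsg.Agent.TwoFusion.QuatCoverSL.center_eq_zpowers hF] at h2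
    exact Subgroup.mem_bot.2 (horder x hx ((orderOf_dvd_of_mem_zpowers h2).trans
        (dvd_of_eq (Cfsg.Agent.TwoFusion.QuatCoverSL.orderOf_neg_one hF))))
  · exfalso
    have h1 := horder (-1) (by rw [h]; exact mem_top _)
      (dvd_of_eq (Cfsg.Agent.TwoFusion.QuatCoverSL.orderOf_neg_one hF))
    exact Cfsg.Agent.TwoFusion.QuatCoverSL.neg_one_ne_one hF h1

/-- A normal subgroup containing two non-commuting elements is everything. -/
theorem eq_top_of_nc (h : 3 < Fintype.card F) (N : Subgroup (Matrix.SpecialLinearGroup (Fin 2) F))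
    (hN : N.Normal) {a b : Matrix.SpecialLinearGroup (Fin 2) F} (ha : a ∈ N) (hab : a * b ≠ b * a) :
    N = ⊤ := by
  rcases normal_cases h N hN with h1 | h1
  · exact absurd (mem_center_iff.1 (h1 ha) b).symm hab
  · exact h1

/-- `SL(2,3)` has a normal Sylow 2-subgroup. -/
theorem sylow_normal_of_card_eq_three (h : Fintype.card F = 3)
    (P : Sylow 2 (Matrix.SpecialLinearGroup (Fin 2) F)) :
    (P : Subgroup (Matrix.SpecialLinearGroup (Fin 2) F)).Normal := by
  have : Fact (Nat.Prime 2) := ⟨Nat.prime_two⟩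
  obtain ⟨⟨Q, hQn, hQi, ⟨e⟩⟩, -⟩ := Cfsg.Agent.S0257.result h
  have hQ : IsPGroup 2 ↥Q := by
    apply IsPGroup.of_card (n := 3)
    rw [Nat.card_congr e.toEquiv, Nat.card_eq_fintype_card, QuaternionGroup.card]; norm_num
  have h1 : Q ≤ P := IsPGroup.le_sylow_of_normal hQ P
  have h2 : (P : Subgroup (Matrix.SpecialLinearGroup (Fin 2) F)) = Q := by
    let Q' : Sylow 2 (Matrix.SpecialLinearGroup (Fin 2) F) := hQ.toSylow (by rw [hQi]; norm_num)
    have h3 : (Q' : Subgroup _) = Q := rfl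
    have h4 : (Q' : Subgroup (Matrix.SpecialLinearGroup (Fin 2) F)) = P := by
      have := Q'.is_maximal' P.2 (by exact h1)
      exact this.symm
    rw [← h4, h3]
  rw [h2]; exact hQn

/-- The Sylow 2-subgroups of a group isomorphic to `SL(2,q)`. -/
theorem qlike_sylow (hF : Odd (Fintype.card F)) {B : Type*} [Group B] [Finite B]
    (e : B ≃* Matrix.SpecialLinearGroup (Fin 2) F) (P : Sylow 2 B) : QLike (P : Subgroup B) := by
  have : Fact (Nat.Prime 2) := ⟨Nat.prime_two⟩
  obtain ⟨k, hk, ⟨e1⟩⟩ := Cfsg.Agent.S0261.result hF (P.mapSurjective (f := e.toMonoidHom) e.surjective)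
  have e2 : ↥(P : Subgroup B) ≃* ↥((P : Subgroup B).map e.toMonoidHom) :=
    (P : Subgroup B).equivMapOfInjective e.toMonoidHom e.injective
  exact qlike_of_equiv hk (e2.trans e1)

end Cfsg.Agent.TypeLFive.SLTwoCore
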