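import Mathlib
import Cfsg.Agent.TypeLFive.CentFive
import Cfsg.Agent.TypeLFive.SLTwoCore

/-!
# Step (5) of the centraliser analysis of S0511: the normal closure of `Q₂` in `C_J(z)`
-/

set_option autoImplicit false

namespace Cfsg.Agent.TypeLFive.CentFiveJ

open Subgroup Cfsg.Agent.TypeLFive.CentAbs Cfsg.Agent.TypeLFive.CentFive Cfsg.Agent.TypeLFive.QUniq

/-- The fact about the centralisers of the involutions of `J`. -/
def SLFact (J : Type*) [Group J] (F : Type*) [Field F] : Prop :=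
  ∀ z : J, z ≠ 1 → z * z = 1 → ∃ B : Subgroup J, (∀ b ∈ B, b * z = z * b) ∧
    (∀ c : J, c * z = z * c → ∀ b ∈ B, c * b * c⁻¹ ∈ B) ∧
    Nonempty (↥B ≃* Matrix.SpecialLinearGroup (Fin 2) F)

theorem SLFact.congr {J J' : Type*} [Group J] [Group J'] {F : Type*} [Field F] (h : SLFact J F)
    (e : J ≃* J') : SLFact J' F := by
  intro z hz1 hz2
  obtain ⟨B, h1, h2, ⟨f⟩⟩ := h (e.symm z) (fun hc => hz1 (by
    have := congrArg e hc
    simpa using this)) (by rw [← map_mul, hz2, map_one])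
  refine ⟨B.map e.toMonoidHom, ?_, ?_, ⟨(B.equivMapOfInjective e.toMonoidHom e.injective).symm.trans f⟩⟩
  · rintro _ ⟨b, hb, rfl⟩
    have := congrArg e (h1 b hb)
    simpa using this
  · rintro c hc _ ⟨b, hb, rfl⟩
    have h3 := h2 (e.symm c) (by rw [← map_mul, hc, map_mul]) b hb
    exact ⟨_, h3, by simp⟩

section

variable {X : Type*} [Group X] [Finite X] {T : Sylow 2 X} {W1 W2 Q1 Q2 : Subgroup X}

/-- A Sylow 2-subgroup of `J` lying in `N ≤ J` meets a subgroup normalised by `N` in a Sylow subgroup. -/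
theorem exists_sylow (h : CHyp T W1 W2 Q1) {N B : Subgroup X} (hN : N ≤ normalClosure (W2 : Set X))
    (hW : W2 ≤ N) (hBN : B ≤ N) (hn : ∀ c ∈ N, ∀ b ∈ B, c * b * c⁻¹ ∈ B) :
    ∃ P : Sylow 2 ↥B, (P : Subgroup ↥B) = W2.subgroupOf B := by
  have : Fact (Nat.Prime 2) := ⟨Nat.prime_two⟩
  obtain ⟨P, hP⟩ := h.exists_sylow_J
  have h2W : IsPGroup 2 ↥W2 := T.isPGroup'.to_le h.clW.1
  have hind : ¬ 2 ∣ W2.relIndex N := by
    intro h2
    have h3 : W2.relIndex (normalClosure (W2 : Set X)) =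
        (P : Subgroup ↥(normalClosure (W2 : Set X))).index := by
      rw [hP]; rfl
    have h4 := Subgroup.relIndex_mul_relIndex W2 N (normalClosure (W2 : Set X)) hW hN
    apply P.not_dvd_index
    rw [← h3, ← h4]
    exact h2.mul_right _
  let S : Sylow 2 ↥N := (h2W.comap_of_injective N.subtype N.subtype_injective).toSylow
    (P := W2.subgroupOf N) hind
  have hBnor : (B.subgroupOf N).Normal := by
    constructor
    intro b hb c
    exact hn c c.2 b hb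
  obtain ⟨Q, hQ⟩ := Cfsg.Agent.S0542.result 2 (B.subgroupOf N)
    (Subgroup.Normal.isSubnormal inferInstance) S
  have h5 : ¬ 2 ∣ W2.relIndex B := by
    intro h2
    apply Q.not_dvd_index
    rw [hQ]
    have h6 : ((W2.subgroupOf N).subgroupOf (B.subgroupOf N)).index = W2.relIndex B := by
      have := Subgroup.relIndex_subgroupOf (H := W2) hBN
      exact this
    have h7 : ((S : Subgroup ↥N).subgroupOf (B.subgroupOf N)).index = W2.relIndex B := h6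
    rw [h7]; exact h2
  exact ⟨(h2W.comap_of_injective B.subtype B.subtype_injective).toSylow (P := W2.subgroupOf B) h5, rfl⟩

theorem eq_Q2 (h : CHyp T W1 W2 Q1) (hQ2 : Q2 ≤ W2) (hQn : ∀ g ∈ W2, ∀ q ∈ Q2, g * q * g⁻¹ ∈ Q2)
    (hQL : QLike Q2) {R : Subgroup X} (hR : R ≤ W2) (hRn : ∀ g ∈ W2, ∀ q ∈ R, g * q * g⁻¹ ∈ R)
    (hRL : QLike R) : R = Q2 := by
  have h1 : R.subgroupOf W2 = Q2.subgroupOf W2 := by
    refine unique h.type ⟨fun n hn g => hRn g g.2 n hn⟩ ⟨fun n hn g => hQn g g.2 n hn⟩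
      (hRL.comap W2.subtype W2.subtype_injective (by rwa [range_subtype]))
      (hQL.comap W2.subtype W2.subtype_injective (by rwa [range_subtype]))
  have h2 := congrArg (Subgroup.map W2.subtype) h1
  rwa [subgroupOf_map_subtype, subgroupOf_map_subtype, inf_eq_left.2 hR, inf_eq_left.2 hQ2] at h2

/-- The subgroup `B` of `C_J(z)`. -/
theorem exists_B (h : CHyp T W1 W2 Q1) (hQ2 : Q2 ≤ W2) (hQn : ∀ g ∈ W2, ∀ q ∈ Q2, g * q * g⁻¹ ∈ Q2)
    (hQL : QLike Q2) {z : X} (hz : z ∈ W2) (hz1 : z ≠ 1) (hz2 : z * z = 1)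
    (hzc : ∀ g ∈ W2, g * z = z * g) {F : Type*} [Field F] [Fintype F] (hF : Odd (Fintype.card F))
    (hJ : SLFact ↥(normalClosure (W2 : Set X)) F) :
    ∃ B : Subgroup X, B ≤ normalClosure (W2 : Set X) ⊓ centralizer ({z} : Set X) ∧
      (∀ c ∈ normalClosure (W2 : Set X) ⊓ centralizer ({z} : Set X), ∀ b ∈ B, c * b * c⁻¹ ∈ B) ∧
      Nonempty (↥B ≃* Matrix.SpecialLinearGroup (Fin 2) F) ∧ Q2 ≤ B ∧
      ∃ P : Sylow 2 ↥B, (P : Subgroup ↥B) = Q2.subgroupOf B := by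
  set J := normalClosure (W2 : Set X) with hJd
  obtain ⟨B0, hB1, hB2, ⟨e⟩⟩ := hJ ⟨z, h.le_J hz⟩ (fun hc => hz1 (congrArg Subtype.val hc))
    (Subtype.ext hz2)
  set B := B0.map J.subtype with hB
  have hBN : B ≤ J ⊓ centralizer ({z} : Set X) := by
    rintro _ ⟨b, hb, rfl⟩
    refine mem_inf.2 ⟨b.2, ?_⟩
    rw [mem_centralizer_singleton_iff]
    exact congrArg Subtype.val (hB1 b hb)
  have hBn : ∀ c ∈ J ⊓ centralizer ({z} : Set X), ∀ b ∈ B, c * b * c⁻¹ ∈ B := by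
    rintro c hc _ ⟨b, hb, rfl⟩
    exact ⟨_, hB2 ⟨c, hc.1⟩ (Subtype.ext (mem_centralizer_singleton_iff.1 hc.2)) b hb, rfl⟩
  have hWN : W2 ≤ J ⊓ centralizer ({z} : Set X) := by
    intro g hg
    refine mem_inf.2 ⟨h.le_J hg, ?_⟩
    rw [mem_centralizer_singleton_iff]
    exact hzc g hg
  obtain ⟨P, hP⟩ := exists_sylow h inf_le_left hWN hBN hBn
  have eB : ↥B ≃* Matrix.SpecialLinearGroup (Fin 2) F :=
    (B0.equivMapOfInjective J.subtype J.subtype_injective).symm.trans e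
  have hPL := SLTwoCore.qlike_sylow hF eB P
  rw [hP] at hPL
  have hL := hPL.map B.subtype B.subtype_injective
  rw [subgroupOf_map_subtype] at hL
  have hWB : W2 ⊓ B = Q2 := by
    refine eq_Q2 h hQ2 hQn hQL inf_le_left ?_ hL
    intro g hg q hq
    exact mem_inf.2 ⟨W2.mul_mem (W2.mul_mem hg hq.1) (W2.inv_mem hg), hBn g (hWN hg) q hq.2⟩
  have hQB : Q2 ≤ B := by rw [← hWB]; exact inf_le_right
  refine ⟨B, hBN, hBn, ⟨eB⟩, hQB, P, ?_⟩
  rw [hP, ← hWB]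
  ext x
  rw [mem_subgroupOf, mem_subgroupOf, mem_inf]
  exact ⟨fun hx => ⟨hx, x.2⟩, fun hx => hx.1⟩

/-- `q > 3`: the normal closure of `Q₂` in `C_J(z)` is `SL(2,q)`. -/
theorem equiv_of_three_lt (h : CHyp T W1 W2 Q1) (hQ2 : Q2 ≤ W2)
    (hQn : ∀ g ∈ W2, ∀ q ∈ Q2, g * q * g⁻¹ ∈ Q2) (hQL : QLike Q2) {z : X} (hz : z ∈ W2)
    (hz1 : z ≠ 1) (hz2 : z * z = 1) (hzc : ∀ g ∈ W2, g * z = z * g) {F : Type*} [Field F]
    [Fintype F] (hF : Odd (Fintype.card F)) (hJ : SLFact ↥(normalClosure (W2 : Set X)) F)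
    (h3 : 3 < Fintype.card F) :
    Nonempty (↥(cc (normalClosure (W2 : Set X) ⊓ centralizer ({z} : Set X)) Q2) ≃*
      Matrix.SpecialLinearGroup (Fin 2) F) := by
  obtain ⟨B, hBN, hBn, ⟨e⟩, hQB, P, hP⟩ := exists_B h hQ2 hQn hQL hz hz1 hz2 hzc hF hJ
  set N := normalClosure (W2 : Set X) ⊓ centralizer ({z} : Set X) with hN
  have hle : cc N Q2 ≤ B := cc_le_of hQB hBn
  have hnor : ((cc N Q2).subgroupOf B).Normal :=
    ⟨fun n hn g => cc_conj (hBN g.2) hn⟩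
  obtain ⟨a, ha, b, hb, hab⟩ := hQL.nc
  have h1 : ((cc N Q2).subgroupOf B).map e.toMonoidHom = ⊤ := by
    refine SLTwoCore.eq_top_of_nc h3 _ (hnor.map _ e.surjective) (a := e ⟨a, hQB ha⟩)
      (b := e ⟨b, hQB hb⟩) ⟨⟨a, hQB ha⟩, le_cc N Q2 ha, rfl⟩ ?_
    intro hc
    rw [← map_mul, ← map_mul] at hc
    exact hab (congrArg Subtype.val (e.injective hc))
  have h2 : (cc N Q2).subgroupOf B = ⊤ := by
    rw [eq_top_iff]
    intro x _
    have : e x ∈ ((cc N Q2).subgroupOf B).map e.toMonoidHom := by rw [h1]; exact mem_top _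
    obtain ⟨y, hy, hyx⟩ := this
    rwa [← e.injective hyx]
  have h4 : cc N Q2 = B := le_antisymm hle (subgroupOf_eq_top.1 h2)
  rw [h4]
  exact ⟨e⟩

/-- `q = 3`: `Q₂` is normal in `C_J(z)`. -/
theorem eq_of_eq_three (h : CHyp T W1 W2 Q1) (hQ2 : Q2 ≤ W2)
    (hQn : ∀ g ∈ W2, ∀ q ∈ Q2, g * q * g⁻¹ ∈ Q2) (hQL : QLike Q2) {z : X} (hz : z ∈ W2)
    (hz1 : z ≠ 1) (hz2 : z * z = 1) (hzc : ∀ g ∈ W2, g * z = z * g) {F : Type*} [Field F]
    [Fintype F] (hJ : SLFact ↥(normalClosure (W2 : Set X)) F)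
    (h3 : Fintype.card F = 3) :
    cc (normalClosure (W2 : Set X) ⊓ centralizer ({z} : Set X)) Q2 = Q2 := by
  have : Fact (Nat.Prime 2) := ⟨Nat.prime_two⟩
  have hF : Odd (Fintype.card F) := by rw [h3]; decide
  obtain ⟨B, hBN, hBn, ⟨e⟩, hQB, P, hP⟩ := exists_B h hQ2 hQn hQL hz hz1 hz2 hzc hF hJ
  set N := normalClosure (W2 : Set X) ⊓ centralizer ({z} : Set X) with hN
  refine le_antisymm ?_ (le_cc N Q2)
  have hPn : (P : Subgroup ↥B).Normal := by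
    have h1 := SLTwoCore.sylow_normal_of_card_eq_three h3
      (P.mapSurjective (f := e.toMonoidHom) e.surjective)
    have h2 : ((P : Subgroup ↥B).map e.toMonoidHom).Normal := h1
    have h4 := h2.comap e.toMonoidHom
    rwa [comap_map_eq_self_of_injective e.injective] at h4
  refine cc_le_of le_rfl ?_
  intro c hc q hq
  -- the element `c q c⁻¹` generates a 2-subgroup of `B`
  have h1 : c * q * c⁻¹ ∈ B := hBn c hc q (hQB hq)
  -- `P` consists of all 2-elements of `B`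
  have hT : IsPGroup 2 ↥Q2 := (T.isPGroup'.to_le h.clW.1).to_le hQ2
  obtain ⟨k, hk⟩ := hT ⟨q, hq⟩
  have hk' : q ^ 2 ^ k = 1 := congrArg Subtype.val hk
  have h5 : (c * q * c⁻¹) ^ 2 ^ k = 1 := by
    rw [conj_pow, hk', mul_one, mul_inv_cancel]
  have h6 : IsPGroup 2 ↥(zpowers (⟨c * q * c⁻¹, h1⟩ : ↥B)) := by
    rw [IsPGroup.iff_card]
    have h7 : (⟨c * q * c⁻¹, h1⟩ : ↥B) ^ 2 ^ k = 1 := Subtype.ext h5
    obtain ⟨m, -, hm⟩ := (Nat.dvd_prime_pow Nat.prime_two).1 (orderOf_dvd_of_pow_eq_one h7)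
    exact ⟨m, by rw [Nat.card_zpowers, hm]⟩
  obtain ⟨R, hR⟩ := h6.exists_le_sylow
  have h8 : (R : Subgroup ↥B) = P := by
    have : R = P := by
      obtain ⟨g, hg⟩ := MulAction.exists_smul_eq (↥B) P R
      rw [← hg]
      exact Sylow.smul_eq_of_normal
    rw [this]
  have h9 : (⟨c * q * c⁻¹, h1⟩ : ↥B) ∈ (P : Subgroup ↥B) := by
    rw [← h8]; exact hR (mem_zpowers _)
  rw [hP] at h9
  exact h9

end

end Cfsg.Agent.TypeLFive.CentFiveJ
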