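import Mathlib
import Cfsg.Agent.TypeLFive.CentFiveJ

/-!
# Step (5) of the centraliser analysis of S0511: the structure of the normal closure of `Q₁`
-/

set_option autoImplicit false

namespace Cfsg.Agent.TypeLFive.CentFiveMain

open Subgroup Cfsg.Agent.TypeLFive.CentAbs Cfsg.Agent.TypeLFive.CentFive Cfsg.Agent.TypeLFive.QUniq
  Cfsg.Agent.TypeLFive.CentFiveJ

/-- **Step (5)**: `K = SL(2,q)`, or `q = 3` and `K = Q₁`. -/
theorem main {G X : Type*} [Group G] [Finite G] [Group X] [Finite X] {T : Sylow 2 X}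
    {W1 W2 Q1 Q2 : Subgroup X} {t t' w : G} {C : Subgroup G} (hC : ∀ g, g ∈ C ↔ g * t = t * g)
    (φ : ↥C →* X) (hφ : Function.Surjective φ) (hk : Odd (Nat.card φ.ker))
    (h : CHyp T W1 W2 Q1) (ht1 : t' ≠ 1) (htt : t' * t' = 1) (hc : t' ∈ C)
    (hw : w * t * w⁻¹ = t') (hw' : w * t' * w⁻¹ = t) {P1 P2 : Subgroup G}
    (hP1 : P1 ≤ C ⊓ centralizer ({t'} : Set G)) (hP2 : P2 ≤ C ⊓ centralizer ({t'} : Set G))
    (hPw : P2.map (MulAut.conj w).toMonoidHom = P1)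
    (hQ1 : (P1.subgroupOf C).map φ = Q1) (hQ2 : (P2.subgroupOf C).map φ = Q2) (hQW : Q2 ≤ W2)
    (htW : φ ⟨t', hc⟩ ∈ W2) (hQn : ∀ g ∈ W2, ∀ q ∈ Q2, g * q * g⁻¹ ∈ Q2) (hQL : QLike Q2)
    (hzc : ∀ g ∈ W2, g * φ ⟨t', hc⟩ = φ ⟨t', hc⟩ * g) {F : Type*} [Field F] [Fintype F]
    (hF : Odd (Fintype.card F)) (hJ : SLFact ↥(normalClosure (W2 : Set X)) F) :
    (3 < Fintype.card F → Nonempty (↥(normalClosure (Q1 : Set X)) ≃*
      Matrix.SpecialLinearGroup (Fin 2) F)) ∧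
    (Fintype.card F = 3 → normalClosure (Q1 : Set X) = Q1) := by
  have : Fact (Nat.Prime 2) := ⟨Nat.prime_two⟩
  have hz2 : φ ⟨t', hc⟩ * φ ⟨t', hc⟩ = 1 := by
    rw [← map_mul, ← map_one φ]; congr 1; exact Subtype.ext htt
  have hz1 : φ ⟨t', hc⟩ ≠ 1 := by
    intro h1
    have h2 : (⟨t', hc⟩ : ↥C) ∈ φ.ker := h1
    have h3 : orderOf (⟨t', hc⟩ : ↥C) ∣ Nat.card φ.ker := Subgroup.orderOf_dvd_natCard _ h2
    have h4 : orderOf (⟨t', hc⟩ : ↥C) = 2 := by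
      apply orderOf_eq_prime
      · rw [sq]; exact Subtype.ext htt
      · intro h5; exact ht1 (congrArg Subtype.val h5)
    rw [h4] at h3
    exact (Nat.not_even_iff_odd.2 hk) (even_iff_two_dvd.2 h3)
  constructor
  · intro h3
    obtain ⟨e⟩ := equiv_of_three_lt h hQW hQn hQL htW hz1 hz2 hzc hF hJ h3
    have hA : Cfsg.oddCore ↥(cc (normalClosure (W2 : Set X) ⊓ centralizer ({φ ⟨t', hc⟩} : Set X)) Q2) = ⊥ := by
      have h1 := Lib.Cores.map_equiv_pPrimeCore e.symm 2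
      have h2 : Cfsg.pPrimeCore 2 (Matrix.SpecialLinearGroup (Fin 2) F) = ⊥ :=
        SLTwoCore.oddCore_eq_bot hF h3
      rw [h2, Subgroup.map_bot] at h1
      exact h1.symm
    obtain ⟨e'⟩ := nonempty_equiv_K hC φ hφ hk h htt hc hw hw' hP1 hP2 hPw hQ1 hQ2 hQW htW hA
    exact ⟨e'.symm.trans e⟩
  · intro h3
    have h4 := eq_of_eq_three h hQW hQn hQL htW hz1 hz2 hzc hJ h3
    have h2Q : IsPGroup 2 ↥Q2 := (T.isPGroup'.to_le h.clW.1).to_le hQW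
    have hA : Cfsg.oddCore ↥(cc (normalClosure (W2 : Set X) ⊓ centralizer ({φ ⟨t', hc⟩} : Set X)) Q2) = ⊥ := by
      rw [h4]
      have h5 : Odd (Nat.card (Cfsg.oddCore ↥Q2)) :=
        Nat.coprime_two_right.1 (Lib.Cores.pPrimeCore_coprime (G := ↥Q2) 2)
      obtain ⟨k, hk⟩ := IsPGroup.iff_card.1 (h2Q.to_subgroup (Cfsg.oddCore ↥Q2))
      rcases Nat.eq_zero_or_pos k with h6 | h6
      · rw [h6, pow_zero] at hk
        exact Subgroup.card_eq_one.1 hk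
      · exfalso
        rw [hk] at h5
        exact (Nat.not_even_iff_odd.2 h5) (even_iff_two_dvd.2 (dvd_pow_self 2 h6.ne'))
    obtain ⟨e'⟩ := nonempty_equiv_K hC φ hφ hk h htt hc hw hw' hP1 hP2 hPw hQ1 hQ2 hQW htW hA
    rw [h4] at e'
    have hK : IsPGroup 2 ↥(normalClosure (Q1 : Set X)) := h2Q.of_equiv e'
    refine le_antisymm ?_ h.le_K
    intro x hx
    exact h.mem_Q1 (IsPGroup.le_sylow_of_normal hK T hx) hx

end Cfsg.Agent.TypeLFive.CentFiveMain
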