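import Mathlib
import Cfsg.Agent.TwoFusion.QDBasic

/-!
# Facts on a semidihedral group `W` in coordinates
-/

set_option autoImplicit false

namespace Cfsg.Agent.TypeLFive.CentSDGroup

open Cfsg.Agent.TwoFusion.QDBasic

variable {W : Type*} [Group W] {n : ℕ} {u : ZMod (2 ^ n) → W} {y : W}

/-- The element `i` of order four of the cyclic maximal subgroup. -/
abbrev ii (n : ℕ) (u : ZMod (2 ^ n) → W) : W := u (2 ^ (n - 2))

/-- The central involution. -/
abbrev zz (n : ℕ) (u : ZMod (2 ^ n) → W) : W := u (2 ^ (n - 1))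

section

variable (h : IsQDCoord n u y)

include h

theorem two_mul_quarter : (2 : ZMod (2 ^ n)) * 2 ^ (n - 2) = 2 ^ (n - 1) := by
  have := h.three_le
  rw [← pow_succ']
  congr 1
  omega

theorem two_mul_eighth : (2 : ZMod (2 ^ n)) * 2 ^ (n - 3) = 2 ^ (n - 2) := by
  have := h.three_le
  rw [← pow_succ']
  congr 1
  omega

theorem half_mul_quarter : (2 : ZMod (2 ^ n)) ^ (n - 1) * 2 ^ (n - 2) = 0 := by
  have := h.three_le
  rw [← pow_add]
  have e : n - 1 + (n - 2) = n + (n - 3) := by omega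
  rw [e, pow_add, two_pow_eq_zero, zero_mul]

theorem zz_ne_one : zz n u ≠ 1 := by
  rw [Ne, h.u_eq_one_iff]
  exact half_ne_zero n h.one_le

theorem zz_mul_zz : zz n u * zz n u = 1 := by
  rw [h.u_mul, ← two_mul, two_mul_half n h.one_le, h.u_zero]

theorem zz_comm (x : W) : zz n u * x = x * zz n u := by
  rcases h.cases x with ⟨a, rfl⟩ | ⟨a, rfl⟩
  · rw [h.u_mul, h.u_mul, add_comm]
  · rw [h.u_mul_uy, h.uy_mul_u]
    congr 2
    linear_combination (-1 : ZMod (2 ^ n)) * half_mul_half n h.two_le + two_mul_half n h.one_le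

theorem ii_mul_ii : ii n u * ii n u = zz n u := by
  rw [h.u_mul, ← two_mul, two_mul_quarter h]

theorem y_conj_ii : y * ii n u * y⁻¹ = (ii n u)⁻¹ := by
  rw [h.y_conj, h.u_inv]
  congr 1
  linear_combination half_mul_quarter h

theorem y_conj_ii_inv : y * (ii n u)⁻¹ * y⁻¹ = ii n u := by
  have h1 := y_conj_ii h
  calc y * (ii n u)⁻¹ * y⁻¹ = (y * ii n u * y⁻¹)⁻¹ := by group
    _ = ii n u := by rw [h1, inv_inv]

theorem uy_mul_self (a : ZMod (2 ^ n)) : u a * y * (u a * y) = u (2 ^ (n - 1) * a) := by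
  rw [← h.uy_sq, pow_two]

theorem sq_even_uy (a : ZMod (2 ^ n)) : u (2 * a) * y * (u (2 * a) * y) = 1 := by
  rw [uy_mul_self h, ← h.u_zero]
  congr 1
  linear_combination a * two_mul_half n h.one_le

theorem sq_odd_uy (a : ZMod (2 ^ n)) : u (2 * a + 1) * y * (u (2 * a + 1) * y) = zz n u := by
  rw [uy_mul_self h]
  congr 1
  linear_combination a * two_mul_half n h.one_le

/-- squares. -/
theorem sq_cases (x : W) : (∃ a, x = u a ∧ x * x = u (2 * a)) ∨ (∃ a, x = u (2 * a) * y ∧ x * x = 1) ∨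
    ∃ a, x = u (2 * a + 1) * y ∧ x * x = zz n u := by
  rcases h.cases x with ⟨a, rfl⟩ | ⟨a, rfl⟩
  · left
    exact ⟨a, rfl, by rw [h.u_mul, ← two_mul]⟩
  · rcases even_or_odd' n a with ⟨b, rfl⟩ | ⟨b, rfl⟩
    · exact Or.inr (Or.inl ⟨b, rfl, sq_even_uy h b⟩)
    · exact Or.inr (Or.inr ⟨b, rfl, sq_odd_uy h b⟩)

/-- every square lies in `⟨r ^ 2⟩`. -/
theorem sq_mem (x : W) : ∃ a, x * x = u (2 * a) := by
  rcases sq_cases h x with ⟨a, -, h1⟩ | ⟨a, -, h1⟩ | ⟨a, -, h1⟩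
  · exact ⟨a, h1⟩
  · exact ⟨0, by rw [h1, mul_zero, h.u_zero]⟩
  · exact ⟨2 ^ (n - 2), by rw [h1, two_mul_quarter h]⟩

theorem u_sq_eq_one {a : ZMod (2 ^ n)} (ha : u a * u a = 1) : u a = 1 ∨ u a = zz n u := by
  rw [h.u_mul, ← two_mul, h.u_eq_one_iff, two_mul_eq_zero_iff n h.one_le] at ha
  rcases ha with rfl | rfl
  · left; exact h.u_zero
  · right; rfl

/-- an involution which is a square is `ζ`. -/
theorem sq_sq_eq_one {x : W} (hx : x * x * (x * x) = 1) : x * x = 1 ∨ x * x = zz n u := by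
  obtain ⟨a, ha⟩ := sq_mem h x
  rw [ha] at hx ⊢
  exact u_sq_eq_one h hx

theorem inv_cases {x : W} (hx : x * x = 1) : x = 1 ∨ x = zz n u ∨ ∃ a, x = u (2 * a) * y := by
  rcases sq_cases h x with ⟨a, rfl, -⟩ | ⟨a, rfl, -⟩ | ⟨a, -, h2⟩
  · rcases u_sq_eq_one h hx with h1 | h1
    · exact Or.inl h1
    · exact Or.inr (Or.inl h1)
  · exact Or.inr (Or.inr ⟨a, rfl⟩)
  · rw [hx] at h2
    exact absurd h2.symm (zz_ne_one h)

theorem four_cases {x : W} (hx : x * x = zz n u) :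
    x = ii n u ∨ x = (ii n u)⁻¹ ∨ ∃ a, x = u (2 * a + 1) * y := by
  rcases sq_cases h x with ⟨a, rfl, h2⟩ | ⟨a, rfl, h2⟩ | ⟨a, rfl, -⟩
  · rw [hx, h.u_eq_iff] at h2
    have h3 : 2 * (a - 2 ^ (n - 2)) = 0 := by
      linear_combination (-1 : ZMod (2 ^ n)) * h2 - two_mul_quarter h
    rw [two_mul_eq_zero_iff n h.one_le] at h3
    rcases h3 with h3 | h3
    · left
      rw [sub_eq_zero.1 h3]
    · right; left
      rw [h.u_inv, h.u_eq_iff]
      linear_combination h3 + two_mul_half n h.one_le + two_mul_quarter h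
  · rw [hx] at h2
    exact absurd h2 (zz_ne_one h)
  · exact Or.inr (Or.inr ⟨a, rfl⟩)

/-- all elements `r ^ odd * s` are conjugate to `r s`. -/
theorem conj_odd (a : ZMod (2 ^ n)) : ∃ b, u b * (u (2 * a + 1) * y) * (u b)⁻¹ = u 1 * y := by
  obtain ⟨m, rfl⟩ : ∃ m, n = m + 3 := ⟨n - 3, by have := h.three_le; omega⟩
  have hodd : IsUnit (1 - 2 ^ (m + 1) : ZMod (2 ^ (m + 3))) := by
    have := isUnit_odd (m + 3) (- 2 ^ m)
    have e : (2 * (- 2 ^ m) + 1 : ZMod (2 ^ (m + 3))) = 1 - 2 ^ (m + 1) := by ring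
    rwa [e] at this
  obtain ⟨c, hc⟩ := hodd.exists_right_inv
  refine ⟨-(a * c), ?_⟩
  rw [h.u_conj_uy]
  congr 2
  have e : m + 3 - 1 = m + 2 := by omega
  rw [e]
  linear_combination (-2 * a) * hc

/-- all elements `r ^ even * s` are conjugate to `s`. -/
theorem conj_even (a : ZMod (2 ^ n)) : ∃ b, u b * (u (2 * a) * y) * (u b)⁻¹ = y := by
  obtain ⟨m, rfl⟩ : ∃ m, n = m + 3 := ⟨n - 3, by have := h.three_le; omega⟩
  have hodd : IsUnit (1 - 2 ^ (m + 1) : ZMod (2 ^ (m + 3))) := by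
    have := isUnit_odd (m + 3) (- 2 ^ m)
    have e : (2 * (- 2 ^ m) + 1 : ZMod (2 ^ (m + 3))) = 1 - 2 ^ (m + 1) := by ring
    rwa [e] at this
  obtain ⟨c, hc⟩ := hodd.exists_right_inv
  refine ⟨-(a * c), ?_⟩
  rw [h.u_conj_uy]
  have e : m + 3 - 1 = m + 2 := by omega
  rw [e]
  have e2 : (2 * a + (2 - 2 ^ (m + 2)) * -(a * c) : ZMod (2 ^ (m + 3))) = 0 := by
    linear_combination (-2 * a) * hc
  rw [e2, h.u_zero, one_mul]

/-- The centraliser of `u a` when `2 a ≠ 0`. -/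
theorem comm_u {a : ZMod (2 ^ n)} (ha : 2 * a ≠ 0) {x : W} (hx : x * u a = u a * x) : ∃ b, x = u b := by
  rcases h.cases x with ⟨b, rfl⟩ | ⟨b, rfl⟩
  · exact ⟨b, rfl⟩
  · exfalso
    rw [h.uy_mul_u, h.u_mul_uy, mul_left_inj, h.u_eq_iff] at hx
    obtain ⟨m, rfl⟩ : ∃ m, n = m + 3 := ⟨n - 3, by have := h.three_le; omega⟩
    have e : m + 3 - 1 = m + 2 := by omega
    rw [e] at hx
    have hodd : IsUnit (1 - 2 ^ (m + 1) : ZMod (2 ^ (m + 3))) := by
      have := isUnit_odd (m + 3) (- 2 ^ m)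
      have e : (2 * (- 2 ^ m) + 1 : ZMod (2 ^ (m + 3))) = 1 - 2 ^ (m + 1) := by ring
      rwa [e] at this
    apply ha
    have h1 : (1 - 2 ^ (m + 1)) * (2 * a) = (0 : ZMod (2 ^ (m + 3))) := by
      linear_combination (-1 : ZMod (2 ^ (m + 3))) * hx
    exact (hodd.mul_right_eq_zero).1 h1

theorem comm_ii {x : W} (hx : x * ii n u = ii n u * x) : ∃ b, x = u b := by
  apply comm_u h _ hx
  rw [two_mul_quarter h]
  exact half_ne_zero n h.one_le

/-- The centraliser of `u a * y` has order four. -/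
theorem comm_uy {a : ZMod (2 ^ n)} {x : W} (hx : x * (u a * y) = u a * y * x) :
    x = 1 ∨ x = zz n u ∨ x = u a * y ∨ x = zz n u * (u a * y) := by
  have key : ∀ b : ZMod (2 ^ n), u b * (u a * y) = u a * y * u b → u b = 1 ∨ u b = zz n u := by
    intro b hb
    by_cases h2 : 2 * b = 0
    · rw [two_mul_eq_zero_iff n h.one_le] at h2
      rcases h2 with rfl | rfl
      · exact Or.inl h.u_zero
      · exact Or.inr rfl
    · obtain ⟨c, hc⟩ := comm_u h h2 hb.symm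
      exact absurd hc.symm (h.u_ne c a)
  rcases h.cases x with ⟨b, rfl⟩ | ⟨b, rfl⟩
  · rcases key b hx with h1 | h1
    · exact Or.inl h1
    · exact Or.inr (Or.inl h1)
  · have e : u b * y = u (b - a) * (u a * y) := by rw [h.u_mul_uy, sub_add_cancel]
    have h1 : u (b - a) * (u a * y) = u a * y * u (b - a) := by
      rw [e] at hx
      have := mul_right_cancel (b := u a * y) (a := u (b - a) * (u a * y)) (c := u a * y * u (b - a))
        (by rw [hx, mul_assoc (u a * y)])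
      exact this
    rcases key _ h1 with h2 | h2
    · rw [e, h2, one_mul]; exact Or.inr (Or.inr (Or.inl rfl))
    · rw [e, h2]; exact Or.inr (Or.inr (Or.inr rfl))

/-- The centre. -/
theorem center {x : W} (hx : ∀ a, x * a = a * x) : x = 1 ∨ x = zz n u := by
  obtain ⟨b, rfl⟩ := comm_ii h (hx (ii n u))
  have h1 := hx (u 0 * y)
  rcases comm_uy h h1 with h2 | h2 | h2 | h2
  · exact Or.inl h2
  · exact Or.inr h2
  · exact absurd h2 (h.u_ne _ _)
  · rw [h.u_mul_uy] at h2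
    exact absurd h2 (h.u_ne _ _)

/-- The centraliser of a nonabelian subgroup is the centre. -/
theorem comm_noncomm {x a b : W} (hab : a * b ≠ b * a) (ha : x * a = a * x) (hb : x * b = b * x) :
    x = 1 ∨ x = zz n u := by
  rcases h.cases x with ⟨c, rfl⟩ | ⟨c, rfl⟩
  · by_cases h2 : 2 * c = 0
    · rw [two_mul_eq_zero_iff n h.one_le] at h2
      rcases h2 with rfl | rfl
      · exact Or.inl h.u_zero
      · exact Or.inr rfl
    · exfalso
      obtain ⟨a', rfl⟩ := comm_u h h2 ha.symm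
      obtain ⟨b', rfl⟩ := comm_u h h2 hb.symm
      apply hab
      rw [h.u_mul, h.u_mul, add_comm]
  · exfalso
    apply hab
    have hz := zz_comm h
    rcases comm_uy h ha.symm with rfl | rfl | rfl | rfl
    · rw [one_mul, mul_one]
    · exact hz b
    · rw [hb]
    · rw [mul_assoc (zz n u), hb, ← mul_assoc, hz, mul_assoc]

end

/-! ### The maximal subgroups -/

/-- The cyclic maximal subgroup `⟨r⟩`. -/
def R (h : IsQDCoord n u y) : Subgroup W where
  carrier := {x | ∃ a, x = u a}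
  mul_mem' := by
    rintro _ _ ⟨a, rfl⟩ ⟨b, rfl⟩
    exact ⟨_, h.u_mul a b⟩
  one_mem' := ⟨0, h.u_zero.symm⟩
  inv_mem' := by
    rintro _ ⟨a, rfl⟩
    exact ⟨_, h.u_inv a⟩

/-- The dihedral maximal subgroup. -/
def D (h : IsQDCoord n u y) : Subgroup W where
  carrier := {x | ∃ a, x = u (2 * a) ∨ x = u (2 * a) * y}
  mul_mem' := by
    rintro _ _ ⟨a, rfl | rfl⟩ ⟨b, rfl | rfl⟩
    · exact ⟨a + b, Or.inl (by rw [h.u_mul]; congr 1; ring)⟩
    · exact ⟨a + b, Or.inr (by rw [h.u_mul_uy]; congr 2; ring)⟩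
    · exact ⟨a + (2 ^ (n - 1) - 1) * b, Or.inr (by rw [h.uy_mul_u]; congr 2; ring)⟩
    · exact ⟨a + (2 ^ (n - 1) - 1) * b, Or.inl (by rw [h.uy_mul_uy]; congr 1; ring)⟩
  one_mem' := ⟨0, Or.inl (by rw [mul_zero, h.u_zero])⟩
  inv_mem' := by
    rintro _ ⟨a, rfl | rfl⟩
    · exact ⟨-a, Or.inl (by rw [h.u_inv]; congr 1; ring)⟩
    · exact ⟨(1 - 2 ^ (n - 1)) * a, Or.inr (by rw [h.uy_inv]; congr 2; ring)⟩

/-- The quaternion maximal subgroup. -/
def Q (h : IsQDCoord n u y) : Subgroup W where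
  carrier := {x | ∃ a, x = u (2 * a) ∨ x = u (2 * a + 1) * y}
  mul_mem' := by
    have e2 : (2 : ZMod (2 ^ n)) * (2 ^ (n - 2)) = 2 ^ (n - 1) := two_mul_quarter h
    rintro _ _ ⟨a, rfl | rfl⟩ ⟨b, rfl | rfl⟩
    · exact ⟨a + b, Or.inl (by rw [h.u_mul]; congr 1; ring)⟩
    · exact ⟨a + b, Or.inr (by rw [h.u_mul_uy]; congr 2; ring)⟩
    · exact ⟨a + (2 ^ (n - 1) - 1) * b, Or.inr (by rw [h.uy_mul_u]; congr 2; ring)⟩
    · refine ⟨a + (2 ^ (n - 1) - 1) * b + 2 ^ (n - 2), Or.inl ?_⟩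
      rw [h.uy_mul_uy]; congr 1
      linear_combination (-1 : ZMod (2 ^ n)) * e2
  one_mem' := ⟨0, Or.inl (by rw [mul_zero, h.u_zero])⟩
  inv_mem' := by
    have e2 : (2 : ZMod (2 ^ n)) * (2 ^ (n - 2)) = 2 ^ (n - 1) := two_mul_quarter h
    rintro _ ⟨a, rfl | rfl⟩
    · exact ⟨-a, Or.inl (by rw [h.u_inv]; congr 1; ring)⟩
    · refine ⟨(1 - 2 ^ (n - 1)) * a - 2 ^ (n - 2), Or.inr ?_⟩
      rw [h.uy_inv]; congr 2
      linear_combination e2

section

variable (h : IsQDCoord n u y)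

theorem mem_R {x : W} : x ∈ R h ↔ ∃ a, x = u a := Iff.rfl

theorem mem_D {x : W} : x ∈ D h ↔ ∃ a, x = u (2 * a) ∨ x = u (2 * a) * y := Iff.rfl

theorem mem_Q {x : W} : x ∈ Q h ↔ ∃ a, x = u (2 * a) ∨ x = u (2 * a + 1) * y := Iff.rfl

include h

theorem mem_D_of_sq {x : W} (hx : x * x = 1) : x ∈ D h := by
  rcases inv_cases h hx with rfl | rfl | ⟨a, rfl⟩
  · exact (D h).one_mem
  · exact ⟨2 ^ (n - 2), Or.inl (by rw [two_mul_quarter h])⟩
  · exact ⟨a, Or.inr rfl⟩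

theorem mem_Q_of_sq {x : W} (hx : x * x = zz n u) : x ∈ Q h := by
  rcases four_cases h hx with rfl | rfl | ⟨a, rfl⟩
  · exact ⟨2 ^ (n - 3), Or.inl (by rw [two_mul_eighth h])⟩
  · exact (Q h).inv_mem ⟨2 ^ (n - 3), Or.inl (by rw [two_mul_eighth h])⟩
  · exact ⟨a, Or.inr rfl⟩

theorem zz_mem_Q : zz n u ∈ Q h := ⟨2 ^ (n - 2), Or.inl (by rw [two_mul_quarter h])⟩

theorem uy_even_notMem_Q (a : ZMod (2 ^ n)) : u (2 * a) * y ∉ Q h := by
  rintro ⟨b, e | e⟩
  · exact h.u_ne _ _ e.symm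
  · rw [mul_left_inj, h.u_eq_iff] at e
    exact two_mul_ne_two_mul_add_one n h.one_le a b e

theorem uy_odd_notMem_D (a : ZMod (2 ^ n)) : u (2 * a + 1) * y ∉ D h := by
  rintro ⟨b, e | e⟩
  · exact h.u_ne _ _ e.symm
  · rw [mul_left_inj, h.u_eq_iff] at e
    exact two_mul_ne_two_mul_add_one n h.one_le b a e.symm

theorem u_odd_notMem_Q (a : ZMod (2 ^ n)) : u (2 * a + 1) ∉ Q h := by
  rintro ⟨b, e | e⟩
  · rw [h.u_eq_iff] at e
    exact two_mul_ne_two_mul_add_one n h.one_le b a e.symm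
  · exact h.u_ne _ _ e

/-- The dihedral maximal subgroup is generated by involutions. -/
theorem closure_D : Subgroup.closure {x : W | x * x = 1} = D h := by
  apply le_antisymm
  · rw [Subgroup.closure_le]
    intro x hx
    exact mem_D_of_sq h hx
  · have key : ∀ a, u (2 * a) * y ∈ Subgroup.closure {x : W | x * x = 1} := fun a =>
      Subgroup.subset_closure (sq_even_uy h a)
    rintro _ ⟨a, rfl | rfl⟩
    · have h1 := Subgroup.mul_mem _ (key a) (key 0)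
      have e : u (2 * a) * y * (u (2 * 0) * y) = u (2 * a) := by
        rw [h.uy_mul_uy]; congr 1; ring
      rwa [e] at h1
    · exact key a

/-- `W` is generated by `D` and `Q`. -/
theorem exists_mul_DQ (x : W) : ∃ a ∈ D h, ∃ b ∈ Q h, x = a * b := by
  rcases h.cases x with ⟨c, rfl⟩ | ⟨c, rfl⟩
  · rcases even_or_odd' n c with ⟨b, rfl⟩ | ⟨b, rfl⟩
    · exact ⟨1, (D h).one_mem, _, ⟨b, Or.inl rfl⟩, by rw [one_mul]⟩
    · refine ⟨u (2 * b + 2 * 2 ^ (n - 2) + 2) * y, ⟨b + 2 ^ (n - 2) + 1, Or.inr (by congr 2; ring)⟩,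
        u 1 * y, ⟨0, Or.inr (by rw [mul_zero, zero_add])⟩, ?_⟩
      rw [h.uy_mul_uy, h.u_eq_iff]
      linear_combination (-1 : ZMod (2 ^ n)) * two_mul_quarter h - two_mul_half n h.one_le
  · rcases even_or_odd' n c with ⟨b, rfl⟩ | ⟨b, rfl⟩
    · exact ⟨_, ⟨b, Or.inr rfl⟩, 1, (Q h).one_mem, by rw [mul_one]⟩
    · exact ⟨1, (D h).one_mem, _, ⟨b, Or.inr rfl⟩, by rw [one_mul]⟩

end

end Cfsg.Agent.TypeLFive.CentSDGroup
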