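import Mathlib
import Cfsg.Agent.TwoFusion.QDBasic

/-!
# Linear algebra over `ZMod (2 ^ n)` for the action of the 3-cycle (345) on `A ≅ (Z_{2^n})^4`

Step (W1) of the wreathed half of (C), S0511.
-/

set_option autoImplicit false

namespace Cfsg.Agent.TypeLFive.CentLin

open Cfsg.Agent.TwoFusion.QDBasic

/-- `(Z_{2^n})^4` -/
abbrev V (n : ℕ) : Type := (ZMod (2 ^ n) × ZMod (2 ^ n)) × (ZMod (2 ^ n) × ZMod (2 ^ n))

/-- swap of the first two coordinates -/
def sw1 {n : ℕ} (v : V n) : V n := ((v.1.2, v.1.1), v.2)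

/-- swap of the last two coordinates -/
def sw2 {n : ℕ} (v : V n) : V n := (v.1, (v.2.2, v.2.1))

variable {n : ℕ}

/-- every nonzero element has a multiple equal to `2 ^ (n - 1)`. -/
theorem exists_mul_eq_half (hn : 1 ≤ n) {a : ZMod (2 ^ n)} (ha : a ≠ 0) : ∃ r, r * a = 2 ^ (n - 1) := by
  classical
  have hex : ∃ k : ℕ, (2 : ZMod (2 ^ n)) ^ k * a = 0 := ⟨n, by rw [two_pow_eq_zero, zero_mul]⟩
  have h1 := Nat.find_spec hex
  have h0 : Nat.find hex ≠ 0 := by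
    intro h0
    rw [h0, pow_zero, one_mul] at h1
    exact ha h1
  obtain ⟨l, hl⟩ := Nat.exists_eq_succ_of_ne_zero h0
  have h2 := Nat.find_min hex (m := l) (by omega)
  rw [hl, Nat.succ_eq_add_one, pow_succ', mul_assoc, two_mul_eq_zero_iff n hn] at h1
  rcases h1 with h1 | h1
  · exact absurd h1 h2
  · exact ⟨_, h1⟩

/-- `m ^ 3 = 1` implies `m = 1`. -/
theorem eq_one_of_cube (hn : 1 ≤ n) {m : ZMod (2 ^ n)} (hm : m * (m * m) = 1) : m = 1 := by
  have h1 : IsUnit (m * m + m + 1) := by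
    rcases even_or_odd' n m with ⟨b, hb⟩ | ⟨b, hb⟩
    · have : m * m + m + 1 = 2 * (2 * b * b + b) + 1 := by rw [hb]; ring
      rw [this]; exact isUnit_odd n _
    · have : m * m + m + 1 = 2 * (2 * b * b + 3 * b + 1) + 1 := by rw [hb]; ring
      rw [this]; exact isUnit_odd n _
  have h2 : (m * m + m + 1) * (m - 1) = 0 := by linear_combination hm
  have h3 := (h1.mul_right_eq_zero).1 h2
  exact sub_eq_zero.1 h3

/-- The hypotheses on the action of the 3-cycle. -/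
structure Cyc (α : V n →ₗ[ZMod (2 ^ n)] V n) : Prop where
  hn : 1 ≤ n
  s1 : ∀ v, α (sw1 v) = sw1 (α v)
  s2 : ∀ v, α (sw2 (α v)) = sw2 v
  cube : ∀ v, α (α (α v)) = v
  z0 : α ((0, 2 ^ (n - 1)), (2 ^ (n - 1), 2 ^ (n - 1))) = ((0, 2 ^ (n - 1)), (2 ^ (n - 1), 2 ^ (n - 1)))
  z1 : α ((2 ^ (n - 1), 0), (2 ^ (n - 1), 2 ^ (n - 1))) = ((2 ^ (n - 1), 0), (2 ^ (n - 1), 2 ^ (n - 1)))
  z2 : α ((2 ^ (n - 1), 2 ^ (n - 1)), (0, 2 ^ (n - 1))) = ((2 ^ (n - 1), 2 ^ (n - 1)), (2 ^ (n - 1), 0))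
  z3 : α ((2 ^ (n - 1), 2 ^ (n - 1)), (2 ^ (n - 1), 0)) =
    ((2 ^ (n - 1), 2 ^ (n - 1)), (2 ^ (n - 1), 2 ^ (n - 1)))

variable {α : V n →ₗ[ZMod (2 ^ n)] V n}

namespace Cyc

theorem hh (h : Cyc α) : (2 : ZMod (2 ^ n)) ^ (n - 1) + 2 ^ (n - 1) = 0 := by
  rw [← two_mul, two_mul_half n h.hn]

theorem t (h : Cyc α) : α ((2 ^ (n - 1), 2 ^ (n - 1)), (0, 0)) = ((2 ^ (n - 1), 2 ^ (n - 1)), (0, 0)) := by
  have e : (((2 ^ (n - 1), 2 ^ (n - 1)), (0, 0)) : V n) = ((0, 2 ^ (n - 1)), (2 ^ (n - 1), 2 ^ (n - 1))) +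
      ((2 ^ (n - 1), 0), (2 ^ (n - 1), 2 ^ (n - 1))) := by
    simp only [Prod.mk_add_mk, h.hh, zero_add, add_zero]
  rw [e, map_add, h.z0, h.z1]

theorem e4 (h : Cyc α) : α ((0, 0), (0, 2 ^ (n - 1))) = ((0, 0), (2 ^ (n - 1), 0)) := by
  have e : (((0, 0), (0, 2 ^ (n - 1))) : V n) = ((2 ^ (n - 1), 2 ^ (n - 1)), (0, 2 ^ (n - 1))) +
      ((2 ^ (n - 1), 2 ^ (n - 1)), (0, 0)) := by
    simp only [Prod.mk_add_mk, h.hh, zero_add, add_zero]
  rw [e, map_add, h.z2, h.t]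
  simp only [Prod.mk_add_mk, h.hh, zero_add, add_zero]

theorem e3 (h : Cyc α) : α ((0, 0), (2 ^ (n - 1), 0)) = ((0, 0), (2 ^ (n - 1), 2 ^ (n - 1))) := by
  have e : (((0, 0), (2 ^ (n - 1), 0)) : V n) = ((2 ^ (n - 1), 2 ^ (n - 1)), (2 ^ (n - 1), 0)) +
      ((2 ^ (n - 1), 2 ^ (n - 1)), (0, 0)) := by
    simp only [Prod.mk_add_mk, h.hh, zero_add, add_zero]
  rw [e, map_add, h.z3, h.t]
  simp only [Prod.mk_add_mk, h.hh, zero_add, add_zero]

/-- `σ` centralises `W₁'`. -/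
theorem anti (h : Cyc α) (x : ZMod (2 ^ n)) : α ((x, -x), (0, 0)) = ((x, -x), (0, 0)) := by
  set v := α ((1, 0), (0, 0)) with hv
  set m := v.1.1 - v.1.2 with hm
  have h1 : ∀ x : ZMod (2 ^ n), α ((x, -x), (0, 0)) = ((x * m, -(x * m)), (0, 0)) := by
    intro x
    have e1 : (((x, -x), (0, 0)) : V n) = x • (((1, 0), (0, 0)) : V n) - x • sw1 (((1, 0), (0, 0)) : V n) := by
      simp [sw1]
    rw [e1, map_sub, map_smul, map_smul, h.s1, ← hv]
    ext <;> simp [sw1, hm] <;> ring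
  have h3 := h.cube ((1, -1), (0, 0))
  rw [h1, h1, h1, one_mul, Prod.mk.injEq, Prod.mk.injEq] at h3
  have hm1 : m = 1 := eq_one_of_cube h.hn (by rw [← mul_assoc]; exact h3.1.1)
  rw [h1, hm1, mul_one]

/-- `(α - 1) v` is symmetric in the first two coordinates. -/
theorem sub_sym (h : Cyc α) (v : V n) : (α v - v).1.1 = (α v - v).1.2 := by
  have h1 : α v - v = sw1 (α v - v) := by
    have e : v - sw1 v = ((v.1.1 - v.1.2, -(v.1.1 - v.1.2)), (0, 0)) := by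
      ext <;> simp [sw1]
    have h2 := h.anti (v.1.1 - v.1.2)
    rw [← e, map_sub, h.s1] at h2
    have e2 : sw1 (α v - v) = sw1 (α v) - sw1 v := by ext <;> simp [sw1]
    rw [e2]
    have h3 : α v - v - (sw1 (α v) - sw1 v) = 0 := by
      calc α v - v - (sw1 (α v) - sw1 v) = (α v - sw1 (α v)) - (v - sw1 v) := by abel
        _ = 0 := by rw [h2, sub_self]
    exact sub_eq_zero.1 h3
  have h2 := congrArg (fun w : V n => w.1.1) h1
  simpa [sw1] using h2

theorem norm_sub (h : Cyc α) (v : V n) : (α v - v) + α (α v - v) + α (α (α v - v)) = 0 := by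
  simp only [map_sub, h.cube]
  abel

theorem norm_add (h : Cyc α) (v : V n) (a : ZMod (2 ^ n)) (hv : α v - v = ((a, a), (0, 0))) : a = 0 := by
  by_contra ha
  obtain ⟨r, hr⟩ := exists_mul_eq_half h.hn ha
  have h1 : α (r • v) - r • v = ((2 ^ (n - 1), 2 ^ (n - 1)), (0, 0)) := by
    rw [map_smul, ← smul_sub, hv]
    simp [hr]
  have h2 := h.norm_sub (r • v)
  rw [h1, h.t, h.t] at h2
  have h3 := congrArg (fun w : V n => w.1.1) h2
  simp only [Prod.mk_add_mk, Prod.fst_zero, h.hh, zero_add] at h3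
  exact half_ne_zero n h.hn h3

/-- The main statement: `[A, σ] = {((k (c + d), k (c + d)), (c, d))}` with `k` even. -/
theorem main (h : Cyc α) (hn2 : 2 ≤ n) : ∃ k : ZMod (2 ^ n), 2 ^ (n - 1) * k = 0 ∧
    (∀ v, (α v - v).1 = (k * ((α v - v).2.1 + (α v - v).2.2), k * ((α v - v).2.1 + (α v - v).2.2))) ∧
    (∀ c d : ZMod (2 ^ n), ∃ v, α v - v = ((k * (c + d), k * (c + d)), (c, d))) := by
  have hn := h.hn
  -- the columns
  have hs3 := h.sub_sym ((0, 0), (1, 0))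
  have hs4 := h.sub_sym ((0, 0), (0, 1))
  set v3 := α ((0, 0), (1, 0)) - ((0, 0), (1, 0)) with hv3
  set v4 := α ((0, 0), (0, 1)) - ((0, 0), (0, 1)) with hv4
  have m3 : (2 ^ (n - 1) : ZMod (2 ^ n)) • v3 = ((0, 0), (0, 2 ^ (n - 1))) := by
    have e : (2 ^ (n - 1) : ZMod (2 ^ n)) • (((0, 0), (1, 0)) : V n) = ((0, 0), (2 ^ (n - 1), 0)) := by simp
    rw [hv3, smul_sub, ← map_smul, e, h.e3]
    ext <;> simp
  have m4 : (2 ^ (n - 1) : ZMod (2 ^ n)) • v4 = ((0, 0), (2 ^ (n - 1), 2 ^ (n - 1))) := by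
    have e : (2 ^ (n - 1) : ZMod (2 ^ n)) • (((0, 0), (0, 1)) : V n) = ((0, 0), (0, 2 ^ (n - 1))) := by simp
    rw [hv4, smul_sub, ← map_smul, e, h.e4]
    have : -(2 ^ (n - 1) : ZMod (2 ^ n)) = 2 ^ (n - 1) := by linear_combination -h.hh
    ext <;> simp [this]
  have c3 : ∃ b, v3.2.1 = 2 * b := by
    rw [← half_mul_eq_zero_iff n hn]
    simpa using congrArg (fun w : V n => w.2.1) m3
  have hodd : ∀ x : ZMod (2 ^ n), 2 ^ (n - 1) * x = 2 ^ (n - 1) → ∃ b, x = 2 * b + 1 := by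
    intro x hx
    rcases even_or_odd' n x with ⟨b, hb⟩ | hb
    · exfalso
      have := (half_mul_eq_zero_iff n hn x).2 ⟨b, hb⟩
      rw [hx] at this
      exact half_ne_zero n hn this
    · exact hb
  have d3 : ∃ b, v3.2.2 = 2 * b + 1 := hodd _ (by simpa using congrArg (fun w : V n => w.2.2) m3)
  have c4 : ∃ b, v4.2.1 = 2 * b + 1 := hodd _ (by simpa using congrArg (fun w : V n => w.2.1) m4)
  have d4 : ∃ b, v4.2.2 = 2 * b + 1 := hodd _ (by simpa using congrArg (fun w : V n => w.2.2) m4)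
  obtain ⟨b1, hb1⟩ := c3
  obtain ⟨b2, hb2⟩ := d3
  obtain ⟨b3, hb3⟩ := c4
  obtain ⟨b4, hb4⟩ := d4
  -- the determinant
  have hD : IsUnit (v4.2.1 * v3.2.2 - v3.2.1 * v4.2.2) := by
    have : v4.2.1 * v3.2.2 - v3.2.1 * v4.2.2 =
        2 * (2 * b3 * b2 + b3 + b2 - b1 * (2 * b4 + 1)) + 1 := by
      rw [hb1, hb2, hb3, hb4]; ring
    rw [this]; exact isUnit_odd n _
  obtain ⟨D, hDv⟩ := hD
  have hDD : (v4.2.1 * v3.2.2 - v3.2.1 * v4.2.2) * ((D⁻¹ : (ZMod (2 ^ n))ˣ) : ZMod (2 ^ n)) = 1 := by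
    rw [← hDv]; exact D.mul_inv
  set Di := ((D⁻¹ : (ZMod (2 ^ n))ˣ) : ZMod (2 ^ n)) with hDi
  -- the image of `α - 1`
  have him : ∀ a b : ZMod (2 ^ n), ∃ v, α v - v = a • v3 + b • v4 := by
    intro a b
    refine ⟨a • (((0, 0), (1, 0)) : V n) + b • (((0, 0), (0, 1)) : V n), ?_⟩
    rw [map_add, map_smul, map_smul, hv3, hv4, smul_sub, smul_sub]
    abel
  obtain ⟨w1, hw1⟩ := him (-(Di * v4.2.2)) (Di * v3.2.2)
  obtain ⟨w2, hw2⟩ := him (Di * v4.2.1) (-(Di * v3.2.1))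
  have k1 : ∃ k, α w1 - w1 = ((k, k), (1, 0)) := by
    refine ⟨(α w1 - w1).1.1, ?_⟩
    ext
    · rfl
    · exact (h.sub_sym w1).symm
    · rw [hw1]
      simp only [Prod.snd_add, Prod.fst_add, Prod.smul_snd, Prod.smul_fst, smul_eq_mul]
      linear_combination hDD
    · rw [hw1]
      simp only [Prod.snd_add, Prod.smul_snd, smul_eq_mul]
      ring
  have k2 : ∃ k, α w2 - w2 = ((k, k), (0, 1)) := by
    refine ⟨(α w2 - w2).1.1, ?_⟩
    ext
    · rfl
    · exact (h.sub_sym w2).symm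
    · rw [hw2]
      simp only [Prod.snd_add, Prod.fst_add, Prod.smul_snd, Prod.smul_fst, smul_eq_mul]
      ring
    · rw [hw2]
      simp only [Prod.snd_add, Prod.smul_snd, smul_eq_mul]
      linear_combination hDD
  obtain ⟨k, hk1⟩ := k1
  obtain ⟨k', hk2⟩ := k2
  -- invariance under `sw2`
  have hsw : ∀ v, ∃ v', α v' - v' = sw2 (α v - v) := by
    intro v
    set y := sw2 v with hy
    refine ⟨α y + y, ?_⟩
    have h1 : α (sw2 (α v)) = y := h.s2 v
    have h2 : sw2 (α v) = α (α y) := by rw [← h.cube (sw2 (α v)), h1]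
    have h3 : sw2 (α v - v) = sw2 (α v) - sw2 v := by ext <;> simp [sw2]
    rw [h3, h2, map_add]
    abel
  obtain ⟨w3, hw3⟩ := hsw w1
  rw [hk1] at hw3
  have hkk : k = k' := by
    have h1 : α (w3 - w2) - (w3 - w2) = ((k - k', k - k'), (0, 0)) := by
      rw [map_sub]
      calc α w3 - α w2 - (w3 - w2) = (α w3 - w3) - (α w2 - w2) := by abel
        _ = _ := by rw [hw3, hk2]; ext <;> simp [sw2]
    exact sub_eq_zero.1 (h.norm_add _ _ h1)
  subst hkk
  have hall : ∀ c d : ZMod (2 ^ n), α (c • w1 + d • w2) - (c • w1 + d • w2) =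
      ((k * (c + d), k * (c + d)), (c, d)) := by
    intro c d
    calc α (c • w1 + d • w2) - (c • w1 + d • w2) = c • (α w1 - w1) + d • (α w2 - w2) := by
          rw [map_add, map_smul, map_smul, smul_sub, smul_sub]; abel
      _ = _ := by
          rw [hk1, hk2]
          ext <;> simp <;> ring
  refine ⟨k, ?_, ?_, fun c d => ⟨_, hall c d⟩⟩
  · -- `k` is even
    by_contra hk
    have hkh : (2 : ZMod (2 ^ n)) ^ (n - 1) * k = 2 ^ (n - 1) := by
      have h1 : 2 * ((2 : ZMod (2 ^ n)) ^ (n - 1) * k) = 0 := by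
        rw [← mul_assoc, two_mul_half n hn, zero_mul]
      rcases (two_mul_eq_zero_iff n hn _).1 h1 with h2 | h2
      · exact absurd h2 hk
      · exact h2
    have h1 := hall (2 ^ (n - 1)) 0
    rw [add_zero, mul_comm, hkh] at h1
    have h2 := h.norm_sub ((2 ^ (n - 1) : ZMod (2 ^ n)) • w1 + (0 : ZMod (2 ^ n)) • w2)
    have h4 : α ((2 ^ (n - 1), 2 ^ (n - 1)), (2 ^ (n - 1), 2 ^ (n - 1))) =
        ((2 ^ (n - 1), 2 ^ (n - 1)), (0, 2 ^ (n - 1))) := by
      have := h.cube ((2 ^ (n - 1), 2 ^ (n - 1)), (0, 2 ^ (n - 1)))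
      rw [h.z2, h.z3] at this
      exact this
    rw [h1, h.z3, h4] at h2
    have h3 := congrArg (fun w : V n => w.1.1) h2
    simp only [Prod.mk_add_mk, Prod.fst_zero, h.hh, zero_add] at h3
    exact half_ne_zero n h.hn h3
  · intro v
    set c := (α v - v).2.1 with hc
    set d := (α v - v).2.2 with hd
    have h1 : α (v - (c • w1 + d • w2)) - (v - (c • w1 + d • w2)) =
        (((α v - v).1.1 - k * (c + d), (α v - v).1.1 - k * (c + d)), (0, 0)) := by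
      rw [map_sub]
      calc α v - α (c • w1 + d • w2) - (v - (c • w1 + d • w2)) =
          (α v - v) - (α (c • w1 + d • w2) - (c • w1 + d • w2)) := by abel
        _ = _ := by
          rw [hall]
          have h5 := h.sub_sym v
          ext
          · rfl
          · show (α v - v).1.2 - k * (c + d) = (α v - v).1.1 - k * (c + d)
            rw [h5]
          · show (α v - v).2.1 - c = 0
            rw [← hc, sub_self]
          · show (α v - v).2.2 - d = 0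
            rw [← hd, sub_self]
    have h2 := sub_eq_zero.1 (h.norm_add _ _ h1)
    ext
    · exact h2
    · rw [← h.sub_sym v]; exact h2

end Cyc

end Cfsg.Agent.TypeLFive.CentLin
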