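import Mathlib
import Cfsg.Agent.TypeLFive.Model

/-!
# The output of the fusion analysis (F) of S0511

Notation: `ζ` the involution of `Z(W)`, `e` a noncentral involution of `W`,
`t = f (ζ, 1)`, `t' = f (1, ζ)`, `z = f (ζ, ζ)`. The elementary abelian group `E` of order 16 is
`f '' (⟨e, ζ⟩ × ⟨e, ζ⟩)`; its five vectors of "even weight 4" are `f (zv ζ e i)`, `i : Fin 5`
(product 1), the ten involutions of "weight 2" are `f (zv ζ e i * zv ζ e j)`, `i ≠ j`.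
-/

set_option autoImplicit false

namespace Cfsg.Agent.TypeLFive.Out

open Cfsg.Agent.TypeLFive.Model
open Cfsg.Agent.TwoFusion.QDBasic Cfsg.Agent.TwoFusion.WreathedBasic

variable {G W : Type*} [Group G] [Group W]

/-- the five vectors `z_1, …, z_5` (`z_5 = z`): `t_12 = t`, `t_34 = t'`, `t_15 = (e, 1)`,
`t_25 = (eζ, 1)`, `t_35 = (1, e)`, `t_45 = (1, eζ)`. -/
def zv (ζ e : W) : Fin 5 → W × W :=
  ![(e * ζ, ζ), (e, ζ), (ζ, e * ζ), (ζ, e), (ζ, ζ)]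

/-- The common output of (F) (after twisting `f`, such that `(e, 1)` is conjugate to `(ζ, 1)`). -/
structure FusOut (S : Subgroup G) (f : W × W →* G) (w : G) (ζ e : W) : Prop where
  wr : Wr S f w
  /-- `t` is not conjugate to `z`. -/
  not_conj : ¬ IsConj (f (ζ, 1)) (f (ζ, ζ))
  /-- every permutation of the five vectors is induced by `N_G(E)`. -/
  perm : ∀ σ : Equiv.Perm (Fin 5), ∃ g : G, ∀ i, g * f (zv ζ e i) * g⁻¹ = f (zv ζ e (σ i))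
  /-- `w` is conjugate to `t`. -/
  conj_w : IsConj (f (ζ, 1)) w
  /-- involutions `(x, y)` of `T` conjugate to `z`: both components `≠ 1`, one of them `= ζ`. -/
  conj_z : ∀ x y : W, x * x = 1 → y * y = 1 → x ≠ 1 → y ≠ 1 → (x = ζ ∨ y = ζ) →
    IsConj (f (ζ, ζ)) (f (x, y))
  /-- all the other involutions of `T` are conjugate to `t`. -/
  conj_t : ∀ x y : W, x * x = 1 → y * y = 1 → ¬ (x = 1 ∧ y = 1) →
    ¬ (x ≠ 1 ∧ y ≠ 1 ∧ (x = ζ ∨ y = ζ)) → IsConj (f (ζ, 1)) (f (x, y))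
  /-- `T` is a Sylow 2-subgroup of `C_G(t)`. -/
  sylow_t : ∀ R : Subgroup G, IsPGroup 2 R → f.range ≤ R →
    (∀ r ∈ R, r * f (ζ, 1) = f (ζ, 1) * r) → R = f.range

/-- The 3-element `ρ₁` of the wreathed case (`W = Z_{2^n} ≀ 2`, coordinates `u a b`, `u a b * s`):
it centralises `Z(W₁) × W₂` and permutes `i → j → k = i j` in the quaternion group
`i = (u (-q) q, 1)`, `j = (u q q * s, 1)`, `q = 2 ^ (n - 2)`. -/
structure IsRho {n : ℕ} (f : W × W →* G) (u : ZMod (2 ^ n) → ZMod (2 ^ n) → W) (s : W) (ρ : G) :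
    Prop where
  comm : ∀ a y, ρ * f (u a a, y) = f (u a a, y) * ρ
  i_j : ρ * f (u (-(2 ^ (n - 2))) (2 ^ (n - 2)), 1) * ρ⁻¹ =
    f (u (2 ^ (n - 2)) (2 ^ (n - 2)) * s, 1)
  j_k : ρ * f (u (2 ^ (n - 2)) (2 ^ (n - 2)) * s, 1) * ρ⁻¹ =
    f (u (-(2 ^ (n - 2))) (2 ^ (n - 2)) * (u (2 ^ (n - 2)) (2 ^ (n - 2)) * s), 1)

/-- The output of (F) for `W = Z_{2^n} ≀ 2` (`ζ = u h h`, `e = u h 0`, `h = 2 ^ (n - 1)`;
`A = f '' {(u a b, u c d)} ≅ (Z_{2^n})^4`). -/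
structure FusWR {n : ℕ} (S : Subgroup G) (f : W × W →* G) (w : G)
    (u : ZMod (2 ^ n) → ZMod (2 ^ n) → W) (s : W) : Prop where
  coord : IsWCoord n u s
  out : FusOut S f w (u (2 ^ (n - 1)) (2 ^ (n - 1))) (u (2 ^ (n - 1)) 0)
  /-- `A` is weakly closed in `S`. -/
  weak : ∀ g : G, (∀ a b c d, g * f (u a b, u c d) * g⁻¹ ∈ S) →
    ∀ a b c d, ∃ a' b' c' d', g * f (u a b, u c d) * g⁻¹ = f (u a' b', u c' d')
  /-- every permutation is induced by an element normalising `A`. -/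
  permA : ∀ σ : Equiv.Perm (Fin 5), ∃ g : G,
    (∀ a b c d, ∃ a' b' c' d', g * f (u a b, u c d) * g⁻¹ = f (u a' b', u c' d')) ∧
    ∀ i, g * f (zv (u (2 ^ (n - 1)) (2 ^ (n - 1))) (u (2 ^ (n - 1)) 0) i) * g⁻¹ =
      f (zv (u (2 ^ (n - 1)) (2 ^ (n - 1))) (u (2 ^ (n - 1)) 0) (σ i))
  /-- `N_G(A) / C_G(A)` is faithful on `E = Ω₁(A)`. -/
  faithful : ∀ g : G,
    (∀ a b c d, ∃ a' b' c' d', g * f (u a b, u c d) * g⁻¹ = f (u a' b', u c' d')) →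
    (∀ i, g * f (zv (u (2 ^ (n - 1)) (2 ^ (n - 1))) (u (2 ^ (n - 1)) 0) i) * g⁻¹ =
      f (zv (u (2 ^ (n - 1)) (2 ^ (n - 1))) (u (2 ^ (n - 1)) 0) i)) →
    ∀ a b c d, g * f (u a b, u c d) = f (u a b, u c d) * g
  rho : ∃ ρ : G, IsRho f u s ρ

/-- The output of (F) for `W` semidihedral of order `2 ^ (n + 1)` (`ζ = u h`, `e = y`). -/
structure FusSD {n : ℕ} (S : Subgroup G) (f : W × W →* G) (w : G)
    (u : ZMod (2 ^ n) → W) (y : W) : Prop where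
  coord : IsQDCoord n u y
  out : FusOut S f w (u (2 ^ (n - 1))) y

end Cfsg.Agent.TypeLFive.Out
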