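import Mathlib
import Cfsg.Agent.TypeLFive.Out
import Cfsg.Agent.TypeLFive.CentLin

/-!
# The action of `N_G(A)` on `A ≅ (Z_{2^n})^4` (S0511, piece (C), wreathed half)
-/

set_option autoImplicit false

namespace Cfsg.Agent.TypeLFive.CentWR

open Cfsg.Agent.TypeLFive.Model Cfsg.Agent.TypeLFive.Out Cfsg.Agent.TypeLFive.CentLin
open Cfsg.Agent.TwoFusion.QDBasic Cfsg.Agent.TwoFusion.WreathedBasic

variable {G W : Type*} [Group G] [Group W] {n : ℕ} {S : Subgroup G} {f : W × W →* G} {w : G}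
  {u : ZMod (2 ^ n) → ZMod (2 ^ n) → W} {s : W}

/-- The coordinates of `A`. -/
def Fv (f : W × W →* G) (u : ZMod (2 ^ n) → ZMod (2 ^ n) → W) (v : V n) : G := f (u v.1.1 v.1.2, u v.2.1 v.2.2)

theorem Fv_add (hc : IsWCoord n u s) (v v' : V n) : Fv f u (v + v') = Fv f u v * Fv f u v' := by
  simp only [Fv]
  rw [← map_mul, Prod.mk_mul_mk, hc.u_mul, hc.u_mul]
  rfl

theorem Fv_zero (hc : IsWCoord n u s) : Fv f u (0 : V n) = 1 := by
  have h := Fv_add (f := f) hc (0 : V n) 0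
  rw [add_zero] at h
  exact (left_eq_mul.1 h)

theorem Fv_neg (hc : IsWCoord n u s) (v : V n) : Fv f u (-v) = (Fv f u v)⁻¹ := by
  rw [eq_inv_iff_mul_eq_one, ← Fv_add hc, neg_add_cancel, Fv_zero hc]

theorem Fv_inj (hc : IsWCoord n u s) (hw : Wr S f w) {v v' : V n} (h : Fv f u v = Fv f u v') : v = v' := by
  have h1 := hw.inj h
  rw [Prod.mk.injEq] at h1
  obtain ⟨h2, h3⟩ := hc.u_inj _ _ _ _ h1.1
  obtain ⟨h4, h5⟩ := hc.u_inj _ _ _ _ h1.2
  exact Prod.ext (Prod.ext h2 h3) (Prod.ext h4 h5)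

theorem Fv_comm (hc : IsWCoord n u s) (v v' : V n) : Fv f u v * Fv f u v' = Fv f u v' * Fv f u v := by
  rw [← Fv_add hc, ← Fv_add hc, add_comm]

/-- `g` normalises `A`. -/
def NA (f : W × W →* G) (u : ZMod (2 ^ n) → ZMod (2 ^ n) → W) (g : G) : Prop :=
  ∀ v : V n, ∃ v' : V n, g * Fv f u v * g⁻¹ = Fv f u v'

/-- `φ` is the action of `g` on `A`. -/
def Act (f : W × W →* G) (u : ZMod (2 ^ n) → ZMod (2 ^ n) → W) (g : G) (φ : V n →ₗ[ZMod (2 ^ n)] V n) : Prop :=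
  ∀ v : V n, g * Fv f u v * g⁻¹ = Fv f u (φ v)

theorem Act.na {g : G} {φ : V n →ₗ[ZMod (2 ^ n)] V n} (h : Act f u g φ) : NA f u g := fun v => ⟨_, h v⟩

theorem NA.exists_act (hc : IsWCoord n u s) (hw : Wr S f w) {g : G} (hg : NA f u g) :
    ∃ φ : V n →ₗ[ZMod (2 ^ n)] V n, Act f u g φ := by
  choose φ hφ using hg
  let ψ : V n →+ V n :=
    { toFun := φ
      map_zero' := by
        apply Fv_inj hc hw
        rw [← hφ, Fv_zero hc, mul_one, mul_inv_cancel]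
      map_add' := fun x y => by
        apply Fv_inj hc hw
        rw [← hφ, Fv_add hc, Fv_add hc, ← hφ, ← hφ]
        group }
  exact ⟨ψ.toZModLinearMap (2 ^ n), hφ⟩

theorem Act.mul {g g' : G} {φ φ' : V n →ₗ[ZMod (2 ^ n)] V n} (h : Act f u g φ) (h' : Act f u g' φ') :
    Act f u (g * g') (φ.comp φ') := by
  intro v
  calc g * g' * Fv f u v * (g * g')⁻¹ = g * (g' * Fv f u v * g'⁻¹) * g⁻¹ := by group
    _ = _ := by rw [h', h]; rfl

theorem Act.one : Act f u (1 : G) (LinearMap.id : V n →ₗ[ZMod (2 ^ n)] V n) := by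
  intro v
  simp

/-- the inverse normalises too. -/
theorem NA.inv [Finite G] {g : G} (hg : NA f u g) : NA f u g⁻¹ := by
  obtain ⟨k, hk⟩ : ∃ k : ℕ, g⁻¹ = g ^ k := by
    refine ⟨orderOf g - 1, ?_⟩
    rw [inv_eq_iff_mul_eq_one, ← pow_succ', Nat.sub_add_cancel (orderOf_pos g), pow_orderOf_eq_one]
  rw [hk]
  clear hk
  induction k with
  | zero => intro v; exact ⟨v, by simp⟩
  | succ k ih =>
    intro v
    obtain ⟨v1, h1⟩ := hg v
    obtain ⟨v2, h2⟩ := ih v1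
    refine ⟨v2, ?_⟩
    rw [← h2, ← h1, pow_succ]
    group

theorem NA.mul {g g' : G} (hg : NA f u g) (hg' : NA f u g') : NA f u (g * g') := by
  intro v
  obtain ⟨v1, h1⟩ := hg' v
  obtain ⟨v2, h2⟩ := hg v1
  refine ⟨v2, ?_⟩
  rw [← h2, ← h1]
  group

/-- `sw1` as a linear map -/
def sw1L (n : ℕ) : V n →ₗ[ZMod (2 ^ n)] V n where
  toFun := sw1
  map_add' _ _ := rfl
  map_smul' _ _ := rfl

/-- `sw2` as a linear map -/
def sw2L (n : ℕ) : V n →ₗ[ZMod (2 ^ n)] V n where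
  toFun := sw2
  map_add' _ _ := rfl
  map_smul' _ _ := rfl

/-- `s₁ = f (s, 1)` acts as `sw1`. -/
theorem act_s1 (hc : IsWCoord n u s) : Act f u (f (s, 1)) (sw1L n) := by
  intro v
  show f (s, 1) * f (u v.1.1 v.1.2, u v.2.1 v.2.2) * (f (s, 1))⁻¹ = f (u v.1.2 v.1.1, u v.2.1 v.2.2)
  rw [← map_mul, ← map_inv, ← map_mul]
  congr 1
  simp only [Prod.mk_mul_mk, Prod.inv_mk, inv_one, mul_one, one_mul, hc.z_conj_u]

/-- `s₂ = f (1, s)` acts as `sw2`. -/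
theorem act_s2 (hc : IsWCoord n u s) : Act f u (f (1, s)) (sw2L n) := by
  intro v
  show f (1, s) * f (u v.1.1 v.1.2, u v.2.1 v.2.2) * (f (1, s))⁻¹ = f (u v.1.1 v.1.2, u v.2.2 v.2.1)
  rw [← map_mul, ← map_inv, ← map_mul]
  congr 1
  simp only [Prod.mk_mul_mk, Prod.inv_mk, inv_one, mul_one, one_mul, hc.z_conj_u]

/-- The five vectors. -/
def zV (n : ℕ) : Fin 5 → V n :=
  ![((0, 2 ^ (n - 1)), (2 ^ (n - 1), 2 ^ (n - 1))), ((2 ^ (n - 1), 0), (2 ^ (n - 1), 2 ^ (n - 1))),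
    ((2 ^ (n - 1), 2 ^ (n - 1)), (0, 2 ^ (n - 1))), ((2 ^ (n - 1), 2 ^ (n - 1)), (2 ^ (n - 1), 0)),
    ((2 ^ (n - 1), 2 ^ (n - 1)), (2 ^ (n - 1), 2 ^ (n - 1)))]

theorem f_zv (hc : IsWCoord n u s) (i : Fin 5) :
    f (zv (u (2 ^ (n - 1)) (2 ^ (n - 1))) (u (2 ^ (n - 1)) 0) i) = Fv f u (zV n i) := by
  have hh : (2 : ZMod (2 ^ n)) ^ (n - 1) + 2 ^ (n - 1) = 0 := by rw [← two_mul, two_mul_half n hc.one_le]
  have e : u (2 ^ (n - 1)) 0 * u (2 ^ (n - 1)) (2 ^ (n - 1)) = u 0 (2 ^ (n - 1)) := by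
    rw [hc.u_mul, hh, zero_add]
  fin_cases i <;> simp [zv, zV, Fv, e]

section fus

variable (h : FusWR S f w u s)

include h

theorem hw : Wr S f w := h.out.wr

/-- Two elements of `N_G(A)` inducing the same action on the five vectors induce the same action on `A`. -/
theorem act_eq [Finite G] {g g' : G} {φ φ' : V n →ₗ[ZMod (2 ^ n)] V n} (hg : Act f u g φ) (hg' : Act f u g' φ')
    (he : ∀ i, φ (zV n i) = φ' (zV n i)) (v : V n) : φ v = φ' v := by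
  have hna : NA f u (g'⁻¹ * g) := (hg'.na.inv).mul hg.na
  have h1 : ∀ i, (g'⁻¹ * g) * Fv f u (zV n i) * (g'⁻¹ * g)⁻¹ = Fv f u (zV n i) := by
    intro i
    have h2 := hg (zV n i)
    have h3 := hg' (zV n i)
    rw [← he] at h3
    calc (g'⁻¹ * g) * Fv f u (zV n i) * (g'⁻¹ * g)⁻¹ = g'⁻¹ * (g * Fv f u (zV n i) * g⁻¹) * g' := by group
      _ = g'⁻¹ * (g' * Fv f u (zV n i) * g'⁻¹) * g' := by rw [h2, h3]
      _ = Fv f u (zV n i) := by group
  have h4 := h.faithful (g'⁻¹ * g)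
    (fun a b c d => by
      obtain ⟨v', hv'⟩ := hna ((a, b), (c, d))
      exact ⟨v'.1.1, v'.1.2, v'.2.1, v'.2.2, hv'⟩)
    (fun i => by rw [f_zv h.coord]; exact h1 i) v.1.1 v.1.2 v.2.1 v.2.2
  have h5 : g'⁻¹ * g * Fv f u v = Fv f u v * (g'⁻¹ * g) := h4
  apply Fv_inj h.coord h.out.wr
  rw [← hg, ← hg']
  calc g * Fv f u v * g⁻¹ = g' * (g'⁻¹ * g * Fv f u v) * g⁻¹ := by group
    _ = g' * (Fv f u v * (g'⁻¹ * g)) * g⁻¹ := by rw [h5]
    _ = g' * Fv f u v * g'⁻¹ := by group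

/-- Every permutation of the five vectors is induced by a linear action. -/
theorem exists_perm (σ : Equiv.Perm (Fin 5)) : ∃ (g : G) (φ : V n →ₗ[ZMod (2 ^ n)] V n), Act f u g φ ∧
    ∀ i, φ (zV n i) = zV n (σ i) := by
  obtain ⟨g, hg, hi⟩ := h.permA σ
  have hna : NA f u g := fun v => by
    obtain ⟨a, b, c, d, e⟩ := hg v.1.1 v.1.2 v.2.1 v.2.2
    exact ⟨((a, b), (c, d)), e⟩
  obtain ⟨φ, hφ⟩ := hna.exists_act h.coord h.out.wr
  refine ⟨g, φ, hφ, fun i => ?_⟩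
  apply Fv_inj h.coord h.out.wr
  rw [← hφ, ← f_zv h.coord, ← f_zv h.coord, hi]

/-- The 3-cycle. -/
theorem exists_cyc [Finite G] : ∃ (g : G) (α : V n →ₗ[ZMod (2 ^ n)] V n), Act f u g α ∧ Cyc α := by
  have hc := h.coord
  set H : ZMod (2 ^ n) := 2 ^ (n - 1) with hH
  obtain ⟨g, α, hα, hi⟩ := exists_perm h (c[2, 3, 4])
  have i0 : α (zV n 0) = zV n 0 := hi 0
  have i1 : α (zV n 1) = zV n 1 := hi 1
  have i2 : α (zV n 2) = zV n 3 := hi 2
  have i3 : α (zV n 3) = zV n 4 := hi 3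
  have i4 : α (zV n 4) = zV n 2 := hi 4
  refine ⟨g, α, hα, hc.one_le, ?_, ?_, ?_, i0, i1, i2, i3⟩
  · have h1 := act_eq h (hα.mul (act_s1 hc)) ((act_s1 hc).mul hα) ?_
    · exact h1
    · intro i
      show α (sw1 (zV n i)) = sw1 (α (zV n i))
      fin_cases i
      · show α (zV n 1) = sw1 (α (zV n 0)); rw [i0, i1]; rfl
      · show α (zV n 0) = sw1 (α (zV n 1)); rw [i0, i1]; rfl
      · show α (zV n 2) = sw1 (α (zV n 2)); rw [i2]; rfl
      · show α (zV n 3) = sw1 (α (zV n 3)); rw [i3]; rfl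
      · show α (zV n 4) = sw1 (α (zV n 4)); rw [i4]; rfl
  · have h1 := act_eq h (hα.mul ((act_s2 hc).mul hα)) (act_s2 hc) ?_
    · exact h1
    · intro i
      show α (sw2 (α (zV n i))) = sw2 (zV n i)
      fin_cases i
      · show α (sw2 (α (zV n 0))) = sw2 (zV n 0); rw [i0]; exact i0
      · show α (sw2 (α (zV n 1))) = sw2 (zV n 1); rw [i1]; exact i1
      · show α (sw2 (α (zV n 2))) = zV n 3; rw [i2]; exact i2
      · show α (sw2 (α (zV n 3))) = zV n 2; rw [i3]; exact i4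
      · show α (sw2 (α (zV n 4))) = zV n 4; rw [i4]; exact i3
  · have h1 := act_eq h (hα.mul (hα.mul hα)) Act.one ?_
    · exact h1
    · intro i
      show α (α (α (zV n i))) = zV n i
      fin_cases i
      · show α (α (α (zV n 0))) = zV n 0; rw [i0, i0, i0]
      · show α (α (α (zV n 1))) = zV n 1; rw [i1, i1, i1]
      · show α (α (α (zV n 2))) = zV n 2; rw [i2, i3, i4]
      · show α (α (α (zV n 3))) = zV n 3; rw [i3, i4, i2]
      · show α (α (α (zV n 4))) = zV n 4; rw [i4, i2, i3]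

end fus

end Cfsg.Agent.TypeLFive.CentWR
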