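import Mathlib
import Cfsg.Agent.TypeLFive.CentWRBase

/-!
# The normalisation `[A, σ] = A ∩ W₂` (S0511, piece (C), wreathed half, step (W1))
-/

set_option autoImplicit false

namespace Cfsg.Agent.TypeLFive.CentWR

open Cfsg.Agent.TypeLFive.Model Cfsg.Agent.TypeLFive.Out Cfsg.Agent.TypeLFive.CentLin
open Cfsg.Agent.TwoFusion.QDBasic Cfsg.Agent.TwoFusion.WreathedBasic

variable {G W : Type*} [Group G] [Group W] {n : ℕ} {S : Subgroup G} {f : W × W →* G} {w : G}
  {u : ZMod (2 ^ n) → ZMod (2 ^ n) → W} {s : W}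

/-- The determinant `W → Z_{2^n}`. -/
theorem exists_det (hc : IsWCoord n u s) : ∃ D : W → ZMod (2 ^ n), (∀ a b, D (u a b) = a + b) ∧
    (∀ a b, D (u a b * s) = a + b + 2 ^ (n - 1)) ∧ ∀ x y, D (x * y) = D x + D y := by
  classical
  have hh : (2 : ZMod (2 ^ n)) ^ (n - 1) + 2 ^ (n - 1) = 0 := by rw [← two_mul, two_mul_half n hc.one_le]
  have hex : ∀ x : W, ∃ d : ZMod (2 ^ n), (∀ a b, x = u a b → d = a + b) ∧
      (∀ a b, x = u a b * s → d = a + b + 2 ^ (n - 1)) := by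
    intro x
    rcases hc.cases x with ⟨a, b, rfl⟩ | ⟨a, b, rfl⟩
    · refine ⟨a + b, fun c d e => ?_, fun c d e => absurd e (hc.u_ne _ _ _ _)⟩
      obtain ⟨h1, h2⟩ := hc.u_inj _ _ _ _ e
      rw [h1, h2]
    · refine ⟨a + b + 2 ^ (n - 1), fun c d e => absurd e.symm (hc.u_ne _ _ _ _), fun c d e => ?_⟩
      obtain ⟨h1, h2⟩ := hc.u_inj _ _ _ _ (mul_right_cancel e)
      rw [h1, h2]
  choose D hD1 hD2 using hex
  have e1 : ∀ a b, D (u a b) = a + b := fun a b => hD1 _ a b rfl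
  have e2 : ∀ a b, D (u a b * s) = a + b + 2 ^ (n - 1) := fun a b => hD2 _ a b rfl
  refine ⟨D, e1, e2, ?_⟩
  intro x y
  rcases hc.cases x with ⟨a, b, rfl⟩ | ⟨a, b, rfl⟩ <;> rcases hc.cases y with ⟨c, d, rfl⟩ | ⟨c, d, rfl⟩
  · rw [hc.u_mul, e1, e1, e1]; ring
  · rw [hc.u_mul_uz, e2, e1, e2]; ring
  · rw [hc.uz_mul_u, e2, e1, e2]; ring
  · rw [hc.uz_mul_uz, e1, e2, e2]; linear_combination -hh

/-- The central twist hom. -/
theorem exists_mu (hc : IsWCoord n u s) (k : ZMod (2 ^ n)) (D : W → ZMod (2 ^ n)) (hD1 : ∀ a b, D (u a b) = a + b)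
    (hD3 : ∀ x y, D (x * y) = D x + D y) : ∃ μ : W →* W, (∀ x, μ x = u (k * D x) (k * D x)) ∧
      (∀ x y, μ x * y = y * μ x) ∧ (∀ x, μ (μ x) = x → x = 1) := by
  have hD0 : D 1 = 0 := by
    have := hD3 1 1
    rw [mul_one] at this
    exact (left_eq_add.1 this)
  let μ : W →* W :=
    { toFun := fun x => u (k * D x) (k * D x)
      map_one' := by rw [hD0, mul_zero, hc.u_zero]
      map_mul' := fun x y => by rw [hD3, hc.u_mul, mul_add] }
  have hμ : ∀ x, μ x = u (k * D x) (k * D x) := fun _ => rfl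
  refine ⟨μ, hμ, ?_, ?_⟩
  · intro x y
    rw [hμ]
    rcases hc.cases y with ⟨c, d, rfl⟩ | ⟨c, d, rfl⟩
    · exact hc.u_comm _ _ _ _
    · rw [hc.u_mul_uz, hc.uz_mul_u, add_comm c, add_comm d]
  · intro x hx
    rw [hμ, hμ, hD1] at hx
    have h2 : D x = k * (k * D x + k * D x) + k * (k * D x + k * D x) := by
      conv_lhs => rw [← hx]
      rw [hD1]
    have h3 : (2 * (2 * (-(k * k))) + 1) * D x = 0 := by linear_combination h2
    have h4 : D x = 0 := ((isUnit_odd n _).mul_right_eq_zero).1 h3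
    rw [← hx, h4]
    simp [hc.u_zero]

/-- The wreathed output of (F), normalised: there is a `3`-cycle `σ` acting on `A` with
`[A, σ] = A ∩ W₂`. -/
structure FusWRN {n : ℕ} (S : Subgroup G) (f : W × W →* G) (w : G)
    (u : ZMod (2 ^ n) → ZMod (2 ^ n) → W) (s : W) : Prop where
  fus : FusWR S f w u s
  cyc : ∃ (g : G) (α : V n →ₗ[ZMod (2 ^ n)] V n), Act f u g α ∧ Cyc α ∧ (∀ v, (α v).1 = v.1) ∧
    ∀ c d : ZMod (2 ^ n), ∃ v, α v - v = ((0, 0), (c, d))

/-- The twisted coordinates. -/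
theorem exists_norm [Finite G] (h : FusWR S f w u s) : ∃ μ : W →* W, ∃ hμ : ∀ x y, μ x * y = y * μ x,
    (∀ x, x * x = 1 → μ x = 1) ∧ (∀ a b, ∃ c, μ (u a b) = u c c) ∧
    FusWRN S (f.comp (twistHom μ hμ)) w u s := by
  have hc := h.coord
  have hfin : Finite W := hc.finite
  have hh : (2 : ZMod (2 ^ n)) ^ (n - 1) + 2 ^ (n - 1) = 0 := by rw [← two_mul, two_mul_half n hc.one_le]
  obtain ⟨g, α, hα, hcyc⟩ := exists_cyc h
  obtain ⟨k, hk0, hk1, hk2⟩ := hcyc.main hc.two_le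
  obtain ⟨D, hD1, hD2, hD3⟩ := exists_det hc
  have hD0 : D 1 = 0 := by
    have := hD3 1 1
    rw [mul_one] at this
    exact (left_eq_add.1 this)
  obtain ⟨μ, hμ1, hμ, hinj⟩ := exists_mu hc k D hD1 hD3
  have hinv : ∀ x, x * x = 1 → μ x = 1 := by
    intro x hx
    have h1 : 2 * D x = 0 := by rw [two_mul, ← hD3, hx, hD0]
    rw [two_mul_eq_zero_iff n hc.one_le] at h1
    have h2 : k * D x = 0 := by
      rcases h1 with h1 | h1
      · rw [h1, mul_zero]
      · rw [h1, mul_comm, hk0]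
    rw [hμ1, h2, hc.u_zero]
  set f' := f.comp (twistHom μ hμ) with hf'
  have hf1 : ∀ x y, f' (x, y) = f (x * μ y, y * μ x) := fun x y => rfl
  have hw' : Wr S f' w := h.out.wr.twist μ hμ hinj
  have hfi : ∀ x y, x * x = 1 → y * y = 1 → f' (x, y) = f (x, y) := by
    intro x y hx hy
    rw [hf1, hinv x hx, hinv y hy, mul_one, mul_one]
  -- the twist on `A`
  let T : V n → V n := fun v => ((v.1.1 + k * (v.2.1 + v.2.2), v.1.2 + k * (v.2.1 + v.2.2)),
    (v.2.1 + k * (v.1.1 + v.1.2), v.2.2 + k * (v.1.1 + v.1.2)))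
  have hT : ∀ v, Fv f' u v = Fv f u (T v) := by
    intro v
    show f' (u v.1.1 v.1.2, u v.2.1 v.2.2) = _
    rw [hf1, hμ1, hμ1, hD1, hD1, hc.u_mul, hc.u_mul]
    rfl
  have hTinj : Function.Injective T := by
    intro v v' e
    apply Fv_inj hc hw'
    rw [hT, hT, e]
  have hTsur : Function.Surjective T := Finite.surjective_of_injective hTinj
  have hTadd : ∀ v v', T (v + v') = T v + T v' := by
    intro v v'
    ext <;> simp [T] <;> ring
  -- the actions
  have hNA : ∀ g : G, NA f' u g ↔ NA f u g := by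
    intro g
    constructor
    · intro hg v
      obtain ⟨v1, rfl⟩ := hTsur v
      obtain ⟨v2, h2⟩ := hg v1
      exact ⟨T v2, by rw [← hT, ← hT, h2]⟩
    · intro hg v
      obtain ⟨v2, h2⟩ := hg (T v)
      obtain ⟨v3, rfl⟩ := hTsur v2
      exact ⟨v3, by rw [hT, hT, h2]⟩
  have hz : ∀ i, f' (zv (u (2 ^ (n - 1)) (2 ^ (n - 1))) (u (2 ^ (n - 1)) 0) i) =
      f (zv (u (2 ^ (n - 1)) (2 ^ (n - 1))) (u (2 ^ (n - 1)) 0) i) := by
    intro i
    have h2 : (2 : ZMod (2 ^ n)) ^ (n - 1) + 2 ^ (n - 1) = 0 := hh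
    fin_cases i <;> refine hfi _ _ ?_ ?_ <;> simp [hc.u_mul, h2, hc.u_zero]
  have hnaiff : ∀ (f₀ : W × W →* G) (g : G), NA f₀ u g ↔
      ∀ a b c d, ∃ a' b' c' d', g * f₀ (u a b, u c d) * g⁻¹ = f₀ (u a' b', u c' d') := by
    intro f₀ g
    constructor
    · intro hg a b c d
      obtain ⟨v, hv⟩ := hg ((a, b), (c, d))
      exact ⟨_, _, _, _, hv⟩
    · intro hg v
      obtain ⟨a, b, c, d, e⟩ := hg v.1.1 v.1.2 v.2.1 v.2.2
      exact ⟨((a, b), (c, d)), e⟩
  have hrange : f'.range = f.range := by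
    have := Wr.comp_range (f := f) (twistEquiv μ hμ hinj)
    rw [← this]
    rfl
  have h1i : (u (2 ^ (n - 1)) (2 ^ (n - 1))) * (u (2 ^ (n - 1)) (2 ^ (n - 1))) = (1 : W) := by
    rw [hc.u_mul, hh, hc.u_zero]
  have hzt : f' (u (2 ^ (n - 1)) (2 ^ (n - 1)), 1) = f (u (2 ^ (n - 1)) (2 ^ (n - 1)), 1) :=
    hfi _ _ h1i (one_mul 1)
  have hzz : f' (u (2 ^ (n - 1)) (2 ^ (n - 1)), u (2 ^ (n - 1)) (2 ^ (n - 1))) =
      f (u (2 ^ (n - 1)) (2 ^ (n - 1)), u (2 ^ (n - 1)) (2 ^ (n - 1))) := hfi _ _ h1i h1i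
  have hfus : FusWR S f' w u s :=
    { coord := hc
      out :=
        { wr := hw'
          not_conj := by rw [hzt, hzz]; exact h.out.not_conj
          perm := by
            intro σ
            obtain ⟨g, hg⟩ := h.out.perm σ
            exact ⟨g, fun i => by rw [hz, hz]; exact hg i⟩
          conj_w := by rw [hzt]; exact h.out.conj_w
          conj_z := by
            intro x y hx hy h1 h2 h3
            rw [hzz, hfi x y hx hy]
            exact h.out.conj_z x y hx hy h1 h2 h3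
          conj_t := by
            intro x y hx hy h1 h2
            rw [hzt, hfi x y hx hy]
            exact h.out.conj_t x y hx hy h1 h2
          sylow_t := by
            rw [hrange, hzt]
            exact h.out.sylow_t }
      weak := by
        intro g hg
        rw [← hnaiff]
        rw [hNA, hnaiff]
        apply h.weak
        intro a b c d
        obtain ⟨v, hv⟩ := hTsur ((a, b), (c, d))
        have := hg v.1.1 v.1.2 v.2.1 v.2.2
        have h5 : f' (u v.1.1 v.1.2, u v.2.1 v.2.2) = f (u a b, u c d) := by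
          have h6 := hT v
          rw [hv] at h6
          exact h6
        rwa [h5] at this
      permA := by
        intro σ
        obtain ⟨g, hg1, hg2⟩ := h.permA σ
        refine ⟨g, ?_, fun i => by rw [hz, hz]; exact hg2 i⟩
        rw [← hnaiff, hNA, hnaiff]
        exact hg1
      faithful := by
        intro g hg1 hg2 a b c d
        rw [← hnaiff, hNA, hnaiff] at hg1
        have h5 := h.faithful g hg1 (fun i => by rw [← hz]; exact hg2 i)
        have h6 : f' (u a b, u c d) = Fv f u (T ((a, b), (c, d))) := hT ((a, b), (c, d))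
        rw [h6]
        exact h5 _ _ _ _
      rho := by
        obtain ⟨ρ, hρ⟩ := h.rho
        have hq : (2 : ZMod (2 ^ n)) ^ (n - 2) + 2 ^ (n - 2) = 2 ^ (n - 1) := by
          have := hc.two_le
          rw [← two_mul, ← pow_succ']
          congr 1
          omega
        have hm1 : μ (u (-(2 ^ (n - 2))) (2 ^ (n - 2))) = 1 := by
          rw [hμ1, hD1, neg_add_cancel, mul_zero, hc.u_zero]
        have hm2 : μ (u (2 ^ (n - 2)) (2 ^ (n - 2)) * s) = 1 := by
          rw [hμ1, hD2, hq, hh, mul_zero, hc.u_zero]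
        have hm3 : μ (u (-(2 ^ (n - 2))) (2 ^ (n - 2)) * (u (2 ^ (n - 2)) (2 ^ (n - 2)) * s)) = 1 := by
          rw [map_mul, hm1, hm2, one_mul]
        refine ⟨ρ, ?_, ?_, ?_⟩
        · intro a y
          rw [hf1]
          have : u a a * μ y = u (a + k * D y) (a + k * D y) := by rw [hμ1, hc.u_mul]
          rw [this]
          exact hρ.comm _ _
        · rw [hf1, hf1, hm1, hm2, map_one, mul_one, mul_one, mul_one]
          exact hρ.i_j
        · rw [hf1, hf1, hm3, hm2, map_one, mul_one, mul_one, mul_one]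
          exact hρ.j_k }
  refine ⟨μ, hμ, hinv, fun a b => ⟨_, hμ1 _⟩, hfus, ?_⟩
  -- the action of `σ` in the twisted coordinates
  obtain ⟨β, hβ⟩ := ((hNA g).2 hα.na).exists_act hc hw'
  have hβα : ∀ v, T (β v) = α (T v) := by
    intro v
    apply Fv_inj hc h.out.wr
    rw [← hT, ← hβ, hT, hα]
  -- fixed vectors of the twist
  have hTz : ∀ i, T (zV n i) = zV n i := by
    intro i
    apply Fv_inj hc h.out.wr
    rw [← hT, ← f_zv hc, ← f_zv hc, hz]
  have hβz : ∀ i j, α (zV n i) = zV n j → β (zV n i) = zV n j := by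
    intro i j e
    apply hTinj
    rw [hβα, hTz, hTz, e]
  have hTs1 : ∀ v, T (sw1 v) = sw1 (T v) := by
    intro v
    ext <;> simp [T, sw1] <;> ring
  have hTs2 : ∀ v, T (sw2 v) = sw2 (T v) := by
    intro v
    ext <;> simp [T, sw2] <;> ring
  have hcyc' : Cyc β :=
    { hn := hc.one_le
      s1 := fun v => by apply hTinj; rw [hβα, hTs1, hcyc.s1, hTs1, hβα]
      s2 := fun v => by apply hTinj; rw [hβα, hTs2, hβα, hcyc.s2, hTs2]
      cube := fun v => by apply hTinj; rw [hβα, hβα, hβα, hcyc.cube]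
      z0 := hβz 0 0 hcyc.z0
      z1 := hβz 1 1 hcyc.z1
      z2 := hβz 2 3 hcyc.z2
      z3 := hβz 3 4 hcyc.z3 }
  have hTneg : ∀ v v', T (v - v') = T v - T v' := by
    intro v v'
    ext <;> simp [T] <;> ring
  have hTc : ∀ c d : ZMod (2 ^ n), T ((0, 0), (c, d)) = ((k * (c + d), k * (c + d)), (c, d)) := by
    intro c d
    ext <;> simp [T]
  have hsub : ∀ v, ∃ c d : ZMod (2 ^ n), β v - v = ((0, 0), (c, d)) := by
    intro v
    refine ⟨(α (T v) - T v).2.1, (α (T v) - T v).2.2, ?_⟩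
    apply hTinj
    rw [hTneg, hβα, hTc]
    ext
    · exact congrArg Prod.fst (hk1 (T v))
    · exact congrArg Prod.snd (hk1 (T v))
    · rfl
    · rfl
  refine ⟨g, β, hβ, hcyc', ?_, ?_⟩
  · intro v
    obtain ⟨c, d, e⟩ := hsub v
    have h1 := congrArg Prod.fst e
    have h2 : (β v - v).1 = (β v).1 - v.1 := rfl
    rw [h2] at h1
    exact sub_eq_zero.1 h1
  · intro c d
    obtain ⟨v, hv⟩ := hk2 c d
    obtain ⟨v', rfl⟩ := hTsur v
    refine ⟨v', ?_⟩
    apply hTinj
    rw [hTneg, hβα, hv, hTc]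

end Cfsg.Agent.TypeLFive.CentWR
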