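import Mathlib
import Cfsg.Agent.TwoFusion.WreathedOddAut
import Cfsg.Agent.TypeLFive.CentWRTwist
import Cfsg.Agent.TypeLFive.CentData

/-!
# Facts on the wreathed group `W` needed for `CData` (S0511, piece (C), wreathed half)

`QWR hc` is the generalised quaternion maximal subgroup `{u a (-a)} ∪ {u a b * s : a + b = 2 ^ (n - 1)}`;
`centQ`, `quoQ`, `aut` are statements on `W` only; `gen` uses `FusWRN`.
-/

set_option autoImplicit false

namespace Cfsg.Agent.TypeLFive.CentWR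

open Cfsg.Agent.TypeLFive.Model Cfsg.Agent.TypeLFive.Out Cfsg.Agent.TypeLFive.CentLin
open Cfsg.Agent.TwoFusion.QDBasic Cfsg.Agent.TwoFusion.WreathedBasic
open Cfsg.Agent.TwoFusion.WreathedOddAut Cfsg.Agent.TwoFusion.WreathedAdapted
open Subgroup (zpowers)

variable {G W : Type*} [Group G] [Group W] {n : ℕ} {S : Subgroup G} {f : W × W →* G} {w : G}
  {u : ZMod (2 ^ n) → ZMod (2 ^ n) → W} {s : W}

/-- a version of the determinant as a function -/
noncomputable def DW (hc : IsWCoord n u s) : W → ZMod (2 ^ n) := Classical.choose (exists_det hc)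

theorem DW_u (hc : IsWCoord n u s) (a b : ZMod (2 ^ n)) : DW hc (u a b) = a + b :=
  (Classical.choose_spec (exists_det hc)).1 a b

theorem DW_us (hc : IsWCoord n u s) (a b : ZMod (2 ^ n)) : DW hc (u a b * s) = a + b + 2 ^ (n - 1) :=
  (Classical.choose_spec (exists_det hc)).2.1 a b

theorem DW_mul (hc : IsWCoord n u s) (x y : W) : DW hc (x * y) = DW hc x + DW hc y :=
  (Classical.choose_spec (exists_det hc)).2.2 x y

theorem DW_one (hc : IsWCoord n u s) : DW hc 1 = 0 := by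
  have := DW_mul hc 1 1
  rw [mul_one] at this
  exact (left_eq_add.1 this)

theorem DW_inv (hc : IsWCoord n u s) (x : W) : DW hc x⁻¹ = - DW hc x := by
  have := DW_mul hc x⁻¹ x
  rw [inv_mul_cancel, DW_one] at this
  linear_combination -this

/-- any function with the properties of `exists_det` is `DW` -/
theorem DW_eq (hc : IsWCoord n u s) {D : W → ZMod (2 ^ n)} (h1 : ∀ a b, D (u a b) = a + b)
    (h2 : ∀ a b, D (u a b * s) = a + b + 2 ^ (n - 1)) (x : W) : D x = DW hc x := by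
  rcases hc.cases x with ⟨a, b, rfl⟩ | ⟨a, b, rfl⟩
  · rw [h1, DW_u]
  · rw [h2, DW_us]

/-- The generalised quaternion maximal subgroup of `W`. -/
noncomputable def QWR (hc : IsWCoord n u s) : Subgroup W where
  carrier := {x | DW hc x = 0}
  mul_mem' := by
    intro x y hx hy
    change DW hc (x * y) = 0
    rw [DW_mul]
    change DW hc x = 0 at hx
    change DW hc y = 0 at hy
    rw [hx, hy, add_zero]
  one_mem' := DW_one hc
  inv_mem' := by
    intro x hx
    change DW hc x⁻¹ = 0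
    rw [DW_inv]
    change DW hc x = 0 at hx
    rw [hx, neg_zero]

theorem mem_QWR_iff (hc : IsWCoord n u s) (x : W) : x ∈ QWR hc ↔ DW hc x = 0 := Iff.rfl

/-- membership in terms of any determinant function -/
theorem mem_QWR_iff' (hc : IsWCoord n u s) {D : W → ZMod (2 ^ n)} (h1 : ∀ a b, D (u a b) = a + b)
    (h2 : ∀ a b, D (u a b * s) = a + b + 2 ^ (n - 1)) (x : W) : x ∈ QWR hc ↔ D x = 0 := by
  rw [mem_QWR_iff, DW_eq hc h1 h2]

theorem u_mem_QWR_iff (hc : IsWCoord n u s) (a b : ZMod (2 ^ n)) : u a b ∈ QWR hc ↔ a + b = 0 := by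
  rw [mem_QWR_iff, DW_u]

theorem us_mem_QWR_iff (hc : IsWCoord n u s) (a b : ZMod (2 ^ n)) :
    u a b * s ∈ QWR hc ↔ a + b = 2 ^ (n - 1) := by
  have hh : (2 : ZMod (2 ^ n)) ^ (n - 1) + 2 ^ (n - 1) = 0 := by rw [← two_mul, two_mul_half n hc.one_le]
  rw [mem_QWR_iff, DW_us]
  constructor
  · intro h
    linear_combination h - hh
  · intro h
    linear_combination h + hh

theorem u_neg_mem_QWR (hc : IsWCoord n u s) (a : ZMod (2 ^ n)) : u a (-a) ∈ QWR hc :=
  (u_mem_QWR_iff hc _ _).2 (add_neg_cancel a)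

/-- `C_W(Q) ≤ Z(W)`, in coordinates. -/
theorem cent_QWR (hc : IsWCoord n u s) {x : W} (hx : ∀ q ∈ QWR hc, x * q = q * x) : ∃ a, x = u a a := by
  rcases hc.cases x with ⟨a, b, rfl⟩ | ⟨a, b, rfl⟩
  · have h1 := hx (u (2 ^ (n - 1)) 0 * s) ((us_mem_QWR_iff hc _ _).2 (add_zero _))
    rw [hc.u_mul_uz, hc.uz_mul_u] at h1
    have h2 := (hc.u_inj _ _ _ _ (mul_right_cancel h1)).2
    have h3 : a = b := by linear_combination -h2
    exact ⟨a, by rw [← h3]⟩
  · exfalso
    have h1 := hx (u 1 (-1)) (u_neg_mem_QWR hc 1)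
    rw [hc.uz_mul_u, hc.u_mul_uz] at h1
    have h2 := (hc.u_inj _ _ _ _ (mul_right_cancel h1)).1
    have h3 : (2 : ZMod (2 ^ n)) * 1 = 0 := by linear_combination -h2
    rcases (two_mul_eq_zero_iff n hc.one_le 1).1 h3 with h4 | h4
    · exact two_mul_ne_two_mul_add_one n hc.one_le 0 0 (by linear_combination -h4)
    · obtain ⟨m, hm⟩ : ∃ m, n - 1 = m + 1 := ⟨n - 2, by have := hc.two_le; omega⟩
      rw [hm, pow_succ'] at h4
      exact two_mul_ne_two_mul_add_one n hc.one_le (2 ^ m) 0 (by linear_combination -h4)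

theorem u_diag_mem_zpowers (hc : IsWCoord n u s) (a : ZMod (2 ^ n)) : u a a ∈ zpowers (u 1 1) := by
  have h1 : ∀ k : ℕ, u 1 1 ^ k = u (k : ZMod (2 ^ n)) (k : ZMod (2 ^ n)) := by
    intro k
    induction k with
    | zero => rw [pow_zero, Nat.cast_zero, hc.u_zero]
    | succ k ih => rw [pow_succ, ih, hc.u_mul, Nat.cast_succ]
  have h2 := h1 a.val
  rw [ZMod.natCast_zmod_val] at h2
  rw [← h2]
  exact Subgroup.npow_mem_zpowers _ _

/-- field `centQ` of `CData` -/
theorem centQ (hc : IsWCoord n u s) : ∃ c : W, ∀ x : W, (∀ q ∈ QWR hc, x * q = q * x) → x ∈ zpowers c := by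
  refine ⟨u 1 1, fun x hx => ?_⟩
  obtain ⟨a, rfl⟩ := cent_QWR hc hx
  exact u_diag_mem_zpowers hc a

/-- field `quoQ` of `CData` -/
theorem quoQ (hc : IsWCoord n u s) : ∃ v : W, ∀ x : W, ∃ i : ℤ, v ^ i * x ∈ QWR hc := by
  have h1 : ∀ k : ℕ, DW hc (u 1 0 ^ k) = k := by
    intro k
    induction k with
    | zero => rw [pow_zero, Nat.cast_zero, DW_one]
    | succ k ih => rw [pow_succ, DW_mul, ih, DW_u, Nat.cast_succ, add_zero]
  refine ⟨u 1 0, fun x => ⟨((-(DW hc x)).val : ℤ), ?_⟩⟩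
  rw [mem_QWR_iff, DW_mul, zpow_natCast, h1, ZMod.natCast_zmod_val, neg_add_cancel]

theorem ζ_mem_QWR (hc : IsWCoord n u s) : u (2 ^ (n - 1)) (2 ^ (n - 1)) ∈ QWR hc := by
  have hh : (2 : ZMod (2 ^ n)) ^ (n - 1) + 2 ^ (n - 1) = 0 := by rw [← two_mul, two_mul_half n hc.one_le]
  rw [u_mem_QWR_iff, hh]

theorem u_diag_center (hc : IsWCoord n u s) (a : ZMod (2 ^ n)) (x : W) : u a a * x = x * u a a := by
  rcases hc.cases x with ⟨c, d, rfl⟩ | ⟨c, d, rfl⟩
  · exact hc.u_comm _ _ _ _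
  · rw [hc.u_mul_uz, hc.uz_mul_u, add_comm c, add_comm d]

theorem twoW (hc : IsWCoord n u s) : IsPGroup 2 W := IsPGroup.of_card hc.card

/-- field `aut` of `CData` -/
theorem aut (hc : IsWCoord n u s) : IsPGroup 2 (MulAut W) := by
  have hfin := hc.finite
  by_contra hA
  have hA' : ¬ IsPGroup 2 (MulAut (⊤ : Subgroup W)) := by
    intro h
    exact hA (h.of_equiv (MulAut.congr Subgroup.topEquiv))
  rcases eq_base_or_eq_vSub hc ⊤ le_top hA' with h1 | ⟨-, c, h1⟩
  · have := hc.index_base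
    rw [← h1, Subgroup.index_top] at this
    omega
  · have := relIndex_vSub (change_z hc c)
    rw [← h1] at this
    have h2 : Subgroup.normalizer ((⊤ : Subgroup W) : Set W) = ⊤ := by
      rw [eq_top_iff]
      exact Subgroup.le_normalizer
    rw [h2, Subgroup.relIndex_self] at this
    omega

/-- field `gen` of `CData` -/
theorem gen [Finite G] (h : FusWRN S f w u s) (H : Subgroup W)
    (hH : ∀ c : G, c * f (u (2 ^ (n - 1)) (2 ^ (n - 1)), 1) = f (u (2 ^ (n - 1)) (2 ^ (n - 1)), 1) * c →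
      ∀ x y : W, c * f (1, x) * c⁻¹ = f (1, y) → x⁻¹ * y ∈ H) : H = ⊤ := by
  have hc := h.fus.coord
  have hwr := h.fus.out.wr
  obtain ⟨g, α, hα, hcyc, h1, h2⟩ := h.cyc
  -- `g` commutes with `t`
  have ht : g * f (u (2 ^ (n - 1)) (2 ^ (n - 1)), 1) = f (u (2 ^ (n - 1)) (2 ^ (n - 1)), 1) * g := by
    have h3 := hα ((2 ^ (n - 1), 2 ^ (n - 1)), (0, 0))
    rw [hcyc.t] at h3
    have h4 : Fv f u ((2 ^ (n - 1), 2 ^ (n - 1)), (0, 0)) = f (u (2 ^ (n - 1)) (2 ^ (n - 1)), 1) := by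
      unfold Fv
      rw [hc.u_zero]
    rw [h4] at h3
    exact mul_inv_eq_iff_eq_mul.1 h3
  -- the base
  have hbase : ∀ a b, u a b ∈ H := by
    intro a b
    -- `3` is a unit
    obtain ⟨k, hk⟩ : ∃ k : ZMod (2 ^ n), 3 * k = 1 := by
      have h3 : IsUnit (2 * 1 + 1 : ZMod (2 ^ n)) := isUnit_odd n 1
      obtain ⟨k, hk⟩ := h3.exists_right_inv
      exact ⟨k, by linear_combination hk⟩
    -- on `[A, σ]` we have `1 + α + α² = 0`
    obtain ⟨v, hv⟩ := h2 a b
    -- `y := (α - 1) (-k α² v')`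
    set x : V n := ((0, 0), (a, b)) with hx
    have e1 : x + α x + α (α x) = 0 := by
      rw [← hv, map_sub, map_sub, hcyc.cube]
      abel
    set z : V n := (-k) • α (α x) with hz
    have hx1 : x.1 = 0 := rfl
    have hz1 : z.1 = 0 := by
      have h5 : (α (α x)).1 = 0 := by rw [h1, h1]; rfl
      have h6 : z.1 = (-k) • (α (α x)).1 := rfl
      rw [h6, h5, smul_zero]
    -- `x = (α - 1) ((α - 1) z)`
    have e2 : α (α z - z) - (α z - z) = x := by
      have e3 : α z = (-k) • x := by rw [hz, map_smul, hcyc.cube]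
      have e4 : α (α z) = (-k) • α x := by rw [e3, map_smul]
      rw [map_sub, e4, e3, hz]
      have e5 : α (α x) = - (x + α x) := by
        rw [eq_neg_iff_add_eq_zero, add_comm]; exact e1
      rw [e5]
      have e6 : ((3 : ZMod (2 ^ n)) * k) • x = x := by rw [hk, one_smul]
      calc (-k) • α x - (-k) • x - ((-k) • x - (-k) • -(x + α x))
          = ((3 : ZMod (2 ^ n)) * k) • x := by
            module
        _ = x := e6
    set y : V n := α z - z with hy
    have hy1 : y.1 = 0 := by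
      have : y.1 = (α z).1 - z.1 := rfl
      rw [this, h1, sub_self]
    -- now `g f(1, u y.2) g⁻¹ = f (1, u (α y).2)`
    have h3 := hα y
    have h4 : ∀ v : V n, v.1 = 0 → Fv f u v = f (1, u v.2.1 v.2.2) := by
      intro v hv
      unfold Fv
      rw [hv]
      change f (u 0 0, _) = _
      rw [hc.u_zero]
    rw [h4 y hy1, h4 (α y) (by rw [h1, hy1])] at h3
    have h5 := hH g ht _ _ h3
    rw [hc.u_inv, hc.u_mul] at h5
    have h6 : -y.2.1 + (α y).2.1 = a := by
      have := congrArg (fun v : V n => v.2.1) e2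
      change (α y).2.1 - y.2.1 = a at this
      linear_combination this
    have h7 : -y.2.2 + (α y).2.2 = b := by
      have := congrArg (fun v : V n => v.2.2) e2
      change (α y).2.2 - y.2.2 = b at this
      linear_combination this
    rwa [h6, h7] at h5
  -- `ρ₂`
  obtain ⟨ρ, hρ⟩ := h.fus.rho
  have hs : s ∈ H := by
    have h3 := hH (w * ρ * w⁻¹) ?_ (u (-(2 ^ (n - 2))) (2 ^ (n - 2))) (u (2 ^ (n - 2)) (2 ^ (n - 2)) * s) ?_
    · rw [hc.u_inv, ← mul_assoc, hc.u_mul] at h3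
      exact (H.mul_mem_cancel_left (hbase _ _)).1 h3
    · -- commutes with `t`
      have h4 := hρ.comm 0 (u (2 ^ (n - 1)) (2 ^ (n - 1)))
      rw [hc.u_zero] at h4
      have h5 := hwr.w_conj (u (2 ^ (n - 1)) (2 ^ (n - 1))) 1
      have h6 := hwr.w_conj 1 (u (2 ^ (n - 1)) (2 ^ (n - 1)))
      rw [← h6]
      calc w * ρ * w⁻¹ * (w * f (1, u (2 ^ (n - 1)) (2 ^ (n - 1))) * w⁻¹)
          = w * (ρ * f (1, u (2 ^ (n - 1)) (2 ^ (n - 1)))) * w⁻¹ := by group
        _ = w * (f (1, u (2 ^ (n - 1)) (2 ^ (n - 1))) * ρ) * w⁻¹ := by rw [h4]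
        _ = _ := by group
    · have h4 := hρ.i_j
      rw [← hwr.w_conj (u (-(2 ^ (n - 2))) (2 ^ (n - 2))) 1, ← hwr.w_conj (u (2 ^ (n - 2)) (2 ^ (n - 2)) * s) 1,
        ← h4]
      group
  rw [eq_top_iff]
  intro x _
  rcases hc.cases x with ⟨a, b, rfl⟩ | ⟨a, b, rfl⟩
  · exact hbase a b
  · exact H.mul_mem (hbase a b) hs

open Cfsg.Agent.TypeLFive.CentData in
/-- `FusWRN ⇒ CData` from the two closure statements (steps (W2), (W3)). -/
theorem cdata [Finite G] (h : FusWRN S f w u s)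
    (clQ : ∀ c : G, c * f (u (2 ^ (n - 1)) (2 ^ (n - 1)), 1) = f (u (2 ^ (n - 1)) (2 ^ (n - 1)), 1) * c →
      ∀ x ∈ QWR h.fus.coord, ∀ y₁ y₂ : W, c * f (x, 1) * c⁻¹ = f (y₁, y₂) → y₁ ∈ QWR h.fus.coord ∧ y₂ = 1)
    (clW : ∀ c : G, c * f (u (2 ^ (n - 1)) (2 ^ (n - 1)), 1) = f (u (2 ^ (n - 1)) (2 ^ (n - 1)), 1) * c →
      ∀ x y₁ y₂ : W, c * f (1, x) * c⁻¹ = f (y₁, y₂) → y₁ = 1) :
    CData f (QWR h.fus.coord) (u (2 ^ (n - 1)) (2 ^ (n - 1))) where
  inj := h.fus.out.wr.inj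
  finW := h.fus.coord.finite
  twoW := twoW h.fus.coord
  ζ_Q := ζ_mem_QWR _
  ζ_center := u_diag_center h.fus.coord _
  sylow_t := h.fus.out.sylow_t
  clQ := clQ
  clW := clW
  gen := gen h
  centQ := centQ h.fus.coord
  quoQ := quoQ h.fus.coord
  aut := aut h.fus.coord
  type := Or.inr h.fus.coord.isWreathed

end Cfsg.Agent.TypeLFive.CentWR
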