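import Cfsg.Agent.TypeLFive.LThreePSL
import Cfsg.Agent.ClassicalGeometry.PSL2Basic
import Mathlib

/-!
`Y p t ≃* SL(2,F)` for the involutions of `SL₃(F)` and `PSL₃(F)`; a subgroup isomorphic to
`SL(2,F)` is generated by its elements with `x ^ p = 1`.
-/

set_option autoImplicit false

open scoped MatrixGroups Matrix

namespace Cfsg.Agent.TypeLFive.YCard

open Subgroup Cfsg.Agent.TypeLFive.LThreeDef Cfsg.Agent.TypeLFive.LThreeFrame
open Cfsg.Agent.TypeLFive.LThreePSL
open Cfsg.Agent.FramePlus (S3 S3.ext' lo lo_val)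

variable {F : Type*} [Field F] [Fintype F]

/-- The property: `Y p t ≃* SL(2,F)` for all involutions `t`. -/
def YIso (K : Type*) [Group K] (p : ℕ) (F : Type*) [Field F] : Prop :=
  ∀ t : K, t ≠ 1 → t * t = 1 → Nonempty (Y p t ≃* Matrix.SpecialLinearGroup (Fin 2) F)

omit [Fintype F] in
theorem YIso.congr {K K' : Type*} [Group K] [Group K'] {p : ℕ} (h : YIso K p F) (e : K ≃* K') :
    YIso K' p F := by
  intro t h1 h2
  obtain ⟨f⟩ := h (e.symm t) (by simpa using h1) (by rw [← map_mul, h2, map_one])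
  have hm := map_Y e p (e.symm t)
  rw [e.apply_symm_apply] at hm
  have e1 : Y p (e.symm t) ≃* (Y p (e.symm t)).map e.toMonoidHom :=
    (Y p (e.symm t)).equivMapOfInjective _ e.injective
  exact ⟨(MulEquiv.subgroupCongr hm.symm).trans (e1.symm.trans f)⟩

omit [Fintype F] in
/-- Transport along the conjugation which carries `t` to `t₀`. -/
theorem yIso_of_conj {K : Type*} [Group K] {p : ℕ} {t t₀ g : K} (hg : g * t * g⁻¹ = t₀)
    (e : Nonempty (Y p t₀ ≃* Matrix.SpecialLinearGroup (Fin 2) F)) :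
    Nonempty (Y p t ≃* Matrix.SpecialLinearGroup (Fin 2) F) := by
  obtain ⟨e⟩ := e
  have hm := map_Y (MulAut.conj g) p t
  rw [MulAut.conj_apply, hg] at hm
  have e1 : Y p t ≃* (Y p t).map (MulAut.conj g).toMonoidHom :=
    (Y p t).equivMapOfInjective _ (MulAut.conj g).injective
  exact ⟨e1.trans ((MulEquiv.subgroupCongr hm).trans e)⟩

/-- `Y p t ≃* SL(2,F)` in `SL₃(F)`. -/
theorem yIso_sl (hF : Odd (Fintype.card F)) (p : ℕ) [CharP F p] : YIso (S3 F) p F := by
  have h2 : (2 : F) ≠ 0 := TwoFusion.QuatCoverSL.two_ne_zero_of_odd hF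
  have hp0 : p ≠ 0 := by
    rintro rfl
    have : CharZero F := CharP.charP_to_charZero F
    exact (not_finite F)
  have hpp : p.Prime := (CharP.char_is_prime_or_zero F p).resolve_right hp0
  have : Fact p.Prime := ⟨hpp⟩
  have hone : ∀ x : F, x ^ p = 1 → x = 1 := by
    intro x hx
    have h3 : (x - 1) ^ p = 0 := by rw [sub_pow_char, hx, one_pow, sub_self]
    exact sub_eq_zero.1 (pow_eq_zero_iff hp0 |>.1 h3)
  let e : (lo F).range ≃* Matrix.SpecialLinearGroup (Fin 2) F :=
    (MonoidHom.ofInjective lo_injective).symm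
  have hY : Y p (t0 F) = (lo F).range := by
    apply le_antisymm
    · unfold Y
      rw [Subgroup.closure_le]
      rintro x ⟨hx, hxp⟩
      apply mem_lo h2 hx
      obtain ⟨h01, h02, h10, h20⟩ := block h2 (X := x.1) (congrArg Subtype.val hx)
      apply hone
      rw [← pow_zero_zero h10 h20]
      have : (x ^ p).1 = x.1 ^ p := Matrix.SpecialLinearGroup.coe_pow x p
      rw [← this, hxp]
      rfl
    · refine LThreeSLTwo.le_of_equiv (p := p) e fun x hx hxp => mem_Y ?_ hxp
      obtain ⟨A, rfl⟩ := hx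
      exact lo_comm A
  intro t ht1 ht
  obtain ⟨g, hg⟩ := exists_conj_t0 h2 ht1 ht
  exact yIso_of_conj hg ⟨(MulEquiv.subgroupCongr hY).trans e⟩

/-- An element with `z ^ 3 = 1` in the centre of `SL(2,F)` is trivial, `|F|` odd. -/
theorem eq_one_of_cube (hF : Odd (Fintype.card F)) {z : Matrix.SpecialLinearGroup (Fin 2) F}
    (hz : z ∈ center (Matrix.SpecialLinearGroup (Fin 2) F)) (h3 : z ^ 3 = 1) : z = 1 := by
  rw [Cfsg.Agent.TwoFusion.QuatCoverSL.center_eq_zpowers hF] at hz
  have h4 : orderOf z ∣ 2 :=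
    (orderOf_dvd_of_mem_zpowers hz).trans
      (dvd_of_eq (Cfsg.Agent.TwoFusion.QuatCoverSL.orderOf_neg_one hF))
  have h5 : orderOf z ∣ 3 := orderOf_dvd_of_pow_eq_one h3
  exact orderOf_eq_one_iff.1 (Nat.eq_one_of_dvd_coprimes (by decide) h4 h5)

/-- `YIso` passes to the quotient by a centre of exponent three. -/
theorem yIso_quot {H : Type*} [Group H] (hF : Odd (Fintype.card F)) {p : ℕ} (hp : p.Prime)
    (hz3 : ∀ z ∈ center H, z ^ 3 = 1) (hp3 : p = 3 → center H = ⊥) (hH : YIso H p F) :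
    YIso (H ⧸ center H) p F := by
  intro t ht1 ht
  obtain ⟨T, rfl, hTT, hT1⟩ := LThreeQuot.exists_lift hz3 ht1 ht
  obtain ⟨e⟩ := hH T hT1 hTT
  have hY := LThreeQuot.Y_mk hp hz3 hp3 hTT
  let f : Y p T →* (H ⧸ center H) := (QuotientGroup.mk' (center H)).comp (Y p T).subtype
  have hf : Function.Injective f := by
    rw [injective_iff_map_eq_one]
    intro x hx
    have h1 : (x : H) ∈ center H := (QuotientGroup.eq_one_iff (x : H)).1 hx
    have h2 : e x ∈ center (Matrix.SpecialLinearGroup (Fin 2) F) := by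
      rw [Subgroup.mem_center_iff]
      intro y
      obtain ⟨y, rfl⟩ := e.surjective y
      rw [← map_mul, ← map_mul]
      congr 1
      exact Subtype.ext (Subgroup.mem_center_iff.1 h1 y)
    have h3 : (e x) ^ 3 = 1 := by
      rw [← map_pow]
      have : x ^ 3 = 1 := Subtype.ext (hz3 _ h1)
      rw [this, map_one]
    exact e.injective ((eq_one_of_cube hF h2 h3).trans (map_one e).symm)
  have hr : f.range = Y p (QuotientGroup.mk T : H ⧸ center H) := by
    rw [hY, MonoidHom.range_comp, Subgroup.range_subtype]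
  exact ⟨(MulEquiv.subgroupCongr hr.symm).trans ((MonoidHom.ofInjective hf).symm.trans e)⟩

/-- `Y p t ≃* SL(2,F)` in `PSL₃(F)`. -/
theorem yIso_psl (hF : Odd (Fintype.card F)) (p : ℕ) [CharP F p] :
    YIso (Matrix.ProjectiveSpecialLinearGroup (Fin 3) F) p F := by
  have hp0 : p ≠ 0 := by
    rintro rfl
    have : CharZero F := CharP.charP_to_charZero F
    exact (not_finite F)
  have hpp : p.Prime := (CharP.char_is_prime_or_zero F p).resolve_right hp0
  refine yIso_quot hF hpp (fun z hz => TwoFusion.PSL3Inv.pow_three_of_mem_center hz) ?_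
    (yIso_sl hF p)
  rintro rfl
  rw [eq_bot_iff]
  intro z hz
  obtain ⟨r, hr, hrz⟩ := Matrix.SpecialLinearGroup.mem_center_iff.1 hz
  rw [Fintype.card_fin] at hr
  have h3 : (3 : F) = 0 := by exact_mod_cast CharP.cast_eq_zero F 3
  have h4 : (r - 1) ^ 3 = 0 := by linear_combination hr - (r ^ 2 - r) * h3
  have h5 : r = 1 := sub_eq_zero.1 (pow_eq_zero_iff three_ne_zero |>.1 h4)
  rw [Subgroup.mem_bot]
  apply Subtype.ext
  rw [← hrz, h5, map_one]
  rfl

end Cfsg.Agent.TypeLFive.YCard
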