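import Mathlib
import Cfsg.Agent.TypeLFive.CentFiveMain
import Cfsg.Agent.TypeLFive.CentSDGroup
import Cfsg.Agent.TypeLFive.CentWRFacts
import Cfsg.Agent.TypeLFive.YCard

/-!
# Application of step (5) to `X = C_G(t) / O(C_G(t))`
-/

set_option autoImplicit false

namespace Cfsg.Agent.TypeLFive.CentFiveApp

open Subgroup Cfsg.Agent.TwoFusion.QDBasic Cfsg.Agent.TwoFusion.WreathedBasic
  Cfsg.Agent.TypeLFive.CentAbs Cfsg.Agent.TypeLFive.CentFive Cfsg.Agent.TypeLFive.QUniq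
  Cfsg.Agent.TypeLFive.CentFiveJ

/-! ### The normal quaternion subgroup -/

theorem qlike_sd {W : Type*} [Group W] {n : ℕ} {u : ZMod (2 ^ n) → W} {y : W}
    (h : IsQDCoord n u y) : QLike (CentSDGroup.Q h) :=
  sd_qlike h fun x => by
    rw [CentSDGroup.mem_Q h]
    constructor
    · rintro ⟨a, ha | ha⟩
      · exact Or.inl ⟨a, ha⟩
      · exact Or.inr ⟨a, ha⟩
    · rintro (⟨a, ha⟩ | ⟨a, ha⟩)
      · exact ⟨a, Or.inl ha⟩
      · exact ⟨a, Or.inr ha⟩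

theorem normal_sd {W : Type*} [Group W] {n : ℕ} {u : ZMod (2 ^ n) → W} {y : W}
    (h : IsQDCoord n u y) : (CentSDGroup.Q h).Normal :=
  sd_normal h fun x => by
    rw [CentSDGroup.mem_Q h]
    constructor
    · rintro ⟨a, ha | ha⟩
      · exact Or.inl ⟨a, ha⟩
      · exact Or.inr ⟨a, ha⟩
    · rintro (⟨a, ha⟩ | ⟨a, ha⟩)
      · exact ⟨a, Or.inl ha⟩
      · exact ⟨a, Or.inr ha⟩

theorem mem_QWR {W : Type*} [Group W] {n : ℕ} {u : ZMod (2 ^ n) → ZMod (2 ^ n) → W} {s : W}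
    (hc : IsWCoord n u s) (x : W) : x ∈ CentWR.QWR hc ↔
      (∃ a, x = u a (-a)) ∨ ∃ a, x = u a (2 ^ (n - 1) - a) * s := by
  constructor
  · intro hx
    rcases hc.cases x with ⟨a, b, rfl⟩ | ⟨a, b, rfl⟩
    · rw [CentWR.u_mem_QWR_iff] at hx
      exact Or.inl ⟨a, by congr 1; linear_combination hx⟩
    · rw [CentWR.us_mem_QWR_iff] at hx
      exact Or.inr ⟨a, by congr 2; linear_combination hx⟩
  · rintro (⟨a, rfl⟩ | ⟨a, rfl⟩)
    · exact (CentWR.u_mem_QWR_iff hc _ _).2 (by ring)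
    · exact (CentWR.us_mem_QWR_iff hc _ _).2 (by ring)

theorem qlike_wr {W : Type*} [Group W] {n : ℕ} {u : ZMod (2 ^ n) → ZMod (2 ^ n) → W} {s : W}
    (hc : IsWCoord n u s) : QLike (CentWR.QWR hc) := wr_qlike hc (mem_QWR hc)

theorem normal_wr {W : Type*} [Group W] {n : ℕ} {u : ZMod (2 ^ n) → ZMod (2 ^ n) → W} {s : W}
    (hc : IsWCoord n u s) : (CentWR.QWR hc).Normal := wr_normal hc (mem_QWR hc)

/-- `SLFact` from `Y p t ≃* SL(2,F)`. -/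
theorem slFact_of_yIso {J : Type*} [Group J] {p : ℕ} {F : Type*} [Field F]
    (h : YCard.YIso J p F) : SLFact J F := by
  intro z hz1 hz2
  exact ⟨LThreeDef.Y p z, fun b hb => LThreeDef.Y_le_cent hb,
    fun c hc b hb => LThreeDef.conj_mem_Y hc hb, h z hz1 hz2⟩

/-! ### The application -/

section app

variable {G W : Type*} [Group G] [Finite G] [Group W] {f : W × W →* G} {w : G} {Q : Subgroup W}
  {ζ : W}

/-- `f (R × 1)` -/
def P1 (f : W × W →* G) (R : Subgroup W) : Subgroup G := R.map (f.comp (MonoidHom.inl W W))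

/-- `f (1 × R)` -/
def P2 (f : W × W →* G) (R : Subgroup W) : Subgroup G := R.map (f.comp (MonoidHom.inr W W))

omit [Finite G] in
theorem mem_P1 {R : Subgroup W} {g : G} : g ∈ P1 f R ↔ ∃ x ∈ R, f (x, 1) = g := by
  constructor
  · rintro ⟨x, hx, rfl⟩; exact ⟨x, hx, rfl⟩
  · rintro ⟨x, hx, rfl⟩; exact ⟨x, hx, rfl⟩

omit [Finite G] in
theorem mem_P2 {R : Subgroup W} {g : G} : g ∈ P2 f R ↔ ∃ x ∈ R, f (1, x) = g := by
  constructor
  · rintro ⟨x, hx, rfl⟩; exact ⟨x, hx, rfl⟩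
  · rintro ⟨x, hx, rfl⟩; exact ⟨x, hx, rfl⟩

/-- **Step (5) applied.** -/
theorem app (hinj : Function.Injective f) (h2W : IsPGroup 2 W)
    (hw : ∀ x y, w * f (x, y) * w⁻¹ = f (y, x)) (hζ1 : ζ ≠ 1) (hζ2 : ζ * ζ = 1)
    (hζc : ∀ x, ζ * x = x * ζ) (hQn : Q.Normal) (hQL : QLike Q)
    {X : Type*} [Group X] [Finite X] {T : Sylow 2 X} {W1 W2 Q1 : Subgroup X} {C : Subgroup G}
    (hC : ∀ g, g ∈ C ↔ g * f (ζ, 1) = f (ζ, 1) * g)
    (φ : ↥C →* X) (hφ : Function.Surjective φ) (hk : Odd (Nat.card φ.ker))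
    (h : CHyp T W1 W2 Q1) (hW2 : ((P2 f ⊤).subgroupOf C).map φ = W2)
    (hQ1 : ((P1 f Q).subgroupOf C).map φ = Q1) {F : Type*} [Field F] [Fintype F]
    (hF : Odd (Fintype.card F)) (hJ : SLFact ↥(normalClosure (W2 : Set X)) F) :
    (3 < Fintype.card F → Nonempty (↥(normalClosure (Q1 : Set X)) ≃*
      Matrix.SpecialLinearGroup (Fin 2) F)) ∧
    (Fintype.card F = 3 → normalClosure (Q1 : Set X) = Q1) := by
  have hfC : ∀ x y, f (x, y) ∈ C := by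
    intro x y
    rw [hC, ← map_mul, ← map_mul, Prod.mk_mul_mk, Prod.mk_mul_mk, hζc, mul_one, one_mul]
  have hfc : ∀ x y, f (x, y) * f (1, ζ) = f (1, ζ) * f (x, y) := by
    intro x y
    rw [← map_mul, ← map_mul, Prod.mk_mul_mk, Prod.mk_mul_mk, hζc, mul_one, one_mul]
  have hc : f (1, ζ) ∈ C := hfC 1 ζ
  -- the embedding of `W` in `X`
  let ι : W →* X := φ.comp ((f.comp (MonoidHom.inr W W)).codRestrict C (fun x => hfC 1 x))
  have hι : ∀ x, ι x = φ ⟨f (1, x), hfC 1 x⟩ := fun x => rfl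
  have hιinj : Function.Injective ι := by
    rw [injective_iff_map_eq_one]
    intro x hx
    obtain ⟨k, hk2⟩ := h2W x
    have h1 : (⟨f (1, x), hfC 1 x⟩ : ↥C) ∈ φ.ker := hx
    have h2 : orderOf (⟨f (1, x), hfC 1 x⟩ : ↥C) ∣ Nat.card φ.ker := Subgroup.orderOf_dvd_natCard _ h1
    have h3 : (⟨f (1, x), hfC 1 x⟩ : ↥C) ^ 2 ^ k = 1 := by
      apply Subtype.ext
      change f (1, x) ^ 2 ^ k = 1
      rw [← map_pow, Prod.pow_mk, one_pow, hk2]
      exact map_one f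
    have h4 : orderOf (⟨f (1, x), hfC 1 x⟩ : ↥C) = 1 := by
      have h5 : Nat.Coprime (2 ^ k) (Nat.card φ.ker) := Nat.Coprime.pow_left _ (Nat.coprime_two_left.2 hk)
      exact Nat.eq_one_of_dvd_coprimes h5 (orderOf_dvd_of_pow_eq_one h3) h2
    have h5 := congrArg Subtype.val (orderOf_eq_one_iff.1 h4)
    have h6 : f (1, x) = f (1, 1) := by rw [show f (1, 1) = 1 from map_one f]; exact h5
    exact (Prod.mk.inj (hinj h6)).2
  have hmem : ∀ (R : Subgroup W) (x : X), x ∈ ((P2 f R).subgroupOf C).map φ ↔ ∃ r ∈ R, ι r = x := by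
    intro R x
    constructor
    · rintro ⟨c, hc, rfl⟩
      obtain ⟨r, hr, hrc⟩ := mem_P2.1 (mem_subgroupOf.1 hc)
      refine ⟨r, hr, ?_⟩
      rw [hι]; congr 1; exact Subtype.ext hrc
    · rintro ⟨r, hr, rfl⟩
      exact ⟨⟨f (1, r), hfC 1 r⟩, mem_subgroupOf.2 (mem_P2.2 ⟨r, hr, rfl⟩), rfl⟩
  refine CentFiveMain.main (t := f (ζ, 1)) (t' := f (1, ζ)) (w := w) hC φ hφ hk h ?_ ?_ hc
    (hw ζ 1) (hw 1 ζ) (P1 := P1 f Q) (P2 := P2 f Q) ?_ ?_ ?_ hQ1 rfl ?_ ?_ ?_ ?_ ?_ hF hJ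
  · intro h1
    have h2 : f (1, ζ) = f (1, 1) := by rw [h1]; exact (map_one f).symm
    exact hζ1 (Prod.mk.inj (hinj h2)).2
  · rw [← map_mul, Prod.mk_mul_mk, hζ2, one_mul]; exact map_one f
  · intro g hg
    obtain ⟨x, hx, rfl⟩ := mem_P1.1 hg
    exact mem_inf.2 ⟨hfC x 1, mem_centralizer_singleton_iff.2 (hfc x 1)⟩
  · intro g hg
    obtain ⟨x, hx, rfl⟩ := mem_P2.1 hg
    exact mem_inf.2 ⟨hfC 1 x, mem_centralizer_singleton_iff.2 (hfc 1 x)⟩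
  · ext g
    constructor
    · rintro ⟨y, hy, rfl⟩
      obtain ⟨x, hx, rfl⟩ := mem_P2.1 hy
      refine mem_P1.2 ⟨x, hx, ?_⟩
      simp only [MulEquiv.coe_toMonoidHom, MulAut.conj_apply]
      rw [hw]
    · intro hg
      obtain ⟨x, hx, rfl⟩ := mem_P1.1 hg
      refine ⟨f (1, x), mem_P2.2 ⟨x, hx, rfl⟩, ?_⟩
      simp only [MulEquiv.coe_toMonoidHom, MulAut.conj_apply]
      rw [hw]
  · intro x hx
    obtain ⟨r, hr, rfl⟩ := (hmem Q x).1 hx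
    rw [← hW2]
    exact (hmem ⊤ _).2 ⟨r, mem_top r, rfl⟩
  · rw [← hW2]
    exact (hmem ⊤ _).2 ⟨ζ, mem_top ζ, rfl⟩
  · intro g hg q hq
    rw [← hW2] at hg
    obtain ⟨a, -, rfl⟩ := (hmem ⊤ g).1 hg
    obtain ⟨r, hr, rfl⟩ := (hmem Q q).1 hq
    exact (hmem Q _).2 ⟨a * r * a⁻¹, hQn.conj_mem r hr a, by simp only [map_mul, map_inv]⟩
  · have h1 : ((P2 f Q).subgroupOf C).map φ = Q.map ι := by
      ext x
      rw [hmem]
      rfl
    rw [h1]
    exact hQL.map ι hιinj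
  · intro g hg
    rw [← hW2] at hg
    obtain ⟨a, -, rfl⟩ := (hmem ⊤ g).1 hg
    change ι a * ι ζ = ι ζ * ι a
    rw [← map_mul, ← map_mul, hζc]

end app

end Cfsg.Agent.TypeLFive.CentFiveApp
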