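import Cfsg.Agent.TypeLFive.LThreePSUMain

/-!
The facts (b), (d) of (K) for groups isomorphic to `PSL₃(q)`, `PSU₃(q)`, `q` odd.
-/

set_option autoImplicit false

namespace Cfsg.Agent.TypeLFive.LThreeFacts

open Cfsg Cfsg.Agent.TypeLFive.LThreeDef

variable {F : Type*} [Field F] [Fintype F] {K : Type*} [Group K]

theorem of_psl (hF : Odd (Fintype.card F)) (e : K ≃* Matrix.ProjectiveSpecialLinearGroup (Fin 3) F) :
    Facts K (ringChar F) :=
  (LThreePSL.facts_psl hF (ringChar F)).congr e.symm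

theorem of_psu {q : ℕ} (hF : Fintype.card F = q ^ 2) (hq : Odd q) (e : K ≃* PSU 3 F q) :
    Facts K (ringChar F) :=
  (LThreePSUMain.facts_psu hF hq (ringChar F)).congr e.symm

theorem prime_ringChar : (ringChar F).Prime :=
  (CharP.char_is_prime_or_zero F (ringChar F)).resolve_right (by
    intro h
    have : CharP F 0 := by rw [← h]; exact ringChar.charP F
    have : CharZero F := CharP.charP_to_charZero F
    exact (not_finite F))

theorem ringChar_ne_two (hF : Odd (Fintype.card F)) : ringChar F ≠ 2 := by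
  intro h
  have := FiniteField.even_card_of_char_two h
  rw [Nat.odd_iff] at hF
  omega

/-- Type `L₃^ε(q)`, `q` odd. -/
theorem exists_facts_psl (hF : Odd (Fintype.card F))
    (e : K ≃* Matrix.ProjectiveSpecialLinearGroup (Fin 3) F) : ∃ p : ℕ, p.Prime ∧ p ≠ 2 ∧ Facts K p :=
  ⟨ringChar F, prime_ringChar, ringChar_ne_two hF, of_psl hF e⟩

theorem exists_facts_psu {q : ℕ} (hF : Fintype.card F = q ^ 2) (hq : Odd q) (e : K ≃* PSU 3 F q) :
    ∃ p : ℕ, p.Prime ∧ p ≠ 2 ∧ Facts K p :=
  ⟨ringChar F, prime_ringChar, ringChar_ne_two (by rw [hF]; exact hq.pow), of_psu hF hq e⟩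

end Cfsg.Agent.TypeLFive.LThreeFacts
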