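import Cfsg.Agent.TypeLFive.LThreeFrame
import Cfsg.Agent.TwoFusion.SLTwoFacts
import Cfsg.Agent.TwoFusion.QuatCoverSL
import Cfsg.Agent.S1303
import Cfsg.Agent.LieClassical.SLTwoUnipotent
import Cfsg.Agent.Lib.Cores

/-!
`SL(2,F)`, `F` finite of odd characteristic `p`: no normal subgroup of odd order, generated by the
elements with `x ^ p = 1`; and the abstract one-involution part of `Facts`.
-/

set_option autoImplicit false

open scoped MatrixGroups Matrix

namespace Cfsg.Agent.TypeLFive.LThreeSLTwo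

open Subgroup Cfsg.Agent.TypeLFive.LThreeDef Cfsg.Agent.LieClassical.SLTwoUnipotent

section sltwo

variable {F : Type*} [Field F] [Fintype F]

/-- The odd core of `SL(2,q)`, `q` odd, is trivial. -/
theorem oddCore_sl (hF : Odd (Fintype.card F)) : Cfsg.oddCore (Matrix.SpecialLinearGroup (Fin 2) F) = ⊥ := by
  have : Finite (Matrix.SpecialLinearGroup (Fin 2) F) := inferInstance
  have hodd : Odd (Nat.card (Cfsg.oddCore (Matrix.SpecialLinearGroup (Fin 2) F))) :=
    Nat.coprime_two_right.1 (Lib.Cores.pPrimeCore_coprime (G := Matrix.SpecialLinearGroup (Fin 2) F) 2)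
  have hN : (Cfsg.oddCore (Matrix.SpecialLinearGroup (Fin 2) F)).Normal := Lib.Cores.pPrimeCore_normal 2
  rcases Nat.lt_or_ge 3 (Fintype.card F) with h3 | h3
  · -- simplicity modulo the centre
    haveI hs := Cfsg.Agent.TwoFusion.SLTwoFacts.isSimpleGroup_psl (F := F) h3
    set π : Matrix.SpecialLinearGroup (Fin 2) F →* Matrix.ProjectiveSpecialLinearGroup (Fin 2) F :=
      QuotientGroup.mk' _ with hπ
    have hsur : Function.Surjective π := QuotientGroup.mk'_surjective _
    have hmap : ((Cfsg.oddCore (Matrix.SpecialLinearGroup (Fin 2) F)).map π).Normal := hN.map π hsur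
    rcases hmap.eq_bot_or_eq_top with h | h
    · rw [eq_bot_iff]
      intro x hx
      have h1 : π x = 1 := by
        have h2 : π x ∈ (Cfsg.oddCore (Matrix.SpecialLinearGroup (Fin 2) F)).map π := ⟨x, hx, rfl⟩
        rw [h] at h2
        exact Subgroup.mem_bot.1 h2
      have h2 : x ∈ Subgroup.center (Matrix.SpecialLinearGroup (Fin 2) F) := (QuotientGroup.eq_one_iff x).1 h1
      rw [Cfsg.Agent.TwoFusion.QuatCoverSL.center_eq_zpowers hF] at h2
      have h3 : orderOf x ∣ 2 :=
        (orderOf_dvd_of_mem_zpowers h2).trans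
          (dvd_of_eq (Cfsg.Agent.TwoFusion.QuatCoverSL.orderOf_neg_one hF))
      have h4 : orderOf x ∣ Nat.card (Cfsg.oddCore (Matrix.SpecialLinearGroup (Fin 2) F)) := by
        have h5 := orderOf_dvd_natCard (⟨x, hx⟩ : Cfsg.oddCore (Matrix.SpecialLinearGroup (Fin 2) F))
        rwa [← Subgroup.orderOf_coe] at h5
      have h5 : orderOf x = 1 :=
        Nat.eq_one_of_dvd_coprimes (Nat.coprime_two_left.2 hodd) h3 h4
      exact Subgroup.mem_bot.2 (orderOf_eq_one_iff.1 h5)
    · exfalso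
      have h1 : Nat.card (Matrix.ProjectiveSpecialLinearGroup (Fin 2) F) ∣
          Nat.card (Cfsg.oddCore (Matrix.SpecialLinearGroup (Fin 2) F)) := by
        have h2 : Nat.card ((Cfsg.oddCore (Matrix.SpecialLinearGroup (Fin 2) F)).map π) ∣ _ := Subgroup.card_map_dvd _ π
        rwa [h, Subgroup.card_top] at h2
      have h2 := Cfsg.Agent.ClassicalGeometry.PSL2Basic.card_PSL2_odd (F := F) hF
      have h3 : Odd (Nat.card (Matrix.ProjectiveSpecialLinearGroup (Fin 2) F)) := hodd.of_dvd_nat h1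
      obtain ⟨k, hk⟩ := hF
      have h4 : Fintype.card F ^ 2 - 1 = 4 * (k * (k + 1)) := by
        rw [hk]
        have : (2 * k + 1) ^ 2 = 4 * (k * (k + 1)) + 1 := by ring
        omega
      have h5 : Nat.card (Matrix.ProjectiveSpecialLinearGroup (Fin 2) F) =
          2 * (Fintype.card F * (k * (k + 1))) := by
        rw [h4] at h2
        nlinarith [h2]
      rw [h5] at h3
      exact (Nat.not_even_iff_odd.2 h3) (even_two_mul _)
  · have h1 := Fintype.one_lt_card (α := F)
    have h2 : Fintype.card F = 3 := by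
      obtain ⟨k, hk⟩ := hF
      omega
    let φ : ZMod 3 ≃+* F := ZMod.ringEquivOfPrime F Nat.prime_three h2
    let e : Matrix.SpecialLinearGroup (Fin 2) (ZMod 3) ≃* Matrix.SpecialLinearGroup (Fin 2) F :=
      { toFun := fun x => Matrix.SpecialLinearGroup.map φ.toRingHom x
        invFun := fun x => Matrix.SpecialLinearGroup.map φ.symm.toRingHom x
        left_inv := fun x => by
          refine Matrix.SpecialLinearGroup.ext _ _ fun i j => ?_
          exact φ.symm_apply_apply (x.1 i j)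
        right_inv := fun x => by
          refine Matrix.SpecialLinearGroup.ext _ _ fun i j => ?_
          exact φ.apply_symm_apply (x.1 i j)
        map_mul' := fun x y => map_mul _ x y }
    change Cfsg.pPrimeCore 2 _ = ⊥
    rw [← Lib.Cores.map_equiv_pPrimeCore e 2, Cfsg.Agent.S1303.result.2.1, Subgroup.map_bot]

/-- `SL(2,F)` has no non-trivial normal subgroup of odd order. -/
theorem odd_bot (hF : Odd (Fintype.card F)) (N : Subgroup (Matrix.SpecialLinearGroup (Fin 2) F))
    (hN : Odd (Nat.card N)) (hn : ∀ g, ∀ n ∈ N, g * n * g⁻¹ ∈ N) : N = ⊥ := by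
  have hnor : N.Normal := ⟨fun n hn' g => hn g n hn'⟩
  have h1 : N ≤ Cfsg.oddCore (Matrix.SpecialLinearGroup (Fin 2) F) :=
    Lib.Cores.le_pPrimeCore hnor (Nat.coprime_two_right.2 hN)
  rw [oddCore_sl hF] at h1
  exact le_bot_iff.1 h1

omit [Fintype F] in
theorem u_pow (x : F) (n : ℕ) : (u x : Matrix.SpecialLinearGroup (Fin 2) F) ^ n = u (n * x) := by
  induction n with
  | zero => rw [pow_zero, Nat.cast_zero, zero_mul, u_zero]
  | succ n ih => rw [pow_succ, ih, ← u_add, Nat.cast_succ, add_mul, one_mul]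

omit [Fintype F] in
theorem l_pow (x : F) (n : ℕ) : (l x : Matrix.SpecialLinearGroup (Fin 2) F) ^ n = l (n * x) := by
  induction n with
  | zero => rw [pow_zero, Nat.cast_zero, zero_mul, l_zero]
  | succ n ih => rw [pow_succ, ih, ← l_add, Nat.cast_succ, add_mul, one_mul]

omit [Fintype F] in
/-- `SL(2,F)` is generated by the elements of order `p`. -/
theorem closure_pow (p : ℕ) [CharP F p] :
    Subgroup.closure {x : Matrix.SpecialLinearGroup (Fin 2) F | x ^ p = 1} = ⊤ := by
  apply eq_top_of_u_mem_of_l_mem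
  · intro x
    apply Subgroup.subset_closure
    change (u x : Matrix.SpecialLinearGroup (Fin 2) F) ^ p = 1
    rw [u_pow, CharP.cast_eq_zero, zero_mul, u_zero]
  · intro x
    apply Subgroup.subset_closure
    change (l x : Matrix.SpecialLinearGroup (Fin 2) F) ^ p = 1
    rw [l_pow, CharP.cast_eq_zero, zero_mul, l_zero]

end sltwo

section std

variable {H : Type*} [Group H] {F : Type*} [Field F] [Fintype F]

omit [Fintype F] in
/-- A subgroup isomorphic to `SL(2,F)` is generated by its elements with `x ^ p = 1`. -/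
theorem le_of_equiv {p : ℕ} [CharP F p] {S : Subgroup H}
    (e : S ≃* Matrix.SpecialLinearGroup (Fin 2) F) {L : Subgroup H}
    (hL : ∀ x ∈ S, x ^ p = 1 → x ∈ L) : S ≤ L := by
  have h1 : Subgroup.closure {x : S | x ^ p = 1} = ⊤ := by
    have h2 : (Subgroup.closure {x : S | x ^ p = 1}).map e.toMonoidHom = ⊤ := by
      rw [MonoidHom.map_closure, ← closure_pow (F := F) p]
      congr 1
      ext y
      constructor
      · rintro ⟨x, hx, rfl⟩
        change (e x) ^ p = 1
        rw [← map_pow, hx, map_one]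
      · intro hy
        refine ⟨e.symm y, ?_, by simp⟩
        change (e.symm y) ^ p = 1
        rw [← map_pow]
        change e.symm (y ^ p) = 1
        rw [show y ^ p = 1 from hy, map_one]
    rw [eq_top_iff]
    intro x _
    have h3 : e x ∈ (Subgroup.closure {x : S | x ^ p = 1}).map e.toMonoidHom := by
      rw [h2]; exact Subgroup.mem_top _
    obtain ⟨y, hy, hyx⟩ := h3
    have : y = x := e.injective hyx
    rwa [← this]
  intro x hx
  have h2 : (⟨x, hx⟩ : S) ∈ Subgroup.closure {x : S | x ^ p = 1} := by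
    rw [h1]; exact Subgroup.mem_top _
  have h3 : Subgroup.closure {x : S | x ^ p = 1} ≤ L.comap S.subtype := by
    rw [Subgroup.closure_le]
    intro y hy
    refine hL _ y.2 ?_
    have := congrArg (S.subtype) (show y ^ p = 1 from hy)
    simpa using this
  exact h3 h2

theorem inf_eq_bot (hF : Odd (Fintype.card F)) {S : Subgroup H}
    (e : S ≃* Matrix.SpecialLinearGroup (Fin 2) F) {N : Subgroup H} [Finite H]
    (hN : Odd (Nat.card N)) (hn : ∀ g ∈ S, ∀ n ∈ N, g * n * g⁻¹ ∈ N) {x : H} (hxN : x ∈ N)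
    (hxS : x ∈ S) : x = 1 := by
  have h1 : ((N ⊓ S).subgroupOf S).map e.toMonoidHom = ⊥ := by
    apply odd_bot hF
    · have h2 : Nat.card (((N ⊓ S).subgroupOf S).map e.toMonoidHom) = Nat.card (N ⊓ S : Subgroup H) := by
        rw [← Nat.card_congr (((N ⊓ S).subgroupOf S).equivMapOfInjective _ e.injective).toEquiv]
        exact Nat.card_congr (Subgroup.subgroupOfEquivOfLe inf_le_right).toEquiv
      rw [h2]
      obtain ⟨k, hk⟩ := Subgroup.card_dvd_of_le (inf_le_left : N ⊓ S ≤ N)
      rw [hk] at hN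
      exact (Nat.odd_mul.1 hN).1
    · rintro g _ ⟨n, hn', rfl⟩
      refine ⟨(e.symm g) * n * (e.symm g)⁻¹, ?_, by simp⟩
      refine ⟨hn _ (e.symm g).2 _ hn'.1, ?_⟩
      exact S.mul_mem (S.mul_mem (e.symm g).2 n.2) (S.inv_mem (e.symm g).2)
  have h2 : e ⟨x, hxS⟩ ∈ ((N ⊓ S).subgroupOf S).map e.toMonoidHom :=
    ⟨⟨x, hxS⟩, ⟨hxN, hxS⟩, rfl⟩
  rw [h1, Subgroup.mem_bot] at h2
  have h3 := e.injective (h2.trans (map_one e).symm)
  exact congrArg Subtype.val h3

/-- The one-involution part of `Facts`. -/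
theorem std [Finite H] {p : ℕ} [CharP F p] (hF : Odd (Fintype.card F)) {t₀ : H} {S : Subgroup H}
    (e : S ≃* Matrix.SpecialLinearGroup (Fin 2) F) (hS : ∀ x ∈ S, x * t₀ = t₀ * x)
    (hSn : ∀ g, g * t₀ = t₀ * g → ∀ x ∈ S, g * x * g⁻¹ ∈ S)
    (hp : ∀ x, x * t₀ = t₀ * x → x ^ p = 1 → x ∈ S)
    (hc : ∀ n, n * t₀ = t₀ * n → (∀ x ∈ S, n * x = x * n) → ∀ g, g * t₀ = t₀ * g →
      n * g = g * n) :
    Y p t₀ = S ∧ (∀ N : Subgroup H, Odd (Nat.card N) →
      (∀ n ∈ N, n * t₀ = t₀ * n) → (∀ g, g * t₀ = t₀ * g → ∀ n ∈ N, g * n * g⁻¹ ∈ N) →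
      ∀ n ∈ N, ∀ g, g * t₀ = t₀ * g → n * g = g * n) ∧
    (∀ N : Subgroup H, N ≤ Y p t₀ → Odd (Nat.card N) →
      (∀ g ∈ Y p t₀, ∀ n ∈ N, g * n * g⁻¹ ∈ N) → N = ⊥) := by
  have hY : Y p t₀ = S := by
    apply le_antisymm
    · unfold Y
      rw [Subgroup.closure_le]
      rintro x ⟨h1, h2⟩
      exact hp x h1 h2
    · exact le_of_equiv (p := p) e fun x hx hxp => mem_Y (hS x hx) hxp
  refine ⟨hY, ?_, ?_⟩
  · intro N hN hNc hNn n hn
    apply hc n (hNc n hn)
    intro x hx
    have h1 : n * x * n⁻¹ * x⁻¹ = 1 := by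
      apply inf_eq_bot hF e hN (fun g hg => hNn g (hS g hg))
      · have h2 : n * x * n⁻¹ * x⁻¹ = n * (x * n⁻¹ * x⁻¹) := by group
        rw [h2]
        exact N.mul_mem hn (hNn x (hS x hx) _ (N.inv_mem hn))
      · exact S.mul_mem (hSn n (hNc n hn) x hx) (S.inv_mem hx)
    calc n * x = (n * x * n⁻¹ * x⁻¹) * (x * n) := by group
      _ = x * n := by rw [h1, one_mul]
  · intro N hNY hN hNn
    rw [hY] at hNY hNn
    rw [eq_bot_iff]
    intro x hx
    exact Subgroup.mem_bot.2 (inf_eq_bot hF e hN hNn hx (hNY hx))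

end std

end Cfsg.Agent.TypeLFive.LThreeSLTwo
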