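import Mathlib
import Cfsg.Agent.SporadicA.M11Sylow

/-!
# A subgroup of a group of order 7920 containing the centralisers of the involutions of a four-group
-/

set_option autoImplicit false

namespace Cfsg.Agent.TypeLFive.MElevenSE

open Subgroup

variable {M : Type*} [Group M] [Finite M]

/-- An involution of `H` is `H`-conjugate into a Sylow 2-subgroup. -/
theorem conj_into (hcard : Nat.card M = 7920) {H P : Subgroup M} (hP : Nat.card P = 16)
    (hPH : P ≤ H) {x : M} (hx : x ∈ H) (hxx : x * x = 1) : ∃ h ∈ H, h * x * h⁻¹ ∈ P := by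
  have : Fact (Nat.Prime 2) := ⟨Nat.prime_two⟩
  have h2P : IsPGroup 2 ↥P := IsPGroup.of_card (n := 4) hP
  have hidx : ¬ 2 ∣ (P.subgroupOf H).index := by
    intro h2
    have h1 : P.relIndex H * H.index = P.index := Subgroup.relIndex_mul_index hPH
    have h3 : P.index * 16 = 7920 := by rw [← hP, ← hcard]; exact P.index_mul_card
    have h4 : P.index = 495 := by omega
    have h5 : (2 : ℕ) ∣ P.index := by
      rw [← h1]; exact Dvd.dvd.mul_right h2 _
    rw [h4] at h5
    omega
  let S : Sylow 2 ↥H := (h2P.comap_of_injective H.subtype H.subtype_injective).toSylow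
    (P := P.subgroupOf H) hidx
  have hS : (S : Subgroup ↥H) = P.subgroupOf H := rfl
  have h6 : IsPGroup 2 ↥(zpowers (⟨x, hx⟩ : ↥H)) := by
    rw [IsPGroup.iff_card]
    have h7 : (⟨x, hx⟩ : ↥H) ^ 2 ^ 1 = 1 := by
      apply Subtype.ext
      change x ^ 2 ^ 1 = 1
      rw [pow_one, sq, hxx]
    obtain ⟨m, -, hm⟩ := (Nat.dvd_prime_pow Nat.prime_two).1 (orderOf_dvd_of_pow_eq_one h7)
    exact ⟨m, by rw [Nat.card_zpowers, hm]⟩
  obtain ⟨R, hR⟩ := h6.exists_le_sylow
  obtain ⟨h, hh⟩ := MulAction.exists_smul_eq (↥H) R S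
  refine ⟨h, h.2, ?_⟩
  have h7 : h * (⟨x, hx⟩ : ↥H) * h⁻¹ ∈ (S : Subgroup ↥H) := by
    rw [← hh, Sylow.coe_subgroup_smul]
    have := Subgroup.smul_mem_pointwise_smul (⟨x, hx⟩ : ↥H) (MulAut.conj h) (R : Subgroup ↥H) (hR (mem_zpowers _))
    simpa [MulAut.smul_def] using this
  rw [hS] at h7
  exact h7

/-- **Counting**: a subgroup `H` of a group of order 7920 which contains the centralisers of the commuting
involutions `t`, `u`, and whose involutions are conjugate to `t` in `H`, is everything. -/
theorem eq_top (hcard : Nat.card M = 7920) {H : Subgroup M} {t u : M}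
    (hCt : ∀ x, x * t = t * x → x ∈ H) (hCu : ∀ x, x * u = u * x → x ∈ H)
    (h48 : Nat.card (centralizer ({t} : Set M)) = 48)
    (h48u : Nat.card (centralizer ({u} : Set M)) = 48)
    (h4 : Nat.card (centralizer ({t} : Set M) ⊓ centralizer ({u} : Set M) : Subgroup M) ≤ 4)
    (hconj : ∀ x ∈ H, x ≠ 1 → x * x = 1 → ∃ h ∈ H, h * t * h⁻¹ = x) : H = ⊤ := by
  have : Fact (Nat.Prime 2) := ⟨Nat.prime_two⟩
  have hAH : centralizer ({t} : Set M) ≤ H := fun x hx => hCt x (mem_centralizer_singleton_iff.1 hx)
  have hBH : centralizer ({u} : Set M) ≤ H := fun x hx => hCu x (mem_centralizer_singleton_iff.1 hx)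
  -- `|H| ≥ 576`
  have hbig : 576 ≤ Nat.card H := by
    have h1 : (centralizer ({t} : Set M)).relIndex (centralizer ({u} : Set M)) ≤
        (centralizer ({t} : Set M)).relIndex H :=
      Subgroup.relIndex_le_of_le_right hBH (by
        have := Subgroup.index_ne_zero_of_finite (H := (centralizer ({t} : Set M)).subgroupOf H)
        exact this)
    have h2 : (centralizer ({t} : Set M)).relIndex H * 48 = Nat.card H := by
      have := Subgroup.index_mul_card ((centralizer ({t} : Set M)).subgroupOf H)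
      rw [Nat.card_congr (Subgroup.subgroupOfEquivOfLe hAH).toEquiv, h48] at this
      exact this
    have h3 : (centralizer ({t} : Set M)).relIndex (centralizer ({u} : Set M)) *
        Nat.card (centralizer ({t} : Set M) ⊓ centralizer ({u} : Set M) : Subgroup M) = 48 := by
      rw [← Subgroup.inf_relIndex_right]
      have := Subgroup.index_mul_card ((centralizer ({t} : Set M) ⊓ centralizer ({u} : Set M)).subgroupOf
        (centralizer ({u} : Set M)))
      rw [Nat.card_congr (Subgroup.subgroupOfEquivOfLe inf_le_right).toEquiv, h48u] at this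
      exact this
    nlinarith
  have hidx : H.index * Nat.card H = 7920 := by rw [← hcard]; exact H.index_mul_card
  -- a Sylow 2-subgroup
  obtain ⟨P0, hP0⟩ := Sylow.exists_subgroup_card_pow_prime 2 (G := centralizer ({t} : Set M)) (n := 4)
    (by rw [h48]; norm_num)
  set P : Subgroup M := P0.map (centralizer ({t} : Set M)).subtype with hP
  have hPc : Nat.card P = 16 := by
    rw [hP, Nat.card_congr (P0.equivMapOfInjective _ (Subgroup.subtype_injective _)).toEquiv.symm, hP0]
    norm_num
  have hPC : P ≤ centralizer ({t} : Set M) := by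
    rw [hP]; exact Subgroup.map_subtype_le _
  have hPH : P ≤ H := hPC.trans hAH
  have h2P : IsPGroup 2 ↥P := IsPGroup.of_card (n := 4) (by rw [hPc]; norm_num)
  -- free action
  have hdvd : Nat.card P ∣ Nat.card {ω : M ⧸ H | ω ≠ QuotientGroup.mk 1} := by
    refine SporadicA.M11Sylow.card_dvd_of_free_on P {ω : M ⧸ H | ω ≠ QuotientGroup.mk 1} ?_ ?_
    · intro q hq s hs hcon
      apply hs
      have h1 : s = q⁻¹ • (q • s) := by rw [inv_smul_smul]
      rw [h1, hcon, MulAction.Quotient.smul_mk, QuotientGroup.eq]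
      simpa using hPH hq
    · intro q hq s hs hqs
      by_contra hq1
      obtain ⟨g, rfl⟩ := QuotientGroup.mk_surjective s
      rw [MulAction.Quotient.smul_mk, QuotientGroup.eq] at hqs
      have h1 : g⁻¹ * q * g ∈ H := by
        have := inv_mem hqs
        simpa [mul_assoc] using this
      -- an involution in `⟨q⟩`
      obtain ⟨k, hk⟩ := IsPGroup.iff_orderOf.1 h2P ⟨q, hq⟩
      rw [Subgroup.orderOf_mk] at hk
      have hk0 : k ≠ 0 := by
        rintro rfl
        rw [pow_zero, orderOf_eq_one_iff] at hk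
        exact hq1 hk
      obtain ⟨j, rfl⟩ := Nat.exists_eq_succ_of_ne_zero hk0
      set q' := q ^ 2 ^ j with hq'
      have hq'H : q' ∈ H := pow_mem (hPH hq) _
      have hq'1 : q' ≠ 1 := by
        intro h
        have h5 := orderOf_dvd_of_pow_eq_one h
        rw [hk] at h5
        have h6 := Nat.le_of_dvd (by positivity) h5
        have h7 : 2 ^ j < 2 ^ (j + 1) := Nat.pow_lt_pow_right (by norm_num) (by omega)
        exact absurd h6 (not_le.2 h7)
      have hq'2 : q' * q' = 1 := by
        rw [hq', ← pow_add, ← two_mul, ← pow_succ', ← hk, pow_orderOf_eq_one]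
      have h8 : g⁻¹ * q' * g ∈ H := by
        have h9 : g⁻¹ * q' * g = (g⁻¹ * q * g) ^ 2 ^ j := by
          have := conj_pow (i := 2 ^ j) (a := g⁻¹) (b := q)
          rw [inv_inv] at this
          rw [this]
        rw [h9]; exact pow_mem h1 _
      obtain ⟨a, ha, hat⟩ := hconj q' hq'H hq'1 hq'2
      obtain ⟨b, hb, hbt⟩ := hconj (g⁻¹ * q' * g) h8 (by
          intro h
          apply hq'1
          have h10 : q' = g * (g⁻¹ * q' * g) * g⁻¹ := by group
          rw [h10, h]; group) (by
          calc g⁻¹ * q' * g * (g⁻¹ * q' * g) = g⁻¹ * (q' * q') * g := by group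
            _ = 1 := by rw [hq'2]; group)
      have h11 : a⁻¹ * g * b ∈ H := by
        apply hCt
        have h12 : g * (b * t * b⁻¹) * g⁻¹ = a * t * a⁻¹ := by rw [hbt, hat]; group
        calc a⁻¹ * g * b * t = a⁻¹ * (g * (b * t * b⁻¹) * g⁻¹) * g * b := by group
          _ = a⁻¹ * (a * t * a⁻¹) * g * b := by rw [h12]
          _ = t * (a⁻¹ * g * b) := by group
      apply hs
      rw [QuotientGroup.eq, mul_one]
      have h13 : g⁻¹ = b * (a⁻¹ * g * b)⁻¹ * a⁻¹ := by group
      rw [h13]
      exact mul_mem (mul_mem hb (inv_mem h11)) (inv_mem ha)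
  have hS : Nat.card {ω : M ⧸ H | ω ≠ QuotientGroup.mk 1} = H.index - 1 := by
    have h1 : {ω : M ⧸ H | ω ≠ QuotientGroup.mk 1} = {(QuotientGroup.mk 1 : M ⧸ H)}ᶜ := by
      ext ω; simp
    rw [h1, Nat.card_coe_set_eq, Set.ncard_compl, Set.ncard_singleton]
    rfl
  rw [hS, hPc] at hdvd
  have h13 : H.index ≤ 13 := by
    by_contra hcon
    push Not at hcon
    have : 14 * 576 ≤ H.index * Nat.card H := Nat.mul_le_mul hcon hbig
    omega
  have hpos : H.index ≠ 0 := Subgroup.index_ne_zero_of_finite
  have h1 : H.index = 1 := by omega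
  exact Subgroup.index_eq_one.1 h1

end Cfsg.Agent.TypeLFive.MElevenSE
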