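import Mathlib
import Cfsg.Agent.TypeLFive.YCard
import Cfsg.Agent.SylowLFive.MElevenFacts

/-!
`Y 3 t ≃* SL(2,3)` for the involutions of `M₁₁`; more generally `Y p t ≃* SL(2,F)` when
`C(t) ≃* GL(2,F)`.
-/

set_option autoImplicit false

namespace Cfsg.Agent.TypeLFive.YCard

open Subgroup Cfsg Cfsg.Agent.TypeLFive.LThreeDef

section gl

variable {F : Type*} [Field F] [Fintype F]

/-- In `GL(2,F)` the elements with `x ^ p = 1` generate `SL(2,F)`. -/
theorem closure_gl (p : ℕ) [CharP F p] :
    Subgroup.closure {x : GL (Fin 2) F | x ^ p = 1} =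
      (Matrix.SpecialLinearGroup.toGL (n := Fin 2) (R := F)).range := by
  have hp0 : p ≠ 0 := by
    rintro rfl
    have : CharZero F := CharP.charP_to_charZero F
    exact (not_finite F)
  have hpp : p.Prime := (CharP.char_is_prime_or_zero F p).resolve_right hp0
  have : Fact p.Prime := ⟨hpp⟩
  have hone : ∀ x : F, x ^ p = 1 → x = 1 := by
    intro x hx
    have h3 : (x - 1) ^ p = 0 := by rw [sub_pow_char, hx, one_pow, sub_self]
    exact sub_eq_zero.1 (pow_eq_zero_iff hp0 |>.1 h3)
  apply le_antisymm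
  · rw [Subgroup.closure_le]
    intro A hA
    have h1 : (A : Matrix (Fin 2) (Fin 2) F).det = 1 := by
      apply hone
      rw [← Matrix.det_pow]
      have : ((A ^ p : GL (Fin 2) F) : Matrix (Fin 2) (Fin 2) F) = (A : Matrix (Fin 2) (Fin 2) F) ^ p := rfl
      rw [← this, show A ^ p = 1 from hA]
      simp
    refine ⟨⟨A, h1⟩, ?_⟩
    apply Units.ext
    rfl
  · rw [MonoidHom.range_eq_map, ← LThreeSLTwo.closure_pow (F := F) p, MonoidHom.map_closure]
    apply Subgroup.closure_mono
    rintro _ ⟨x, hx, rfl⟩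
    change (Matrix.SpecialLinearGroup.toGL x) ^ p = 1
    rw [← map_pow, show x ^ p = 1 from hx, map_one]

omit [Fintype F] in
theorem toGL_injective : Function.Injective (Matrix.SpecialLinearGroup.toGL (n := Fin 2) (R := F)) := by
  intro x y h
  apply Subtype.ext
  exact congrArg (fun z : GL (Fin 2) F => (z : Matrix (Fin 2) (Fin 2) F)) h

/-- `Y p t ≃* SL(2,F)` if `C(t) ≃* GL(2,F)`. -/
theorem iso_of_cent {K : Type*} [Group K] {p : ℕ} [CharP F p] {t : K}
    (e : centralizer ({t} : Set K) ≃* GL (Fin 2) F) :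
    Nonempty (Y p t ≃* Matrix.SpecialLinearGroup (Fin 2) F) := by
  let g : centralizer ({t} : Set K) →* K := (centralizer ({t} : Set K)).subtype
  let f : GL (Fin 2) F →* K := g.comp e.symm.toMonoidHom
  have hf : Function.Injective f := Subtype.coe_injective.comp e.symm.injective
  have h1 : (Matrix.SpecialLinearGroup.toGL (n := Fin 2) (R := F)).range.map f = Y p t := by
    rw [← closure_gl p, MonoidHom.map_closure]
    unfold Y
    congr 1
    ext x
    constructor
    · rintro ⟨A, hA, rfl⟩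
      refine ⟨mem_centralizer_singleton_iff.1 (e.symm A).2, ?_⟩
      rw [← map_pow, show A ^ p = 1 from hA, map_one]
    · rintro ⟨h2, h3⟩
      have hx : x ∈ centralizer ({t} : Set K) := mem_centralizer_singleton_iff.2 h2
      refine ⟨e ⟨x, hx⟩, ?_, ?_⟩
      · change (e ⟨x, hx⟩) ^ p = 1
        rw [← map_pow]
        have : (⟨x, hx⟩ : centralizer ({t} : Set K)) ^ p = 1 := Subtype.ext h3
        rw [this, map_one]
      · change g (e.symm (e ⟨x, hx⟩)) = x
        rw [e.symm_apply_apply]
        rfl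
  have e1 : (Matrix.SpecialLinearGroup.toGL (n := Fin 2) (R := F)).range ≃* Y p t :=
    ((Matrix.SpecialLinearGroup.toGL (n := Fin 2) (R := F)).range.equivMapOfInjective f hf).trans
      (MulEquiv.subgroupCongr h1)
  exact ⟨e1.symm.trans (MonoidHom.ofInjective toGL_injective).symm⟩

end gl

/-- `Y 3 t ≃* SL(2,3)` in `M₁₁`. -/
theorem yIso_m11 {M : Type*} [Group M] [Finite M] (hM : IsM11 M) : YIso M 3 (ZMod 3) := by
  intro t ht1 ht
  obtain ⟨e⟩ := Cfsg.Agent.SylowLFive.MElevenFacts.cent_equiv hM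
    (Cfsg.Agent.SylowLFive.MElevenFacts.orderOf_two ht ht1)
  have : CharP (ZMod 3) 3 := ZMod.charP 3
  exact iso_of_cent e

end Cfsg.Agent.TypeLFive.YCard
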