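import Mathlib
import Cfsg.Agent.TypeLFive.MElevenSE
import Cfsg.Agent.TypeLFive.YCardMEleven
import Cfsg.Agent.TypeLFive.LThreeSLTwo
import Cfsg.Agent.SylowLFive.MElevenFacts

/-!
# The facts (b), (d) of (K) for simple groups of order 7920
-/

set_option autoImplicit false

namespace Cfsg.Agent.TypeLFive.MElevenLThree

open Subgroup Cfsg Cfsg.Agent.TypeLFive.LThreeDef Cfsg.Agent.SylowLFive.MElevenFacts

/-! ### Two computations in `GL(2,3)` -/

/-- the conjugating matrix -/
def ChE (a b c d e f g h : ZMod 3) : Prop :=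
  e * h - f * g ≠ 0 ∧ e * a + f * c = e ∧ e * b + f * d = f ∧
      g * a + h * c = 2 * g ∧ g * b + h * d = 2 * h

instance (a b c d e f g h : ZMod 3) : Decidable (ChE a b c d e f g h) := by
  unfold ChE; infer_instance

/-- the check -/
def ChX (a b c d : ZMod 3) : Prop :=
    (a * a + b * c = 1 ∧ a * b + b * d = 0 ∧ c * a + d * c = 0 ∧ c * b + d * d = 1) →
    ¬ (a = 1 ∧ b = 0 ∧ c = 0 ∧ d = 1) → ¬ (a = 2 ∧ b = 0 ∧ c = 0 ∧ d = 2) →
    ∃ e f g h : ZMod 3, ChE a b c d e f g h

instance (a b c d : ZMod 3) : Decidable (ChX a b c d) := by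
  unfold ChX; infer_instance

/-- Involutions of `GL(2,3)` other than `-1` are conjugate to `diag(1,-1)`. -/
theorem chk_conj : ∀ a b c d : ZMod 3, ChX a b c d := by
  decide +kernel

theorem gl_conj (B : GL (Fin 2) (ZMod 3)) (h2 : B * B = 1) (h1 : B ≠ 1)
    (hm : B.val ≠ !![2, 0; 0, 2]) : ∃ X : GL (Fin 2) (ZMod 3), X.val * B.val = !![1, 0; 0, 2] * X.val := by
  have h2' : B.val * B.val = 1 := congrArg Units.val h2
  have h1' : B.val ≠ 1 := fun h => h1 (Units.ext h)
  generalize B.val = C at *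
  rw [eta2 C] at h2' h1' hm ⊢
  rw [one2] at h2' h1'
  rw [Matrix.mul_fin_two, eq_iff2] at h2'
  rw [Ne, eq_iff2] at h1' hm
  obtain ⟨e, f, g, h, hd, he, hf, hg, hh⟩ := chk_conj _ _ _ _ h2' h1' hm
  refine ⟨Matrix.GeneralLinearGroup.mkOfDetNeZero !![e, f; g, h] (by
    rw [Matrix.det_fin_two_of]; exact hd), ?_⟩
  change !![e, f; g, h] * !![C 0 0, C 0 1; C 1 0, C 1 1] = !![1, 0; 0, 2] * !![e, f; g, h]
  rw [Matrix.mul_fin_two, Matrix.mul_fin_two, eq_iff2]
  refine ⟨?_, ?_, ?_, ?_⟩
  · rw [he]; ring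
  · rw [hf]; ring
  · rw [hg]; ring
  · rw [hh]; ring

theorem det_cases (x : ZMod 3) (hx : x ≠ 0) : x = 1 ∨ x = 2 := by
  revert x; decide

section

variable {M : Type*} [Group M] {t : M}

/-- `Y 3 t` is the determinant one part of `C(t)`. -/
theorem mem_Y_iff_det (e : centralizer ({t} : Set M) ≃* GL (Fin 2) (ZMod 3))
    (x : centralizer ({t} : Set M)) : (x : M) ∈ Y 3 t ↔ (e x).val.det = 1 := by
  have : CharP (ZMod 3) 3 := ZMod.charP 3
  have hcl := YCard.closure_gl (F := ZMod 3) 3
  have hrange : ∀ A : GL (Fin 2) (ZMod 3), A ∈ (Matrix.SpecialLinearGroup.toGL (n := Fin 2)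
      (R := ZMod 3)).range ↔ A.val.det = 1 := by
    intro A
    constructor
    · rintro ⟨x, rfl⟩; exact x.2
    · intro h; exact ⟨⟨A.val, h⟩, Units.ext rfl⟩
  constructor
  · intro hx
    -- the preimage of determinant one
    have h1 : Y 3 t ≤ ((Matrix.SpecialLinearGroup.toGL (n := Fin 2) (R := ZMod 3)).range.comap
        e.toMonoidHom).map (centralizer ({t} : Set M)).subtype := by
      unfold Y
      rw [closure_le]
      rintro y ⟨h2, h3⟩
      refine ⟨⟨y, mem_centralizer_singleton_iff.2 h2⟩, ?_, rfl⟩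
      change e ⟨y, _⟩ ∈ (Matrix.SpecialLinearGroup.toGL (n := Fin 2) (R := ZMod 3)).range
      rw [← hcl]
      apply Subgroup.subset_closure
      change (e ⟨y, _⟩) ^ 3 = 1
      rw [← map_pow]
      have : (⟨y, mem_centralizer_singleton_iff.2 h2⟩ : centralizer ({t} : Set M)) ^ 3 = 1 := Subtype.ext h3
      rw [this, map_one]
    obtain ⟨y, hy, hyx⟩ := h1 hx
    have hyx' : y = x := Subtype.ext hyx
    rw [hyx'] at hy
    exact (hrange _).1 hy
  · intro hx
    have h2 := (hrange _).2 hx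
    rw [← hcl] at h2
    have h3 : Subgroup.closure {x : GL (Fin 2) (ZMod 3) | x ^ 3 = 1} ≤
        ((Y 3 t).subgroupOf (centralizer ({t} : Set M))).map e.toMonoidHom := by
      rw [closure_le]
      intro A hA
      refine ⟨e.symm A, ?_, by simp⟩
      change ((e.symm A : centralizer ({t} : Set M)) : M) ∈ Y 3 t
      refine mem_Y (mem_centralizer_singleton_iff.1 (e.symm A).2) ?_
      have : (e.symm A) ^ 3 = 1 := by rw [← map_pow, show A ^ 3 = 1 from hA, map_one]
      exact congrArg Subtype.val this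
    obtain ⟨y, hy, hyx⟩ := h3 h2
    have : y = x := e.injective hyx
    rw [← this]; exact hy

theorem e_self (e : centralizer ({t} : Set M) ≃* GL (Fin 2) (ZMod 3)) (h1 : t ≠ 1) (h2 : t * t = 1) :
    (e ⟨t, mem_centralizer_singleton_iff.2 rfl⟩).val = !![2, 0; 0, 2] := by
  set A : centralizer ({t} : Set M) := ⟨t, mem_centralizer_singleton_iff.2 rfl⟩ with hA
  have hAA : A * A = 1 := Subtype.ext h2
  have hA1 : A ≠ 1 := fun h => h1 (congrArg Subtype.val h)
  have hcA : ∀ Z : centralizer ({t} : Set M), A * Z = Z * A := fun Z =>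
    Subtype.ext (mem_centralizer_singleton_iff.1 Z.2).symm
  exact gl_central (e A) (by rw [← map_mul, hAA, map_one])
    (fun h => hA1 (e.injective (h.trans (map_one e).symm)))
    (fun Z => by
      obtain ⟨Z, rfl⟩ := e.surjective Z
      rw [← map_mul, hcA, map_mul])

/-- `t ∈ Y_t`. -/
theorem self_mem (e : centralizer ({t} : Set M) ≃* GL (Fin 2) (ZMod 3)) (h1 : t ≠ 1)
    (h2 : t * t = 1) : t ∈ Y 3 t := by
  have h := (mem_Y_iff_det e ⟨t, mem_centralizer_singleton_iff.2 rfl⟩).2 (by
    rw [e_self e h1 h2, Matrix.det_fin_two_of]; decide)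
  exact h

/-- Two involutions of `C(t)` other than `t` are conjugate in `C(t)`. -/
theorem conj_cent (e : centralizer ({t} : Set M) ≃* GL (Fin 2) (ZMod 3)) (h1 : t ≠ 1)
    (h2 : t * t = 1) {a b : M} (ha : a * t = t * a) (ha1 : a ≠ 1) (haa : a * a = 1) (hat : a ≠ t)
    (hb : b * t = t * b) (hb1 : b ≠ 1) (hbb : b * b = 1) (hbt : b ≠ t) :
    ∃ g, g * t = t * g ∧ g * a * g⁻¹ = b := by
  set A : centralizer ({t} : Set M) := ⟨a, mem_centralizer_singleton_iff.2 ha⟩ with hA
  set B : centralizer ({t} : Set M) := ⟨b, mem_centralizer_singleton_iff.2 hb⟩ with hB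
  have key : ∀ (c : M) (hc : c * t = t * c), c ≠ 1 → c * c = 1 → c ≠ t →
      ∃ X : GL (Fin 2) (ZMod 3),
        X.val * (e ⟨c, mem_centralizer_singleton_iff.2 hc⟩).val = !![1, 0; 0, 2] * X.val := by
    intro c hc hc1 hcc hct
    apply gl_conj
    · rw [← map_mul]
      have : (⟨c, mem_centralizer_singleton_iff.2 hc⟩ : centralizer ({t} : Set M)) *
        ⟨c, mem_centralizer_singleton_iff.2 hc⟩ = 1 := Subtype.ext hcc
      rw [this, map_one]
    · intro h
      exact hc1 (congrArg Subtype.val (e.injective (h.trans (map_one e).symm)))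
    · rw [← e_self e h1 h2]
      intro h
      exact hct (congrArg Subtype.val (e.injective (Units.ext h)))
  obtain ⟨X, hX⟩ := key a ha ha1 haa hat
  obtain ⟨Z, hZ⟩ := key b hb hb1 hbb hbt
  let D : GL (Fin 2) (ZMod 3) := Matrix.GeneralLinearGroup.mkOfDetNeZero !![1, 0; 0, 2] (by decide)
  have hX' : X * e A = D * X := Units.ext hX
  have hZ' : Z * e B = D * Z := Units.ext hZ
  obtain ⟨g, hg⟩ := e.surjective (Z⁻¹ * X)
  refine ⟨g, mem_centralizer_singleton_iff.1 g.2, ?_⟩
  have h3 : g * A * g⁻¹ = B := by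
    apply e.injective
    rw [map_mul, map_mul, map_inv, hg]
    calc Z⁻¹ * X * e A * (Z⁻¹ * X)⁻¹ = Z⁻¹ * (X * e A) * X⁻¹ * Z := by group
      _ = Z⁻¹ * (D * X) * X⁻¹ * Z := by rw [hX']
      _ = Z⁻¹ * (D * Z) := by group
      _ = Z⁻¹ * (Z * e B) := by rw [hZ']
      _ = e B := by group
  exact congrArg Subtype.val h3

/-- `C(t) ≤ Y_t Y_u`. -/
theorem cent_le (e : centralizer ({t} : Set M) ≃* GL (Fin 2) (ZMod 3)) (h1 : t ≠ 1)
    (h2 : t * t = 1) {u : M} (eu : centralizer ({u} : Set M) ≃* GL (Fin 2) (ZMod 3)) (hu1 : u ≠ 1)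
    (huu : u * u = 1) (hut : u ≠ t) (hc : u * t = t * u) {x : M} (hx : x * t = t * x) :
    x ∈ Y 3 t ⊔ Y 3 u := by
  have hu := self_mem eu hu1 huu
  set U : centralizer ({t} : Set M) := ⟨u, mem_centralizer_singleton_iff.2 hc⟩ with hU
  set X : centralizer ({t} : Set M) := ⟨x, mem_centralizer_singleton_iff.2 hx⟩ with hX
  -- `det (e U) = 2`
  obtain ⟨Z, hZ⟩ := gl_conj (e U) (by
      rw [← map_mul]
      have : U * U = 1 := Subtype.ext huu
      rw [this, map_one])
    (fun h => hu1 (congrArg Subtype.val (e.injective (h.trans (map_one e).symm)))) (by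
      rw [← e_self e h1 h2]
      intro h
      exact hut (congrArg Subtype.val (e.injective (Units.ext h))))
  have hdU : (e U).val.det = 2 := by
    have h3 := congrArg Matrix.det hZ
    rw [Matrix.det_mul, Matrix.det_mul, Matrix.det_fin_two_of] at h3
    have hZ0 : Z.val.det ≠ 0 := ((Matrix.isUnit_iff_isUnit_det _).1 Z.isUnit).ne_zero
    have h4 : Z.val.det * (e U).val.det = Z.val.det * 2 := by rw [h3]; ring
    exact mul_left_cancel₀ hZ0 h4
  have hX0 : (e X).val.det ≠ 0 := ((Matrix.isUnit_iff_isUnit_det _).1 (e X).isUnit).ne_zero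
  rcases det_cases _ hX0 with h3 | h3
  · exact mem_sup_left ((mem_Y_iff_det e X).2 h3)
  · have h4 : (e (X * U)).val.det = 1 := by
      rw [map_mul]
      change ((e X).val * (e U).val).det = 1
      rw [Matrix.det_mul, h3, hdU]; decide
    have h5 := (mem_Y_iff_det e (X * U)).2 h4
    have h6 : x = (X * U : centralizer ({t} : Set M)) * u := by
      change x = x * u * u
      rw [mul_assoc, huu, mul_one]
    rw [h6]
    exact mul_mem (mem_sup_left h5) (mem_sup_right hu)

end

variable {M : Type*} [Group M] [Finite M]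

theorem gen (hM : IsM11 M) {t u : M} (ht1 : t ≠ 1) (htt : t * t = 1) (hu1 : u ≠ 1)
    (huu : u * u = 1) (htu : t ≠ u) (hc : t * u = u * t) :
    Y 3 t ⊔ Y 3 u ⊔ Y 3 (t * u) = ⊤ := by
  set H := Y 3 t ⊔ Y 3 u ⊔ Y 3 (t * u) with hH
  have hv1 : t * u ≠ 1 := by
    intro h
    apply htu
    rw [mul_eq_one_iff_eq_inv] at h
    rw [h, inv_eq_of_mul_eq_one_left huu]
  have hvv : t * u * (t * u) = 1 := by
    calc t * u * (t * u) = t * (u * t) * u := by group
      _ = t * (t * u) * u := by rw [hc]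
      _ = (t * t) * (u * u) := by group
      _ = 1 := by rw [htt, huu, mul_one]
  obtain ⟨et⟩ := cent_equiv hM (orderOf_two htt ht1)
  obtain ⟨eu⟩ := cent_equiv hM (orderOf_two huu hu1)
  obtain ⟨ev⟩ := cent_equiv hM (orderOf_two hvv hv1)
  have hYt : Y 3 t ≤ H := le_sup_left.trans le_sup_left
  have hYu : Y 3 u ≤ H := le_sup_right.trans le_sup_left
  have hYv : Y 3 (t * u) ≤ H := le_sup_right
  have htv : t * (t * u) = (t * u) * t := by rw [mul_assoc, ← hc]
  have hCt : ∀ x, x * t = t * x → x ∈ H := fun x hx =>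
    (sup_le hYt hYu) (cent_le et ht1 htt eu hu1 huu htu.symm hc.symm hx)
  have hCu : ∀ x, x * u = u * x → x ∈ H := fun x hx =>
    (sup_le hYu hYt) (cent_le eu hu1 huu et ht1 htt htu hc hx)
  have hvt : t ≠ t * u := by
    intro h
    exact hu1 (mul_left_cancel (a := t) (by rw [← h, mul_one]))
  have hCv : ∀ x, x * (t * u) = (t * u) * x → x ∈ H := fun x hx =>
    (sup_le hYv hYt) (cent_le ev hv1 hvv et ht1 htt hvt htv hx)
  have huv : u * (t * u) = t * u * u := by rw [← mul_assoc, ← hc]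
  have hne : u ≠ t * u := by
    intro h
    exact ht1 (mul_right_cancel (b := u) (by rw [← h, one_mul]))
  -- `u` and `t` are conjugate in `C(tu)`
  obtain ⟨g0, hg0, hg0u⟩ := conj_cent ev hv1 hvv (a := t) (b := u) htv ht1 htt hvt huv hu1 huu hne
  have hg0H : g0 ∈ H := hCv g0 hg0
  have h48 := Cfsg.Agent.SporadicA.M11Facts.card_centralizer_two hM (orderOf_two htt ht1)
  have h48u := Cfsg.Agent.SporadicA.M11Facts.card_centralizer_two hM (orderOf_two huu hu1)
  refine MElevenSE.eq_top hM.2 (t := t) (u := u) hCt hCu h48 h48u ?_ ?_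
  · classical
    have h1 : ((centralizer ({t} : Set M) ⊓ centralizer ({u} : Set M) : Subgroup M) : Set M) ⊆
        (({1, t, u, t * u} : Finset M) : Set M) := by
      intro x hx
      have h2 := cent_four hM (orderOf_two htt ht1) (orderOf_two huu hu1) htu hc
        (mem_centralizer_singleton_iff.1 hx.1) (mem_centralizer_singleton_iff.1 hx.2)
      simpa using h2
    have h2 := Set.ncard_le_ncard h1 (Finset.finite_toSet _)
    rw [Set.ncard_coe_finset] at h2
    have h3 : Nat.card (centralizer ({t} : Set M) ⊓ centralizer ({u} : Set M) : Subgroup M) =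
        ((centralizer ({t} : Set M) ⊓ centralizer ({u} : Set M) : Subgroup M) : Set M).ncard :=
      (Nat.card_coe_set_eq _)
    rw [h3]
    exact h2.trans Finset.card_le_four
  · intro x hx hx1 hxx
    have : Fact (Nat.Prime 2) := ⟨Nat.prime_two⟩
    obtain ⟨P0, hP0⟩ := Sylow.exists_subgroup_card_pow_prime 2 (G := centralizer ({t} : Set M)) (n := 4)
      (by rw [h48]; norm_num)
    have hPC : P0.map (centralizer ({t} : Set M)).subtype ≤ centralizer ({t} : Set M) :=
      Subgroup.map_subtype_le _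
    obtain ⟨h, hh, hhx⟩ := MElevenSE.conj_into hM.2 (H := H)
      (P := P0.map (centralizer ({t} : Set M)).subtype) (by
        rw [Nat.card_congr (P0.equivMapOfInjective _ (Subgroup.subtype_injective _)).toEquiv.symm, hP0]
        norm_num) (hPC.trans fun y hy => hCt y (mem_centralizer_singleton_iff.1 hy)) hx hxx
    have h1 := mem_centralizer_singleton_iff.1 (hPC hhx)
    by_cases h2 : h * x * h⁻¹ = t
    · refine ⟨h⁻¹, inv_mem hh, ?_⟩
      rw [← h2]; group
    · obtain ⟨g, hg, hgx⟩ := conj_cent et ht1 htt (a := u) (b := h * x * h⁻¹) hc.symm hu1 huu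
        htu.symm h1 (by
          intro h3
          apply hx1
          have : x = h⁻¹ * (h * x * h⁻¹) * h := by group
          rw [this, h3]; group) (by
          calc h * x * h⁻¹ * (h * x * h⁻¹) = h * (x * x) * h⁻¹ := by group
            _ = 1 := by rw [hxx]; group) h2
      refine ⟨h⁻¹ * g * g0, mul_mem (mul_mem (inv_mem hh) (hCt g hg)) hg0H, ?_⟩
      calc h⁻¹ * g * g0 * t * (h⁻¹ * g * g0)⁻¹ = h⁻¹ * (g * (g0 * t * g0⁻¹) * g⁻¹) * h := by group
        _ = x := by rw [hg0u, hgx]; group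

/-- **The facts for `M₁₁`**. -/
theorem facts_m11 (hM : IsM11 M) : Facts M 3 := by
  have : CharP (ZMod 3) 3 := ZMod.charP 3
  have key : ∀ t : M, t ≠ 1 → t * t = 1 → (∀ N : Subgroup M, Odd (Nat.card N) →
      (∀ n ∈ N, n * t = t * n) → (∀ g, g * t = t * g → ∀ n ∈ N, g * n * g⁻¹ ∈ N) →
      ∀ n ∈ N, ∀ g, g * t = t * g → n * g = g * n) ∧
    (∀ N : Subgroup M, N ≤ Y 3 t → Odd (Nat.card N) →
      (∀ g ∈ Y 3 t, ∀ n ∈ N, g * n * g⁻¹ ∈ N) → N = ⊥) := by
    intro t ht1 htt
    obtain ⟨e⟩ := YCard.yIso_m11 hM t ht1 htt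
    obtain ⟨et⟩ := cent_equiv hM (orderOf_two htt ht1)
    have h := LThreeSLTwo.std (p := 3) (F := ZMod 3) (by rw [ZMod.card]; decide) (t₀ := t) e
      (fun x hx => Y_le_cent hx) (fun g hg x hx => conj_mem_Y hg hx) (fun x hx hx3 => mem_Y hx hx3) (by
        intro n hn hnY g hg
        -- the matrix of `n` is scalar
        set N : centralizer ({t} : Set M) := ⟨n, mem_centralizer_singleton_iff.2 hn⟩ with hN
        have hcomm : ∀ A : GL (Fin 2) (ZMod 3), A.val.det = 1 → et N * A = A * et N := by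
          intro A hA
          have h1 : ((et.symm A : centralizer ({t} : Set M)) : M) ∈ Y 3 t :=
            (mem_Y_iff_det et _).2 (by rw [et.apply_symm_apply]; exact hA)
          have h2 : N * et.symm A = et.symm A * N := Subtype.ext (hnY _ h1)
          have h3 := congrArg et h2
          rwa [map_mul, map_mul, et.apply_symm_apply] at h3
        let U : GL (Fin 2) (ZMod 3) :=
          Matrix.GeneralLinearGroup.mkOfDetNeZero !![1, 1; 0, 1] (by decide)
        let L : GL (Fin 2) (ZMod 3) :=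
          Matrix.GeneralLinearGroup.mkOfDetNeZero !![1, 0; 1, 1] (by decide)
        have hU : (et N).val * !![1, 1; 0, 1] = !![1, 1; 0, 1] * (et N).val :=
          congrArg Units.val (hcomm U (by
            change (!![1, 1; 0, 1] : Matrix (Fin 2) (Fin 2) (ZMod 3)).det = 1
            rw [Matrix.det_fin_two_of]; decide))
        have hL : (et N).val * !![1, 0; 1, 1] = !![1, 0; 1, 1] * (et N).val :=
          congrArg Units.val (hcomm L (by
            change (!![1, 0; 1, 1] : Matrix (Fin 2) (Fin 2) (ZMod 3)).det = 1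
            rw [Matrix.det_fin_two_of]; decide))
        have hscal : ∃ a : ZMod 3, (et N).val = !![a, 0; 0, a] := by
          generalize (et N).val = C at hU hL ⊢
          rw [eta2 C] at hU hL ⊢
          rw [Matrix.mul_fin_two, Matrix.mul_fin_two, eq_iff2] at hU hL
          refine ⟨C 0 0, ?_⟩
          rw [eq_iff2]
          obtain ⟨a1, a2, a3, a4⟩ := hU
          obtain ⟨b1, b2, b3, b4⟩ := hL
          refine ⟨rfl, ?_, ?_, ?_⟩
          · linear_combination b1
          · linear_combination -a1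
          · linear_combination -a2
        obtain ⟨a, ha⟩ := hscal
        have hall : ∀ A : GL (Fin 2) (ZMod 3), et N * A = A * et N := by
          intro A
          apply Units.ext
          change (et N).val * A.val = A.val * (et N).val
          rw [ha, eta2 A.val, Matrix.mul_fin_two, Matrix.mul_fin_two, eq_iff2]
          refine ⟨?_, ?_, ?_, ?_⟩ <;> ring
        have h4 : N * ⟨g, mem_centralizer_singleton_iff.2 hg⟩ =
            ⟨g, mem_centralizer_singleton_iff.2 hg⟩ * N := by
          apply et.injective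
          rw [map_mul, map_mul]
          exact hall _
        exact congrArg Subtype.val h4)
    exact h.2
  exact ⟨fun t h1 h2 N => (key t h1 h2).1 N, fun t h1 h2 N => (key t h1 h2).2 N,
    fun t u h1 h2 h3 h4 h5 h6 => gen hM h1 h2 h3 h4 h5 h6⟩

end Cfsg.Agent.TypeLFive.MElevenLThree
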