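import Cfsg.Agent.TypeLFive.LThreePSUMain
import Cfsg.Agent.TypeLFive.YCard

/-!
`Y p t ≃* SL(2, q)` for the involutions of `SU₃(q)` and `PSU₃(q)`, `q` odd.
-/

set_option autoImplicit false

open scoped MatrixGroups Matrix

namespace Cfsg.Agent.TypeLFive.YCardPSU

open Matrix Cfsg
open Cfsg.Agent.LieClassical.HermBasic
open Cfsg.Agent.TypeLFive.LThreeDef Cfsg.Agent.TypeLFive.LThreeFrame
open Cfsg.Agent.TypeLFive.LThreePSU Cfsg.Agent.TypeLFive.LThreePSUMain
open Cfsg.Agent.Phan (mat mat_mul mat_one mat_inj mat_det mat_isom mk mat_mk ext mat_ext extM inc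
  inc_apply ext_injective)
open Cfsg.Agent.TypeLFive.YCard

variable {F : Type*} [Field F] [Fintype F] {q : ℕ}

/-- `Y p t0` is the standard `SU₂`. -/
theorem Y_t0 (hF : Fintype.card F = q ^ 2) (hq : Odd q) (p : ℕ) [CharP F p] :
    Y p (t0 hF) = (ext hF e0 he0).range := by
  have h2 : (2 : F) ≠ 0 := two_ne hF hq
  have hp0 : p ≠ 0 := by
    rintro rfl
    have : CharZero F := CharP.charP_to_charZero F
    exact (not_finite F)
  have hpp : p.Prime := (CharP.char_is_prime_or_zero F p).resolve_right hp0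
  have : Fact p.Prime := ⟨hpp⟩
  have hone : ∀ x : F, x ^ p = 1 → x = 1 := by
    intro x hx
    have h3 : (x - 1) ^ p = 0 := by rw [sub_pow_char, hx, one_pow, sub_self]
    exact sub_eq_zero.1 (pow_eq_zero_iff hp0 |>.1 h3)
  obtain ⟨K, _, _, _, hK, ⟨f0⟩⟩ := exists_equiv hF p inferInstance hpp e0 he0
  apply le_antisymm
  · unfold Y
    rw [Subgroup.closure_le]
    rintro x ⟨hx, hxp⟩
    apply mem_ext hF
    obtain ⟨h01, h02, h10, h20⟩ := block h2 (mat_comm hx)
    have : mat x 0 0 = 1 := by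
      apply hone
      rw [← LThreePSL.pow_zero_zero h10 h20, ← mat_pow, hxp, mat_one]
      rfl
    rw [mulVec_single hF h2 hx, this, one_smul]
  · exact LThreeSLTwo.le_of_equiv (p := p) f0 fun x hx hxp => mem_Y (ext_comm_t0 hF hx) hxp

/-- `Y p t ≃* SL(2, q)` in `SU₃(q)`. -/
theorem yIso_su (hF : Fintype.card F = q ^ 2) (hq : Odd q) (p : ℕ) [CharP F p]
    {K : Type*} [Field K] [Fintype K] (hK : Fintype.card K = q) : YIso (SU 3 F q) p K := by
  intro t ht1 ht
  obtain ⟨g, hg⟩ := exists_conj_t0 hF (two_ne hF hq) ht1 ht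
  obtain ⟨e⟩ := S0281.result hF hK
  exact yIso_of_conj hg ⟨(MulEquiv.subgroupCongr (Y_t0 hF hq p)).trans
    ((MonoidHom.ofInjective (ext_injective hF he0)).symm.trans e)⟩

/-- `Y p t ≃* SL(2, q)` in `PSU₃(q)`. -/
theorem yIso_psu (hF : Fintype.card F = q ^ 2) (hq : Odd q) (p : ℕ) [CharP F p]
    {K : Type*} [Field K] [Fintype K] (hK : Fintype.card K = q) : YIso (PSU 3 F q) p K := by
  have h2 : (2 : F) ≠ 0 := two_ne hF hq
  have hp0 : p ≠ 0 := by
    rintro rfl
    have : CharZero F := CharP.charP_to_charZero F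
    exact (not_finite F)
  have hpp : p.Prime := (CharP.char_is_prime_or_zero F p).resolve_right hp0
  refine yIso_quot (by rw [hK]; exact hq) hpp ?_ ?_ (yIso_su hF hq p hK)
  · exact center_pow hF h2
  · exact center_bot hF h2

end Cfsg.Agent.TypeLFive.YCardPSU
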