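import Mathlib
import Cfsg.Prelude.Def_CaseTheorems
import Cfsg.Prelude.Def_Sporadic
import Cfsg.Agent.TypeLFive.LThreeFacts
import Cfsg.Agent.TypeLFive.YCardPSU
import Cfsg.Agent.TypeLFive.MElevenLThree

/-!
# The three possibilities for the component `J` of type `L₃^ε(q)`
-/

set_option autoImplicit false

namespace Cfsg.Agent.TypeLFive.JIdent

open Cfsg Cfsg.Agent.TypeLFive.LThreeDef Cfsg.Agent.TypeLFive.YCard

/-- The conclusion of the theorems on simple groups with quasi-dihedral or wreathed Sylow 2-subgroups. -/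
def JId (J : Type*) [Group J] : Prop :=
  (∃ (F : Type) (_ : Field F) (_ : Fintype F), Odd (Fintype.card F) ∧
    Nonempty (J ≃* Matrix.ProjectiveSpecialLinearGroup (Fin 3) F)) ∨
  (∃ (F : Type) (_ : Field F) (_ : Fintype F) (q : ℕ), Fintype.card F = q ^ 2 ∧ Odd q ∧
    Nonempty (J ≃* Cfsg.PSU 3 F q)) ∨
  Cfsg.IsM11 J

/-- The facts on `J` in a uniform shape: `F₀` is the field of order `q`, `p` its characteristic. -/
structure JData (J : Type*) [Group J] (F₀ : Type) [Field F₀] [Fintype F₀] (p : ℕ) : Prop where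
  odd : Odd (Fintype.card F₀)
  prime : p.Prime
  char : CharP F₀ p
  facts : Facts J p
  yiso : YIso J p F₀
  cases : Nonempty (J ≃* Matrix.ProjectiveSpecialLinearGroup (Fin 3) F₀) ∨
    (∃ (F : Type) (_ : Field F) (_ : Fintype F), Fintype.card F = Fintype.card F₀ ^ 2 ∧
      Nonempty (J ≃* Cfsg.PSU 3 F (Fintype.card F₀))) ∨
    (Fintype.card F₀ = 3 ∧ Cfsg.IsM11 J)

theorem JData.ne_two {J : Type*} [Group J] {F₀ : Type} [Field F₀] [Fintype F₀] {p : ℕ}
    (h : JData J F₀ p) : p ≠ 2 := by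
  rintro rfl
  have := h.char
  have h1 : ringChar F₀ = 2 := ringChar.eq F₀ 2
  exact LThreeFacts.ringChar_ne_two h.odd h1

theorem JData.congr {J J' : Type*} [Group J] [Group J'] {F₀ : Type} [Field F₀] [Fintype F₀] {p : ℕ}
    (h : JData J F₀ p) (e : J ≃* J') : JData J' F₀ p := by
  refine ⟨h.odd, h.prime, h.char, h.facts.congr e, h.yiso.congr e, ?_⟩
  rcases h.cases with ⟨⟨f⟩⟩ | ⟨F, i1, i2, hF, ⟨f⟩⟩ | ⟨h3, hM⟩
  · exact Or.inl ⟨e.symm.trans f⟩
  · exact Or.inr (Or.inl ⟨F, i1, i2, hF, ⟨e.symm.trans f⟩⟩)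
  · refine Or.inr (Or.inr ⟨h3, ?_, ?_⟩)
    · exact e.isSimpleGroup_congr.1 hM.1
    · rw [← Nat.card_congr e.toEquiv]; exact hM.2

/-- From the list to the uniform data, given the facts on `M₁₁`. -/
theorem exists_jData {J : Type*} [Group J] (h : JId J)
    (hM : Cfsg.IsM11 J → Facts J 3 ∧ YIso J 3 (ZMod 3)) :
    ∃ (F₀ : Type) (_ : Field F₀) (_ : Fintype F₀) (p : ℕ), JData J F₀ p := by
  rcases h with ⟨F, i1, i2, hF, ⟨e⟩⟩ | ⟨F, i1, i2, q, hF, hq, ⟨e⟩⟩ | h
  · have : CharP F (ringChar F) := ringChar.charP F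
    exact ⟨F, i1, i2, ringChar F, hF, LThreeFacts.prime_ringChar, inferInstance,
      LThreeFacts.of_psl hF e, (yIso_psl hF (ringChar F)).congr e.symm, Or.inl ⟨e⟩⟩
  · have hc : CharP F (ringChar F) := ringChar.charP F
    obtain ⟨K, k1, k2, hKp, hK, -⟩ := LThreePSUMain.exists_equiv hF (ringChar F) hc
      LThreeFacts.prime_ringChar ![0, 1] (by decide)
    refine ⟨K, k1, k2, ringChar F, ?_, LThreeFacts.prime_ringChar, hKp, LThreeFacts.of_psu hF hq e,
      (YCardPSU.yIso_psu hF hq (ringChar F) hK).congr e.symm, Or.inr (Or.inl ⟨F, i1, i2, ?_, ?_⟩)⟩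
    · rw [hK]; exact hq
    · rw [hF, hK]
    · rw [hK]; exact ⟨e⟩
  · have : Fact (Nat.Prime 3) := ⟨Nat.prime_three⟩
    obtain ⟨h1, h2⟩ := hM h
    refine ⟨ZMod 3, inferInstance, inferInstance, 3, ?_, Nat.prime_three, inferInstance, h1, h2,
      Or.inr (Or.inr ⟨ZMod.card 3, h⟩)⟩
    rw [ZMod.card]; decide

/-- From the list to the uniform data. -/
theorem exists_jData' {J : Type*} [Group J] [Finite J] (h : JId J) :
    ∃ (F₀ : Type) (_ : Field F₀) (_ : Fintype F₀) (p : ℕ), JData J F₀ p :=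
  exists_jData h fun hM => ⟨MElevenLThree.facts_m11 hM, yIso_m11 hM⟩

end Cfsg.Agent.TypeLFive.JIdent
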