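import Mathlib
import Cfsg.Agent.TypeLFive.CentFiveApp
import Cfsg.Agent.TypeLFive.CentData
import Cfsg.Agent.TypeLFive.JIdent

/-!
# The output of the centraliser analysis (C) of S0511
-/

set_option autoImplicit false

namespace Cfsg.Agent.TypeLFive.CentOut

open Subgroup Cfsg.Agent.TypeLFive.CentAbs Cfsg.Agent.TypeLFive.CentData
  Cfsg.Agent.TypeLFive.CentFiveApp Cfsg.Agent.TypeLFive.JIdent Cfsg.Agent.TypeLFive.QUniq
  Cfsg.Agent.TypeLFive.CentFiveJ

universe v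

/-- The identification theorem for simple groups with quasi-dihedral or wreathed Sylow 2-subgroups. -/
def IdThm : Prop := ∀ (J : Type v) [Group J] [Finite J] [IsSimpleGroup J] (P : Sylow 2 J),
  Cfsg.IsQuasiDihedral (P : Subgroup J) ∨ Cfsg.IsWreathed (P : Subgroup J) → JId J

/-- Identification of `J`. -/
theorem exists_jData_of_cHyp {X : Type v} [Group X] [Finite X] {T : Sylow 2 X}
    {W1 W2 Q1 : Subgroup X} (h : CHyp T W1 W2 Q1) (hId : IdThm.{v}) :
    ∃ (F₀ : Type) (_ : Field F₀) (_ : Fintype F₀) (p : ℕ), JData ↥(normalClosure (W2 : Set X)) F₀ p := by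
  obtain ⟨hs, -⟩ := h.simple_J
  obtain ⟨P, hP⟩ := h.exists_sylow_J
  have e : ↥W2 ≃* ↥(P : Subgroup ↥(normalClosure (W2 : Set X))) := by
    rw [hP]
    exact (Subgroup.subgroupOfEquivOfLe h.le_J).symm
  have hType : Cfsg.IsQuasiDihedral (P : Subgroup ↥(normalClosure (W2 : Set X))) ∨
      Cfsg.IsWreathed (P : Subgroup ↥(normalClosure (W2 : Set X))) := by
    rcases h.type with h1 | h1
    · exact Or.inl (TwoFusion.SylowTypeTransfer.isQuasiDihedral_of_mulEquiv e h1)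
    · exact Or.inr (TwoFusion.SylowTypeTransfer.isWreathed_of_mulEquiv e h1)
  exact exists_jData' (hId _ P hType)

/-- **Output of (C)**, from `CHyp`. -/
theorem out_of_cHyp {G : Type v} {W : Type*} [Group G] [Finite G] [Group W] {f : W × W →* G}
    {w : G} {Q : Subgroup W} {ζ : W} (hinj : Function.Injective f) (h2W : IsPGroup 2 W)
    (hw : ∀ x y, w * f (x, y) * w⁻¹ = f (y, x)) (hζ1 : ζ ≠ 1) (hζ2 : ζ * ζ = 1)
    (hζc : ∀ x, ζ * x = x * ζ) (hQn : Q.Normal) (hQL : QLike Q)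
    {X : Type v} [Group X] [Finite X] {T : Sylow 2 X} {W1 W2 Q1 : Subgroup X} {C : Subgroup G}
    (hC : ∀ g, g ∈ C ↔ g * f (ζ, 1) = f (ζ, 1) * g)
    (φ : ↥C →* X) (hφ : Function.Surjective φ) (hk : Odd (Nat.card φ.ker))
    (h : CHyp T W1 W2 Q1) (hW2 : ((P2 f ⊤).subgroupOf C).map φ = W2)
    (hQ1 : ((P1 f Q).subgroupOf C).map φ = Q1) (hId : IdThm.{v}) :
    ∃ (F₀ : Type) (_ : Field F₀) (_ : Fintype F₀) (p : ℕ),
      JData ↥(normalClosure (W2 : Set X)) F₀ p ∧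
      (3 < Fintype.card F₀ → Nonempty (↥(normalClosure (Q1 : Set X)) ≃*
        Matrix.SpecialLinearGroup (Fin 2) F₀)) ∧
      (Fintype.card F₀ = 3 → normalClosure (Q1 : Set X) = Q1) := by
  obtain ⟨F₀, i1, i2, p, hJ⟩ := exists_jData_of_cHyp h hId
  refine ⟨F₀, i1, i2, p, hJ, ?_⟩
  exact app hinj h2W hw hζ1 hζ2 hζc hQn hQL hC φ hφ hk h hW2 hQ1 hJ.odd (slFact_of_yIso hJ.yiso)

end Cfsg.Agent.TypeLFive.CentOut
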