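import Mathlib
import Cfsg.Agent.TypeLFive.CentOut

/-!
# `IdThm` from the statements on quasi-dihedral and wreathed Sylow 2-subgroups
-/

set_option autoImplicit false

namespace Cfsg.Agent.TypeLFive.IdOf

universe v

/-- `IdThm` from the two classification theorems (S0507, S0523). -/
theorem idThm_of
    (h07 : ∀ (G : Type v) [Group G] [Finite G] [IsSimpleGroup G]
      (S : Sylow 2 G) (_ : Cfsg.IsQuasiDihedral (S : Subgroup G)),
      (∃ (F : Type) (_ : Field F) (_ : Fintype F), Fintype.card F % 4 = 3 ∧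
        Nonempty (G ≃* Matrix.ProjectiveSpecialLinearGroup (Fin 3) F)) ∨
      (∃ (F : Type) (_ : Field F) (_ : Fintype F) (q : ℕ), Fintype.card F = q ^ 2 ∧ q % 4 = 1 ∧
        Nonempty (G ≃* Cfsg.PSU 3 F q)) ∨ Cfsg.IsM11 G)
    (h23 : ∀ (G : Type v) [Group G] [Finite G] [IsSimpleGroup G]
      (S : Sylow 2 G) (_ : Cfsg.IsWreathed (S : Subgroup G)),
      (∃ (F : Type) (_ : Field F) (_ : Fintype F), Odd (Fintype.card F) ∧
        Nonempty (G ≃* Matrix.ProjectiveSpecialLinearGroup (Fin 3) F)) ∨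
      (∃ (F : Type) (_ : Field F) (_ : Fintype F) (q : ℕ), Fintype.card F = q ^ 2 ∧ Odd q ∧
        Nonempty (G ≃* Cfsg.PSU 3 F q)) ∨ Cfsg.IsM11 G) : CentOut.IdThm.{v} := by
  intro J _ _ _ P hP
  rcases hP with hP | hP
  · rcases h07 J P hP with ⟨F, i1, i2, h, e⟩ | ⟨F, i1, i2, q, h, hq, e⟩ | h
    · exact Or.inl ⟨F, i1, i2, Nat.odd_iff.2 (by omega), e⟩
    · exact Or.inr (Or.inl ⟨F, i1, i2, q, h, Nat.odd_iff.2 (by omega), e⟩)
    · exact Or.inr (Or.inr h)
  · exact h23 J P hP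

end Cfsg.Agent.TypeLFive.IdOf
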