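import Mathlib
import Cfsg.Agent.Lib.GoldschmidtFusion
import Cfsg.Agent.TwoFusion.CyclicAut
import Cfsg.Agent.SylowSp4.Extremal

/-!
# Sylow 2-subgroups of subgroups, and odd order elements acting on 2-groups
-/

set_option autoImplicit false

namespace Cfsg.Agent.TypeLFive.CentSDTools

open Subgroup Cfsg.Agent.Lib.GoldschmidtFusion

variable {G : Type*} [Group G] [Finite G]

/-- `U` is a Sylow 2-subgroup of the subgroup `N`. -/
structure SylIn (U N : Subgroup G) : Prop where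
  le : U ≤ N
  two : IsPGroup 2 U
  odd : ¬ 2 ∣ U.relIndex N

namespace SylIn

variable {U N : Subgroup G}

omit [Finite G] in
theorem mono (h : SylIn U N) {N' : Subgroup G} (hU : U ≤ N') (hN : N' ≤ N) : SylIn U N' := by
  refine ⟨hU, h.two, fun hd => h.odd ?_⟩
  rw [← relIndex_mul_relIndex U N' N hU hN]
  exact hd.mul_right _

theorem conj_le (h : SylIn U N) {D : Subgroup G} (hD : D ≤ N) (hD2 : IsPGroup 2 D) :
    ∃ n ∈ N, ∀ x ∈ D, n * x * n⁻¹ ∈ U := by
  obtain ⟨n, hn, hle⟩ := exists_conj_le_in h.two h.odd hD hD2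
  exact ⟨n, hn, fun x hx => hle (conj_mem_map_conj hx n)⟩

theorem card_le (h : SylIn U N) {D : Subgroup G} (hD : D ≤ N) (hD2 : IsPGroup 2 D) :
    Nat.card D ≤ Nat.card U := by
  obtain ⟨n, hn, hle⟩ := exists_conj_le_in h.two h.odd hD hD2
  rw [← card_map_conj D n]
  exact Subgroup.card_le_of_le hle

/-- A 2-subgroup of `N` of maximal order is a Sylow subgroup. -/
theorem of_card_le (hU : U ≤ N) (h2 : IsPGroup 2 U)
    (hc : ∀ D : Subgroup G, D ≤ N → IsPGroup 2 D → U ≤ D → Nat.card D ≤ Nat.card U) : SylIn U N := by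
  obtain ⟨R, hUR, hRN, hR, hRi⟩ := exists_sylow_in hU h2
  have h1 := Subgroup.eq_of_le_of_card_ge hUR (hc R hRN hR hUR)
  subst h1
  exact ⟨hU, h2, hRi⟩

theorem exists_ge {D : Subgroup G} (hD : D ≤ N) (h2 : IsPGroup 2 D) : ∃ R, D ≤ R ∧ SylIn R N := by
  obtain ⟨R, hUR, hRN, hR, hRi⟩ := exists_sylow_in hD h2
  exact ⟨R, hUR, hRN, hR, hRi⟩

theorem of_card_ge (h : SylIn U N) {D : Subgroup G} (hD : D ≤ N) (h2 : IsPGroup 2 D)
    (hc : Nat.card U ≤ Nat.card D) : SylIn D N :=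
  of_card_le hD h2 fun _ hE hE2 _ => (h.card_le hE hE2).trans hc

omit [Finite G] in
theorem conj_conj {g x y : G} : g * (x * y * x⁻¹) * g⁻¹ = g * x * y * (g * x)⁻¹ := by group

/-- Transport of a 2-group of `C_N(x)` into the Sylow subgroup `U` when `x` is conjugate to an element
centralised by `U`. -/
theorem move (h : SylIn U N) {x x' c : G} (hx' : ∀ a ∈ U, a * x' = x' * a) (hc : c ∈ N)
    (hcx : c * x * c⁻¹ = x') {R : Subgroup G} (hR : R ≤ N) (hR2 : IsPGroup 2 R)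
    (hRx : ∀ a ∈ R, a * x = x * a) :
    ∃ m ∈ N, m * x * m⁻¹ = x' ∧ ∀ a ∈ R, m * a * m⁻¹ ∈ U := by
  have h1 : SylIn U (N ⊓ centralizer ({x'} : Set G)) :=
    h.mono (le_inf h.le fun a ha => mem_centralizer_singleton_iff.2 (hx' a ha)) inf_le_left
  have h2 : R.map (MulAut.conj c).toMonoidHom ≤ N ⊓ centralizer ({x'} : Set G) := by
    rintro _ ⟨a, ha, rfl⟩
    have hm1 : c * a * c⁻¹ ∈ N := N.mul_mem (N.mul_mem hc (hR ha)) (N.inv_mem hc)
    refine mem_inf.2 ⟨hm1, mem_centralizer_singleton_iff.2 ?_⟩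
    rw [← hcx]
    change c * a * c⁻¹ * (c * x * c⁻¹) = c * x * c⁻¹ * (c * a * c⁻¹)
    have e1 : c * a * c⁻¹ * (c * x * c⁻¹) = c * (a * x) * c⁻¹ := by group
    have e2 : c * x * c⁻¹ * (c * a * c⁻¹) = c * (x * a) * c⁻¹ := by group
    rw [e1, e2, hRx a ha]
  obtain ⟨d, hd, hle⟩ := h1.conj_le h2 (hR2.map _)
  refine ⟨d * c, mul_mem hd.1 hc, ?_, ?_⟩
  · have h3 := mem_centralizer_singleton_iff.1 hd.2
    rw [← conj_conj, hcx, h3, mul_inv_cancel_right]
  · intro a ha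
    have := hle _ (conj_mem_map_conj ha c)
    rwa [conj_conj] at this

/-- The same with a Sylow subgroup `U` of `C_N(x')`. -/
theorem move' {x x' c : G} (h : SylIn U (N ⊓ centralizer ({x'} : Set G))) (hc : c ∈ N)
    (hcx : c * x * c⁻¹ = x') {R : Subgroup G} (hR : R ≤ N) (hR2 : IsPGroup 2 R)
    (hRx : ∀ a ∈ R, a * x = x * a) :
    ∃ m ∈ N, m * x * m⁻¹ = x' ∧ ∀ a ∈ R, m * a * m⁻¹ ∈ U := by
  have h2 : R.map (MulAut.conj c).toMonoidHom ≤ N ⊓ centralizer ({x'} : Set G) := by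
    rintro _ ⟨a, ha, rfl⟩
    have hm1 : c * a * c⁻¹ ∈ N := N.mul_mem (N.mul_mem hc (hR ha)) (N.inv_mem hc)
    refine mem_inf.2 ⟨hm1, mem_centralizer_singleton_iff.2 ?_⟩
    rw [← hcx]
    change c * a * c⁻¹ * (c * x * c⁻¹) = c * x * c⁻¹ * (c * a * c⁻¹)
    have e1 : c * a * c⁻¹ * (c * x * c⁻¹) = c * (a * x) * c⁻¹ := by group
    have e2 : c * x * c⁻¹ * (c * a * c⁻¹) = c * (x * a) * c⁻¹ := by group
    rw [e1, e2, hRx a ha]
  obtain ⟨d, hd, hle⟩ := h.conj_le h2 (hR2.map _)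
  refine ⟨d * c, mul_mem hd.1 hc, ?_, ?_⟩
  · have h3 := mem_centralizer_singleton_iff.1 hd.2
    rw [← conj_conj, hcx, h3, mul_inv_cancel_right]
  · intro a ha
    have := hle _ (conj_mem_map_conj ha c)
    rwa [conj_conj] at this

/-- An element `m` with `m U m⁻¹ ≤ U` normalises `U`. -/
theorem conj_inv_mem {U : Subgroup G} {m : G} (hm : ∀ a ∈ U, m * a * m⁻¹ ∈ U) {a : G} (ha : a ∈ U) :
    m⁻¹ * a * m ∈ U := by
  have hle : U.map (MulAut.conj m).toMonoidHom ≤ U := by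
    rintro _ ⟨a, ha, rfl⟩
    exact hm a ha
  have heq := Subgroup.eq_of_le_of_card_ge hle (card_map_conj U m).ge
  rw [← heq] at ha
  exact mem_map_conj.1 ha

theorem exists_mul (h : SylIn U N) (H : Subgroup G)
    (hn : ∀ g ∈ N, ∀ a ∈ H, g * a * g⁻¹ ∈ H) (hodd : ∀ g ∈ N, Odd (orderOf g) → g ∈ H) {g : G}
    (hg : g ∈ N) : ∃ τ ∈ U, ∃ a ∈ H, g = τ * a := by
  classical
  set H' := H.subgroupOf N with hH'
  set U' := U.subgroupOf N with hU'
  have hH'n : H'.Normal := ⟨fun a ha x => hn x x.2 a ha⟩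
  have h1 : IsPGroup 2 (N ⧸ H') := by
    intro q
    obtain ⟨x, rfl⟩ := QuotientGroup.mk_surjective q
    refine ⟨(orderOf (x : G)).factorization 2, ?_⟩
    rw [← QuotientGroup.mk_pow, QuotientGroup.eq_one_iff]
    refine hodd _ (N.pow_mem x.2 _) ?_
    have hpos : 0 < orderOf (x : G) := orderOf_pos _
    have hco : N.subtype (x ^ 2 ^ (orderOf (x : G)).factorization 2) =
        (x : G) ^ 2 ^ (orderOf (x : G)).factorization 2 := rfl
    rw [hco, orderOf_pow_of_dvd (by positivity) (Nat.ordProj_dvd _ 2)]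
    exact Nat.odd_iff.2 (by
      have := Nat.not_dvd_ordCompl Nat.prime_two hpos.ne'
      omega)
  have h2 : (U' ⊔ H').index = 1 := by
    have h3 : (U' ⊔ H').index ∣ U'.index := index_dvd_of_le le_sup_left
    have h4 : (U' ⊔ H').index ∣ H'.index := index_dvd_of_le le_sup_right
    obtain ⟨k, hk⟩ := (IsPGroup.iff_card (p := 2)).1 h1
    rw [← index_eq_card] at hk
    rw [hk] at h4
    obtain ⟨j, -, hj⟩ := (Nat.dvd_prime_pow Nat.prime_two).1 h4
    rcases j with _ | j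
    · simpa using hj
    · exfalso
      apply h.odd
      change 2 ∣ U'.index
      refine Dvd.dvd.trans ?_ h3
      rw [hj]
      exact dvd_pow_self 2 (by omega)
  rw [index_eq_one] at h2
  have h5 : (⟨g, hg⟩ : N) ∈ U' ⊔ H' := by rw [h2]; trivial
  rw [← SetLike.mem_coe, Subgroup.mul_normal] at h5
  obtain ⟨a, ha, b, hb, hab⟩ := h5
  exact ⟨a, ha, b, hb, (congrArg Subtype.val hab).symm⟩

omit [Finite G] in
/-- `U` as a Sylow subgroup of the group `N`. -/
theorem exists_sylow (h : SylIn U N) : ∃ P : Sylow 2 N, (P : Subgroup N) = U.subgroupOf N := by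
  have h1 : IsPGroup 2 (U.subgroupOf N) :=
    h.two.of_equiv (Subgroup.subgroupOfEquivOfLe h.le).symm
  exact ⟨h1.toSylow h.odd, rfl⟩

/-- Transfer into `U / K`, `K` of index two in the Sylow 2-subgroup `U`. -/
theorem transfer (h : SylIn U N) (K : Subgroup G) (hK : K.relIndex U = 2) :
    ∃ V : N →* ℤˣ, ∀ (x : G) (hx : x ∈ U),
      (∀ (k : ℕ), ∀ g ∈ N, g * x ^ k * g⁻¹ ∈ U → (g * x ^ k * g⁻¹ ∈ K ↔ x ^ k ∈ K)) →
        (V ⟨x, h.le hx⟩ = 1 ↔ x ∈ K) := by
  obtain ⟨P, hP⟩ := h.exists_sylow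
  have h1 : (K.subgroupOf N).relIndex (P : Subgroup N) = 2 := by
    rw [hP, relIndex_subgroupOf h.le]
    exact hK
  obtain ⟨V, hV⟩ := SylowSp4.Extremal.exists_transfer P (K.subgroupOf N) h1
  refine ⟨V, fun x hx hk => ?_⟩
  have h2 := hV ⟨x, h.le hx⟩ (by rw [hP]; exact hx) (by
    intro k g hg
    rw [hP] at hg
    exact hk k g g.2 hg)
  exact h2

end SylIn

/-! ### Odd order elements -/

omit [Finite G] in
/-- `g x g⁻¹ = a x` with `a` a 2-element centralised by the element `g` of odd order forces `a = 1`. -/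
theorem eq_one_of_odd {g a x : G} (hg : Odd (orderOf g)) (hx : g * x * g⁻¹ = a * x) (ha : g * a = a * g)
    {k : ℕ} (hk : a ^ 2 ^ k = 1) : a = 1 := by
  have h1 : ∀ m : ℕ, g ^ m * x * (g ^ m)⁻¹ = a ^ m * x := by
    intro m
    induction m with
    | zero => simp
    | succ m ih =>
      have e : g ^ (m + 1) * x * (g ^ (m + 1))⁻¹ = g * (g ^ m * x * (g ^ m)⁻¹) * g⁻¹ := by
        rw [pow_succ']; group
      have h2 : g * a ^ m = a ^ m * g := (Commute.pow_right ha m : Commute g (a ^ m))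
      rw [e, ih]
      have e2 : g * (a ^ m * x) * g⁻¹ = (g * a ^ m) * x * g⁻¹ := by group
      have e3 : a ^ m * g * x * g⁻¹ = a ^ m * (g * x * g⁻¹) := by group
      rw [e2, h2, e3, hx, pow_succ, mul_assoc]
  have h2 := h1 (orderOf g)
  rw [pow_orderOf_eq_one, one_mul, inv_one, mul_one] at h2
  have h3 : a ^ orderOf g = 1 := by
    have := mul_eq_right.1 h2.symm
    exact this
  have h4 : orderOf a ∣ 1 := by
    have h5 : Nat.gcd (orderOf g) (2 ^ k) = 1 := (Nat.Coprime.pow_right k (Nat.coprime_two_right.2 hg))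
    rw [← h5]
    exact Nat.dvd_gcd (orderOf_dvd_of_pow_eq_one h3) (orderOf_dvd_of_pow_eq_one hk)
  exact orderOf_eq_one_iff.1 (Nat.dvd_one.1 h4)

/-- An odd order element normalising a cyclic 2-group centralises it. -/
theorem commute_of_odd_cyclic {g x : G} (hg : Odd (orderOf g)) {k : ℕ} (hx : orderOf x = 2 ^ k)
    (hgx : g * x * g⁻¹ ∈ zpowers x) : g * x = x * g := by
  have hle : (zpowers x).map (MulAut.conj g).toMonoidHom ≤ zpowers x := by
    rw [MonoidHom.map_zpowers, zpowers_le]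
    exact hgx
  have heq := Subgroup.eq_of_le_of_card_ge hle (card_map_conj _ g).ge
  have hgN : g ∈ normalizer (zpowers x : Set G) := mem_normalizer_iff_map_conj.2 heq
  have hcard : Nat.card (zpowers x) = 2 ^ k := by rw [Nat.card_zpowers, hx]
  have hA := TwoFusion.CyclicAut.isPGroup_mulAut (C := zpowers x) k hcard
  set F := (zpowers x).normalizerMonoidHom with hF
  obtain ⟨j, hj⟩ := hA (F ⟨g, hgN⟩)
  have h1 : F ⟨g, hgN⟩ ^ orderOf g = 1 := by
    rw [← map_pow]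
    have : (⟨g, hgN⟩ : normalizer (zpowers x : Set G)) ^ orderOf g = 1 := by
      apply Subtype.ext
      rw [SubmonoidClass.coe_pow, pow_orderOf_eq_one]
      rfl
    rw [this, map_one]
  have h2 : F ⟨g, hgN⟩ = 1 := by
    have h4 : orderOf (F ⟨g, hgN⟩) ∣ 1 := by
      have h5 : Nat.gcd (orderOf g) (2 ^ j) = 1 := (Nat.Coprime.pow_right j (Nat.coprime_two_right.2 hg))
      rw [← h5]
      exact Nat.dvd_gcd (orderOf_dvd_of_pow_eq_one h1) (orderOf_dvd_of_pow_eq_one hj)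
    exact orderOf_eq_one_iff.1 (Nat.dvd_one.1 h4)
  have h3 : (F ⟨g, hgN⟩ ⟨x, mem_zpowers x⟩ : G) = x := by
    rw [h2]; rfl
  have h4 : (F ⟨g, hgN⟩ ⟨x, mem_zpowers x⟩ : G) = g * x * g⁻¹ := rfl
  rw [h4] at h3
  exact mul_inv_eq_iff_eq_mul.1 h3

end Cfsg.Agent.TypeLFive.CentSDTools
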