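import Mathlib
import Cfsg.Agent.TypeLFive.CentGlue
import Cfsg.Agent.TwoFusion.ClosedCommutator

/-!
# `CData ⇒ CHyp`

Goldschmidt's product theorem gives that the normal closures of `Q1` and `W2` in `C_G(t) / O(C_G(t))` commute.
-/

set_option autoImplicit false

namespace Cfsg.Agent.TypeLFive.CentGlueKj

open Subgroup CentData CentAbs CentGlue

universe u v

variable {G : Type u} {W : Type v} [Group G] [Group W] {f : W × W →* G} {Q : Subgroup W} {ζ : W} [Finite G]

theorem kj (D : CData f Q ζ) (x : XX f ζ) (hx : x ∈ normalClosure (Q1 D : Set (XX f ζ))) (y : XX f ζ)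
    (hy : y ∈ normalClosure (W2 D : Set (XX f ζ))) : x * y = y * x := by
  obtain ⟨T, hT⟩ := exists_sylow D
  have hinf : Q1 D ⊓ W2 D = ⊥ := by
    rw [eq_bot_iff]
    rintro z ⟨h1, h2⟩
    obtain ⟨a, -, rfl⟩ := (mem_Q1 D).1 h1
    obtain ⟨b, hb⟩ := (mem_W2 D).1 h2
    have h3 := (Prod.mk.inj (phi_injective D hb)).1
    subst h3
    rw [mem_bot]
    exact map_one (phi D)
  have h1 := TwoFusion.ClosedCommutator.commutator_le T (Q1 D) (W2 D) hinf (by rw [hT]; exact clQ D)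
    (by rw [hT]; exact clW D)
  have h2 : Cfsg.oddCore (XX f ζ) = ⊥ := Lib.Cores.pPrimeCore_quotient_pPrimeCore 2
  rw [h2, le_bot_iff, commutator_eq_bot_iff_le_centralizer] at h1
  exact (mem_centralizer_iff.1 (h1 hx) y hy).symm

/-- **The glue**: `CHyp` holds for `X = C_G(t) / O(C_G(t))`. -/
theorem chyp (D : CData f Q ζ) (T : Sylow 2 (XX f ζ)) (hT : (T : Subgroup (XX f ζ)) = (phi D).range) :
    CHyp T (W1 D) (W2 D) (Q1 D) := chyp_of_kj D T hT (kj D)

theorem exists_chyp (D : CData f Q ζ) :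
    ∃ T : Sylow 2 (XX f ζ), (T : Subgroup (XX f ζ)) = (phi D).range ∧ CHyp T (W1 D) (W2 D) (Q1 D) := by
  obtain ⟨T, hT⟩ := exists_sylow D
  exact ⟨T, hT, chyp D T hT⟩

end Cfsg.Agent.TypeLFive.CentGlueKj
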