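import Mathlib
import Cfsg.Agent.SylowSp4.Extremal
import Cfsg.Agent.SylowSp4.ExtTransfer

/-!
# Extremal form of transfer for elements of 2-power order

`T` of index two in the Sylow 2-subgroup `S`; `u` a 2-element all of whose even powers have their conjugates in `S` inside
`T`; if no character of `G` sees `u`, then every 2-subgroup of `C_G(u)` can be moved into `S` with `u` moved into `T`.
-/

set_option autoImplicit false

namespace Cfsg.Agent.TypeLFive.CentSDExt

open Subgroup MulAction Cfsg.Agent.SylowSp4

theorem exists_extremal_pow {G : Type*} [Group G] [Finite G] (S : Sylow 2 G) (T : Subgroup G)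
    (hTS : T ≤ S) (hidx : T.relIndex (S : Subgroup G) = 2) (u : G) {j : ℕ} (huj : u ^ 2 ^ j = 1)
    (hu : ∀ (k : ℕ) (g : G), Even k → g⁻¹ * u ^ k * g ∈ (S : Subgroup G) → g⁻¹ * u ^ k * g ∈ T)
    (hG : ∀ f : G →* ℤˣ, f u = 1) (R : Subgroup G) (hR : IsPGroup 2 R)
    (hRu : ∀ r ∈ R, r * u = u * r) :
    ∃ g : G, g * u * g⁻¹ ∈ T ∧ ∀ r ∈ R, g * r * g⁻¹ ∈ S := by
  classical
  by_contra hcon
  push Not at hcon
  obtain ⟨φ, hφ⟩ := Extremal.exists_char (T.subgroupOf (S : Subgroup G)) hidx
  have hT2 : (T.subgroupOf (S : Subgroup G)).index = 2 := hidx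
  have hTn : (T.subgroupOf (S : Subgroup G)).Normal := Subgroup.normal_of_index_eq_two hT2
  have hTS' : ∀ s ∈ S, ∀ t ∈ T, s⁻¹ * t * s ∈ T := by
    intro s hs t ht
    have h := hTn.conj_mem ⟨t, hTS ht⟩ ht ⟨s⁻¹, (S : Subgroup G).inv_mem hs⟩
    have h1 : s⁻¹ * t * (s⁻¹)⁻¹ ∈ T := h
    rwa [inv_inv] at h1
  have : Fintype (G ⧸ (S : Subgroup G)) := Fintype.ofFinite _
  -- the set of good fixed points
  let F : Finset (G ⧸ (S : Subgroup G)) := Finset.univ.filter
    (fun q => ∃ g : G, (g : G ⧸ (S : Subgroup G)) = q ∧ g⁻¹ * u * g ∈ T)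
  have hFm : ∀ g : G, ((g : G) : G ⧸ (S : Subgroup G)) ∈ F ↔ g⁻¹ * u * g ∈ T := by
    intro g
    simp only [F, Finset.mem_filter, Finset.mem_univ, true_and]
    constructor
    · rintro ⟨g', hg', hg'T⟩
      have h1 := QuotientGroup.eq.1 hg'
      have h2 := hTS' _ h1 _ hg'T
      have e : (g'⁻¹ * g)⁻¹ * (g'⁻¹ * u * g') * (g'⁻¹ * g) = g⁻¹ * u * g := by group
      rwa [e] at h2
    · intro h
      exact ⟨g, rfl, h⟩
  -- `F` has an even number of elements
  have hF2 : Even F.card := by
    let A : SubMulAction R (G ⧸ (S : Subgroup G)) :=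
      { carrier := (F : Set (G ⧸ (S : Subgroup G)))
        smul_mem' := by
          intro r q hq
          obtain ⟨g, rfl⟩ := QuotientGroup.mk_surjective q
          have h1 := (hFm g).1 hq
          have h2 : ((r : G) * g)⁻¹ * u * ((r : G) * g) ∈ T := by
            have e : ((r : G) * g)⁻¹ * u * ((r : G) * g) = g⁻¹ * ((r : G)⁻¹ * (u * r)) * g := by
              group
            rw [e, ← hRu r r.2, inv_mul_cancel_left]
            exact h1
          exact (hFm ((r : G) * g)).2 h2 }
    have hmod := hR.card_modEq_card_fixedPoints A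
    have hempty : IsEmpty (MulAction.fixedPoints R A) := by
      constructor
      rintro ⟨⟨q, hq⟩, hfix⟩
      obtain ⟨g, rfl⟩ := QuotientGroup.mk_surjective q
      obtain ⟨r, hr, hrS⟩ := hcon g⁻¹ (by rw [inv_inv]; exact (hFm g).1 hq)
      apply hrS
      rw [inv_inv]
      exact (ExtTransfer.smul_coe_eq_iff (S : Subgroup G) r g).1 (congrArg Subtype.val (hfix ⟨r, hr⟩))
    have h0 : Nat.card (MulAction.fixedPoints R A) = 0 := Nat.card_of_isEmpty
    rw [h0] at hmod
    have h1 : Nat.card A = F.card := by
      have : Nat.card A = Nat.card {q // q ∈ F} := rfl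
      rw [this, Nat.card_eq_fintype_card, Fintype.card_coe]
    rw [h1] at hmod
    exact even_iff_two_dvd.2 (Nat.modEq_zero_iff_dvd.1 hmod)
  -- the transfer
  have hV := hG (MonoidHom.transfer φ)
  have : Fintype (Quotient (orbitRel (zpowers u) (G ⧸ (S : Subgroup G)))) := Fintype.ofFinite _
  rw [MonoidHom.transfer_eq_prod_quotient_orbitRel_zpowers_quot] at hV
  -- the parity of the index
  have hodd : Odd (S : Subgroup G).index := by
    rw [← Nat.not_even_iff_odd, even_iff_two_dvd]
    exact S.not_dvd_index
  have hsum := Subgroup.index_eq_sum_minimalPeriod (S : Subgroup G) u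
  have hprod : (-1 : ℤˣ) = ∏ q : Quotient (orbitRel (zpowers u) (G ⧸ (S : Subgroup G))),
      (-1 : ℤˣ) ^ Function.minimalPeriod (u • ·) q.out := by
    rw [Finset.prod_pow_eq_pow_sum, ← hsum, hodd.neg_one_pow]
  have hmul : (-1 : ℤˣ) = ∏ q : Quotient (orbitRel (zpowers u) (G ⧸ (S : Subgroup G))),
      (if q.out ∈ F then (-1 : ℤˣ) else 1) := by
    have key : _ * _ = (1 : ℤˣ) * (-1) := congrArg₂ (· * ·) hV hprod.symm
    rw [← Finset.prod_mul_distrib, one_mul] at key
    refine key.symm.trans ?_
    · refine Finset.prod_congr rfl (fun q _ => ?_)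
      · have _h := q
        have hmem := QuotientGroup.out_conj_pow_minimalPeriod_mem (S : Subgroup G) u q.out
        have hx : ((Quotient.out q.out : G) : G ⧸ (S : Subgroup G)) = q.out := QuotientGroup.out_eq' _
        set g : G := Quotient.out q.out with hg
        set p := Function.minimalPeriod (u • ·) q.out with hp
        have hp1 : Odd p → p = 1 := by
          intro ho
          have h1 : p ∣ 2 ^ j := by
            rw [hp, ← MulAction.pow_smul_eq_iff_minimalPeriod_dvd, huj, one_smul]
          obtain ⟨i, -, hi⟩ := (Nat.dvd_prime_pow Nat.prime_two).1 h1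
          rcases i with _ | i
          · simpa using hi
          · exfalso
            rw [hi, ← Nat.not_even_iff_odd] at ho
            exact ho (by rw [Nat.even_pow]; exact ⟨even_two, by omega⟩)
        by_cases hF : q.out ∈ F
        · rw [if_pos hF]
          rw [← hx] at hF
          have h1 := (hFm g).1 hF
          have h2 : p = 1 := by
            rw [hp, Function.minimalPeriod_eq_one_iff_isFixedPt]
            change u • q.out = q.out
            rw [← hx]
            exact (ExtTransfer.smul_coe_eq_iff (S : Subgroup G) u g).2 (hTS h1)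
          have h3 : φ ⟨g⁻¹ * u ^ p * g, hmem⟩ = 1 := by
            rw [hφ, mem_subgroupOf]
            change g⁻¹ * u ^ p * g ∈ T
            rw [h2, pow_one]
            exact h1
          rw [h3, ← hp, h2, one_mul, pow_one]
        · rw [if_neg hF]
          rcases Nat.even_or_odd p with he | ho
          · have h3 : φ ⟨g⁻¹ * u ^ p * g, hmem⟩ = 1 := by
              rw [hφ, mem_subgroupOf]
              exact hu p g he hmem
            rw [h3, he.neg_one_pow, one_mul]
          · have h2 := hp1 ho
            have h3 : φ ⟨g⁻¹ * u ^ p * g, hmem⟩ = -1 := by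
              refine (Int.units_eq_one_or _).resolve_left ?_
              intro h4
              rw [hφ, mem_subgroupOf] at h4
              have h5 : g⁻¹ * u ^ p * g ∈ T := h4
              rw [h2, pow_one] at h5
              apply hF
              rw [← hx]
              exact (hFm g).2 h5
            rw [h3, ← hp, h2, pow_one]
            decide
  -- count the orbits in `F`
  have hcount : (Finset.univ.filter (fun q : Quotient (orbitRel (zpowers u) (G ⧸ (S : Subgroup G))) =>
      q.out ∈ F)).card = F.card := by
    refine Finset.card_bij (fun q _ => q.out) ?_ ?_ ?_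
    · intro q hq
      exact (Finset.mem_filter.1 hq).2
    · intro q _ q' _ hqq
      rw [← Quotient.out_eq q, ← Quotient.out_eq q', hqq]
    · intro x hx
      have hfix : u • x = x := by
        obtain ⟨g, rfl⟩ := QuotientGroup.mk_surjective x
        exact (ExtTransfer.smul_coe_eq_iff (S : Subgroup G) u g).2 (hTS ((hFm g).1 hx))
      have hz : ∀ z ∈ zpowers u, z • x = x := by
        intro z hz
        have : zpowers u ≤ stabilizer G x := by
          rw [zpowers_le]; exact hfix
        exact this hz
      let q : Quotient (orbitRel (zpowers u) (G ⧸ (S : Subgroup G))) := Quotient.mk _ x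
      have hq : q.out = x := by
        have h1 : (orbitRel (zpowers u) (G ⧸ (S : Subgroup G))) q.out x := Quotient.exact (Quotient.out_eq q)
        obtain ⟨z, hz1⟩ := h1
        rw [← hz1]
        exact hz z z.2
      exact ⟨q, Finset.mem_filter.2 ⟨Finset.mem_univ _, by rw [hq]; exact hx⟩, hq⟩
  rw [Finset.prod_ite, Finset.prod_const, Finset.prod_const_one, mul_one, hcount, hF2.neg_one_pow] at hmul
  exact absurd hmul (by decide)

end Cfsg.Agent.TypeLFive.CentSDExt
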