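import Mathlib
import Cfsg.Agent.TypeLFive.CentSDGroup
import Cfsg.Agent.TypeLFive.CentSDTools

/-!
# The quaternion subgroup of the first factor is strongly closed

`C` is a group with Sylow 2-subgroup `f '' (W × W)`, `W` semidihedral, centralising `t = f (ζ, 1)`.
-/

set_option autoImplicit false

namespace Cfsg.Agent.TypeLFive.CentSDClosed

open Subgroup Cfsg.Agent.TwoFusion.QDBasic CentSDGroup CentSDTools

variable {G W : Type*} [Group G] [Group W]

/-- The common hypotheses on the group `C = C_G(t)`. -/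
structure Half (C : Subgroup G) (f : W × W →* G) (ζ : W) : Prop where
  inj : Function.Injective f
  syl : SylIn f.range C
  comm : ∀ c ∈ C, c * f (ζ, 1) = f (ζ, 1) * c
  closed : ∀ b, b * b = 1 → b ≠ 1 → ∀ c ∈ C, ∀ p q, c * f (1, b) * c⁻¹ = f (p, q) → p = 1

variable {n : ℕ} {u : ZMod (2 ^ n) → W} {y : W} {f : W × W →* G} {C : Subgroup G}

/-- `U = ⟨r⟩ × W`. -/
def UU (h : IsQDCoord n u y) (f : W × W →* G) : Subgroup G := ((R h).prod ⊤).map f

theorem mem_UU (h : IsQDCoord n u y) {g : G} : g ∈ UU h f ↔ ∃ a b, g = f (u a, b) := by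
  constructor
  · rintro ⟨⟨_, b⟩, ⟨⟨a, rfl⟩, -⟩, rfl⟩
    exact ⟨a, b, rfl⟩
  · rintro ⟨a, b, rfl⟩
    exact ⟨(u a, b), ⟨⟨a, rfl⟩, trivial⟩, rfl⟩

theorem f_mem_UU (h : IsQDCoord n u y) (a : ZMod (2 ^ n)) (b : W) : f (u a, b) ∈ UU h f :=
  (mem_UU h).2 ⟨a, b, rfl⟩

theorem UU_le (h : IsQDCoord n u y) : UU h f ≤ f.range := by
  rintro _ ⟨p, -, rfl⟩
  exact ⟨p, rfl⟩

/-- The element `ρ₁` and the Sylow subgroup of `C(i)`. -/
structure Rho (h : IsQDCoord n u y) (C : Subgroup G) (f : W × W →* G) (ρ : G) : Prop where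
  mem : ρ ∈ C
  comm : ∀ b, ρ * f (1, b) = f (1, b) * ρ
  conj : ρ * f (ii n u, 1) * ρ⁻¹ = f (u 1 * y, 1)
  sylU : SylIn (UU h f) (C ⊓ centralizer ({f (ii n u, 1)} : Set G))

namespace Half

variable (H : Half C f (zz n u))

include H

theorem mem (p : W × W) : f p ∈ C := H.syl.le ⟨p, rfl⟩

theorem f_eq {a b c d : W} (e : f (a, b) = f (c, d)) : a = c ∧ b = d := Prod.mk.inj (H.inj e)

end Half

theorem mk_mul (a b c d : W) : f (a, b) * f (c, d) = f (a * c, b * d) := by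
  rw [← map_mul, Prod.mk_mul_mk]

theorem mk_inv (a b : W) : (f (a, b))⁻¹ = f (a⁻¹, b⁻¹) := by
  rw [← map_inv, Prod.inv_mk]

theorem cj_mul (g a b : G) : g * (a * b) * g⁻¹ = (g * a * g⁻¹) * (g * b * g⁻¹) := by group

theorem conj_inj {g a b : G} (e : g * a * g⁻¹ = g * b * g⁻¹) : a = b :=
  mul_left_cancel (mul_right_cancel e)

theorem conj_pow' (g a : G) (k : ℕ) : g * a ^ k * g⁻¹ = (g * a * g⁻¹) ^ k := conj_pow.symm

section

variable (h : IsQDCoord n u y) (H : Half C f (zz n u))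

include h

/-- every rotation of order at least eight has `i` as an even power. -/
theorem exists_pow_ii : ∀ (k : ℕ) (a : ZMod (2 ^ n)), u a ^ 2 ^ k = 1 → u a * u a * (u a * u a) ≠ 1 →
    ∃ m : ℕ, u a ^ (2 * m) = ii n u := by
  intro k
  induction k with
  | zero =>
    intro a ha hne
    exfalso
    apply hne
    rw [pow_zero, pow_one] at ha
    simp [ha]
  | succ k ih =>
    intro a ha hne
    have e2 : u a * u a = u (2 * a) := by rw [h.u_mul, ← two_mul]
    by_cases h4 : u (2 * a) * u (2 * a) * (u (2 * a) * u (2 * a)) = 1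
    · have h5 : u (2 * a) * u (2 * a) = zz n u := by
        rcases sq_sq_eq_one h h4 with h6 | h6
        · exfalso
          apply hne
          rw [e2, h6]
        · exact h6
      rcases four_cases h h5 with h6 | h6 | ⟨b, h6⟩
      · exact ⟨1, by rw [mul_one, pow_two, e2, h6]⟩
      · refine ⟨3, ?_⟩
        have e3 : u a ^ (2 * 3) = (u a * u a) ^ 3 := by rw [← pow_two, ← pow_mul]
        rw [e3, e2, h6]
        have h7 : ii n u ^ 4 = 1 := by
          have : ii n u ^ 4 = ii n u * ii n u * (ii n u * ii n u) := by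
            simp only [pow_succ, pow_zero, one_mul, mul_assoc]
          rw [this, ii_mul_ii h, zz_mul_zz h]
        calc (ii n u)⁻¹ ^ 3 = (ii n u ^ 4)⁻¹ * ii n u := by group
          _ = ii n u := by rw [h7, inv_one, one_mul]
      · exact absurd h6 (h.u_ne _ _)
    · have h5 : u (2 * a) ^ 2 ^ k = 1 := by
        rw [← e2, ← pow_two, ← pow_mul, ← pow_succ']
        exact ha
      obtain ⟨m, hm⟩ := ih (2 * a) h5 h4
      refine ⟨2 * m, ?_⟩
      rw [← e2, ← pow_two, ← pow_mul] at hm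
      exact hm

theorem pow_eq_one (a : ZMod (2 ^ n)) : u (2 * a) ^ 2 ^ (n - 1) = 1 := by
  rw [h.u_pow, ← h.u_zero]
  congr 1
  push_cast
  linear_combination a * two_mul_half n h.one_le

theorem odd_pow_ne_one (a : ZMod (2 ^ n)) : u (2 * a + 1) ^ 2 ^ (n - 1) ≠ 1 := by
  rw [h.u_pow, Ne, h.u_eq_one_iff]
  push_cast
  intro e
  apply half_ne_zero n h.one_le
  linear_combination e - a * two_mul_half n h.one_le

theorem zz_conj_even (a : ZMod (2 ^ n)) : ∃ b, y * u (2 * a) * y⁻¹ = u (2 * b) :=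
  ⟨(2 ^ (n - 1) - 1) * a, by rw [h.y_conj]; congr 1; ring⟩

theorem sylU_comm {a : ZMod (2 ^ n)} {z : W} (hz : ∀ b, z * b = b * z) {g : G} (hg : g ∈ UU h f) :
    g * f (u a, z) = f (u a, z) * g := by
  obtain ⟨c, d, rfl⟩ := (mem_UU h).1 hg
  rw [mk_mul, mk_mul, h.u_mul, h.u_mul, add_comm, hz]

include H

variable [Finite G] {ρ : G} (hρ : Rho h C f ρ)

omit H hρ

/-- An element normalising `U` cannot move `(x, ζ)` to a square of `⟨r⟩`. -/
theorem burnside (hinj : Function.Injective f) {m : G} (hm : ∀ a ∈ UU h f, m * a * m⁻¹ ∈ UU h f) {x : W}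
    {e : ZMod (2 ^ n)} (hmx : m * f (x, zz n u) * m⁻¹ = f (u (2 * e), 1)) : False := by
  have hj : f (u e, 1) ∈ UU h f := f_mem_UU h e 1
  have h1 := SylIn.conj_inv_mem hm hj
  obtain ⟨a, b, hab⟩ := (mem_UU h).1 h1
  -- `b` is central
  have hb : ∀ c, b * c = c * b := by
    intro c
    have h2 := hm _ (f_mem_UU (f := f) h 0 c)
    obtain ⟨a', b', hab'⟩ := (mem_UU h).1 h2
    have h3 : m * f (u 0, c) * m⁻¹ * f (u e, 1) = f (u e, 1) * (m * f (u 0, c) * m⁻¹) := by
      rw [hab', mk_mul, mk_mul, h.u_mul, h.u_mul, add_comm, mul_one, one_mul]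
    have h4 : f (u 0, c) * (m⁻¹ * f (u e, 1) * m) = m⁻¹ * f (u e, 1) * m * f (u 0, c) := by
      have e1 : f (u 0, c) * (m⁻¹ * f (u e, 1) * m) = m⁻¹ * (m * f (u 0, c) * m⁻¹ * f (u e, 1)) * m := by
        group
      have e2 : m⁻¹ * f (u e, 1) * m * f (u 0, c) = m⁻¹ * (f (u e, 1) * (m * f (u 0, c) * m⁻¹)) * m := by
        group
      rw [e1, e2, h3]
    rw [hab, mk_mul, mk_mul] at h4
    exact (Prod.mk.inj (hinj h4)).2.symm
  have hbb : b * b = 1 := by
    rcases center h hb with rfl | rfl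
    · exact one_mul 1
    · exact zz_mul_zz h
  have h2 : m⁻¹ * f (u e, 1) * m * (m⁻¹ * f (u e, 1) * m) = f (x, zz n u) := by
    have e1 : m⁻¹ * f (u e, 1) * m * (m⁻¹ * f (u e, 1) * m) = m⁻¹ * (f (u e, 1) * f (u e, 1)) * m := by
      group
    rw [e1, mk_mul, one_mul, h.u_mul, ← two_mul, ← hmx]
    group
  rw [hab, mk_mul, hbb] at h2
  exact zz_ne_one h (Prod.mk.inj (hinj h2)).2.symm

include H hρ

theorem no_zz {c : G} (hc : c ∈ C) {a : ZMod (2 ^ n)} : c * f (ii n u, 1) * c⁻¹ ≠ f (u a, zz n u) := by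
  intro hcon
  have h1 : c⁻¹ * f (u a, zz n u) * c⁻¹⁻¹ = f (ii n u, 1) := by rw [← hcon]; group
  obtain ⟨m, -, hm2, hm3⟩ := hρ.sylU.move' (inv_mem hc) h1 (hρ.sylU.le.trans inf_le_left) hρ.sylU.two
    (fun g hg => sylU_comm h (zz_comm h) hg)
  rw [ii, ← two_mul_eighth h] at hm2
  exact burnside h H.inj hm3 hm2

/-- Conjugates of `i` in `T`. -/
theorem conj_ii {c : G} (hc : c ∈ C) {p q : W} (hcon : c * f (ii n u, 1) * c⁻¹ = f (p, q)) :
    q = 1 ∧ p * p = zz n u := by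
  -- squares
  have hsq : p * p = zz n u ∧ q * q = 1 := by
    have h1 : c * (f (ii n u, 1) * f (ii n u, 1)) * c⁻¹ = f (p, q) * f (p, q) := by
      rw [cj_mul, hcon]
    rw [mk_mul, mk_mul, ii_mul_ii h, one_mul, H.comm c hc, mul_inv_cancel_right] at h1
    obtain ⟨h2, h3⟩ := H.f_eq h1
    exact ⟨h2.symm, h3.symm⟩
  refine ⟨?_, hsq.1⟩
  -- reduction to `p = i`
  obtain ⟨c', hc', hcon'⟩ : ∃ c' ∈ C, c' * f (ii n u, 1) * c'⁻¹ = f (ii n u, q) := by
    rcases four_cases h hsq.1 with rfl | rfl | ⟨a, rfl⟩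
    · exact ⟨c, hc, hcon⟩
    · refine ⟨f (y, 1) * c, mul_mem (H.mem _) hc, ?_⟩
      rw [← SylIn.conj_conj, hcon, mk_inv, mk_mul, mk_mul, one_mul, inv_one, mul_one, y_conj_ii_inv h]
    · obtain ⟨b, hb⟩ := conj_odd h a
      refine ⟨ρ⁻¹ * (f (u b, 1) * c), mul_mem (inv_mem hρ.mem) (mul_mem (H.mem _) hc), ?_⟩
      rw [← SylIn.conj_conj, ← SylIn.conj_conj, hcon]
      have e1 : f (u b, 1) * f (u (2 * a + 1) * y, q) * (f (u b, 1))⁻¹ = f (u 1 * y, 1) * f (1, q) := by
        rw [mk_inv, mk_mul, mk_mul, hb, mk_mul, one_mul, inv_one, mul_one, mul_one]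
      rw [e1, ← hρ.conj]
      have e2 : ρ⁻¹ * (ρ * f (ii n u, 1) * ρ⁻¹ * f (1, q)) * ρ⁻¹⁻¹ =
          f (ii n u, 1) * (ρ⁻¹ * (f (1, q) * ρ)) := by group
      rw [e2, ← hρ.comm, inv_mul_cancel_left, mk_mul, mul_one, one_mul]
  rcases inv_cases h hsq.2 with rfl | rfl | ⟨a, ha⟩
  · rfl
  · exact absurd hcon' (no_zz h H hρ hc')
  exfalso
  have hq1 : q ≠ 1 := by
    rw [ha, ← h.u_zero]
    exact fun e => h.u_ne _ _ e.symm
  have h1 : c'⁻¹ * f (ii n u, q) * c'⁻¹⁻¹ = f (ii n u, 1) := by rw [← hcon']; group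
  obtain ⟨m, hm1, hm2, hm3⟩ := hρ.sylU.move' (R := f.range ⊓ centralizer {f (ii n u, q)}) (inv_mem hc') h1
    (inf_le_left.trans H.syl.le) (H.syl.two.to_le inf_le_left)
    (fun g hg => mem_centralizer_singleton_iff.1 hg.2)
  have hj : f (u (2 ^ (n - 3)), 1) ∈ f.range ⊓ centralizer {f (ii n u, q)} := by
    refine ⟨⟨_, rfl⟩, mem_centralizer_singleton_iff.2 ?_⟩
    rw [mk_mul, mk_mul, h.u_mul, h.u_mul, add_comm, one_mul, mul_one]
  have h2 := hm3 _ hj
  obtain ⟨a', b', hab'⟩ := (mem_UU h).1 h2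
  -- the conjugate of `i`
  have h3 : m * f (ii n u, 1) * m⁻¹ = f (u (2 * a'), b' * b') := by
    have e1 : f (ii n u, 1) = f (u (2 ^ (n - 3)), 1) * f (u (2 ^ (n - 3)), 1) := by
      rw [mk_mul, h.u_mul, ← two_mul, two_mul_eighth h, one_mul]
    rw [e1, cj_mul, hab', mk_mul, h.u_mul, ← two_mul]
  have h4 : f (zz n u, 1) = f (u (2 * a') * u (2 * a'), b' * b' * (b' * b')) := by
    rw [← mk_mul, ← h3, ← cj_mul, mk_mul, ii_mul_ii h, one_mul, H.comm m hm1, mul_inv_cancel_right]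
  obtain ⟨h5, h6⟩ := H.f_eq h4
  have hb' : b' * b' = 1 := by
    rcases sq_sq_eq_one h h6.symm with h7 | h7
    · exact h7
    · exfalso
      rw [h7] at h3
      exact no_zz h H hρ hm1 h3
  rw [hb'] at h3
  have h7 : m * f (1, q) * m⁻¹ = f (1, 1) ∨ m * f (1, q) * m⁻¹ = f (zz n u, 1) := by
    have e1 : f (1, q) = (f (ii n u, 1))⁻¹ * f (ii n u, q) := by
      rw [mk_inv, mk_mul, inv_mul_cancel, inv_one, one_mul]
    have e2 : m * f (1, q) * m⁻¹ = (f (u (2 * a'), 1))⁻¹ * f (ii n u, 1) := by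
      rw [e1, cj_mul, hm2, ← h3]; group
    rcases four_cases h h5.symm with h8 | h8 | ⟨b, h8⟩
    · left
      rw [e2, h8, inv_mul_cancel]
      exact (map_one f).symm
    · right
      rw [e2, h8, mk_inv, mk_mul, inv_inv, ii_mul_ii h, inv_one, one_mul]
    · exact absurd h8 (h.u_ne _ _)
  rcases h7 with h7 | h7
  · have e1 : f ((1 : W), (1 : W)) = 1 := map_one f
    rw [e1, mul_inv_eq_one] at h7
    have h8 : f (1, q) = f (1, 1) := by
      rw [e1]
      exact mul_eq_left.1 h7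
    exact hq1 (H.f_eq h8).2
  · have h8 : f (1, q) = f (zz n u, 1) := by
      have h9 : m * f (1, q) * m⁻¹ = m * f (zz n u, 1) * m⁻¹ := by
        rw [h7, H.comm m hm1, mul_inv_cancel_right]
      exact conj_inj h9
    exact hq1 (H.f_eq h8).2

/-- Conjugates of a rotation of order at least eight. -/
theorem conj_rot : ∀ (k : ℕ) (a : ZMod (2 ^ n)), u (2 * a) ^ 2 ^ k = 1 →
    u (2 * a) * u (2 * a) * (u (2 * a) * u (2 * a)) ≠ 1 → ∀ c ∈ C, ∀ p q, c * f (u (2 * a), 1) * c⁻¹ = f (p, q) →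
      q = 1 ∧ ∃ b, p = u (2 * b) := by
  intro k
  induction k with
  | zero =>
    intro a ha hne
    exfalso
    apply hne
    rw [pow_zero, pow_one] at ha
    simp [ha]
  | succ k ih =>
    intro a ha hne c hc p q hcon
    -- `q` is an involution
    have hsq : c * f (u (2 * (2 * a)), 1) * c⁻¹ = f (p * p, q * q) := by
      rw [← mk_mul, ← hcon, ← cj_mul, mk_mul, h.u_mul, ← two_mul, one_mul]
    have e4 : u (2 * (2 * a)) = u (2 * a) * u (2 * a) := by rw [h.u_mul, ← two_mul]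
    have hqq : q * q = 1 := by
      by_cases h4 : u (2 * (2 * a)) * u (2 * (2 * a)) * (u (2 * (2 * a)) * u (2 * (2 * a))) = 1
      · have h5 : u (2 * (2 * a)) * u (2 * (2 * a)) = zz n u := by
          rcases sq_sq_eq_one h h4 with h6 | h6
          · exact absurd (by rw [← e4]; exact h6) hne
          · exact h6
        rcases four_cases h h5 with h6 | h6 | ⟨b, h6⟩
        · rw [h6] at hsq
          exact (conj_ii h H hρ hc hsq).1
        · rw [h6] at hsq
          have h7 : c * f (ii n u, 1) * c⁻¹ = f ((p * p)⁻¹, (q * q)⁻¹) := by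
            rw [← mk_inv, ← hsq, ← inv_one, ← mk_inv]
            simp only [inv_one]
            group
          have h8 := (conj_ii h H hρ hc h7).1
          exact inv_eq_one.1 h8
        · exact absurd h6 (h.u_ne _ _)
      · refine (ih (2 * a) ?_ h4 c hc _ _ hsq).1
        rw [e4, ← pow_two, ← pow_mul, ← pow_succ']
        exact ha
    -- `c` normalises `⟨i⟩`
    obtain ⟨m, hm⟩ := exists_pow_ii h (k + 1) (2 * a) ha hne
    have hci : c * f (ii n u, 1) * c⁻¹ = f (p ^ (2 * m), q ^ (2 * m)) := by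
      have e1 : f (ii n u, 1) = f (u (2 * a), 1) ^ (2 * m) := by
        rw [← map_pow, Prod.pow_mk, hm, one_pow]
      rw [e1, conj_pow', hcon, ← map_pow, Prod.pow_mk]
    obtain ⟨hq2, hp2⟩ := conj_ii h H hρ hc hci
    rw [hq2] at hci
    have hp3 : p ^ (2 * m) = ii n u ∨ p ^ (2 * m) = (ii n u)⁻¹ := by
      rcases four_cases h hp2 with h6 | h6 | ⟨b, h6⟩
      · exact Or.inl h6
      · exact Or.inr h6
      · exfalso
        obtain ⟨d, hd⟩ := sq_mem h (p ^ m)
        rw [← pow_add, ← two_mul, h6] at hd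
        exact h.u_ne _ _ hd.symm
    -- adjust `c`
    obtain ⟨c', hc', hci', p', hcon', hpp⟩ : ∃ c' ∈ C, c' * f (ii n u, 1) * c'⁻¹ = f (ii n u, 1) ∧
        ∃ p', c' * f (u (2 * a), 1) * c'⁻¹ = f (p', q) ∧ ((∃ b, p' = u (2 * b)) → ∃ b, p = u (2 * b)) := by
      rcases hp3 with h6 | h6
      · exact ⟨c, hc, by rw [hci, h6], p, hcon, id⟩
      · refine ⟨f (y, 1) * c, mul_mem (H.mem _) hc, ?_, y * p * y⁻¹, ?_, ?_⟩
        · rw [← SylIn.conj_conj, hci, h6, mk_inv, mk_mul, mk_mul, one_mul, inv_one, mul_one, y_conj_ii_inv h]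
        · rw [← SylIn.conj_conj, hcon, mk_inv, mk_mul, mk_mul, one_mul, inv_one, mul_one]
        · rintro ⟨b, hb⟩
          obtain ⟨b', hb'⟩ := zz_conj_even h b
          refine ⟨b', ?_⟩
          rw [← hb', ← hb, h.y_inv]
          have hy := h.y_y
          have e1 : y * (y * p * y) * y = (y * y) * p * (y * y) := by group
          rw [e1, hy, one_mul, mul_one]
    -- `p'` is a rotation
    obtain ⟨b, hb⟩ : ∃ b, p' = u b := by
      have h1 : f (p', q) * f (ii n u, 1) = f (ii n u, 1) * f (p', q) := by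
        rw [← hcon']
        nth_rewrite 1 [← hci']
        nth_rewrite 2 [← hci']
        rw [← cj_mul, ← cj_mul, mk_mul, mk_mul, h.u_mul, h.u_mul, add_comm]
      rw [mk_mul, mk_mul] at h1
      exact comm_ii h (H.f_eq h1).1
    -- and a square
    obtain ⟨e, he⟩ : ∃ e, p' = u (2 * e) := by
      rcases even_or_odd' n b with ⟨e, rfl⟩ | ⟨e, rfl⟩
      · exact ⟨e, hb⟩
      · exfalso
        have h1 : f (p', q) ^ 2 ^ (n - 1) = 1 := by
          rw [← hcon', ← conj_pow', ← map_pow, Prod.pow_mk, pow_eq_one h, one_pow]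
          have e1 : f ((1 : W), (1 : W)) = 1 := map_one f
          rw [e1, mul_one, mul_inv_cancel]
        rw [← map_pow, Prod.pow_mk, ← map_one f] at h1
        have h2 := (Prod.mk.inj (H.inj h1)).1
        rw [hb] at h2
        exact odd_pow_ne_one h e h2
    refine ⟨?_, hpp ⟨e, he⟩⟩
    by_contra hq1
    subst he
    -- the extremal argument
    have hc'N : c'⁻¹ ∈ C ⊓ centralizer ({f (ii n u, 1)} : Set G) := by
      refine inv_mem (mem_inf.2 ⟨hc', mem_centralizer_singleton_iff.2 ?_⟩)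
      exact mul_inv_eq_iff_eq_mul.1 hci'
    have h1 : c'⁻¹ * f (u (2 * e), q) * c'⁻¹⁻¹ = f (u (2 * a), 1) := by rw [← hcon']; group
    obtain ⟨m', hm1, hm2, hm3⟩ := hρ.sylU.move (x := f (u (2 * e), q)) (x' := f (u (2 * a), 1))
      (R := f.range ⊓ (centralizer {f (u (2 * e), q)} ⊓ centralizer {f (ii n u, 1)}))
      (fun g hg => sylU_comm h (fun b => by rw [one_mul, mul_one]) hg) hc'N h1
      (inf_le_inf H.syl.le inf_le_right) (H.syl.two.to_le inf_le_left)
      (fun g hg => mem_centralizer_singleton_iff.1 hg.2.1)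
    have hmC : m' ∈ C := hm1.1
    have hR1 : f (1, q) ∈ f.range ⊓ (centralizer {f (u (2 * e), q)} ⊓ centralizer {f (ii n u, 1)}) := by
      refine ⟨⟨_, rfl⟩, mem_centralizer_singleton_iff.2 ?_, mem_centralizer_singleton_iff.2 ?_⟩
      · rw [mk_mul, mk_mul, one_mul, mul_one]
      · rw [mk_mul, mk_mul, one_mul, mul_one, mul_one, one_mul]
    have hR2 : f (u e, 1) ∈ f.range ⊓ (centralizer {f (u (2 * e), q)} ⊓ centralizer {f (ii n u, 1)}) := by
      refine ⟨⟨_, rfl⟩, mem_centralizer_singleton_iff.2 ?_, mem_centralizer_singleton_iff.2 ?_⟩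
      · rw [mk_mul, mk_mul, h.u_mul, h.u_mul, add_comm, one_mul, mul_one]
      · rw [mk_mul, mk_mul, h.u_mul, h.u_mul, add_comm]
    obtain ⟨s1, s2, hs⟩ := (mem_UU h).1 (hm3 _ hR1)
    have hs1 : u s1 = 1 := H.closed q hqq hq1 m' hmC _ _ hs
    rw [hs1] at hs
    have hs2 : s2 * s2 = 1 ∧ s2 ≠ 1 := by
      constructor
      · have h5 : f (1, s2) * f (1, s2) = 1 := by
          rw [← hs, ← cj_mul, mk_mul, hqq, one_mul]
          have e1 : f ((1 : W), (1 : W)) = 1 := map_one f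
          rw [e1, mul_one, mul_inv_cancel]
        rw [mk_mul, ← map_one f] at h5
        exact (Prod.mk.inj (H.inj h5)).2
      · rintro rfl
        have e1 : f ((1 : W), (1 : W)) = 1 := map_one f
        rw [e1, mul_inv_eq_one] at hs
        have h5 : f (1, q) = f (1, 1) := by
          rw [e1]
          exact mul_eq_left.1 hs
        exact hq1 (H.f_eq h5).2
    obtain ⟨v1, v2, hv⟩ := (mem_UU h).1 (hm3 _ hR2)
    have h6 : m' * f (u (2 * e), 1) * m'⁻¹ = f (u (2 * a), s2⁻¹) := by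
      have e1 : f (u (2 * e), 1) = f (u (2 * e), q) * (f (1, q))⁻¹ := by
        rw [mk_inv, mk_mul, inv_one, mul_one, mul_inv_cancel]
      have e2 : m' * (f (1, q))⁻¹ * m'⁻¹ = (m' * f (1, q) * m'⁻¹)⁻¹ := by group
      rw [e1, cj_mul, hm2, e2, hs, mk_inv, mk_mul, inv_one, mul_one, one_mul]
    have h7 : m' * f (u (2 * e), 1) * m'⁻¹ = f (u (2 * v1), v2 * v2) := by
      have e1 : f (u (2 * e), 1) = f (u e, 1) * f (u e, 1) := by
        rw [mk_mul, h.u_mul, ← two_mul, one_mul]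
      rw [e1, cj_mul, hv, mk_mul, h.u_mul, ← two_mul]
    have h8 : s2⁻¹ = v2 * v2 := by
      rw [h6] at h7
      exact (H.f_eq h7).2
    have h9 : s2⁻¹ = s2 := inv_eq_of_mul_eq_one_left hs2.1
    have h10 : s2 = zz n u := by
      rw [h9] at h8
      have h11 : v2 * v2 * (v2 * v2) = 1 := by rw [← h8]; exact hs2.1
      rcases sq_sq_eq_one h h11 with h12 | h12
      · exact absurd (by rw [h8, h12]) hs2.2
      · rw [h8, h12]
    rw [h9, h10] at h6
    -- Burnside
    have h11 : m'⁻¹ * f (u (2 * a), zz n u) * m'⁻¹⁻¹ = f (u (2 * e), 1) := by rw [← h6]; group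
    obtain ⟨m'', -, hm5, hm6⟩ := hρ.sylU.move (x := f (u (2 * a), zz n u)) (x' := f (u (2 * e), 1))
      (R := UU h f) (fun g hg => sylU_comm h (fun b => by rw [one_mul, mul_one]) hg) (inv_mem hm1) h11
      hρ.sylU.le hρ.sylU.two (fun g hg => sylU_comm h (zz_comm h) hg)
    exact burnside h H.inj hm6 hm5

/-- **`Q₁` is strongly closed in `T` with respect to `C`.** -/
theorem closed_Q {a : W} (ha : a ∈ Q h) {c : G} (hc : c ∈ C) {p q : W} (hcon : c * f (a, 1) * c⁻¹ = f (p, q)) :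
    q = 1 ∧ p ∈ Q h := by
  by_cases h4 : a * a = zz n u
  · obtain ⟨m, hm, hma⟩ : ∃ m ∈ C, m * f (ii n u, 1) * m⁻¹ = f (a, 1) := by
      rcases four_cases h h4 with rfl | rfl | ⟨b, rfl⟩
      · exact ⟨1, one_mem _, by group⟩
      · refine ⟨f (y, 1), H.mem _, ?_⟩
        rw [mk_inv, mk_mul, mk_mul, y_conj_ii h, inv_one, one_mul, mul_one]
      · obtain ⟨d, hd⟩ := conj_odd h b
        refine ⟨(f (u d, 1))⁻¹ * ρ, mul_mem (inv_mem (H.mem _)) hρ.mem, ?_⟩
        rw [← SylIn.conj_conj, hρ.conj, ← hd, mk_inv, mk_mul, mk_inv, mk_mul]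
        congr 2
        · group
        · simp
    have h5 : c * m * f (ii n u, 1) * (c * m)⁻¹ = f (p, q) := by
      rw [← SylIn.conj_conj, hma, hcon]
    obtain ⟨h6, h7⟩ := conj_ii h H hρ (mul_mem hc hm) h5
    exact ⟨h6, mem_Q_of_sq h h7⟩
  · obtain ⟨b, rfl | rfl⟩ := ha
    · by_cases h5 : u (2 * b) * u (2 * b) * (u (2 * b) * u (2 * b)) = 1
      · have h6 : u (2 * b) * u (2 * b) = 1 := by
          rcases sq_sq_eq_one h h5 with h6 | h6
          · exact h6
          · exact absurd h6 h4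
        have h7 : c * f (u (2 * b), 1) * c⁻¹ = f (u (2 * b), 1) := by
          rcases u_sq_eq_one h h6 with h8 | h8
          · rw [h8]
            have e1 : f ((1 : W), (1 : W)) = 1 := map_one f
            rw [e1, mul_one, mul_inv_cancel]
          · rw [h8, H.comm c hc, mul_inv_cancel_right]
        rw [h7] at hcon
        obtain ⟨h8, h9⟩ := H.f_eq hcon
        exact ⟨h9.symm, h8 ▸ ⟨b, Or.inl rfl⟩⟩
      · obtain ⟨h6, d, hd⟩ := conj_rot h H hρ _ b (pow_eq_one h b) h5 c hc p q hcon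
        exact ⟨h6, d, Or.inl hd⟩
    · exact absurd (sq_odd_uy h b) h4

end

end Cfsg.Agent.TypeLFive.CentSDClosed
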