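import Mathlib
import Cfsg.Agent.TypeLFive.CentSDClosed

/-!
# The second factor is strongly closed
-/

set_option autoImplicit false

namespace Cfsg.Agent.TypeLFive.CentSDClosedTwo

open Subgroup Cfsg.Agent.TwoFusion.QDBasic CentSDGroup CentSDTools CentSDClosed

variable {G W : Type*} [Group G] [Group W] {n : ℕ} {u : ZMod (2 ^ n) → W} {y : W} {f : W × W →* G}
  {C : Subgroup G}

/-- The swapped coordinates. -/
def sw (f : W × W →* G) : W × W →* G := f.comp (MulEquiv.prodComm (M := W) (N := W)).toMonoidHom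

theorem sw_apply (a b : W) : sw f (a, b) = f (b, a) := rfl

theorem sw_range : (sw f).range = f.range := by
  ext g
  constructor
  · rintro ⟨⟨a, b⟩, rfl⟩
    exact ⟨(b, a), rfl⟩
  · rintro ⟨⟨a, b⟩, rfl⟩
    exact ⟨(b, a), rfl⟩

section

variable (h : IsQDCoord n u y)

include h

/-- every nontrivial rotation has `ζ` as a power. -/
theorem exists_pow_zz : ∀ (k : ℕ) (a : ZMod (2 ^ n)), u a ^ 2 ^ k = 1 → u a ≠ 1 →
    ∃ m : ℕ, u a ^ m = zz n u := by
  intro k
  induction k with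
  | zero =>
    intro a ha hne
    rw [pow_zero, pow_one] at ha
    exact absurd ha hne
  | succ k ih =>
    intro a ha hne
    have e2 : u a * u a = u (2 * a) := by rw [h.u_mul, ← two_mul]
    by_cases h4 : u a * u a = 1
    · rcases u_sq_eq_one h h4 with h5 | h5
      · exact absurd h5 hne
      · exact ⟨1, by rw [pow_one, h5]⟩
    · have h5 : u (2 * a) ^ 2 ^ k = 1 := by
        rw [← e2, ← pow_two, ← pow_mul, ← pow_succ']
        exact ha
      obtain ⟨m, hm⟩ := ih (2 * a) h5 (by rwa [← e2])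
      refine ⟨2 * m, ?_⟩
      rw [← e2, ← pow_two, ← pow_mul] at hm
      exact hm

theorem u_pow_two_pow (a : ZMod (2 ^ n)) : u a ^ 2 ^ n = 1 := by
  rw [h.u_pow, ← h.u_zero]
  congr 1
  push_cast
  rw [two_pow_eq_zero, zero_mul]

theorem orderOf_u_two : orderOf (u 2) = 2 ^ (n - 1) := by
  obtain ⟨m, rfl⟩ : ∃ m, n = m + 3 := ⟨n - 3, by have := h.three_le; omega⟩
  have e : m + 3 - 1 = (m + 1) + 1 := by omega
  rw [e]
  apply orderOf_eq_prime_pow
  · rw [h.u_pow, h.u_eq_one_iff]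
    push_cast
    rw [← pow_succ]
    exact half_ne_zero (m + 3) (by omega)
  · rw [h.u_pow, h.u_eq_one_iff]
    push_cast
    rw [← pow_succ]
    exact two_pow_eq_zero (m + 3)

theorem u_two_mul_mem (a : ZMod (2 ^ n)) : u (2 * a) ∈ zpowers (u 2) := by
  refine mem_zpowers_iff.2 ⟨(a.val : ℤ), ?_⟩
  rw [zpow_natCast, h.u_pow, ZMod.natCast_zmod_val, mul_comm]

theorem index_Q : (Q h).index = 2 := by
  rw [index_eq_two_iff_exists_notMem_and]
  refine ⟨u (2 * 0) * y, uy_even_notMem_Q h 0, ?_⟩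
  intro b
  rcases h.cases b with ⟨c, rfl⟩ | ⟨c, rfl⟩
  · rcases even_or_odd' n c with ⟨d, rfl⟩ | ⟨d, rfl⟩
    · exact Or.inr ⟨d, Or.inl rfl⟩
    · left
      exact ⟨d, Or.inr (by rw [h.u_mul_uy]; congr 2; ring)⟩
  · rcases even_or_odd' n c with ⟨d, rfl⟩ | ⟨d, rfl⟩
    · left
      exact ⟨d, Or.inl (by rw [h.uy_mul_uy]; congr 1; ring)⟩
    · exact Or.inr ⟨d, Or.inr rfl⟩

variable [Finite G]

/-- Odd order elements of `C` normalising `D₂` centralise it. -/
theorem odd_D (H : Half C f (zz n u)) {g : G} (hg : g ∈ C) (ho : Odd (orderOf g))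
    (hD : ∀ a, a * a = 1 → g * f (1, a) * g⁻¹ ∈ f.range) : ∀ d ∈ D h, g * f (1, d) = f (1, d) * g := by
  -- images of involutions
  have h1 : ∀ a, a * a = 1 → ∃ b ∈ D h, g * f (1, a) * g⁻¹ = f (1, b) := by
    intro a ha
    by_cases ha1 : a = 1
    · refine ⟨1, one_mem _, ?_⟩
      rw [ha1]
      have e1 : f ((1 : W), (1 : W)) = 1 := map_one f
      rw [e1, mul_one, mul_inv_cancel]
    obtain ⟨⟨p, q⟩, hpq⟩ := hD a ha
    have hp := H.closed a ha ha1 g hg p q hpq.symm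
    rw [hp] at hpq
    refine ⟨q, mem_D_of_sq h ?_, hpq.symm⟩
    have h5 : f (1, q) * f (1, q) = 1 := by
      rw [hpq, ← cj_mul, mk_mul, ha, one_mul]
      have e1 : f ((1 : W), (1 : W)) = 1 := map_one f
      rw [e1, mul_one, mul_inv_cancel]
    rw [mk_mul, ← map_one f] at h5
    exact (Prod.mk.inj (H.inj h5)).2
  have h2 : ∀ d ∈ D h, ∃ b ∈ D h, g * f (1, d) * g⁻¹ = f (1, b) := by
    intro d hd
    rw [← closure_D h] at hd
    induction hd using Subgroup.closure_induction with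
    | mem x hx => exact h1 x hx
    | one =>
      refine ⟨1, one_mem _, ?_⟩
      have e1 : f ((1 : W), (1 : W)) = 1 := map_one f
      rw [e1, mul_one, mul_inv_cancel]
    | mul x x' _ _ hx hx' =>
      obtain ⟨b, hb, hb1⟩ := hx
      obtain ⟨b', hb', hb1'⟩ := hx'
      refine ⟨b * b', mul_mem hb hb', ?_⟩
      have e1 : f (1, x * x') = f (1, x) * f (1, x') := by rw [mk_mul, one_mul]
      rw [e1, cj_mul, hb1, hb1', mk_mul, one_mul]
    | inv x _ hx =>
      obtain ⟨b, hb, hb1⟩ := hx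
      refine ⟨b⁻¹, inv_mem hb, ?_⟩
      have e1 : f (1, x⁻¹) = (f (1, x))⁻¹ := by rw [mk_inv, inv_one]
      have e2 : g * (f (1, x))⁻¹ * g⁻¹ = (g * f (1, x) * g⁻¹)⁻¹ := by group
      rw [e1, e2, hb1, mk_inv, inv_one]
  -- the rotations
  have h3 : g * f (1, u 2) = f (1, u 2) * g := by
    have hord : orderOf (f (1, u 2)) = 2 ^ (n - 1) := by
      rw [orderOf_injective f H.inj, Prod.orderOf_mk, orderOf_one, Nat.lcm_one_left, orderOf_u_two h]
    refine commute_of_odd_cyclic ho hord ?_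
    obtain ⟨b, ⟨c, rfl | rfl⟩, hb⟩ := h2 (u 2) ⟨1, Or.inl (by rw [mul_one])⟩
    · rw [hb]
      obtain ⟨k, hk⟩ := mem_zpowers_iff.1 (u_two_mul_mem h c)
      refine mem_zpowers_iff.2 ⟨k, ?_⟩
      rw [← map_zpow, Prod.pow_mk, hk, one_zpow]
    · exfalso
      have h4 : f (1, u 2 * u 2) = 1 := by
        have h5 : g * (f (1, u 2) * f (1, u 2)) * g⁻¹ = 1 := by
          rw [cj_mul, hb, mk_mul, sq_even_uy h, one_mul]
          exact map_one f
        rw [mk_mul, one_mul, mul_inv_eq_one] at h5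
        exact mul_eq_left.1 h5
      rw [← map_one f] at h4
      have h5 := (Prod.mk.inj (H.inj h4)).2
      have h6 : u 2 = zz n u ∨ u 2 = 1 := (u_sq_eq_one h h5).symm
      have h7 := orderOf_u_two h
      have h8 : orderOf (u 2) ∣ 2 := orderOf_dvd_of_pow_eq_one (by rw [pow_two]; exact h5)
      rw [h7] at h8
      have h9 := Nat.le_of_dvd (by norm_num) h8
      have h10 : 2 ^ 2 ≤ 2 ^ (n - 1) := Nat.pow_le_pow_right (by norm_num) (by have := h.three_le; omega)
      omega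
  have h4 : ∀ c, g * f (1, u (2 * c)) = f (1, u (2 * c)) * g := by
    intro c
    obtain ⟨k, hk⟩ := mem_zpowers_iff.1 (u_two_mul_mem h c)
    have e1 : f (1, u (2 * c)) = f (1, u 2) ^ k := by
      rw [← map_zpow, Prod.pow_mk, hk, one_zpow]
    rw [e1]
    exact (Commute.zpow_right h3 k : Commute g _)
  -- the reflections
  have h5 : g * f (1, y) = f (1, y) * g := by
    have hyD : y ∈ D h := ⟨0, Or.inr (by rw [mul_zero, h.u_zero, one_mul])⟩
    obtain ⟨b, ⟨c, hb | hb⟩, hb1⟩ := h2 y hyD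
    · exfalso
      rw [hb, ← (mul_inv_eq_iff_eq_mul.2 (h4 c))] at hb1
      have h6 := (Prod.mk.inj (H.inj (conj_inj hb1))).2
      apply h.u_ne (2 * c) 0
      rw [← h6, h.u_zero, one_mul]
    · rw [hb] at hb1
      have e1 : f (1, u (2 * c) * y) = f (1, u (2 * c)) * f (1, y) := by rw [mk_mul, one_mul]
      rw [e1] at hb1
      have h6 := eq_one_of_odd ho hb1 (h4 c) (k := n) (by
        rw [← map_pow, Prod.pow_mk, u_pow_two_pow h, one_pow]
        exact map_one f)
      rw [h6, one_mul] at hb1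
      exact mul_inv_eq_iff_eq_mul.1 hb1
  rintro d ⟨c, rfl | rfl⟩
  · exact h4 c
  · have e1 : f (1, u (2 * c) * y) = f (1, u (2 * c)) * f (1, y) := by rw [mk_mul, one_mul]
    rw [e1, ← mul_assoc, h4, mul_assoc, h5, mul_assoc]

/-- Odd order elements normalising `W₁ × ⟨r₂⟩` centralise it. -/
theorem odd_U {C' : Subgroup G} (H : Half C f (zz n u)) (H' : Half C' (sw f) (zz n u)) {g : G} (hg : g ∈ C)
    (hg' : g ∈ C') (ho : Odd (orderOf g)) (hU : ∀ a ∈ UU h (sw f), g * a * g⁻¹ ∈ UU h (sw f)) :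
    ∀ a ∈ UU h (sw f), g * a = a * g := by
  have hUT : UU h (sw f) ≤ (sw f).range := UU_le h
  have h1 : ∀ d ∈ D h, g * f (d, 1) = f (d, 1) * g := by
    intro d hd
    refine odd_D h H' hg' ho ?_ d hd
    intro a _
    refine hUT (hU _ ?_)
    rw [sw_apply]
    have := f_mem_UU (f := sw f) h 0 a
    rwa [sw_apply, h.u_zero] at this
  have hconj : ∀ {a : G}, g * a = a * g → g * a * g⁻¹ = a := fun e => mul_inv_eq_iff_eq_mul.2 e
  -- the rotation of the second factor
  have hcent : ∀ c, ∃ z0 d, (z0 = 1 ∨ z0 = zz n u) ∧ g * f (1, u c) * g⁻¹ = f (z0, u d) := by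
    intro c
    have h2 : f (1, u c) ∈ UU h (sw f) := by
      have := f_mem_UU (f := sw f) h c 1
      rwa [sw_apply] at this
    obtain ⟨d, z0, hd⟩ := (mem_UU h).1 (hU _ h2)
    rw [sw_apply] at hd
    refine ⟨z0, d, center h ?_, hd⟩
    intro b
    have h3 : f (b, u 0) ∈ UU h (sw f) := f_mem_UU (f := sw f) h 0 b
    have h4 := SylIn.conj_inv_mem hU h3
    obtain ⟨e, b', he⟩ := (mem_UU h).1 h4
    rw [sw_apply] at he
    have h5 : f (z0, u d) * f (b, u 0) = f (b, u 0) * f (z0, u d) := by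
      have e1 : f (b, u 0) = g * f (b', u e) * g⁻¹ := by rw [← he]; group
      rw [← hd, e1, ← cj_mul, ← cj_mul, mk_mul, mk_mul, h.u_mul, h.u_mul, add_comm, one_mul, mul_one]
    rw [mk_mul, mk_mul] at h5
    exact (Prod.mk.inj (H.inj h5)).1
  have h2 : g * f (1, u 2) = f (1, u 2) * g := by
    have hord : orderOf (f (1, u 2)) = 2 ^ (n - 1) := by
      rw [orderOf_injective f H.inj, Prod.orderOf_mk, orderOf_one, Nat.lcm_one_left, orderOf_u_two h]
    refine commute_of_odd_cyclic ho hord ?_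
    obtain ⟨z0, d, hz0, hd⟩ := hcent 1
    have e1 : f (1, u 2) = f (1, u 1) * f (1, u 1) := by
      rw [mk_mul, one_mul, h.u_mul]; norm_num
    have e2 : z0 * z0 = 1 := by
      rcases hz0 with rfl | rfl
      · exact one_mul 1
      · exact zz_mul_zz h
    have e3 : g * f (1, u 2) * g⁻¹ = f (1, u (2 * d)) := by
      rw [e1, cj_mul, hd, mk_mul, e2, h.u_mul, ← two_mul]
    rw [e3]
    obtain ⟨k, hk⟩ := mem_zpowers_iff.1 (u_two_mul_mem h d)
    refine mem_zpowers_iff.2 ⟨k, ?_⟩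
    rw [← map_zpow, Prod.pow_mk, hk, one_zpow]
  have h3 : g * f (1, u 1) = f (1, u 1) * g := by
    obtain ⟨z0, d, hz0, hd⟩ := hcent 1
    have e1 : f (z0, u d) = f (z0, u (d - 1)) * f (1, u 1) := by
      rw [mk_mul, mul_one, h.u_mul, sub_add_cancel]
    have h4 : f (1, u 2) = f (z0 * z0, u d * u d) := by
      have e2 : f (1, u 2) = f (1, u 1) * f (1, u 1) := by
        rw [mk_mul, one_mul, h.u_mul]; norm_num
      rw [← mk_mul, ← hd, ← cj_mul, ← e2, hconj h2]
    have h5 : 2 * (d - 1) = 0 := by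
      have h6 := (H.f_eq h4).2
      rw [h.u_mul, h.u_eq_iff] at h6
      linear_combination (-1 : ZMod (2 ^ n)) * h6
    rw [two_mul_eq_zero_iff n h.one_le] at h5
    have h6 : g * f (z0, u (d - 1)) = f (z0, u (d - 1)) * g := by
      have e2 : f (z0, u (d - 1)) = f (z0, 1) * f (1, u (d - 1)) := by rw [mk_mul, mul_one, one_mul]
      have h7 : Commute g (f (z0, 1)) := by
        rcases hz0 with rfl | rfl
        · have e1 : f ((1 : W), (1 : W)) = 1 := map_one f
          rw [e1]; exact Commute.one_right g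
        · exact H.comm g hg
      have h8 : Commute g (f (1, u (d - 1))) := by
        rcases h5 with h5 | h5
        · rw [h5, h.u_zero]
          have e1 : f ((1 : W), (1 : W)) = 1 := map_one f
          rw [e1]; exact Commute.one_right g
        · rw [h5]
          exact H'.comm g hg'
      rw [e2]
      exact h7.mul_right h8
    rw [e1] at hd
    have h7 := eq_one_of_odd ho hd h6 (k := 1) (by
      rw [← map_pow, Prod.pow_mk, pow_one, pow_two, pow_two, h.u_mul, ← two_mul]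
      have e3 : z0 * z0 = 1 := by
        rcases hz0 with rfl | rfl
        · exact one_mul 1
        · exact zz_mul_zz h
      have e4 : 2 * (d - 1) = 0 := by
        rcases h5 with h5 | h5
        · rw [h5, mul_zero]
        · rw [h5, two_mul_half n h.one_le]
      rw [e3, e4, h.u_zero]
      exact map_one f)
    rw [h7, one_mul] at hd
    exact mul_inv_eq_iff_eq_mul.1 hd
  have h4 : ∀ c, g * f (1, u c) = f (1, u c) * g := by
    intro c
    have e1 : f (1, u c) = f (1, u 1) ^ c.val := by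
      rw [← map_pow, Prod.pow_mk, one_pow, ← h.u_eq_pow]
    rw [e1]
    exact (Commute.pow_right h3 _ : Commute g _)
  have h5 : ∀ d ∈ D h, ∀ c, g * f (d, u c) = f (d, u c) * g := by
    intro d hd c
    have e1 : f (d, u c) = f (d, 1) * f (1, u c) := by rw [mk_mul, mul_one, one_mul]
    rw [e1]
    exact (Commute.mul_right (h1 d hd) (h4 c) : Commute g _)
  -- the rotation of the first factor
  have h6 : g * f (u 1, 1) = f (u 1, 1) * g := by
    have h7 : f (u 1, 1) ∈ UU h (sw f) := by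
      have := f_mem_UU (f := sw f) h 0 (u 1)
      rwa [sw_apply, h.u_zero] at this
    obtain ⟨c', a', ha'⟩ := (mem_UU h).1 (hU _ h7)
    rw [sw_apply] at ha'
    have h8 : a' ∉ D h := by
      intro hD
      have h9 := h5 a' hD c'
      have h10 : g * f (u 1, 1) * g⁻¹ = g * f (a', u c') * g⁻¹ := by
        rw [ha', hconj h9]
      have h11 := (H.f_eq (conj_inj h10)).1
      rw [← h11] at hD
      obtain ⟨b, e | e⟩ := hD
      · rw [h.u_eq_iff] at e
        exact two_mul_ne_two_mul_add_one n h.one_le b 0 (by rw [← e]; ring)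
      · exact h.u_ne _ _ e
    have h9 : a' * u (-1) ∈ D h := by
      rcases h.cases a' with ⟨b, rfl⟩ | ⟨b, rfl⟩
      · rcases even_or_odd' n b with ⟨e, rfl⟩ | ⟨e, rfl⟩
        · exact absurd ⟨e, Or.inl rfl⟩ h8
        · exact ⟨e, Or.inl (by rw [h.u_mul]; congr 1; ring)⟩
      · rcases even_or_odd' n b with ⟨e, rfl⟩ | ⟨e, rfl⟩
        · exact absurd ⟨e, Or.inr rfl⟩ h8
        · refine ⟨e + 1 - 2 ^ (n - 2), Or.inr ?_⟩
          rw [h.uy_mul_u]
          congr 2
          linear_combination two_mul_quarter h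
    have e1 : f (a', u c') = f (a' * u (-1), u c') * f (u 1, 1) := by
      rw [mk_mul, mul_one, mul_assoc, h.u_mul, neg_add_cancel, h.u_zero, mul_one]
    rw [e1] at ha'
    obtain ⟨k, hk⟩ := H.syl.two ⟨f (a' * u (-1), u c'), ⟨_, rfl⟩⟩
    have h10 := eq_one_of_odd ho ha' (h5 _ h9 c') (k := k) (congrArg Subtype.val hk)
    rw [h10, one_mul] at ha'
    exact mul_inv_eq_iff_eq_mul.1 ha'
  -- all of `U`
  intro a ha
  obtain ⟨c, b, rfl⟩ := (mem_UU h).1 ha
  rw [sw_apply]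
  have key : ∀ b, g * f (b, 1) = f (b, 1) * g := by
    intro b
    have h7 : ∀ e, g * f (u (2 * e + 1), 1) = f (u (2 * e + 1), 1) * g := by
      intro e
      have e1 : f (u (2 * e + 1), 1) = f (u (2 * e), 1) * f (u 1, 1) := by
        rw [mk_mul, h.u_mul, mul_one]
      rw [e1]
      exact (Commute.mul_right (h1 _ ⟨e, Or.inl rfl⟩) h6 : Commute g _)
    rcases h.cases b with ⟨e, rfl⟩ | ⟨e, rfl⟩
    · rcases even_or_odd' n e with ⟨d, rfl⟩ | ⟨d, rfl⟩
      · exact h1 _ ⟨d, Or.inl rfl⟩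
      · exact h7 d
    · rcases even_or_odd' n e with ⟨d, rfl⟩ | ⟨d, rfl⟩
      · exact h1 _ ⟨d, Or.inr rfl⟩
      · have e1 : f (u (2 * d + 1) * y, 1) = f (u (2 * d + 1), 1) * f (y, 1) := by
          rw [mk_mul, mul_one]
        rw [e1]
        exact (Commute.mul_right (h7 d)
          (h1 _ ⟨0, Or.inr (by rw [mul_zero, h.u_zero, one_mul])⟩) : Commute g _)
  have e1 : f (b, u c) = f (b, 1) * f (1, u c) := by rw [mk_mul, mul_one, one_mul]
  rw [e1]
  exact (Commute.mul_right (key b) (h4 c) : Commute g _)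

/-- **`W₂` is strongly closed in `T` with respect to `C`.** -/
theorem closed_W {C' : Subgroup G} (H : Half C f (zz n u)) (H' : Half C' (sw f) (zz n u))
    (hC' : ∀ c ∈ C, c * f (1, zz n u) = f (1, zz n u) * c → c ∈ C') {ρ' : G} (hρ' : Rho h C' (sw f) ρ')
    {b : W} {c : G} (hc : c ∈ C) {p q : W} (hcon : c * f (1, b) * c⁻¹ = f (p, q)) : p = 1 := by
  have e11 : f ((1 : W), (1 : W)) = 1 := map_one f
  by_cases hbb : b * b = 1
  · by_cases hb1 : b = 1
    · rw [hb1, e11, mul_one, mul_inv_cancel, ← map_one f] at hcon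
      exact (Prod.mk.inj (H.inj hcon)).1.symm
    · exact H.closed b hbb hb1 c hc p q hcon
  -- `c` centralises `ζ₂`
  have hcC' : c ∈ C' := by
    obtain ⟨a, ha⟩ := sq_mem h b
    obtain ⟨m, hm⟩ := exists_pow_zz h n (2 * a) (u_pow_two_pow h _) (by rw [← ha]; exact hbb)
    rw [← ha, ← pow_two, ← pow_mul] at hm
    have h1 : c * f (1, zz n u) * c⁻¹ = f (p ^ (2 * m), q ^ (2 * m)) := by
      have e1 : f (1, zz n u) = f (1, b) ^ (2 * m) := by
        rw [← map_pow, Prod.pow_mk, hm, one_pow]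
      rw [e1, conj_pow', hcon, ← map_pow, Prod.pow_mk]
    have h2 := H.closed _ (zz_mul_zz h) (zz_ne_one h) c hc _ _ h1
    rw [h2] at h1
    have h3 : q ^ (2 * m) * q ^ (2 * m) = 1 := by
      have h4 : f (1, q ^ (2 * m)) * f (1, q ^ (2 * m)) = 1 := by
        rw [← h1, ← cj_mul, mk_mul, zz_mul_zz h, one_mul, e11, mul_one, mul_inv_cancel]
      rw [mk_mul, ← map_one f] at h4
      exact (Prod.mk.inj (H.inj h4)).2
    have h5 : q ^ (2 * m) = q ^ m * q ^ m := by rw [← pow_add, ← two_mul]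
    have h6 : q ^ (2 * m) = zz n u := by
      rw [h5] at h3
      rcases sq_sq_eq_one h h3 with h7 | h7
      · exfalso
        rw [h5, h7, e11, mul_inv_eq_one] at h1
        have h8 : f (1, zz n u) = f (1, 1) := by
          rw [e11]
          exact mul_eq_left.1 h1
        exact zz_ne_one h (H.f_eq h8).2
      · rw [h5, h7]
    rw [h6] at h1
    exact hC' c hc (mul_inv_eq_iff_eq_mul.1 h1)
  have hC'2 : ∀ g ∈ C', ∀ (a b p q : W), g * f (a, b) * g⁻¹ = f (p, q) → g * sw f (b, a) * g⁻¹ = sw f (q, p) :=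
    fun _ _ _ _ _ _ e => e
  by_cases hbQ : b ∈ Q h
  · exact (closed_Q h H' hρ' hbQ hcC' (hC'2 c hcC' _ _ _ _ hcon)).1
  obtain ⟨a, rfl⟩ : ∃ a, b = u (2 * a + 1) := by
    rcases h.cases b with ⟨d, rfl⟩ | ⟨d, rfl⟩
    · rcases even_or_odd' n d with ⟨e, rfl⟩ | ⟨e, rfl⟩
      · exact absurd ⟨e, Or.inl rfl⟩ hbQ
      · exact ⟨e, rfl⟩
    · rcases even_or_odd' n d with ⟨e, rfl⟩ | ⟨e, rfl⟩
      · exact absurd (sq_even_uy h e) hbb
      · exact absurd ⟨e, Or.inr rfl⟩ hbQ
  -- `p` is an involution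
  have hpp : p * p = 1 := by
    have h1 : c * f (1, u (2 * (2 * a + 1))) * c⁻¹ = f (p * p, q * q) := by
      have e1 : f (1, u (2 * (2 * a + 1))) = f (1, u (2 * a + 1)) * f (1, u (2 * a + 1)) := by
        rw [mk_mul, one_mul, h.u_mul, ← two_mul]
      rw [e1, cj_mul, hcon, mk_mul]
    exact (closed_Q h H' hρ' ⟨_, Or.inl rfl⟩ hcC' (hC'2 c hcC' _ _ _ _ h1)).1
  -- transfer in `M = C ∩ C'`
  have hTC' : f.range ≤ C' := by
    have := H'.syl.le
    rwa [sw_range] at this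
  have hTM : SylIn f.range (C ⊓ C') := H.syl.mono (le_inf H.syl.le hTC') inf_le_left
  have hp1 : p = 1 ∨ p = zz n u := by
    rcases inv_cases h hpp with h1 | h1 | ⟨d, hd⟩
    · exact Or.inl h1
    · exact Or.inr h1
    exfalso
    set K : Subgroup G := ((Q h).prod ⊤).map f with hK
    have hKmem : ∀ a b, f (a, b) ∈ K ↔ a ∈ Q h := by
      intro a b
      constructor
      · rintro ⟨⟨a', b'⟩, ⟨h1, -⟩, h2⟩
        have h3 := (Prod.mk.inj (H.inj h2)).1
        rw [← h3]; exact h1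
      · intro h1
        exact ⟨(a, b), ⟨h1, trivial⟩, rfl⟩
    have hKi : K.relIndex f.range = 2 := by
      rw [hK, MonoidHom.range_eq_map, relIndex_map_map_of_injective _ _ H.inj, relIndex_top_right,
        index_prod, index_Q h, index_top]
    obtain ⟨V, hV⟩ := hTM.transfer K hKi
    -- the value on the reflections of `W₁`
    have h1 : ¬ V ⟨f (p, 1), hTM.le ⟨_, rfl⟩⟩ = 1 := by
      rw [hV (f (p, 1)) ⟨_, rfl⟩]
      · rw [hKmem, hd]
        exact uy_even_notMem_Q h d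
      · intro k g hg hgT
        rcases Nat.even_or_odd' k with ⟨j, rfl | rfl⟩
        · have e1 : f (p, 1) ^ (2 * j) = 1 := by
            rw [pow_mul, pow_two, mk_mul, hpp, one_mul, e11, one_pow]
          rw [e1, mul_one, mul_inv_cancel]
        · have e1 : f (p, 1) ^ (2 * j + 1) = f (p, 1) := by
            rw [pow_succ, pow_mul, pow_two, mk_mul, hpp, one_mul, e11, one_pow, one_mul]
          rw [e1] at hgT ⊢
          obtain ⟨⟨p', q'⟩, hpq⟩ := hgT
          have hp1 : p ≠ 1 := by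
            rw [hd, ← h.u_zero]
            exact fun e => h.u_ne _ _ e.symm
          have hq' : q' = 1 := H'.closed p hpp hp1 g hg.2 q' p' hpq.symm
          subst hq'
          rw [← hpq, hKmem, hKmem]
          refine iff_of_false ?_ (by rw [hd]; exact uy_even_notMem_Q h d)
          have hpp' : p' * p' = 1 := by
            have h5 : f (p', 1) * f (p', 1) = 1 := by
              rw [hpq, ← cj_mul, mk_mul, hpp, one_mul, e11, mul_one, mul_inv_cancel]
            rw [mk_mul, ← map_one f] at h5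
            exact (Prod.mk.inj (H.inj h5)).1
          rcases inv_cases h hpp' with h6 | h6 | ⟨d', h6⟩
          · exfalso
            rw [h6, e11, eq_comm, mul_inv_eq_one] at hpq
            have h8 : f (p, 1) = f (1, 1) := by
              rw [e11]
              exact mul_eq_left.1 hpq
            exact hp1 (H.f_eq h8).1
          · exfalso
            rw [h6] at hpq
            have h7 : g * f (zz n u, 1) * g⁻¹ = g * f (p, 1) * g⁻¹ := by
              rw [← hpq, H.comm g hg.1, mul_inv_cancel_right]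
            have h8 := (H.f_eq (conj_inj h7)).1
            rw [hd] at h8
            exact h.u_ne _ _ h8
          · rw [h6]
            exact uy_even_notMem_Q h d'
    -- the value on `W₂`
    have hVQ : ∀ q' ∈ Q h, V ⟨f (1, q'), hTM.le ⟨_, rfl⟩⟩ = 1 := by
      intro q' hq'
      rw [hV (f (1, q')) ⟨_, rfl⟩]
      · rw [hKmem]; exact one_mem _
      · intro k g hg hgT
        obtain ⟨⟨p1, q1⟩, hpq⟩ := hgT
        rw [← map_pow, Prod.pow_mk, one_pow] at hpq ⊢
        have h2 : p1 = 1 := (closed_Q h H' hρ' (pow_mem hq' k) hg.2 (hC'2 g hg.2 _ _ _ _ hpq.symm)).1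
        rw [← hpq, h2, hKmem, hKmem]
    have hVI : ∀ q', q' * q' = 1 → V ⟨f (1, q'), hTM.le ⟨_, rfl⟩⟩ = 1 := by
      intro q' hq'
      rw [hV (f (1, q')) ⟨_, rfl⟩]
      · rw [hKmem]; exact one_mem _
      · intro k g hg hgT
        rcases Nat.even_or_odd' k with ⟨j, rfl | rfl⟩
        · have e1 : f (1, q') ^ (2 * j) = 1 := by
            rw [pow_mul, pow_two, mk_mul, hq', one_mul, e11, one_pow]
          rw [e1, mul_one, mul_inv_cancel]
        · have e1 : f (1, q') ^ (2 * j + 1) = f (1, q') := by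
            rw [pow_succ, pow_mul, pow_two, mk_mul, hq', one_mul, e11, one_pow, one_mul]
          rw [e1] at hgT ⊢
          by_cases hq1 : q' = 1
          · rw [hq1, e11, mul_one, mul_inv_cancel]
          obtain ⟨⟨p1, q1⟩, hpq⟩ := hgT
          have h2 : p1 = 1 := H.closed q' hq' hq1 g hg.1 p1 q1 hpq.symm
          rw [← hpq, h2, hKmem, hKmem]
    have hVmul : ∀ a b, V ⟨f (1, a * b), hTM.le ⟨_, rfl⟩⟩ =
        V ⟨f (1, a), hTM.le ⟨_, rfl⟩⟩ * V ⟨f (1, b), hTM.le ⟨_, rfl⟩⟩ := by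
      intro a b
      rw [← map_mul]
      congr 1
      apply Subtype.ext
      change f (1, a * b) = f (1, a) * f (1, b)
      rw [mk_mul, one_mul]
    have hVW : ∀ b, V ⟨f (1, b), hTM.le ⟨_, rfl⟩⟩ = 1 := by
      intro b
      obtain ⟨d1, hd1, q1, hq1, rfl⟩ := exists_mul_DQ h b
      rw [hVmul, hVQ q1 hq1, mul_one]
      obtain ⟨e, rfl | rfl⟩ := hd1
      · exact hVQ _ ⟨e, Or.inl rfl⟩
      · exact hVI _ (sq_even_uy h e)
    -- compare
    have hcM : c ∈ C ⊓ C' := ⟨hc, hcC'⟩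
    have h2 : V ⟨f (p, q), hTM.le ⟨_, rfl⟩⟩ = 1 := by
      have h3 : (⟨f (p, q), hTM.le ⟨_, rfl⟩⟩ : (C ⊓ C' : Subgroup G)) =
          ⟨c, hcM⟩ * ⟨f (1, u (2 * a + 1)), hTM.le ⟨_, rfl⟩⟩ * (⟨c, hcM⟩)⁻¹ := by
        apply Subtype.ext
        exact hcon.symm
      rw [h3, map_mul, map_mul, hVW, map_inv, mul_one, mul_inv_cancel]
    have h3 : (⟨f (p, q), hTM.le ⟨_, rfl⟩⟩ : (C ⊓ C' : Subgroup G)) =
        ⟨f (p, 1), hTM.le ⟨_, rfl⟩⟩ * ⟨f (1, q), hTM.le ⟨_, rfl⟩⟩ := by
      apply Subtype.ext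
      change f (p, q) = f (p, 1) * f (1, q)
      rw [mk_mul, mul_one, one_mul]
    rw [h3, map_mul, hVW, mul_one] at h2
    exact h1 h2
  -- exclusion of `p = ζ`
  rcases hp1 with hp1 | hp1
  · exact hp1
  exfalso
  subst hp1
  -- `q` is a rotation
  have hqpow : q ^ 2 ^ (n - 1) ≠ 1 := by
    intro e
    have h1 : f (zz n u, q) ^ 2 ^ (n - 1) = 1 := by
      obtain ⟨m, hm⟩ : ∃ m, 2 ^ (n - 1) = 2 * m :=
        ⟨2 ^ (n - 2), by rw [← pow_succ']; congr 1; have := h.three_le; omega⟩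
      rw [← map_pow, Prod.pow_mk, e, hm, pow_mul, pow_two, zz_mul_zz h, one_pow, e11]
    rw [← hcon, ← conj_pow', ← map_pow, Prod.pow_mk, one_pow, mul_inv_eq_one] at h1
    have h2 : f (1, u (2 * a + 1) ^ 2 ^ (n - 1)) = f (1, 1) := by
      rw [e11]
      exact mul_eq_left.1 h1
    exact odd_pow_ne_one h a (H.f_eq h2).2
  obtain ⟨d, rfl⟩ : ∃ d, q = u (2 * d + 1) := by
    rcases h.cases q with ⟨e, rfl⟩ | ⟨e, rfl⟩
    · rcases even_or_odd' n e with ⟨d, rfl⟩ | ⟨d, rfl⟩
      · exact absurd (pow_eq_one h d) hqpow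
      · exact ⟨d, rfl⟩
    · exfalso
      apply hqpow
      obtain ⟨m, hm⟩ : ∃ m, 2 ^ (n - 1) = 2 * 2 * m := by
        refine ⟨2 ^ (n - 3), ?_⟩
        have h3 := h.three_le
        have e1 : n - 1 = (n - 3) + 2 := by omega
        rw [e1, pow_add]; ring
      rw [hm, pow_mul, pow_mul, pow_two, pow_two, uy_mul_self h, h.u_mul, ← two_mul]
      have e1 : (2 : ZMod (2 ^ n)) * (2 ^ (n - 1) * e) = 0 := by
        linear_combination e * two_mul_half n h.one_le
      rw [e1, h.u_zero, one_pow]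
  -- `W₁ × ⟨r₂⟩` is a Sylow subgroup of `C_M(f (ζ, q))`
  obtain ⟨k, hk⟩ := exists_pow_ii h n (2 * d + 1) (u_pow_two_pow h _) (by
    intro e
    apply hqpow
    obtain ⟨m, hm⟩ : ∃ m, 2 ^ (n - 1) = 2 * 2 * m := by
      refine ⟨2 ^ (n - 3), ?_⟩
      have h3 := h.three_le
      have e1 : n - 1 = (n - 3) + 2 := by omega
      rw [e1, pow_add]; ring
    rw [hm, pow_mul, pow_mul, pow_two, pow_two, e, one_pow])
  have hU1 : ∀ g ∈ UU h (sw f), g * f (zz n u, u (2 * d + 1)) = f (zz n u, u (2 * d + 1)) * g := by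
    intro g hg
    obtain ⟨c1, c2, rfl⟩ := (mem_UU h).1 hg
    rw [sw_apply, mk_mul, mk_mul, h.u_mul, h.u_mul, add_comm, zz_comm h]
  have hU2 : ∀ g ∈ UU h (sw f), g * f (1, u (2 * a + 1)) = f (1, u (2 * a + 1)) * g := by
    intro g hg
    obtain ⟨c1, c2, rfl⟩ := (mem_UU h).1 hg
    rw [sw_apply, mk_mul, mk_mul, h.u_mul, h.u_mul, add_comm, one_mul, mul_one]
  have hUM : UU h (sw f) ≤ C ⊓ C' := by
    refine le_inf ?_ (hρ'.sylU.le.trans inf_le_left)
    refine (UU_le h).trans ?_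
    rw [sw_range]
    exact H.syl.le
  have hSyl : SylIn (UU h (sw f)) ((C ⊓ C') ⊓ centralizer ({f (zz n u, u (2 * d + 1))} : Set G)) := by
    refine hρ'.sylU.mono (le_inf hUM fun g hg => mem_centralizer_singleton_iff.2 (hU1 g hg)) ?_
    rintro g ⟨hg1, hg2⟩
    refine ⟨hg1.2, mem_centralizer_singleton_iff.2 ?_⟩
    have hg3 : Commute g (f (zz n u, u (2 * d + 1))) := mem_centralizer_singleton_iff.1 hg2
    have hg4 := hg3.pow_right (2 * k)
    rw [← map_pow, Prod.pow_mk, hk, pow_mul, pow_two, zz_mul_zz h, one_pow] at hg4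
    exact hg4
  obtain ⟨m, hm1, hm2, hm3⟩ := hSyl.move' (c := c) (x := f (1, u (2 * a + 1))) ⟨hc, hcC'⟩ hcon
    (R := UU h (sw f)) hUM hρ'.sylU.two hU2
  -- `m` is in `T C(U)`
  have hTU : ∀ g ∈ f.range, ∀ x ∈ UU h (sw f), g * x * g⁻¹ ∈ UU h (sw f) := by
    rintro _ ⟨⟨a1, b1⟩, rfl⟩ x hx
    obtain ⟨c1, c2, rfl⟩ := (mem_UU h).1 hx
    rw [sw_apply, mk_mul, mk_inv, mk_mul]
    rcases h.cases b1 with ⟨e, rfl⟩ | ⟨e, rfl⟩
    · rw [h.u_conj_u]
      exact f_mem_UU (f := sw f) h _ _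
    · rw [h.uy_conj_u]
      exact f_mem_UU (f := sw f) h _ _
  have hTN : SylIn f.range ((C ⊓ C') ⊓ normalizer (UU h (sw f) : Set G)) := by
    refine hTM.mono (le_inf hTM.le fun g hg => ?_) inf_le_left
    rw [mem_normalizer_iff]
    intro x
    refine ⟨hTU g hg x, fun hx => ?_⟩
    have := hTU g⁻¹ (inv_mem hg) _ hx
    have e1 : g⁻¹ * (g * x * g⁻¹) * g⁻¹⁻¹ = x := by group
    rwa [e1] at this
  have hmN : m ∈ (C ⊓ C') ⊓ normalizer (UU h (sw f) : Set G) := by
    refine mem_inf.2 ⟨hm1, mem_normalizer_iff.2 ?_⟩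
    intro x
    refine ⟨hm3 x, fun hx => ?_⟩
    have := SylIn.conj_inv_mem hm3 hx
    have e1 : m⁻¹ * (m * x * m⁻¹) * m = x := by group
    rwa [e1] at this
  obtain ⟨τ, hτ, a0, ha0, hma⟩ := hTN.exists_mul ((C ⊓ C') ⊓ centralizer (UU h (sw f) : Set G))
    (by
      rintro g ⟨hg1, hg2⟩ x ⟨hx1, hx2'⟩
      have hx2 := mem_centralizer_iff.1 hx2'
      refine mem_inf.2 ⟨(C ⊓ C').mul_mem ((C ⊓ C').mul_mem hg1 hx1) ((C ⊓ C').inv_mem hg1),
        mem_centralizer_iff.2 ?_⟩
      intro v hv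
      have h3 := hx2 (g⁻¹ * v * g) (by
        have := (mem_normalizer_iff.1 ((normalizer (UU h (sw f) : Set G)).inv_mem hg2) v).1 hv
        rwa [inv_inv] at this)
      have e1 : v * (g * x * g⁻¹) = g * (g⁻¹ * v * g * x) * g⁻¹ := by group
      have e2 : g * x * g⁻¹ * v = g * (x * (g⁻¹ * v * g)) * g⁻¹ := by group
      rw [e1, e2, h3])
    (by
      rintro g ⟨hg1, hg2⟩ hgo
      refine mem_inf.2 ⟨hg1, mem_centralizer_iff.2 ?_⟩
      intro v hv
      exact (odd_U h H H' hg1.1 hg1.2 hgo (fun x hx => (mem_normalizer_iff.1 hg2 x).1 hx) v hv).symm)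
    hmN
  have h3 : a0 * f (1, u (2 * a + 1)) * a0⁻¹ = f (1, u (2 * a + 1)) := by
    have h4 := mem_centralizer_iff.1 ha0.2 (f (1, u (2 * a + 1))) (f_mem_UU (f := sw f) h _ 1)
    rw [← h4, mul_inv_cancel_right]
  rw [hma, ← SylIn.conj_conj, h3] at hm2
  obtain ⟨⟨τ1, τ2⟩, rfl⟩ := hτ
  rw [mk_mul, mk_inv, mk_mul, mul_one, mul_inv_cancel] at hm2
  exact zz_ne_one h (H.f_eq hm2).1.symm

end

end Cfsg.Agent.TypeLFive.CentSDClosedTwo
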