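import Mathlib
import Cfsg.Agent.TypeLFive.CentSDClosedTwo

/-!
# The element `ρ₁`

If `(r s, 1)` is conjugate in `C` to `(i, z)`, `z` central, by an element moving `W₂` into `T`, then there is an element
`ρ` of `C` centralising `W₂` and moving `(i, 1)` to `(r s, z')`, `z'` central.
-/

set_option autoImplicit false

namespace Cfsg.Agent.TypeLFive.CentSDRho

open Subgroup Cfsg.Agent.TwoFusion.QDBasic CentSDGroup CentSDTools CentSDClosed CentSDClosedTwo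

variable {G W : Type*} [Group G] [Group W] {n : ℕ} {u : ZMod (2 ^ n) → W} {y : W} {f : W × W →* G}
  {C : Subgroup G}

/-- `D₂`. -/
def DD (h : IsQDCoord n u y) (f : W × W →* G) : Subgroup G := ((⊥ : Subgroup W).prod (D h)).map f

theorem mem_DD (h : IsQDCoord n u y) {g : G} : g ∈ DD h f ↔ ∃ d ∈ D h, g = f (1, d) := by
  constructor
  · rintro ⟨⟨a, b⟩, ⟨ha, hb⟩, rfl⟩
    have ha' : a = 1 := mem_bot.1 ha
    subst ha'
    exact ⟨b, hb, rfl⟩
  · rintro ⟨d, hd, rfl⟩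
    exact ⟨(1, d), ⟨rfl, hd⟩, rfl⟩

/-- `C_C(D₂)`. -/
def HH (h : IsQDCoord n u y) (C : Subgroup G) (f : W × W →* G) : Subgroup G :=
  C ⊓ centralizer (DD h f : Set G)

/-- `N_C(D₂)`. -/
def NN (h : IsQDCoord n u y) (C : Subgroup G) (f : W × W →* G) : Subgroup G :=
  C ⊓ normalizer (DD h f : Set G)

theorem mem_HH (h : IsQDCoord n u y) {g : G} :
    g ∈ HH h C f ↔ g ∈ C ∧ ∀ d ∈ D h, g * f (1, d) = f (1, d) * g := by
  constructor
  · rintro ⟨h1, h2⟩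
    refine ⟨h1, fun d hd => ?_⟩
    exact (mem_centralizer_iff.1 h2 _ ((mem_DD h).2 ⟨d, hd, rfl⟩)).symm
  · rintro ⟨h1, h2⟩
    refine mem_inf.2 ⟨h1, mem_centralizer_iff.2 ?_⟩
    intro v hv
    obtain ⟨d, hd, rfl⟩ := (mem_DD h).1 hv
    exact (h2 d hd).symm

/-- `D` is normal. -/
theorem conj_mem_D (h : IsQDCoord n u y) {a d : W} (hd : d ∈ D h) : a * d * a⁻¹ ∈ D h := by
  obtain ⟨c, rfl | rfl⟩ := hd
  · rcases h.cases a with ⟨b, rfl⟩ | ⟨b, rfl⟩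
    · rw [h.u_conj_u]; exact ⟨c, Or.inl rfl⟩
    · rw [h.uy_conj_u]
      exact ⟨(2 ^ (n - 1) - 1) * c, Or.inl (by congr 1; ring)⟩
  · apply mem_D_of_sq h
    have h1 := sq_even_uy h c
    calc a * (u (2 * c) * y) * a⁻¹ * (a * (u (2 * c) * y) * a⁻¹) =
        a * (u (2 * c) * y * (u (2 * c) * y)) * a⁻¹ := by group
      _ = 1 := by rw [h1]; group

theorem y_mem_D (h : IsQDCoord n u y) : y ∈ D h := ⟨0, Or.inr (by rw [mul_zero, h.u_zero, one_mul])⟩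

theorem ii_mem_D (h : IsQDCoord n u y) : ii n u ∈ D h := ⟨2 ^ (n - 3), Or.inl (by rw [two_mul_eighth h])⟩

/-- The centraliser of `D` in `W`. -/
theorem comm_D (h : IsQDCoord n u y) {x : W} (hx : ∀ d ∈ D h, x * d = d * x) : x = 1 ∨ x = zz n u := by
  refine comm_noncomm h ?_ (hx y (y_mem_D h)) (hx _ (ii_mem_D h))
  intro e
  obtain ⟨b, hb⟩ := comm_ii h e
  apply h.u_ne b 0
  rw [← hb, h.u_zero, one_mul]

theorem f_mem_NN (h : IsQDCoord n u y) (H : Half C f (zz n u)) (p : W × W) : f p ∈ NN h C f := by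
  have key : ∀ p : W × W, ∀ v ∈ DD h f, f p * v * (f p)⁻¹ ∈ DD h f := by
    rintro ⟨a, b⟩ v hv
    obtain ⟨d, hd, rfl⟩ := (mem_DD h).1 hv
    rw [mk_mul, mk_inv, mk_mul, mul_one, mul_inv_cancel]
    exact (mem_DD h).2 ⟨_, conj_mem_D h hd, rfl⟩
  refine mem_inf.2 ⟨H.mem p, mem_normalizer_iff.2 fun v => ⟨key p v, fun hv => ?_⟩⟩
  have := key p⁻¹ _ hv
  rw [map_inv] at this
  have e1 : (f p)⁻¹ * (f p * v * (f p)⁻¹) * (f p)⁻¹⁻¹ = v := by group
  rwa [e1] at this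

/-- The centre of `W`. -/
def Zc (h : IsQDCoord n u y) : Subgroup W where
  carrier := {p | p = 1 ∨ p = zz n u}
  mul_mem' := by
    rintro x x' (rfl | rfl) (rfl | rfl)
    · left; rw [one_mul]
    · right; rw [one_mul]
    · right; rw [mul_one]
    · left; exact zz_mul_zz h
  one_mem' := Or.inl rfl
  inv_mem' := by
    rintro x (rfl | rfl)
    · left; exact inv_one
    · right; exact inv_eq_of_mul_eq_one_left (zz_mul_zz h)

theorem mem_Zc (h : IsQDCoord n u y) {p : W} : p ∈ Zc h ↔ p = 1 ∨ p = zz n u := Iff.rfl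

theorem zz_mem_Zc (h : IsQDCoord n u y) : zz n u ∈ Zc h := Or.inr rfl

theorem Zc_comm (h : IsQDCoord n u y) {p : W} (hp : p ∈ Zc h) (x : W) : x * p = p * x := by
  rcases hp with rfl | rfl
  · rw [one_mul, mul_one]
  · exact (zz_comm h x).symm

theorem Zc_sq (h : IsQDCoord n u y) {p : W} (hp : p ∈ Zc h) : p * p = 1 := by
  rcases hp with rfl | rfl
  · exact one_mul 1
  · exact zz_mul_zz h

theorem ii_inv (h : IsQDCoord n u y) : (ii n u)⁻¹ = zz n u * ii n u := by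
  rw [inv_eq_iff_mul_eq_one, ← mul_assoc, ← zz_comm h, mul_assoc, ii_mul_ii h, zz_mul_zz h]

theorem Zc_mul_ii (h : IsQDCoord n u y) {p x : W} (hp : p ∈ Zc h) (hx : x = ii n u ∨ x = (ii n u)⁻¹) :
    p * x = ii n u ∨ p * x = (ii n u)⁻¹ := by
  rcases hp with rfl | rfl
  · rw [one_mul]; exact hx
  · rcases hx with rfl | rfl
    · right; rw [ii_inv h]
    · left; rw [ii_inv h, ← mul_assoc, zz_mul_zz h, one_mul]

theorem ii_conj_q (h : IsQDCoord n u y) : ii n u * (u 1 * y) * (ii n u)⁻¹ = zz n u * (u 1 * y) := by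
  rw [h.u_conj_uy, h.u_mul_uy]
  congr 2
  linear_combination two_mul_quarter h - half_mul_quarter h

theorem q_ii_q (h : IsQDCoord n u y) : u 1 * y * ii n u * (u 1 * y) = ii n u := by
  rw [h.uy_mul_u, h.uy_mul_uy]
  congr 1
  linear_combination half_mul_quarter h - two_mul_quarter h

/-- `δ` moves `r s` to `i^± r s`. -/
theorem delta_q (h : IsQDCoord n u y) : ∃ z ∈ Zc h,
    u (2 ^ (n - 3)) * (u 1 * y) * (u (2 ^ (n - 3)))⁻¹ = z * (ii n u * (u 1 * y)) := by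
  rw [h.u_conj_uy]
  have e1 : (1 + (2 - 2 ^ (n - 1)) * 2 ^ (n - 3) : ZMod (2 ^ n)) = -(2 ^ (n - 1) * 2 ^ (n - 3)) + (2 ^ (n - 2) + 1) := by
    linear_combination two_mul_eighth h
  refine ⟨u (-(2 ^ (n - 1) * 2 ^ (n - 3))), ?_, ?_⟩
  · apply u_sq_eq_one h
    rw [h.u_mul, ← two_mul, ← h.u_zero]
    congr 1
    linear_combination (-2 ^ (n - 3) : ZMod (2 ^ n)) * two_mul_half n h.one_le
  · rw [h.u_mul_uy, h.u_mul_uy, e1]

variable [Finite G]

/-- `N_C(D₂) = T C_C(D₂)`. -/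
theorem exists_fac (h : IsQDCoord n u y) (H : Half C f (zz n u)) {g : G} (hg : g ∈ NN h C f) :
    ∃ τ ∈ f.range, ∃ a ∈ HH h C f, g = τ * a := by
  have hTN : SylIn f.range (NN h C f) := by
    refine H.syl.mono ?_ inf_le_left
    rintro _ ⟨p, rfl⟩
    exact f_mem_NN h H p
  refine hTN.exists_mul (HH h C f) ?_ ?_ hg
  · rintro g ⟨hg1, hg2⟩ x ⟨hx1, hx2'⟩
    have hx2 := mem_centralizer_iff.1 hx2'
    refine mem_inf.2 ⟨C.mul_mem (C.mul_mem hg1 hx1) (C.inv_mem hg1), mem_centralizer_iff.2 ?_⟩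
    intro v hv
    have h3 := hx2 (g⁻¹ * v * g) (by
      have := (mem_normalizer_iff.1 ((normalizer (DD h f : Set G)).inv_mem hg2) v).1 hv
      rwa [inv_inv] at this)
    have e1 : v * (g * x * g⁻¹) = g * (g⁻¹ * v * g * x) * g⁻¹ := by group
    have e2 : g * x * g⁻¹ * v = g * (x * (g⁻¹ * v * g)) * g⁻¹ := by group
    rw [e1, e2, h3]
  · rintro g ⟨hg1, hg2⟩ hgo
    rw [mem_HH]
    refine ⟨hg1, odd_D h H hg1 hgo ?_⟩
    intro a ha
    have h1 : f (1, a) ∈ DD h f := (mem_DD h).2 ⟨a, mem_D_of_sq h ha, rfl⟩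
    have h2 := (mem_normalizer_iff.1 hg2 _).1 h1
    obtain ⟨d, hd, hd1⟩ := (mem_DD h).1 h2
    exact ⟨(1, d), hd1.symm⟩

/-- `N_C(D₂)` centralises `ζ₂`. -/
theorem NN_comm (h : IsQDCoord n u y) (H : Half C f (zz n u)) {g : G} (hg : g ∈ NN h C f) :
    g * f (1, zz n u) = f (1, zz n u) * g := by
  obtain ⟨_, ⟨⟨τ1, τ2⟩, rfl⟩, a, ha, rfl⟩ := exists_fac h H hg
  have h1 := ((mem_HH h).1 ha).2 (zz n u) (mem_D_of_sq h (zz_mul_zz h))
  have h2 : f (τ1, τ2) * f (1, zz n u) = f (1, zz n u) * f (τ1, τ2) := by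
    rw [mk_mul, mk_mul, zz_comm h, one_mul, mul_one]
  rw [mul_assoc, h1, ← mul_assoc, h2, mul_assoc]

theorem NN_comm_Z (h : IsQDCoord n u y) (H : Half C f (zz n u)) {g : G} (hg : g ∈ NN h C f) {z z' : W}
    (hz : z ∈ Zc h) (hz' : z' ∈ Zc h) : g * f (z, z') = f (z, z') * g := by
  have e1 : f (z, z') = f (z, 1) * f (1, z') := by rw [mk_mul, mul_one, one_mul]
  have e2 : f ((1 : W), (1 : W)) = 1 := map_one f
  have h1 : Commute g (f (z, 1)) := by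
    rcases hz with rfl | rfl
    · rw [e2]; exact Commute.one_right g
    · exact H.comm g hg.1
  have h2 : Commute g (f (1, z')) := by
    rcases hz' with rfl | rfl
    · rw [e2]; exact Commute.one_right g
    · exact NN_comm h H hg
  rw [e1]
  exact h1.mul_right h2

omit [Finite G] in
/-- conjugates of `i` in `W`. -/
theorem conj_ii_cases (h : IsQDCoord n u y) (a : W) {x : W} (hx : x = ii n u ∨ x = (ii n u)⁻¹) :
    a * x * a⁻¹ = ii n u ∨ a * x * a⁻¹ = (ii n u)⁻¹ := by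
  have key : a * ii n u * a⁻¹ = ii n u ∨ a * ii n u * a⁻¹ = (ii n u)⁻¹ := by
    rcases h.cases a with ⟨b, rfl⟩ | ⟨b, rfl⟩
    · left; exact h.u_conj_u _ _
    · right
      rw [h.uy_conj_u, h.u_inv]
      congr 1
      linear_combination half_mul_quarter h
  rcases hx with rfl | rfl
  · exact key
  · have e1 : a * (ii n u)⁻¹ * a⁻¹ = (a * ii n u * a⁻¹)⁻¹ := by group
    rw [e1]
    rcases key with h1 | h1
    · right; rw [h1]
    · left; rw [h1, inv_inv]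

/-- First reduction: an element of `C_C(D₂)` with control on `(i, 1)` and `W₂`. -/
theorem exists_k (h : IsQDCoord n u y) (H : Half C f (zz n u)) {g : G} (hg : g ∈ C)
    (hgW : ∀ c, g * f (1, c) * g⁻¹ ∈ f.range) {a b : W} (ha : a = ii n u ∨ a = (ii n u)⁻¹)
    (hb : b = 1 ∨ b = zz n u) (hgu : g * f (u 1 * y, 1) * g⁻¹ = f (a, b)) :
    ∃ k ∈ HH h C f, (∃ a' b', (a' = ii n u ∨ a' = (ii n u)⁻¹) ∧ (b' = 1 ∨ b' = zz n u) ∧
      k * f (u 1 * y, 1) * k⁻¹ = f (a', b')) ∧ k * f (ii n u, 1) * k⁻¹ ∈ f.range ∧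
      k * f (1, u 1) * k⁻¹ ∈ f.range := by
  have hbc : ∀ x, x * b = b * x := by
    intro x
    rcases hb with rfl | rfl
    · rw [one_mul, mul_one]
    · exact (zz_comm h x).symm
  -- `g` normalises `D₂`
  have hgD : ∀ d ∈ D h, g * f (1, d) * g⁻¹ ∈ DD h f := by
    intro d hd
    rw [← closure_D h] at hd
    induction hd using Subgroup.closure_induction with
    | mem x hx =>
      by_cases hx1 : x = 1
      · subst hx1
        have e1 : f ((1 : W), (1 : W)) = 1 := map_one f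
        rw [e1, mul_one, mul_inv_cancel]
        exact one_mem _
      obtain ⟨⟨p, q⟩, hpq⟩ := hgW x
      have hp := H.closed x hx hx1 g hg p q hpq.symm
      subst hp
      rw [← hpq]
      refine (mem_DD h).2 ⟨q, mem_D_of_sq h ?_, rfl⟩
      have h5 : f (1, q) * f (1, q) = 1 := by
        have hx' : x * x = 1 := hx
        rw [hpq, ← cj_mul, mk_mul, hx', one_mul]
        have e1 : f ((1 : W), (1 : W)) = 1 := map_one f
        rw [e1, mul_one, mul_inv_cancel]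
      rw [mk_mul, ← map_one f] at h5
      exact (Prod.mk.inj (H.inj h5)).2
    | one =>
      have e1 : f ((1 : W), (1 : W)) = 1 := map_one f
      rw [e1, mul_one, mul_inv_cancel]
      exact one_mem _
    | mul x x' _ _ hx hx' =>
      have e1 : f (1, x * x') = f (1, x) * f (1, x') := by rw [mk_mul, one_mul]
      rw [e1, cj_mul]
      exact mul_mem hx hx'
    | inv x _ hx =>
      have e1 : f (1, x⁻¹) = (f (1, x))⁻¹ := by rw [mk_inv, inv_one]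
      have e2 : g * (f (1, x))⁻¹ * g⁻¹ = (g * f (1, x) * g⁻¹)⁻¹ := by group
      rw [e1, e2]
      exact inv_mem hx
  have hgN : g ∈ NN h C f := by
    have h1 : ∀ v ∈ DD h f, g * v * g⁻¹ ∈ DD h f := by
      intro v hv
      obtain ⟨d, hd, rfl⟩ := (mem_DD h).1 hv
      exact hgD d hd
    refine mem_inf.2 ⟨hg, mem_normalizer_iff.2 fun v => ⟨h1 v, fun hv => ?_⟩⟩
    have := SylIn.conj_inv_mem h1 hv
    have e1 : g⁻¹ * (g * v * g⁻¹) * g = v := by group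
    rwa [e1] at this
  -- the element `h₀` of `C_C(D₂)`
  obtain ⟨_, ⟨⟨τ1, τ2⟩, rfl⟩, h0, hh0, hgh⟩ := exists_fac h H hgN
  have hh0N : h0 ∈ NN h C f := by
    have e1 : h0 = (f (τ1, τ2))⁻¹ * g := by rw [hgh]; group
    rw [e1]
    exact mul_mem (inv_mem (f_mem_NN h H _)) hgN
  obtain ⟨a1, ha1, hh1⟩ : ∃ a1, (a1 = ii n u ∨ a1 = (ii n u)⁻¹) ∧ h0 * f (u 1 * y, 1) * h0⁻¹ = f (a1, b) := by
    refine ⟨τ1⁻¹ * a * τ1, ?_, ?_⟩
    · have := conj_ii_cases h τ1⁻¹ ha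
      rwa [inv_inv] at this
    · have e1 : h0 * f (u 1 * y, 1) * h0⁻¹ = (f (τ1, τ2))⁻¹ * (g * f (u 1 * y, 1) * g⁻¹) * f (τ1, τ2) := by
        rw [hgh]; group
      rw [e1, hgu, mk_inv, mk_mul, mk_mul, hbc τ2⁻¹, inv_mul_cancel_right]
  -- the group `Ĉ`
  set v' : G := f (a1, b) with hv'
  let Ch : Subgroup G :=
    { carrier := {k | k ∈ NN h C f ∧ ∃ z ∈ Zc h, ∃ z' ∈ Zc h, k * v' * k⁻¹ = f (z, z') * v'}
      mul_mem' := by
        rintro k k' ⟨hk, z, hz, z', hz', hkz⟩ ⟨hk', w, hw, w', hw', hkw⟩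
        refine ⟨mul_mem hk hk', z * w, mul_mem hz hw, z' * w', mul_mem hz' hw', ?_⟩
        rw [← SylIn.conj_conj, hkw, cj_mul, hkz, NN_comm_Z h H hk hw hw', mul_inv_cancel_right, ← mul_assoc,
          ← NN_comm_Z h H (f_mem_NN h H (z, z')) hw hw', mk_mul]
      one_mem' := by
        refine ⟨one_mem _, 1, one_mem _, 1, one_mem _, ?_⟩
        have e1 : f ((1 : W), (1 : W)) = 1 := map_one f
        rw [e1]; group
      inv_mem' := by
        rintro k ⟨hk, z, hz, z', hz', hkz⟩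
        refine ⟨inv_mem hk, z⁻¹, inv_mem hz, z'⁻¹, inv_mem hz', ?_⟩
        have h1 := NN_comm_Z h H hk hz hz'
        have e1 : v' = k⁻¹ * (f (z, z') * v') * k := by rw [← hkz]; group
        have e2 : k⁻¹ * (f (z, z') * v') * k = f (z, z') * (k⁻¹ * v' * k) := by
          have h2 : k⁻¹ * f (z, z') = f (z, z') * k⁻¹ := by
            have h3 : Commute k (f (z, z')) := h1
            exact h3.inv_left
          rw [← mul_assoc, h2]; group
        rw [e2] at e1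
        rw [← mk_inv, eq_inv_mul_iff_mul_eq, inv_inv]
        exact e1.symm }
  have hTCh : SylIn f.range Ch := by
    refine H.syl.mono ?_ (fun k hk => hk.1.1)
    rintro _ ⟨⟨p, q⟩, rfl⟩
    refine ⟨f_mem_NN h H _, ?_⟩
    have hz : ∃ z ∈ Zc h, p * a1 * p⁻¹ = z * a1 := by
      rcases conj_ii_cases h p ha1 with h1 | h1
      · rcases ha1 with h2 | h2
        · exact ⟨1, one_mem _, by rw [h1, h2, one_mul]⟩
        · exact ⟨zz n u, zz_mem_Zc h, by rw [h1, h2, ii_inv h, ← mul_assoc, zz_mul_zz h, one_mul]⟩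
      · rcases ha1 with h2 | h2
        · exact ⟨zz n u, zz_mem_Zc h, by rw [h1, h2, ii_inv h]⟩
        · exact ⟨1, one_mem _, by rw [h1, h2, one_mul]⟩
    obtain ⟨z, hz, hz1⟩ := hz
    refine ⟨z, hz, 1, one_mem _, ?_⟩
    rw [hv', mk_mul, mk_inv, mk_mul, mk_mul, hbc q, mul_inv_cancel_right, one_mul, hz1]
  -- the group `⟨i, r s⟩ ⟨u 1⟩`
  set D0 : Subgroup G := closure {f (ii n u, 1), f (u 1 * y, 1), f (1, u 1)} with hD0
  have hD0T : D0 ≤ f.range := by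
    rw [hD0, closure_le]
    rintro x (rfl | rfl | rfl)
    · exact ⟨_, rfl⟩
    · exact ⟨_, rfl⟩
    · exact ⟨_, rfl⟩
  have hgen : ∀ x ∈ f.range, (∃ z ∈ Zc h, x * f (u 1 * y, 1) * x⁻¹ = f (z, 1) * f (u 1 * y, 1)) →
      h0 * x * h0⁻¹ ∈ Ch := by
    rintro _ ⟨p, rfl⟩ ⟨z, hz, hxz⟩
    refine ⟨mul_mem (mul_mem hh0N (f_mem_NN h H p)) (inv_mem hh0N), z, hz, 1, one_mem _, ?_⟩
    have e1 : h0 * f p * h0⁻¹ * v' * (h0 * f p * h0⁻¹)⁻¹ = h0 * (f p * (h0⁻¹ * v' * h0) * (f p)⁻¹) * h0⁻¹ := by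
      group
    have e2 : h0⁻¹ * v' * h0 = f (u 1 * y, 1) := by rw [← hh1]; group
    rw [e1, e2, hxz, cj_mul, hh1, NN_comm_Z h H hh0N hz (one_mem _), mul_inv_cancel_right]
  have hD0Ch : D0.map (MulAut.conj h0).toMonoidHom ≤ Ch := by
    rw [hD0, MonoidHom.map_closure, closure_le]
    rintro _ ⟨x, hx, rfl⟩
    rcases hx with rfl | rfl | rfl
    · refine hgen _ ⟨_, rfl⟩ ⟨zz n u, zz_mem_Zc h, ?_⟩
      rw [mk_mul, mk_inv, mk_mul, mk_mul, ii_conj_q h, one_mul, one_mul, inv_one]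
    · refine hgen _ ⟨_, rfl⟩ ⟨1, one_mem _, ?_⟩
      have e1 : f ((1 : W), (1 : W)) = 1 := map_one f
      rw [e1, one_mul, mul_inv_cancel_right]
    · refine hgen _ ⟨_, rfl⟩ ⟨1, one_mem _, ?_⟩
      have e1 : f ((1 : W), (1 : W)) = 1 := map_one f
      rw [e1, one_mul, mk_mul, mk_inv, mk_mul, one_mul, mul_one, inv_one, mul_one, mul_inv_cancel]
  obtain ⟨d, hd, hd1⟩ := hTCh.conj_le hD0Ch ((H.syl.two.to_le hD0T).map _)
  obtain ⟨hdN, z, hz, z', hz', hdz⟩ := hd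
  -- the final element
  obtain ⟨_, ⟨⟨σ1, σ2⟩, rfl⟩, k, hk, hkd⟩ := exists_fac h H (mul_mem hdN hh0N)
  have hkx : ∀ x ∈ D0, k * x * k⁻¹ ∈ f.range := by
    intro x hx
    have h1 := hd1 _ (Lib.GoldschmidtFusion.conj_mem_map_conj hx h0)
    have e1 : k * x * k⁻¹ = (f (σ1, σ2))⁻¹ * (d * (h0 * x * h0⁻¹) * d⁻¹) * f (σ1, σ2) := by
      have e2 : k = (f (σ1, σ2))⁻¹ * (d * h0) := by rw [hkd]; group
      rw [e2]; group
    rw [e1]
    exact mul_mem (mul_mem (inv_mem ⟨_, rfl⟩) h1) ⟨_, rfl⟩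
  refine ⟨k, hk, ⟨z * (σ1⁻¹ * a1 * σ1), z' * b, ?_, ?_, ?_⟩, ?_, ?_⟩
  · apply Zc_mul_ii h hz
    have := conj_ii_cases h σ1⁻¹ ha1
    rwa [inv_inv] at this
  · exact mul_mem hz' ((mem_Zc h).2 hb)
  · have e1 : k * f (u 1 * y, 1) * k⁻¹ = (f (σ1, σ2))⁻¹ * (d * (h0 * f (u 1 * y, 1) * h0⁻¹) * d⁻¹) * f (σ1, σ2) := by
      have e2 : k = (f (σ1, σ2))⁻¹ * (d * h0) := by rw [hkd]; group
      rw [e2]; group
    rw [e1, hh1, hdz, hv', mk_inv, mk_mul, mk_mul, mk_mul]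
    congr 2
    · calc σ1⁻¹ * (z * a1) * σ1 = (σ1⁻¹ * z) * a1 * σ1 := by group
        _ = z * (σ1⁻¹ * a1 * σ1) := by rw [Zc_comm h hz]; group
    · calc σ2⁻¹ * (z' * b) * σ2 = (σ2⁻¹ * z') * (b * σ2) := by group
        _ = z' * b := by rw [Zc_comm h hz', ← hbc]; group
  · exact hkx _ (subset_closure (by simp))
  · exact hkx _ (subset_closure (by simp))

/-! ### The 3-element -/

omit [Finite G] in
theorem HH_le (h : IsQDCoord n u y) : HH h C f ≤ NN h C f :=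
  inf_le_inf le_rfl (centralizer_le_normalizer _)

/-- **The element `ρ₁`.** -/
theorem exists_rho (h : IsQDCoord n u y) (H : Half C f (zz n u)) {g : G} (hg : g ∈ C)
    (hgW : ∀ c, g * f (1, c) * g⁻¹ ∈ f.range) {a b : W} (ha : a = ii n u ∨ a = (ii n u)⁻¹)
    (hb : b = 1 ∨ b = zz n u) (hgu : g * f (u 1 * y, 1) * g⁻¹ = f (a, b)) :
    ∃ ρ ∈ C, (∀ c, ρ * f (1, c) = f (1, c) * ρ) ∧
      ∃ z ∈ Zc h, ρ * f (ii n u, 1) * ρ⁻¹ = f (u 1 * y, z) := by
  obtain ⟨k, hk, ⟨a', b', ha', hb', hk1⟩, ⟨⟨x, z⟩, hk2⟩, ⟨⟨a3, c3⟩, hk3⟩⟩ := exists_k h H hg hgW ha hb hgu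
  have hkD := ((mem_HH h).1 hk).2
  have hkC := ((mem_HH h).1 hk).1
  -- `z` is central
  have hz : z ∈ Zc h := by
    apply comm_D h
    intro d hd
    have h1 : f (x, z) * f (1, d) = f (1, d) * f (x, z) := by
      have e1 : f (1, d) = k * f (1, d) * k⁻¹ := by rw [hkD d hd, mul_inv_cancel_right]
      rw [hk2, e1, ← cj_mul, ← cj_mul, mk_mul, mk_mul, one_mul, mul_one, one_mul, mul_one]
    rw [mk_mul, mk_mul] at h1
    exact (H.f_eq h1).2
  have hxx : x * x = zz n u := by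
    have h1 : f (x, z) * f (x, z) = f (zz n u, 1) := by
      rw [hk2, ← cj_mul, mk_mul, ii_mul_ii h, one_mul, H.comm k hkC, mul_inv_cancel_right]
    rw [mk_mul] at h1
    exact (H.f_eq h1).1
  -- `x` does not commute with `a'`
  have hxa : x * a' ≠ a' * x := by
    intro e
    have h1 : f (x, z) * f (a', b') = f (a', b') * f (x, z) := by
      rw [mk_mul, mk_mul, e, Zc_comm h hb']
    rw [hk2, ← hk1, ← cj_mul, ← cj_mul] at h1
    have h2 := conj_inj h1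
    rw [mk_mul, mk_mul] at h2
    have h3 := (H.f_eq h2).1
    obtain ⟨c, hc⟩ := comm_ii h h3.symm
    exact h.u_ne c 1 hc.symm
  obtain ⟨e, rfl⟩ : ∃ e, x = u (2 * e + 1) * y := by
    rcases four_cases h hxx with rfl | rfl | h1
    · exfalso
      apply hxa
      rcases ha' with rfl | rfl
      · rfl
      · rw [mul_inv_cancel, inv_mul_cancel]
    · exfalso
      apply hxa
      rcases ha' with rfl | rfl
      · rw [mul_inv_cancel, inv_mul_cancel]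
      · rfl
    · exact h1
  -- `a3` is central
  have ha3 : a3 ∈ Zc h := by
    apply comm_noncomm h hxa
    · have h1 : f (a3, c3) * f (u (2 * e + 1) * y, z) = f (u (2 * e + 1) * y, z) * f (a3, c3) := by
        rw [hk3, hk2, ← cj_mul, ← cj_mul, mk_mul, mk_mul, one_mul, mul_one, one_mul, mul_one]
      rw [mk_mul, mk_mul] at h1
      exact (H.f_eq h1).1
    · have h1 : f (a3, c3) * f (a', b') = f (a', b') * f (a3, c3) := by
        rw [hk3, ← hk1, ← cj_mul, ← cj_mul, mk_mul, mk_mul, one_mul, mul_one, one_mul, mul_one]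
      rw [mk_mul, mk_mul] at h1
      exact (H.f_eq h1).1
  -- `c3` is `u 1` modulo the centre
  obtain ⟨z3, hz3, hc3⟩ : ∃ z3 ∈ Zc h, c3 = z3 * u 1 := by
    refine ⟨c3 * (u 1)⁻¹, ?_, by group⟩
    apply comm_D h
    intro d hd
    have hd' : (u 1)⁻¹ * d * u 1 ∈ D h := by
      have := conj_mem_D h hd (a := (u 1)⁻¹)
      rwa [inv_inv] at this
    have h1 : f (a3, c3) * f (1, (u 1)⁻¹ * d * u 1) = f (1, d) * f (a3, c3) := by
      have e1 : f (1, (u 1)⁻¹ * d * u 1) = k * f (1, (u 1)⁻¹ * d * u 1) * k⁻¹ := by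
        rw [hkD _ hd', mul_inv_cancel_right]
      have e2 : f (1, d) = k * f (1, d) * k⁻¹ := by rw [hkD d hd, mul_inv_cancel_right]
      rw [hk3, e1, e2, ← cj_mul, ← cj_mul, mk_mul, mk_mul, one_mul]
      congr 4
      group
    rw [mk_mul, mk_mul] at h1
    have h2 := (H.f_eq h1).2
    calc c3 * (u 1)⁻¹ * d = c3 * ((u 1)⁻¹ * d * u 1) * (u 1)⁻¹ := by group
      _ = d * (c3 * (u 1)⁻¹) := by rw [h2]; group
  -- adjust by `W₁`
  obtain ⟨b1, hb1⟩ := conj_odd h e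
  have hub : f (u b1, 1) ∈ HH h C f := by
    rw [mem_HH]
    refine ⟨H.mem _, fun d _ => ?_⟩
    rw [mk_mul, mk_mul, one_mul, mul_one, mul_one, one_mul]
  set k1 := f (u b1, 1) * k with hk1'
  have hk1H : k1 ∈ HH h C f := mul_mem hub hk
  have kI : k1 * f (ii n u, 1) * k1⁻¹ = f (u 1 * y, z) := by
    rw [hk1', ← SylIn.conj_conj, ← hk2, mk_inv, mk_mul, mk_mul, hb1, one_mul, inv_one, mul_one]
  have kJ : k1 * f (u 1 * y, 1) * k1⁻¹ = f (a', b') := by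
    rw [hk1', ← SylIn.conj_conj, hk1, mk_inv, mk_mul, mk_mul, one_mul, inv_one, mul_one]
    congr 2
    rcases ha' with rfl | rfl
    · rw [h.u_conj_u]
    · have e1 : u b1 * (ii n u)⁻¹ * (u b1)⁻¹ = (u b1 * ii n u * (u b1)⁻¹)⁻¹ := by group
      rw [e1, h.u_conj_u]
  have kS : k1 * f (1, u 1) * k1⁻¹ = f (a3, z3) * f (1, u 1) := by
    rw [hk1', ← SylIn.conj_conj, ← hk3, mk_inv, mk_mul, mk_mul, one_mul, inv_one, mul_one, mk_mul, mul_one, hc3,
      Zc_comm h ha3, mul_inv_cancel_right]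
  -- the element `x0`
  have hδH : f (u (2 ^ (n - 3)), 1) ∈ HH h C f := by
    rw [mem_HH]
    refine ⟨H.mem _, fun d _ => ?_⟩
    rw [mk_mul, mk_mul, one_mul, mul_one, mul_one, one_mul]
  set x0 := k1 * f (u (2 ^ (n - 3)), 1) with hx0
  have hx0H : x0 ∈ HH h C f := mul_mem hk1H hδH
  have hx0N := HH_le h hx0H
  have xI : x0 * f (ii n u, 1) * x0⁻¹ = f (1, z) * f (u 1 * y, 1) := by
    rw [hx0, ← SylIn.conj_conj, mk_inv, mk_mul, mk_mul, h.u_conj_u, one_mul, inv_one, mul_one, kI, mk_mul,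
      one_mul, mul_one]
  obtain ⟨z4, hz4, hδq⟩ := delta_q h
  obtain ⟨z5, hz5, ha5⟩ : ∃ z5 ∈ Zc h, a' = z5 * ii n u := by
    rcases ha' with rfl | rfl
    · exact ⟨1, one_mem _, by rw [one_mul]⟩
    · exact ⟨zz n u, zz_mem_Zc h, ii_inv h⟩
  have xJ : ∃ z6 ∈ Zc h, ∃ z7 ∈ Zc h,
      x0 * f (u 1 * y, 1) * x0⁻¹ = f (z6, z7) * (f (u 1 * y, 1) * f (ii n u, 1)) := by
    refine ⟨z4 * z5, mul_mem hz4 hz5, z * b', mul_mem hz hb', ?_⟩
    have e1 : f (u (2 ^ (n - 3)), 1) * f (u 1 * y, 1) * (f (u (2 ^ (n - 3)), 1))⁻¹ =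
        f (z4, 1) * (f (ii n u, 1) * f (u 1 * y, 1)) := by
      rw [mk_inv, mk_mul, mk_mul, mk_mul, mk_mul, hδq, one_mul, inv_one, one_mul]
    have e2 : k1 * f (z4, 1) * k1⁻¹ = f (z4, 1) := by
      rw [NN_comm_Z h H (HH_le h hk1H) hz4 (one_mem _), mul_inv_cancel_right]
    rw [hx0, ← SylIn.conj_conj, e1, cj_mul, cj_mul, e2, kI, kJ, mk_mul, mk_mul, mk_mul, mk_mul, one_mul, mul_one,
      mul_one, ha5]
    congr 2
    rw [mul_assoc z4, ← mul_assoc (u 1 * y), Zc_comm h hz5, mul_assoc]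
  have xS : x0 * f (1, u 1) * x0⁻¹ = f (a3, z3) * f (1, u 1) := by
    rw [hx0, ← SylIn.conj_conj, mk_inv, mk_mul, mk_mul, one_mul, mul_one, inv_one, mul_one, mul_inv_cancel, kS]
  -- iteration
  set I := f (ii n u, 1) with hI
  set J := f (u 1 * y, 1) with hJ
  have hconjZ : ∀ g' ∈ NN h C f, ∀ z ∈ Zc h, ∀ z' ∈ Zc h, ∀ v : G,
      g' * (f (z, z') * v) * g'⁻¹ = f (z, z') * (g' * v * g'⁻¹) := by
    intro g' hg' z hz z' hz' v
    rw [cj_mul, NN_comm_Z h H hg' hz hz', mul_inv_cancel_right]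
  have hcube : ∃ z ∈ Zc h, ∃ z' ∈ Zc h, x0 ^ 3 * I * (x0 ^ 3)⁻¹ = f (z, z') * I := by
    obtain ⟨z6, hz6, z7, hz7, hxJ⟩ := xJ
    have e1 : x0 ^ 3 * I * (x0 ^ 3)⁻¹ = x0 * (x0 * (x0 * I * x0⁻¹) * x0⁻¹) * x0⁻¹ := by
      simp only [pow_succ, pow_zero, one_mul, mul_inv_rev, mul_assoc]
    refine ⟨1 * z6 * (z6 * 1), mul_mem (mul_mem (one_mem _) hz6) (mul_mem hz6 (one_mem _)),
      z * z7 * (z7 * z), mul_mem (mul_mem hz hz7) (mul_mem hz7 hz), ?_⟩
    rw [e1, xI, hconjZ x0 hx0N 1 (one_mem _) z hz, hxJ, hconjZ x0 hx0N 1 (one_mem _) z hz,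
      hconjZ x0 hx0N z6 hz6 z7 hz7, cj_mul, hxJ, xI]
    rw [← mk_mul, ← mk_mul, ← mk_mul, hI, hJ]
    simp only [mk_mul, one_mul, mul_one]
    congr 2
    · have hq := q_ii_q h
      simp only [mul_assoc] at hq ⊢
      rw [hq]
    · group
  have hpow3 : ∀ m : ℕ, ∃ z ∈ Zc h, ∃ z' ∈ Zc h, x0 ^ (3 * m) * I * (x0 ^ (3 * m))⁻¹ = f (z, z') * I := by
    intro m
    induction m with
    | zero =>
      refine ⟨1, one_mem _, 1, one_mem _, ?_⟩
      have e1 : f ((1 : W), (1 : W)) = 1 := map_one f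
      rw [e1]; simp
    | succ m ih =>
      obtain ⟨z1, hz1, z2, hz2, hm⟩ := ih
      obtain ⟨z1', hz1', z2', hz2', hc⟩ := hcube
      refine ⟨z1 * z1', mul_mem hz1 hz1', z2 * z2', mul_mem hz2 hz2', ?_⟩
      have e1 : 3 * (m + 1) = 3 + 3 * m := by ring
      rw [e1, pow_add, ← SylIn.conj_conj, hm, hconjZ _ (pow_mem hx0N 3) z1 hz1 z2 hz2, hc, ← mul_assoc, mk_mul]
  obtain ⟨m, hm⟩ : ∃ m, 4 ^ (orderOf x0) = 3 * m + 1 := by
    generalize orderOf x0 = N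
    induction N with
    | zero => exact ⟨0, rfl⟩
    | succ N ih =>
      obtain ⟨m, hm⟩ := ih
      exact ⟨4 * m + 1, by rw [pow_succ, hm]; ring⟩
  set ρ0 := x0 ^ (4 ^ (orderOf x0)) with hρ0
  have hρodd : Odd (orderOf ρ0) := by
    have hpos : 0 < orderOf x0 := orderOf_pos _
    set e1 := (orderOf x0).factorization 2 with he1
    have h1 : Odd (orderOf (x0 ^ 2 ^ e1)) := by
      rw [orderOf_pow_of_dvd (by positivity) (Nat.ordProj_dvd _ 2)]
      exact Nat.odd_iff.2 (by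
        have := Nat.not_dvd_ordCompl Nat.prime_two hpos.ne'
        omega)
    have h2 : e1 ≤ 2 * orderOf x0 := by
      have h3 : 2 ^ e1 ≤ orderOf x0 := Nat.le_of_dvd hpos (Nat.ordProj_dvd _ 2)
      have h4 : e1 < 2 ^ e1 := Nat.lt_two_pow_self
      omega
    have h3 : ρ0 = (x0 ^ 2 ^ e1) ^ 2 ^ (2 * orderOf x0 - e1) := by
      rw [hρ0, ← pow_mul, ← pow_add, Nat.add_sub_cancel' h2, pow_mul]
      norm_num
    rw [h3]
    exact h1.of_dvd_nat (orderOf_pow_dvd _)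
  have hρH : ρ0 ∈ HH h C f := pow_mem hx0H _
  have hρI : ∃ z1 ∈ Zc h, ∃ z2 ∈ Zc h, ρ0 * I * ρ0⁻¹ = f (z1, z2) * J := by
    obtain ⟨z1, hz1, z2, hz2, h1⟩ := hpow3 m
    refine ⟨z1 * 1, mul_mem hz1 (one_mem _), z2 * z, mul_mem hz2 hz, ?_⟩
    rw [hρ0, hm, Nat.add_comm, pow_add, pow_one, ← SylIn.conj_conj, h1, hconjZ x0 hx0N z1 hz1 z2 hz2, xI,
      ← mul_assoc, mk_mul]
  have hρS : ρ0 * f (1, u 1) = f (1, u 1) * ρ0 := by
    have h1 : ∀ j : ℕ, ∃ z1 ∈ Zc h, ∃ z2 ∈ Zc h,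
        x0 ^ j * f (1, u 1) * (x0 ^ j)⁻¹ = f (z1, z2) * f (1, u 1) := by
      intro j
      induction j with
      | zero =>
        refine ⟨1, one_mem _, 1, one_mem _, ?_⟩
        have e1 : f ((1 : W), (1 : W)) = 1 := map_one f
        rw [e1]; simp
      | succ j ih =>
        obtain ⟨z1, hz1, z2, hz2, hj⟩ := ih
        refine ⟨z1 * a3, mul_mem hz1 ha3, z2 * z3, mul_mem hz2 hz3, ?_⟩
        rw [pow_succ', ← SylIn.conj_conj, hj, hconjZ x0 hx0N z1 hz1 z2 hz2, xS, ← mul_assoc, mk_mul]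
    obtain ⟨z1, hz1, z2, hz2, h2⟩ := h1 (4 ^ orderOf x0)
    rw [← hρ0] at h2
    have h3 := eq_one_of_odd hρodd h2 (NN_comm_Z h H (HH_le h hρH) hz1 hz2) (k := 1) (by
      rw [pow_one, pow_two, mk_mul, Zc_sq h hz1, Zc_sq h hz2]
      exact map_one f)
    rw [h3, one_mul] at h2
    exact mul_inv_eq_iff_eq_mul.1 h2
  have hρW : ∀ c, ρ0 * f (1, c) = f (1, c) * ρ0 := by
    intro c
    have h1 : ∀ e, ρ0 * f (1, u e) = f (1, u e) * ρ0 := by
      intro e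
      have e1 : f (1, u e) = f (1, u 1) ^ e.val := by
        rw [← map_pow, Prod.pow_mk, one_pow, ← h.u_eq_pow]
      rw [e1]
      exact (Commute.pow_right hρS _ : Commute ρ0 _)
    rcases h.cases c with ⟨e, rfl⟩ | ⟨e, rfl⟩
    · exact h1 e
    · have e1 : f (1, u e * y) = f (1, u e) * f (1, y) := by rw [mk_mul, one_mul]
      rw [e1]
      exact (Commute.mul_right (h1 e) (((mem_HH h).1 hρH).2 y (y_mem_D h)) : Commute ρ0 _)
  -- the final adjustment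
  obtain ⟨z1, hz1, z2, hz2, h1⟩ := hρI
  rcases hz1 with rfl | rfl
  · refine ⟨ρ0, hρH.1, hρW, z2, hz2, ?_⟩
    rw [h1, hJ, mk_mul, one_mul, mul_one]
  · refine ⟨I * ρ0, mul_mem (H.mem _) hρH.1, ?_, z2, hz2, ?_⟩
    · intro c
      have h2 : I * f (1, c) = f (1, c) * I := by
        rw [hI, mk_mul, mk_mul, one_mul, mul_one, mul_one, one_mul]
      rw [mul_assoc, hρW, ← mul_assoc, h2, mul_assoc]
    · rw [← SylIn.conj_conj, h1, hI, hJ, mk_mul, mk_inv, mk_mul, mk_mul, one_mul, mul_one, inv_one, mul_one]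
      congr 2
      have h3 := ii_conj_q h
      calc ii n u * (zz n u * (u 1 * y)) * (ii n u)⁻¹ = (ii n u * zz n u) * (u 1 * y) * (ii n u)⁻¹ := by group
        _ = zz n u * (ii n u * (u 1 * y) * (ii n u)⁻¹) := by rw [← zz_comm h]; group
        _ = u 1 * y := by rw [h3, ← mul_assoc, zz_mul_zz h, one_mul]

end Cfsg.Agent.TypeLFive.CentSDRho
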