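import Mathlib
import Cfsg.Agent.TypeLFive.CentSDRho
import Cfsg.Agent.TypeLFive.CentSDExt
import Cfsg.Agent.TypeLFive.Out

/-!
# The structure of `C_G(t)`, semidihedral case: `Q₁` and `W₂` are strongly closed

Main results: `exists_rho` (after a twist of the coordinates there is an element `ρ` of `C_G(t)` centralising `W₂` and
moving `(i, 1)` to `(r s, 1)`), `closed_Q`, `closed_W`.
-/

set_option autoImplicit false

namespace Cfsg.Agent.TypeLFive.CentSDMain

open Subgroup Cfsg.Agent.TwoFusion.QDBasic CentSDGroup CentSDTools CentSDClosed CentSDClosedTwo CentSDRho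
  Model Out

variable {G W : Type*} [Group G] [Group W] {n : ℕ} {u : ZMod (2 ^ n) → W} {y : W} {f : W × W →* G} {w : G}

/-- `C_G(t)`. -/
abbrev CC (n : ℕ) (u : ZMod (2 ^ n) → W) (f : W × W →* G) : Subgroup G := centralizer ({f (zz n u, 1)} : Set G)

theorem mem_CC {g : G} : g ∈ CC n u f ↔ g * f (zz n u, 1) = f (zz n u, 1) * g :=
  mem_centralizer_singleton_iff

/-! ### The hypotheses `Half` -/

section

variable {S : Subgroup G}

theorem half_closed (F : FusSD S f w u y) {b : W} (hb : b * b = 1) (hb1 : b ≠ 1) {c : G}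
    (hc : c * f (zz n u, 1) = f (zz n u, 1) * c) {p q : W} (hcon : c * f (1, b) * c⁻¹ = f (p, q)) : p = 1 := by
  have h := F.coord
  by_contra hp
  have hinj := F.out.wr.inj
  have hz1 := zz_ne_one h
  -- `(p, q)` is an involution
  have hsq : p * p = 1 ∧ q * q = 1 := by
    have h1 : f (p, q) * f (p, q) = 1 := by
      rw [← hcon, ← cj_mul, mk_mul, hb, one_mul]
      have e1 : f ((1 : W), (1 : W)) = 1 := map_one f
      rw [e1, mul_one, mul_inv_cancel]
    rw [mk_mul, ← map_one f] at h1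
    exact Prod.mk.inj (hinj h1)
  have h1 : IsConj (f (zz n u, 1)) (f (1, b)) := by
    apply F.out.conj_t 1 b (one_mul 1) hb
    · rintro ⟨-, h2⟩; exact hb1 h2
    · rintro ⟨h2, -⟩; exact h2 rfl
  have h2 : IsConj (f (zz n u, zz n u)) (f (zz n u, b)) :=
    F.out.conj_z _ b (zz_mul_zz h) hb hz1 hb1 (Or.inl rfl)
  have h3 : IsConj (f (1, b)) (f (p, q)) := isConj_iff.2 ⟨c, hcon⟩
  have h4 : IsConj (f (zz n u, b)) (f (zz n u * p, q)) := by
    refine isConj_iff.2 ⟨c, ?_⟩
    have e1 : f (zz n u, b) = f (zz n u, 1) * f (1, b) := by rw [mk_mul, mul_one, one_mul]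
    rw [e1, cj_mul, hcon, hc, mul_inv_cancel_right, mk_mul, one_mul]
  have h5 : IsConj (f (zz n u, 1)) (f (p, q)) := h1.trans h3
  have h6 : IsConj (f (zz n u, zz n u)) (f (zz n u * p, q)) := h2.trans h4
  -- `(p, q)` is not of type `z`
  have h7 : ¬ (p ≠ 1 ∧ q ≠ 1 ∧ (p = zz n u ∨ q = zz n u)) := by
    rintro ⟨h8, h9, h10⟩
    exact F.out.not_conj (h5.trans (F.out.conj_z p q hsq.1 hsq.2 h8 h9 h10).symm)
  have hpz : zz n u * p * (zz n u * p) = 1 := by
    calc zz n u * p * (zz n u * p) = zz n u * (p * zz n u) * p := by group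
      _ = (zz n u * zz n u) * (p * p) := by rw [← zz_comm h]; group
      _ = 1 := by rw [zz_mul_zz h, hsq.1, one_mul]
  -- `(ζ p, q)` is not of type `t`
  by_cases h8 : zz n u * p ≠ 1 ∧ q ≠ 1 ∧ (zz n u * p = zz n u ∨ q = zz n u)
  · obtain ⟨h9, h10, h11 | h11⟩ := h8
    · exact hp (mul_eq_left.1 h11)
    · exact h7 ⟨hp, h10, Or.inr h11⟩
  · apply F.out.not_conj
    refine (F.out.conj_t (zz n u * p) q hpz hsq.2 ?_ h8).trans h6.symm
    rintro ⟨h9, h10⟩
    rw [h9, h10] at h6
    have e1 : f ((1 : W), (1 : W)) = 1 := map_one f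
    rw [e1, isConj_comm, isConj_one_right] at h6
    have h11 : f (zz n u, zz n u) = f (1, 1) := by rw [e1]; exact h6
    exact hz1 (Prod.mk.inj (hinj h11)).1

variable [Finite G]

theorem half (F : FusSD S f w u y) (hS : IsPGroup 2 S) : Half (CC n u f) f (zz n u) where
  inj := F.out.wr.inj
  syl := by
    have hr2 : IsPGroup 2 f.range := hS.to_le F.out.wr.range_le
    have hrC : f.range ≤ CC n u f := by
      rintro _ ⟨⟨a, b⟩, rfl⟩
      rw [mem_CC, mk_mul, mk_mul, zz_comm F.coord, one_mul, mul_one]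
    obtain ⟨R, hR, hRs⟩ := SylIn.exists_ge hrC hr2
    have := F.out.sylow_t R hRs.two hR (fun r hr => mem_CC.1 (hRs.le hr))
    rwa [this] at hRs
  comm c hc := mem_CC.1 hc
  closed b hb hb1 c hc p q hcon := half_closed F hb hb1 (mem_CC.1 hc) hcon

omit [Finite G] in
theorem conj_w (hw : Wr S f w) (a b : W) : w * f (a, b) * w⁻¹ = f (b, a) := hw.w_conj a b

omit [Finite G] in
/-- Conjugation by `w` swaps `C_G(t)` and `C_G(t')`. -/
theorem w_mem_iff (hw : Wr S f w) {g : G} : g ∈ CC n u (sw f) ↔ w * g * w⁻¹ ∈ CC n u f := by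
  rw [mem_CC, mem_CC, sw_apply]
  have e1 : f (zz n u, 1) = w * f (1, zz n u) * w⁻¹ := (hw.w_conj _ _).symm
  rw [e1, ← cj_mul, ← cj_mul]
  constructor
  · intro e; rw [e]
  · exact conj_inj

/-- The hypotheses for the swapped coordinates. -/
theorem half' (F : FusSD S f w u y) (hS : IsPGroup 2 S) : Half (CC n u (sw f)) (sw f) (zz n u) := by
  have H := half F hS
  have hw := F.out.wr
  refine ⟨?_, ?_, ?_, ?_⟩
  · intro p q hpq
    obtain ⟨p1, p2⟩ := p
    obtain ⟨q1, q2⟩ := q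
    obtain ⟨h1, h2⟩ := Prod.mk.inj (hw.inj hpq)
    exact Prod.ext h2 h1
  · rw [sw_range]
    refine SylIn.of_card_le ?_ H.syl.two ?_
    · rintro _ ⟨⟨a, b⟩, rfl⟩
      rw [mem_CC, sw_apply, mk_mul, mk_mul, zz_comm F.coord, one_mul, mul_one]
    · intro D hD hD2 _
      rw [← Lib.GoldschmidtFusion.card_map_conj D w]
      apply H.syl.card_le _ (hD2.map _)
      rintro _ ⟨x, hx, rfl⟩
      exact (w_mem_iff hw).1 (hD hx)
  · intro c hc
    exact mem_CC.1 hc
  · intro b hb hb1 c hc p q hcon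
    rw [sw_apply, sw_apply] at hcon
    refine half_closed F hb hb1 (c := w * c * w⁻¹) (mem_CC.1 ((w_mem_iff hw).1 hc)) (p := p) (q := q) ?_
    have e1 : f (1, b) = w * f (b, 1) * w⁻¹ := (hw.w_conj _ _).symm
    have e2 : f (p, q) = w * f (q, p) * w⁻¹ := (hw.w_conj _ _).symm
    rw [e1, e2, ← hcon]
    group

end

/-! ### The extremal conjugate of `(r s, 1)` -/

theorem index_D (h : IsQDCoord n u y) : (D h).index = 2 := by
  rw [index_eq_two_iff_exists_notMem_and]
  refine ⟨u (2 * 0 + 1) * y, uy_odd_notMem_D h 0, ?_⟩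
  intro b
  rcases h.cases b with ⟨c, rfl⟩ | ⟨c, rfl⟩
  · rcases even_or_odd' n c with ⟨d, rfl⟩ | ⟨d, rfl⟩
    · exact Or.inr ⟨d, Or.inl rfl⟩
    · left
      exact ⟨d + 1, Or.inr (by rw [h.u_mul_uy]; congr 2; ring)⟩
  · rcases even_or_odd' n c with ⟨d, rfl⟩ | ⟨d, rfl⟩
    · exact Or.inr ⟨d, Or.inr rfl⟩
    · left
      refine ⟨d + 2 ^ (n - 2), Or.inl ?_⟩
      rw [h.uy_mul_uy]; congr 1
      linear_combination (-1 : ZMod (2 ^ n)) * two_mul_quarter h

/-- The subgroup `{(a, b), (a, b) w : χ(a) = χ(b)}`. -/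
def M0 {S : Subgroup G} (hw : Wr S f w) (χ : W →* ℤˣ) : Subgroup G where
  carrier := {g | ∃ a b, χ a = χ b ∧ (g = f (a, b) ∨ g = f (a, b) * w)}
  mul_mem' := by
    rintro _ _ ⟨a, b, hab, rfl | rfl⟩ ⟨a', b', hab', rfl | rfl⟩
    · exact ⟨a * a', b * b', by rw [map_mul, map_mul, hab, hab'], Or.inl (by rw [mk_mul])⟩
    · exact ⟨a * a', b * b', by rw [map_mul, map_mul, hab, hab'], Or.inr (by rw [hw.f_mul_fw])⟩
    · exact ⟨a * b', b * a', by rw [map_mul, map_mul, hab, hab'], Or.inr (by rw [hw.fw_mul_f])⟩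
    · exact ⟨a * b', b * a', by rw [map_mul, map_mul, hab, hab'], Or.inl (by rw [hw.fw_mul_fw])⟩
  one_mem' := ⟨1, 1, rfl, Or.inl (map_one f).symm⟩
  inv_mem' := by
    rintro _ ⟨a, b, hab, rfl | rfl⟩
    · exact ⟨a⁻¹, b⁻¹, by rw [map_inv, map_inv, hab], Or.inl (by rw [mk_inv])⟩
    · exact ⟨b⁻¹, a⁻¹, by rw [map_inv, map_inv, hab], Or.inr (by rw [hw.fw_inv])⟩

theorem mem_M0 {S : Subgroup G} (hw : Wr S f w) (χ : W →* ℤˣ) {g : G} :
    g ∈ M0 hw χ ↔ ∃ a b, χ a = χ b ∧ (g = f (a, b) ∨ g = f (a, b) * w) := Iff.rfl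

theorem M0_le {S : Subgroup G} (hw : Wr S f w) (χ : W →* ℤˣ) : M0 hw χ ≤ S := by
  rintro _ ⟨a, b, -, rfl | rfl⟩
  · exact hw.mem _
  · exact hw.fw_mem _

theorem relIndex_M0 {S : Subgroup G} (hw : Wr S f w) (χ : W →* ℤˣ) {x : W} (hx : χ x = -1) :
    (M0 hw χ).relIndex S = 2 := by
  have hne : (1 : ℤˣ) ≠ -1 := by decide
  have key : ∀ a b : W, χ a ≠ χ b → χ (a * x) = χ b := by
    intro a b hab
    rw [map_mul, hx]
    rcases Int.units_eq_one_or (χ a) with h1 | h1 <;> rcases Int.units_eq_one_or (χ b) with h2 | h2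
    · exact absurd (h1.trans h2.symm) hab
    · rw [h1, h2]; decide
    · rw [h1, h2]; decide
    · exact absurd (h1.trans h2.symm) hab
  rw [relIndex, index_eq_two_iff_exists_notMem_and]
  refine ⟨⟨f (x, 1), hw.mem _⟩, ?_, ?_⟩
  · rw [mem_subgroupOf]
    rintro ⟨a, b, hab, e | e⟩
    · obtain ⟨h1, h2⟩ := Prod.mk.inj (hw.inj e)
      rw [← h1, ← h2, hx, map_one] at hab
      exact hne hab.symm
    · exact hw.f_ne_fw _ _ e
  · rintro ⟨s, hs⟩
    rw [mem_subgroupOf, mem_subgroupOf]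
    rcases hw.cases s hs with ⟨a, b, rfl⟩ | ⟨a, b, rfl⟩
    · by_cases hab : χ a = χ b
      · exact Or.inr ⟨a, b, hab, Or.inl rfl⟩
      · refine Or.inl ⟨a * x, b, key a b hab, Or.inl ?_⟩
        change f (a, b) * f (x, 1) = _
        rw [mk_mul, mul_one]
    · by_cases hab : χ a = χ b
      · exact Or.inr ⟨a, b, hab, Or.inr rfl⟩
      · refine Or.inl ⟨a, b * x, (key b a (fun e => hab e.symm)).symm, Or.inr ?_⟩
        change f (a, b) * w * f (x, 1) = _
        rw [hw.fw_mul_f, mul_one]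

variable [Finite G]

/-- The extremal conjugate of `(r s, 1)`. -/
theorem exists_ext (S : Sylow 2 G) (hG : ∀ (φ : G →* ℤˣ) (x : G), φ x = 1)
    (F : FusSD (S : Subgroup G) f w u y) :
    ∃ (g : G) (a b : W), (a = ii n u ∨ a = (ii n u)⁻¹) ∧ (b = 1 ∨ b = zz n u) ∧
      g * f (u 1 * y, 1) * g⁻¹ = f (a, b) ∧ (∀ c, g * f (1, c) * g⁻¹ ∈ UU F.coord f) ∧
      SylIn (UU F.coord f) (centralizer ({f (a, b)} : Set G)) := by
  have h := F.coord
  have hw := F.out.wr
  have hinj := hw.inj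
  have e11 : f ((1 : W), (1 : W)) = 1 := map_one f
  obtain ⟨χ, hχ⟩ := SylowSp4.Extremal.exists_char (D h) (index_D h)
  have hq : u 1 * y * (u 1 * y) = zz n u := by
    have := sq_odd_uy h 0
    rwa [mul_zero, zero_add] at this
  have hqD : u 1 * y ∉ D h := by
    have := uy_odd_notMem_D h 0
    rwa [mul_zero, zero_add] at this
  have hχq : χ (u 1 * y) = -1 := (Int.units_eq_one_or _).resolve_left (fun e => hqD ((hχ _).1 e))
  have hχsq : ∀ a : W, a * a = 1 → χ a = 1 := fun a ha => (hχ a).2 (mem_D_of_sq h ha)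
  set u0 := f (u 1 * y, 1) with hu0
  have hu0sq : u0 * u0 = f (zz n u, 1) := by rw [hu0, mk_mul, hq, one_mul]
  have hu04 : u0 ^ 2 ^ 2 = 1 := by
    have : u0 ^ 2 ^ 2 = u0 * u0 * (u0 * u0) := by
      have e1 : u0 ^ 2 ^ 2 = u0 ^ 4 := by norm_num
      rw [e1]
      simp only [pow_succ, pow_zero, one_mul, mul_assoc]
    rw [this, hu0sq, mk_mul, zz_mul_zz h, one_mul, e11]
  -- the Sylow subgroup of `C_G(u0)`
  obtain ⟨R, hR, hRs⟩ := SylIn.exists_ge (N := centralizer ({u0} : Set G)) (D := f.range ⊓ centralizer ({u0} : Set G))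
    inf_le_right ((S.isPGroup'.to_le hw.range_le).to_le inf_le_left)
  have hWR : ∀ c, f (1, c) ∈ R := by
    intro c
    apply hR
    refine ⟨⟨_, rfl⟩, mem_centralizer_singleton_iff.2 ?_⟩
    rw [hu0, mk_mul, mk_mul, one_mul, one_mul, mul_one, mul_one]
  -- conjugates of the even powers
  have hev : ∀ (k : ℕ) (g : G), Even k → g⁻¹ * u0 ^ k * g ∈ (S : Subgroup G) → g⁻¹ * u0 ^ k * g ∈ M0 hw χ := by
    intro k g hk hgS
    have hsq : g⁻¹ * u0 ^ k * g * (g⁻¹ * u0 ^ k * g) = 1 := by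
      obtain ⟨m, rfl⟩ := hk
      have e1 : g⁻¹ * u0 ^ (m + m) * g * (g⁻¹ * u0 ^ (m + m) * g) = g⁻¹ * (u0 ^ 2 ^ 2) ^ m * g := by
        rw [← pow_mul]
        have : 2 ^ 2 * m = (m + m) + (m + m) := by ring
        rw [this, pow_add]
        group
      rw [e1, hu04, one_pow, mul_one, inv_mul_cancel]
    rcases hw.cases _ hgS with ⟨p, q, hpq⟩ | ⟨p, q, hpq⟩
    · rw [hpq, mk_mul, ← e11] at hsq
      obtain ⟨h1, h2⟩ := Prod.mk.inj (hinj hsq)
      rw [hpq]
      exact ⟨p, q, by rw [hχsq p h1, hχsq q h2], Or.inl rfl⟩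
    · rw [hpq, hw.fw_sq_eq_one_iff] at hsq
      rw [hpq]
      refine ⟨p, q, ?_, Or.inr rfl⟩
      rw [hsq, map_inv]
      rcases Int.units_eq_one_or (χ p) with h1 | h1 <;> rw [h1] <;> decide
  obtain ⟨g, hg1, hg2⟩ := CentSDExt.exists_extremal_pow S (M0 hw χ) (M0_le hw χ) (relIndex_M0 hw χ hχq) u0 hu04 hev
    (fun φ => hG φ u0) R hRs.two (fun r hr => mem_centralizer_singleton_iff.1 (hRs.le hr))
  -- the main case
  have main : ∀ (g : G) (a b : W), g * u0 * g⁻¹ = f (a, b) → χ a = χ b →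
      (∀ r ∈ R, g * r * g⁻¹ ∈ (S : Subgroup G)) → a * a = zz n u → b * b = 1 →
      ∃ (g : G) (a b : W), (a = ii n u ∨ a = (ii n u)⁻¹) ∧ (b = 1 ∨ b = zz n u) ∧
      g * u0 * g⁻¹ = f (a, b) ∧ (∀ c, g * f (1, c) * g⁻¹ ∈ UU F.coord f) ∧
      SylIn (UU F.coord f) (centralizer ({f (a, b)} : Set G)) := by
    intro g a b hgu hab hgR ha hb
    have ha' : a = ii n u ∨ a = (ii n u)⁻¹ := by
      rcases four_cases h ha with h1 | h1 | ⟨e, he⟩
      · exact Or.inl h1
      · exact Or.inr h1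
      · exfalso
        rw [hχsq b hb, hχ, he] at hab
        exact uy_odd_notMem_D h e hab
    have hRU : ∀ r ∈ R, ∃ c q, g * r * g⁻¹ = f (u c, q) ∧ q * b = b * q := by
      intro r hr
      have hcomm : g * r * g⁻¹ * f (a, b) = f (a, b) * (g * r * g⁻¹) := by
        rw [← hgu, ← cj_mul, ← cj_mul, mem_centralizer_singleton_iff.1 (hRs.le hr)]
      rcases hw.cases _ (hgR r hr) with ⟨p, q, hpq⟩ | ⟨p, q, hpq⟩
      · rw [hpq, hw.f_comm_f_iff] at hcomm
        obtain ⟨c, hc⟩ : ∃ c, p = u c := by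
          rcases ha' with rfl | rfl
          · exact comm_ii h hcomm.1
          · have h1 : p * ii n u = ii n u * p := by
              have h2 : Commute p (ii n u)⁻¹ := hcomm.1
              exact Commute.inv_right_iff.1 h2
            exact comm_ii h h1
        exact ⟨c, q, by rw [hpq, hc], hcomm.2⟩
      · exfalso
        rw [hpq, hw.fw_comm_f_iff] at hcomm
        have h1 : b = p⁻¹ * a * p := by rw [mul_assoc, ← hcomm.1, inv_mul_cancel_left]
        have h2 : b * b = p⁻¹ * (a * a) * p := by rw [h1]; group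
        rw [hb, ha, mul_assoc, zz_comm h, inv_mul_cancel_left] at h2
        exact zz_ne_one h h2.symm
    have hb' : b = 1 ∨ b = zz n u := by
      rcases inv_cases h hb with h1 | h1 | ⟨e, he⟩
      · exact Or.inl h1
      · exact Or.inr h1
      · exfalso
        -- commutators vanish
        have hab2 : ∀ c c' : W, c * c' = c' * c := by
          intro c c'
          obtain ⟨d, q, h1, h2⟩ := hRU _ (hWR c)
          obtain ⟨d', q', h1', h2'⟩ := hRU _ (hWR c')
          have h3 : q * q' = q' * q := by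
            rw [he] at h2 h2'
            have hzc := zz_comm h
            rcases comm_uy h h2 with rfl | rfl | rfl | rfl
            · rw [one_mul, mul_one]
            · exact hzc q'
            · exact h2'.symm
            · rw [mul_assoc, ← h2', ← mul_assoc, hzc, mul_assoc]
          have h4 : f (1, c * c') = f (1, c' * c) := by
            apply conj_inj (g := g)
            have e1 : f (1, c * c') = f (1, c) * f (1, c') := by rw [mk_mul, one_mul]
            have e2 : f (1, c' * c) = f (1, c') * f (1, c) := by rw [mk_mul, one_mul]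
            rw [e1, e2, cj_mul, cj_mul, h1, h1', mk_mul, mk_mul, h3, h.u_mul, h.u_mul, add_comm]
          exact (Prod.mk.inj (hinj h4)).2
        obtain ⟨d, hd⟩ := comm_ii h (hab2 y (ii n u))
        apply h.u_ne d 0
        rw [← hd, h.u_zero, one_mul]
    have hbc : ∀ x, b * x = x * b := by
      intro x
      rcases hb' with rfl | rfl
      · rw [one_mul, mul_one]
      · exact zz_comm h x
    have hUle : UU h f ≤ centralizer ({f (a, b)} : Set G) := by
      intro v hv
      obtain ⟨c, d, rfl⟩ := (mem_UU h).1 hv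
      rw [mem_centralizer_singleton_iff, mk_mul, mk_mul, hbc]
      congr 2
      rcases ha' with rfl | rfl
      · rw [h.u_mul, h.u_mul, add_comm]
      · rw [h.u_inv, h.u_mul, h.u_mul, add_comm]
    refine ⟨g, a, b, ha', hb', hgu, ?_, ?_⟩
    · intro c
      obtain ⟨d, q, h1, -⟩ := hRU _ (hWR c)
      rw [h1]
      exact f_mem_UU h _ _
    · refine SylIn.of_card_le hUle (((S.isPGroup'.to_le hw.range_le)).to_le (UU_le h)) ?_
      intro E hE hE2 _
      rw [← Lib.GoldschmidtFusion.card_map_conj E g⁻¹]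
      refine (hRs.card_le (D := E.map (MulAut.conj g⁻¹).toMonoidHom) ?_ (hE2.map _)).trans ?_
      · rintro _ ⟨x, hx, rfl⟩
        have h1 := mem_centralizer_singleton_iff.1 (hE hx)
        rw [mem_centralizer_singleton_iff]
        change g⁻¹ * x * g⁻¹⁻¹ * u0 = u0 * (g⁻¹ * x * g⁻¹⁻¹)
        have e1 : u0 = g⁻¹ * f (a, b) * g⁻¹⁻¹ := by rw [← hgu]; group
        rw [e1, ← cj_mul, ← cj_mul, h1]
      · rw [← Lib.GoldschmidtFusion.card_map_conj R g]
        apply Subgroup.card_le_of_le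
        rintro _ ⟨r, hr, rfl⟩
        obtain ⟨d, q, h1, -⟩ := hRU r hr
        change g * r * g⁻¹ ∈ _
        rw [h1]
        exact f_mem_UU h _ _
  obtain ⟨a, b, hab, hgu | hgu⟩ := (mem_M0 hw χ).1 hg1
  · -- squares
    have hsq : f (a * a, b * b) = g * f (zz n u, 1) * g⁻¹ := by
      rw [← mk_mul, ← hgu, ← cj_mul, hu0sq]
    have hsq2 : a * a * (a * a) = 1 ∧ b * b * (b * b) = 1 := by
      have h1 : f (a * a, b * b) * f (a * a, b * b) = 1 := by
        rw [hsq, ← cj_mul, mk_mul, zz_mul_zz h, one_mul, e11, mul_one, mul_inv_cancel]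
      rw [mk_mul, ← e11] at h1
      exact Prod.mk.inj (hinj h1)
    rcases sq_sq_eq_one h hsq2.1 with ha | ha <;> rcases sq_sq_eq_one h hsq2.2 with hb | hb
    · exfalso
      rw [ha, hb, e11, eq_comm, mul_inv_eq_one] at hsq
      have h1 : f (zz n u, 1) = f (1, 1) := by rw [e11]; exact mul_eq_left.1 hsq
      exact zz_ne_one h (Prod.mk.inj (hinj h1)).1
    · -- swap
      refine main (w * g) b a ?_ hab.symm ?_ hb ha
      · rw [← SylIn.conj_conj, hgu, hw.w_conj]
      · intro r hr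
        rw [← SylIn.conj_conj]
        exact mul_mem (mul_mem hw.w_mem (hg2 r hr)) (inv_mem hw.w_mem)
    · exact main g a b hgu hab hg2 ha hb
    · exfalso
      rw [ha, hb] at hsq
      exact F.out.not_conj (isConj_iff.2 ⟨g, hsq.symm⟩)
  · -- the case outside `T`
    exfalso
    have hv4 : (f (a, b) * w) ^ 4 = 1 := by
      have e1 : (4 : ℕ) = 2 ^ 2 := by norm_num
      rw [← hgu, ← conj_pow', e1, hu04, mul_one, mul_inv_cancel]
    have hvsq : f (a * b, b * a) = g * f (zz n u, 1) * g⁻¹ := by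
      rw [← hw.fw_sq, ← hgu, ← cj_mul, hu0sq]
    have hab2 : a * b * (a * b) = 1 := by
      have h1 : f (a * b, b * a) * f (a * b, b * a) = 1 := by
        rw [hvsq, ← cj_mul, mk_mul, zz_mul_zz h, one_mul, e11, mul_one, mul_inv_cancel]
      rw [mk_mul, ← e11] at h1
      exact (Prod.mk.inj (hinj h1)).1
    obtain ⟨e, he⟩ : ∃ e, a * b = u (2 * e) * y := by
      rcases inv_cases h hab2 with h1 | h1 | h1
      · exfalso
        have h2 : b * a = 1 := by
          rw [mul_eq_one_iff_eq_inv] at h1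
          rw [h1, mul_inv_cancel]
        rw [h1, h2, e11, eq_comm, mul_inv_eq_one] at hvsq
        have h3 : f (zz n u, 1) = f (1, 1) := by rw [e11]; exact mul_eq_left.1 hvsq
        exact zz_ne_one h (Prod.mk.inj (hinj h3)).1
      · exfalso
        have h2 : b * a = zz n u := by
          have h3 : b * a = a⁻¹ * (a * b) * a := by group
          rw [h3, h1, mul_assoc, zz_comm h, inv_mul_cancel_left]
        rw [h1, h2] at hvsq
        exact F.out.not_conj (isConj_iff.2 ⟨g, hvsq.symm⟩)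
      · exact h1
    -- elements of `C_T(v)` have square one
    have key : ∀ p q : W, f (a, b) * w * f (p, q) = f (p, q) * (f (a, b) * w) → f (p, q) * f (p, q) = 1 := by
      intro p q hpq
      rw [hw.fw_comm_f_iff] at hpq
      obtain ⟨h1, h2⟩ := hpq
      have h3 : p * (a * b) = a * b * p := by
        rw [← mul_assoc, ← h1, mul_assoc, ← h2, mul_assoc]
      have h4 : p * p = 1 := by
        rw [he] at h3
        have h5 := sq_even_uy h e
        rcases comm_uy h h3 with rfl | rfl | rfl | rfl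
        · exact one_mul 1
        · exact zz_mul_zz h
        · exact h5
        · have hzc := zz_comm h
          rw [mul_assoc, ← mul_assoc (u (2 * e) * y), ← hzc (u (2 * e) * y), mul_assoc, h5, mul_one, zz_mul_zz h]
      have h5 : q = a⁻¹ * p * a := by rw [mul_assoc, ← h1, inv_mul_cancel_left]
      have h6 : q * q = 1 := by
        have : q * q = a⁻¹ * (p * p) * a := by rw [h5]; group
        rw [this, h4, mul_one, inv_mul_cancel]
      rw [mk_mul, h4, h6, e11]
    -- the conjugate of `(1, r)` has order at most four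
    set x := g * f (1, u 1) * g⁻¹ with hx
    have hxS : x ∈ (S : Subgroup G) := hg2 _ (hWR _)
    have hxv : f (a, b) * w * x = x * (f (a, b) * w) := by
      rw [hx, ← hgu, ← cj_mul, ← cj_mul, hu0, mk_mul, mk_mul, one_mul, one_mul, mul_one, mul_one]
    have hx4 : x ^ 4 = 1 := by
      rcases hw.cases x hxS with ⟨p, q, hpq⟩ | ⟨p, q, hpq⟩
      · rw [hpq] at hxv ⊢
        have h1 := key p q hxv
        have e1 : f (p, q) ^ 4 = f (p, q) * f (p, q) * (f (p, q) * f (p, q)) := by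
          simp only [pow_succ, pow_zero, one_mul, mul_assoc]
        rw [e1, h1, one_mul]
      · have h0 : x * (f (a, b) * w) = f (p * b, q * a) := by
          rw [hpq, hw.fw_mul_fw]
        have hcomm : Commute x (f (a, b) * w) := hxv.symm
        have h1 : f (a, b) * w * f (p * b, q * a) = f (p * b, q * a) * (f (a, b) * w) := by
          rw [← h0]
          exact (hcomm.mul_left (Commute.refl _)).symm
        have h2 := key _ _ h1
        rw [← h0] at h2
        have h3 : (x * (f (a, b) * w)) ^ 4 = 1 := by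
          have e1 : (x * (f (a, b) * w)) ^ 4 = x * (f (a, b) * w) * (x * (f (a, b) * w)) *
              (x * (f (a, b) * w) * (x * (f (a, b) * w))) := by
            simp only [pow_succ, pow_zero, one_mul, mul_assoc]
          rw [e1, h2, one_mul]
        rw [hcomm.mul_pow, hv4, mul_one] at h3
        exact h3
    rw [hx, ← conj_pow', ← map_pow, Prod.pow_mk, one_pow, h.u_one_pow, mul_inv_eq_one] at hx4
    have h1 : f (1, u ((4 : ℕ) : ZMod (2 ^ n))) = f (1, 1) := by
      rw [e11]; exact mul_eq_left.1 hx4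
    have h2 := (Prod.mk.inj (hinj h1)).2
    rw [h.u_eq_one_iff, natCast_eq_zero_iff] at h2
    have h3 := Nat.le_of_dvd (by norm_num) h2
    have h4 : 2 ^ 3 ≤ 2 ^ n := Nat.pow_le_pow_right (by norm_num) h.three_le
    omega

/-! ### The twist -/

omit [Finite G] in
/-- The homomorphism `μ` with kernel `D` and values in the centre. -/
theorem exists_mu (h : IsQDCoord n u y) : ∃ μ : W →* W, (∀ x ∈ D h, μ x = 1) ∧ (∀ x ∉ D h, μ x = zz n u) := by
  classical
  obtain ⟨χ, hχ⟩ := SylowSp4.Extremal.exists_char (D h) (index_D h)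
  have h1 : ∀ x, χ x ≠ 1 → χ x = -1 := fun x hx => (Int.units_eq_one_or _).resolve_left hx
  refine ⟨{ toFun := fun x => if χ x = 1 then 1 else zz n u
            map_one' := if_pos (map_one χ)
            map_mul' := ?_ }, ?_, ?_⟩
  · intro x x'
    by_cases hx : χ x = 1 <;> by_cases hx' : χ x' = 1
    · simp [hx, hx']
    · simp [hx, hx']
    · simp [hx, hx']
    · have h2 : χ (x * x') = 1 := by rw [map_mul, h1 _ hx, h1 _ hx']; decide
      rw [if_pos h2, if_neg hx, if_neg hx', zz_mul_zz h]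
  · intro x hx
    exact if_pos ((hχ x).2 hx)
  · intro x hx
    exact if_neg (fun e => hx ((hχ x).1 e))

omit [Finite G] in
theorem zz_mem_D (h : IsQDCoord n u y) : zz n u ∈ D h := mem_D_of_sq h (zz_mul_zz h)

omit [Finite G] in
/-- The fusion data are invariant under the twist. -/
theorem twist_fus {S : Subgroup G} (F : FusSD S f w u y) (μ : W →* W) (hμ : ∀ x y, μ x * y = y * μ x)
    (hμ1 : ∀ x ∈ D F.coord, μ x = 1) (hμ2 : ∀ x ∉ D F.coord, μ x = zz n u) :
    FusSD S (f.comp (twistHom μ hμ)) w u y ∧ (f.comp (twistHom μ hμ)).range = f.range ∧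
      ∀ a ∈ D F.coord, ∀ b ∈ D F.coord, f.comp (twistHom μ hμ) (a, b) = f (a, b) := by
  have h := F.coord
  have hfin : Finite W := h.finite
  have hinj : ∀ x, μ (μ x) = x → x = 1 := by
    intro x hx
    have h1 : μ x ∈ D h := by
      by_cases hxD : x ∈ D h
      · rw [hμ1 x hxD]; exact one_mem _
      · rw [hμ2 x hxD]; exact zz_mem_D h
    rw [hμ1 _ h1] at hx
    exact hx.symm
  have hD : ∀ a ∈ D h, ∀ b ∈ D h, f.comp (twistHom μ hμ) (a, b) = f (a, b) := by
    intro a ha b hb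
    rw [MonoidHom.comp_apply, twistHom_apply, hμ1 a ha, hμ1 b hb, mul_one, mul_one]
  have hz := zz_mem_D h
  have hsq : ∀ x : W, x * x = 1 → x ∈ D h := fun x hx => mem_D_of_sq h hx
  have hrange : (f.comp (twistHom μ hμ)).range = f.range := Wr.comp_range (twistEquiv μ hμ hinj)
  refine ⟨⟨h, ?_⟩, hrange, hD⟩
  have hzv : ∀ i, f.comp (twistHom μ hμ) (zv (zz n u) y i) = f (zv (zz n u) y i) := by
    intro i
    have hy := y_mem_D h
    fin_cases i
    · exact hD _ (mul_mem hy hz) _ hz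
    · exact hD _ hy _ hz
    · exact hD _ hz _ (mul_mem hy hz)
    · exact hD _ hz _ hy
    · exact hD _ hz _ hz
  refine ⟨F.out.wr.twist μ hμ hinj, ?_, ?_, ?_, ?_, ?_, ?_⟩
  · rw [hD _ hz _ (one_mem _), hD _ hz _ hz]
    exact F.out.not_conj
  · intro σ
    obtain ⟨g, hg⟩ := F.out.perm σ
    refine ⟨g, fun i => ?_⟩
    rw [hzv, hzv]
    exact hg i
  · rw [hD _ hz _ (one_mem _)]
    exact F.out.conj_w
  · intro p q hp hq h1 h2 h3
    rw [hD _ hz _ hz, hD _ (hsq p hp) _ (hsq q hq)]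
    exact F.out.conj_z p q hp hq h1 h2 h3
  · intro p q hp hq h1 h2
    rw [hD _ hz _ (one_mem _), hD _ (hsq p hp) _ (hsq q hq)]
    exact F.out.conj_t p q hp hq h1 h2
  · intro R hR hRle hRt
    rw [hrange] at hRle ⊢
    rw [hD _ hz _ (one_mem _)] at hRt
    exact F.out.sylow_t R hR hRle hRt

/-- The Sylow subgroup of `C(i)`. -/
theorem sylU (S : Sylow 2 G) (hG : ∀ (φ : G →* ℤˣ) (x : G), φ x = 1)
    (F : FusSD (S : Subgroup G) f w u y) {ρ : G} (hρ : ρ * f (ii n u, 1) * ρ⁻¹ = f (u 1 * y, 1)) :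
    SylIn (UU F.coord f) (CC n u f ⊓ centralizer ({f (ii n u, 1)} : Set G)) := by
  have h := F.coord
  obtain ⟨g, a, b, -, -, hg, -, hs⟩ := exists_ext S hG F
  refine SylIn.of_card_le (le_inf ?_ ?_) hs.two ?_
  · intro v hv
    obtain ⟨c, d, rfl⟩ := (mem_UU h).1 hv
    rw [mem_CC, mk_mul, mk_mul, zz_comm h, one_mul, mul_one]
  · intro v hv
    obtain ⟨c, d, rfl⟩ := (mem_UU h).1 hv
    rw [mem_centralizer_singleton_iff, mk_mul, mk_mul, h.u_mul, h.u_mul, add_comm, one_mul, mul_one]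
  · intro E hE hE2 _
    rw [← Lib.GoldschmidtFusion.card_map_conj E (g * ρ)]
    apply hs.card_le _ (hE2.map _)
    rintro _ ⟨x, hx, rfl⟩
    have h1 := mem_centralizer_singleton_iff.1 (hE hx).2
    rw [mem_centralizer_singleton_iff]
    change g * ρ * x * (g * ρ)⁻¹ * f (a, b) = f (a, b) * (g * ρ * x * (g * ρ)⁻¹)
    have e1 : f (a, b) = g * ρ * f (ii n u, 1) * (g * ρ)⁻¹ := by
      rw [← SylIn.conj_conj, hρ, hg]
    rw [e1, ← cj_mul, ← cj_mul, h1]

/-- **Step (1)**: the element `ρ₁` after a twist of the coordinates. -/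
theorem exists_rho (S : Sylow 2 G) (hG : ∀ (φ : G →* ℤˣ) (x : G), φ x = 1)
    (F : FusSD (S : Subgroup G) f w u y) :
    ∃ f' : W × W →* G, FusSD (S : Subgroup G) f' w u y ∧ f'.range = f.range ∧
      (∀ a ∈ D F.coord, ∀ b ∈ D F.coord, f' (a, b) = f (a, b)) ∧
      ∃ ρ : G, Rho F.coord (CC n u f') f' ρ := by
  have h := F.coord
  have H := half F S.isPGroup'
  obtain ⟨g, a, b, ha, hb, hg, hgW, hs⟩ := exists_ext S hG F
  -- `g` centralises `t`
  have hgC : g ∈ CC n u f := by
    rw [mem_CC]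
    have hq : u 1 * y * (u 1 * y) = zz n u := by
      have := sq_odd_uy h 0
      rwa [mul_zero, zero_add] at this
    have h1 : g * f (zz n u, 1) * g⁻¹ = f (a * a, b * b) := by
      have e1 : f (zz n u, 1) = f (u 1 * y, 1) * f (u 1 * y, 1) := by rw [mk_mul, hq, one_mul]
      rw [e1, cj_mul, hg, mk_mul]
    have ha2 : a * a = zz n u := by
      rcases ha with rfl | rfl
      · exact ii_mul_ii h
      · rw [← mul_inv_rev, ii_mul_ii h]
        exact inv_eq_of_mul_eq_one_left (zz_mul_zz h)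
    rw [ha2, Zc_sq h hb] at h1
    exact mul_inv_eq_iff_eq_mul.1 h1
  obtain ⟨ρ, hρC, hρW, z, hz, hρi⟩ := CentSDRho.exists_rho h H hgC (fun c => UU_le h (hgW c)) ha hb hg
  rcases hz with rfl | rfl
  · exact ⟨f, F, rfl, fun _ _ _ _ => rfl, ρ, hρC, hρW, hρi, sylU S hG F hρi⟩
  · obtain ⟨μ, hμ1, hμ2⟩ := exists_mu h
    have hμ : ∀ x y, μ x * y = y * μ x := by
      intro x y'
      by_cases hx : x ∈ D h
      · rw [hμ1 x hx, one_mul, mul_one]
      · rw [hμ2 x hx, zz_comm h]
    obtain ⟨F', hr, hD⟩ := twist_fus F μ hμ hμ1 hμ2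
    have hiD := ii_mem_D h
    have hqD : u 1 * y ∉ D h := by
      have := uy_odd_notMem_D h 0
      rwa [mul_zero, zero_add] at this
    have hρi' : ρ * f.comp (twistHom μ hμ) (ii n u, 1) * ρ⁻¹ = f.comp (twistHom μ hμ) (u 1 * y, 1) := by
      rw [hD _ hiD _ (one_mem _), hρi, MonoidHom.comp_apply, twistHom_apply, hμ2 _ hqD, map_one, mul_one, one_mul]
    refine ⟨f.comp (twistHom μ hμ), F', hr, hD, ρ, ?_, ?_, hρi', sylU S hG F' hρi'⟩
    · rw [mem_CC, hD _ (zz_mem_D h) _ (one_mem _)]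
      exact mem_CC.1 hρC
    · intro c
      rw [MonoidHom.comp_apply, twistHom_apply, map_one, one_mul, mul_one]
      have e1 : f (μ c, c) = f (μ c, 1) * f (1, c) := by rw [mk_mul, mul_one, one_mul]
      have h1 : Commute ρ (f (μ c, 1)) := by
        by_cases hc : c ∈ D h
        · rw [hμ1 c hc]
          have e1 : f ((1 : W), (1 : W)) = 1 := map_one f
          rw [e1]; exact Commute.one_right ρ
        · rw [hμ2 c hc]
          exact mem_CC.1 hρC
      rw [e1]
      exact (h1.mul_right (hρW c) : Commute ρ _)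

omit [Finite G] in
theorem sw_sw : sw (sw f) = f := by
  ext p <;> rfl

/-- The element `ρ₂`. -/
theorem rho_swap {S : Subgroup G} (F : FusSD S f w u y) (hS : IsPGroup 2 S) {ρ : G}
    (hρ : Rho F.coord (CC n u f) f ρ) : Rho F.coord (CC n u (sw f)) (sw f) (w * ρ * w⁻¹) := by
  have hw := F.out.wr
  have hww : ∀ v, w * (w * v * w⁻¹) * w⁻¹ = v := by
    intro v
    have h1 := hw.w_w
    have e1 : w * (w * v * w⁻¹) * w⁻¹ = w * w * v * (w * w)⁻¹ := by group
    rw [e1, h1, one_mul, inv_one, mul_one]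
  refine ⟨?_, ?_, ?_, ?_⟩
  · rw [w_mem_iff hw, hww]
    exact hρ.mem
  · intro b
    rw [sw_apply]
    have e1 : f (b, 1) = w * f (1, b) * w⁻¹ := (hw.w_conj _ _).symm
    rw [e1, ← cj_mul, ← cj_mul, hρ.comm]
  · rw [sw_apply, sw_apply, ← hw.w_conj (u 1 * y) 1, ← hw.w_conj (ii n u) 1, ← hρ.conj]
    group
  · have hUw : UU F.coord (sw f) = (UU F.coord f).map (MulAut.conj w).toMonoidHom := by
      ext v
      constructor
      · intro hv
        obtain ⟨a, b, rfl⟩ := (mem_UU F.coord).1 hv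
        rw [sw_apply, ← hw.w_conj (u a) b]
        exact Lib.GoldschmidtFusion.conj_mem_map_conj (f_mem_UU F.coord a b) w
      · rintro ⟨x, hx, rfl⟩
        obtain ⟨a, b, rfl⟩ := (mem_UU F.coord).1 hx
        change w * f (u a, b) * w⁻¹ ∈ _
        rw [hw.w_conj]
        exact f_mem_UU (f := sw f) F.coord a b
    have hle : UU F.coord (sw f) ≤ CC n u (sw f) ⊓ centralizer ({sw f (ii n u, 1)} : Set G) := by
      refine le_inf ?_ ?_
      · refine (UU_le F.coord).trans ?_
        exact (half' F hS).syl.le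
      · intro v hv
        obtain ⟨c, d, rfl⟩ := (mem_UU F.coord).1 hv
        rw [mem_centralizer_singleton_iff, mk_mul, mk_mul, F.coord.u_mul, F.coord.u_mul, add_comm, one_mul,
          mul_one]
    refine SylIn.of_card_le hle ?_ ?_
    · rw [hUw]; exact hρ.sylU.two.map _
    · intro E hE hE2 _
      rw [hUw, Lib.GoldschmidtFusion.card_map_conj, ← Lib.GoldschmidtFusion.card_map_conj E w]
      apply hρ.sylU.card_le _ (hE2.map _)
      rintro _ ⟨x, hx, rfl⟩
      refine mem_inf.2 ⟨(w_mem_iff hw).1 (hE hx).1, mem_centralizer_singleton_iff.2 ?_⟩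
      have h1 := mem_centralizer_singleton_iff.1 (hE hx).2
      rw [sw_apply] at h1
      change w * x * w⁻¹ * f (ii n u, 1) = f (ii n u, 1) * (w * x * w⁻¹)
      rw [← hw.w_conj 1 (ii n u), ← cj_mul, ← cj_mul, h1]

/-- **Step (2)**: `Q₁` is strongly closed in `T` with respect to `C_G(t)`. -/
theorem closed_Q {S : Subgroup G} (F : FusSD S f w u y) (hS : IsPGroup 2 S) {ρ : G}
    (hρ : Rho F.coord (CC n u f) f ρ) {a : W} (ha : a ∈ Q F.coord) {c : G} (hc : c ∈ CC n u f) {p q : W}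
    (hcon : c * f (a, 1) * c⁻¹ = f (p, q)) : q = 1 ∧ p ∈ Q F.coord :=
  CentSDClosed.closed_Q F.coord (half F hS) hρ ha hc hcon

/-- **Step (3)**: `W₂` is strongly closed in `T` with respect to `C_G(t)`. -/
theorem closed_W {S : Subgroup G} (F : FusSD S f w u y) (hS : IsPGroup 2 S) {ρ : G}
    (hρ : Rho F.coord (CC n u f) f ρ) {b : W} {c : G} (hc : c ∈ CC n u f) {p q : W}
    (hcon : c * f (1, b) * c⁻¹ = f (p, q)) : p = 1 :=
  CentSDClosedTwo.closed_W F.coord (half F hS) (half' F hS) (fun c _ hc => mem_CC.2 hc)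
    (rho_swap F hS hρ) hc hcon

end Cfsg.Agent.TypeLFive.CentSDMain
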