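import Mathlib
import Cfsg.Agent.TypeLFive.CentSDMain
import Cfsg.Agent.TypeLFive.CentData
import Cfsg.Agent.Classification.QDW.AutSylow

/-!
# The data `CData` in the semidihedral case
-/

set_option autoImplicit false

namespace Cfsg.Agent.TypeLFive.CentSDData

open Subgroup Cfsg.Agent.TwoFusion.QDBasic CentSDGroup CentSDTools CentSDClosed CentSDClosedTwo CentSDRho
  Model Out CentSDMain CentData

variable {G W : Type*} [Group G] [Group W] {n : ℕ} {u : ZMod (2 ^ n) → W} {y : W} {f : W × W →* G} {w : G}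

/-- `W` is quasi-dihedral. -/
theorem isQuasiDihedral (h : IsQDCoord n u y) : Cfsg.IsQuasiDihedral W := by
  have hpow : ∀ (k : ℕ) (a : ZMod (2 ^ n)), u a ^ k = u ((k : ZMod (2 ^ n)) * a) := by
    intro k a
    induction k with
    | zero => rw [pow_zero, Nat.cast_zero, zero_mul, h.u_zero]
    | succ k ih => rw [pow_succ, ih, h.u_mul]; congr 1; push_cast; ring
  refine ⟨n, h.three_le, h.card, u 1, y, ?_, ?_, ?_⟩
  · apply dvd_antisymm
    · rw [orderOf_dvd_iff_pow_eq_one, hpow, mul_one, ← h.u_zero]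
      congr 1
      exact ZMod.natCast_self _
    · have h1 := pow_orderOf_eq_one (u 1)
      rw [hpow, mul_one, ← h.u_zero] at h1
      have h2 := h.u_inj _ _ h1
      exact (natCast_eq_zero_iff n _).1 h2
  · rw [orderOf_eq_prime_iff]
    refine ⟨by rw [sq]; exact h.y_y, ?_⟩
    intro hy
    have := h.u_ne 0 0
    rw [h.u_zero, one_mul] at this
    exact this hy.symm
  · rw [hpow, h.y_u, mul_inv_cancel_right]
    congr 1
    have hn : 1 ≤ 2 ^ (n - 1) := Nat.one_le_two_pow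
    rw [Nat.cast_sub hn]
    push_cast
    ring

/-- The fusion in the second factor generates `W`. -/
theorem gen {S : Subgroup G} (F : FusSD S f w u y) {ρ : G} (hρ : Rho F.coord (CC n u f) f ρ) (H : Subgroup W)
    (hH : ∀ c : G, c * f (zz n u, 1) = f (zz n u, 1) * c → ∀ x y : W, c * f (1, x) * c⁻¹ = f (1, y) →
      x⁻¹ * y ∈ H) : H = ⊤ := by
  have h := F.coord
  have hw := F.out.wr
  have hzy := zz_comm h y
  -- `y ∈ H`
  have hy : y ∈ H := by
    obtain ⟨g, hg⟩ := F.out.perm (Equiv.swap 2 4)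
    have e0 : Equiv.swap (2 : Fin 5) 4 0 = 0 := by decide
    have e1 : Equiv.swap (2 : Fin 5) 4 1 = 1 := by decide
    have e2 : Equiv.swap (2 : Fin 5) 4 2 = 4 := by decide
    have e3 : Equiv.swap (2 : Fin 5) 4 3 = 3 := by decide
    have g0 : g * f (y * zz n u, zz n u) * g⁻¹ = f (y * zz n u, zz n u) := by
      have := hg 0; rwa [e0] at this
    have g1 : g * f (y, zz n u) * g⁻¹ = f (y, zz n u) := by
      have := hg 1; rwa [e1] at this
    have g2 : g * f (zz n u, y * zz n u) * g⁻¹ = f (zz n u, zz n u) := by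
      have := hg 2; rwa [e2] at this
    have g3 : g * f (zz n u, y) * g⁻¹ = f (zz n u, y) := by
      have := hg 3; rwa [e3] at this
    have h1 : g * f (zz n u, 1) = f (zz n u, 1) * g := by
      have e : f (zz n u, 1) = f (y * zz n u, zz n u) * f (y, zz n u) := by
        rw [mk_mul, zz_mul_zz h, mul_assoc, hzy, ← mul_assoc, h.y_y, one_mul]
      have := cj_mul g (f (y * zz n u, zz n u)) (f (y, zz n u))
      rw [g0, g1, ← e] at this
      exact mul_inv_eq_iff_eq_mul.1 this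
    have h2 : g * f (1, zz n u) * g⁻¹ = f (1, y * zz n u) := by
      have e : f (1, zz n u) = f (zz n u, y * zz n u) * f (zz n u, y) := by
        rw [mk_mul, zz_mul_zz h, mul_assoc, hzy, ← mul_assoc, h.y_y, one_mul]
      rw [e, cj_mul, g2, g3, mk_mul, zz_mul_zz h, hzy]
    have h3 := hH g h1 _ _ h2
    have e : (zz n u)⁻¹ * (y * zz n u) = y := by
      rw [← hzy, inv_mul_cancel_left]
    rwa [e] at h3
  -- `D ≤ H`
  have hC : ∀ p : W × W, f p * f (zz n u, 1) = f (zz n u, 1) * f p := by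
    rintro ⟨p, q⟩
    rw [mk_mul, mk_mul, zz_comm h, mul_one, one_mul]
  have hu2 : ∀ a, u (2 * a) ∈ H := by
    intro a
    obtain ⟨b, hb⟩ := conj_even h a
    have h1 := hH (f (1, u b)) (hC _) (u (2 * a) * y) y (by
      rw [mk_mul, mk_inv, mk_mul, hb, mul_one, one_mul, inv_one])
    rw [mul_inv_rev] at h1
    have h2 := (H.mul_mem_cancel_left (H.inv_mem hy)).1 (by rwa [mul_assoc] at h1)
    have h3 := (H.mul_mem_cancel_right hy).1 h2
    exact inv_mem_iff.1 h3
  -- `u 1 * y ∈ H`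
  have hq : u 1 * y ∈ H := by
    have h1 : w * ρ * w⁻¹ * f (zz n u, 1) = f (zz n u, 1) * (w * ρ * w⁻¹) := by
      have e1 : f (zz n u, 1) = w * f (1, zz n u) * w⁻¹ := (hw.w_conj _ _).symm
      rw [e1, ← cj_mul, ← cj_mul, hρ.comm]
    have h2 : w * ρ * w⁻¹ * f (1, ii n u) * (w * ρ * w⁻¹)⁻¹ = f (1, u 1 * y) := by
      have e1 : f (1, ii n u) = w * f (ii n u, 1) * w⁻¹ := (hw.w_conj _ _).symm
      have e2 : f (1, u 1 * y) = w * f (u 1 * y, 1) * w⁻¹ := (hw.w_conj _ _).symm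
      rw [e1, e2, ← hρ.conj]
      group
    have h3 := hH _ h1 _ _ h2
    have h4 : ii n u ∈ H := by
      have := hu2 (2 ^ (n - 3))
      rwa [two_mul_eighth h] at this
    exact (H.mul_mem_cancel_left (H.inv_mem h4)).1 h3
  have hu1 : u 1 ∈ H := (H.mul_mem_cancel_right hy).1 hq
  have hu : ∀ a, u a ∈ H := by
    intro a
    rcases even_or_odd' n a with ⟨b, rfl⟩ | ⟨b, rfl⟩
    · exact hu2 b
    · rw [← h.u_mul]
      exact mul_mem (hu2 b) hu1
  rw [eq_top_iff]
  intro x _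
  rcases h.cases x with ⟨a, rfl⟩ | ⟨a, rfl⟩
  · exact hu a
  · exact mul_mem (hu a) hy

theorem centQ (h : IsQDCoord n u y) {x : W} (hx : ∀ q ∈ Q h, x * q = q * x) : x ∈ zpowers (zz n u) := by
  have h1 : ii n u ∈ Q h := mem_Q_of_sq h (ii_mul_ii h)
  have h2 : u 1 * y ∈ Q h := ⟨0, Or.inr (by rw [mul_zero, zero_add])⟩
  have h3 : ii n u * (u 1 * y) ≠ u 1 * y * ii n u := by
    intro e
    have h4 : y * ii n u = ii n u * y := by
      have e1 : u 1 * (ii n u * y) = u 1 * (y * ii n u) := by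
        rw [← mul_assoc, ← mul_assoc, ← e, h.u_mul, ← mul_assoc, h.u_mul, add_comm]
      exact (mul_left_cancel e1).symm
    have h5 : ii n u = (ii n u)⁻¹ := by
      rw [← y_conj_ii h, h4, mul_inv_cancel_right]
    have h6 : ii n u * ii n u = 1 := by
      nth_rewrite 1 [h5]
      exact inv_mul_cancel _
    rw [ii_mul_ii h] at h6
    exact zz_ne_one h h6
  rcases comm_noncomm h h3 (hx _ h1) (hx _ h2) with rfl | rfl
  · exact one_mem _
  · exact mem_zpowers _

theorem quoQ (h : IsQDCoord n u y) (x : W) : x ∈ Q h ∨ y * x ∈ Q h := by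
  have h2 := two_mul_quarter h
  rcases h.cases x with ⟨a, rfl⟩ | ⟨a, rfl⟩
  · rcases even_or_odd' n a with ⟨b, rfl⟩ | ⟨b, rfl⟩
    · exact Or.inl ⟨b, Or.inl rfl⟩
    · refine Or.inr ⟨2 ^ (n - 2) - b - 1, Or.inr ?_⟩
      rw [h.y_u]
      congr 2
      linear_combination two_mul_half n h.one_le * b - h2
  · rcases even_or_odd' n a with ⟨b, rfl⟩ | ⟨b, rfl⟩
    · refine Or.inr ⟨(2 ^ (n - 1) - 1) * b, Or.inl ?_⟩
      rw [← mul_assoc, h.y_u, mul_assoc, h.y_y, mul_one]
      congr 1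
      ring
    · exact Or.inl ⟨b, Or.inr rfl⟩

/-- The data of steps (1)-(3) in the semidihedral case. -/
theorem cdata_of_rho [Finite G] {S : Subgroup G} (F : FusSD S f w u y) (hS : IsPGroup 2 S) {ρ : G}
    (hρ : Rho F.coord (CC n u f) f ρ) : CData f (Q F.coord) (zz n u) where
  inj := F.out.wr.inj
  finW := F.coord.finite
  twoW := IsPGroup.of_card F.coord.card
  ζ_Q := zz_mem_Q F.coord
  ζ_center := zz_comm F.coord
  sylow_t := F.out.sylow_t
  clQ c hc x hx y₁ y₂ hcon := (closed_Q F hS hρ hx (mem_CC.2 hc) hcon).symm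
  clW c hc x y₁ y₂ hcon := closed_W F hS hρ (mem_CC.2 hc) hcon
  gen := gen F hρ
  centQ := ⟨zz n u, fun x hx => centQ F.coord hx⟩
  quoQ := ⟨y, fun x => by
    rcases quoQ F.coord x with h1 | h1
    · exact ⟨0, by rwa [zpow_zero, one_mul]⟩
    · exact ⟨1, by rwa [zpow_one]⟩⟩
  aut := by
    have : Finite W := F.coord.finite
    exact Classification.QDW.AutSylow.isPGroup_mulAut (Or.inl (isQuasiDihedral F.coord))
  type := Or.inl (isQuasiDihedral F.coord)

theorem exists_cdata [Finite G] (S : Sylow 2 G) (hG : ∀ (φ : G →* ℤˣ) (x : G), φ x = 1)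
    (F : FusSD (S : Subgroup G) f w u y) :
    ∃ f' : W × W →* G, FusSD (S : Subgroup G) f' w u y ∧ f'.range = f.range ∧
      (∀ a ∈ D F.coord, ∀ b ∈ D F.coord, f' (a, b) = f (a, b)) ∧ CData f' (Q F.coord) (zz n u) := by
  obtain ⟨f', F', hr, hD, ρ, hρ⟩ := exists_rho S hG F
  exact ⟨f', F', hr, hD, cdata_of_rho F' S.isPGroup' hρ⟩

end Cfsg.Agent.TypeLFive.CentSDData
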