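import Mathlib
import Cfsg.Agent.TypeLFive.CentGlue
import Cfsg.Agent.TypeLFive.CentSDData
import Cfsg.Agent.TypeLFive.CentWRFacts

/-!
# The normal closure of `E` covers the normal closure of `Q1`

`cov_SD`, `cov_WR`: a normal subgroup of `X = C_G(t) / O(C_G(t))` containing the class of `f (e, 1)` contains
`normalClosure Q1`.
-/

set_option autoImplicit false

namespace Cfsg.Agent.TypeLFive.CentCov

open Subgroup CentData CentGlue Model Out

variable {G W : Type*} [Group G] [Group W] {f : W × W →* G} {Q : Subgroup W} {ζ : W}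

/-- The preimage of `N` in the first factor. -/
def pre (D : CData f Q ζ) (N : Subgroup (XX f ζ)) : Subgroup W := N.comap ((phi D).comp (MonoidHom.inl W W))

theorem mem_pre (D : CData f Q ζ) (N : Subgroup (XX f ζ)) {a : W} : a ∈ pre D N ↔ phi D (a, 1) ∈ N := Iff.rfl

/-- `pre N` is normal. -/
theorem pre_conj (D : CData f Q ζ) {N : Subgroup (XX f ζ)} (hN : N.Normal) {a : W} (ha : a ∈ pre D N) (b : W) :
    b * a * b⁻¹ ∈ pre D N := by
  have h1 := hN.conj_mem _ ha (phi D (b, 1))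
  have e : phi D (b, 1) * phi D (a, 1) * (phi D (b, 1))⁻¹ = phi D (b * a * b⁻¹, 1) := by
    rw [← map_inv, ← map_mul, ← map_mul]
    congr 1
    exact Prod.ext rfl (by simp)
  rw [mem_pre, ← e]
  exact h1

/-- `pre N` is closed under fusion. -/
theorem pre_fusion (D : CData f Q ζ) {N : Subgroup (XX f ζ)} (hN : N.Normal) {a b : W} (ha : a ∈ pre D N) {c : G}
    (hc : c ∈ Ct f ζ) (hcab : c * f (a, 1) * c⁻¹ = f (b, 1)) : b ∈ pre D N := by
  have h1 := hN.conj_mem _ ha (QuotientGroup.mk' (Cfsg.oddCore ↥(Ct f ζ)) ⟨c, hc⟩)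
  have e : QuotientGroup.mk' (Cfsg.oddCore ↥(Ct f ζ)) ⟨c, hc⟩ * phi D (a, 1) *
      (QuotientGroup.mk' (Cfsg.oddCore ↥(Ct f ζ)) ⟨c, hc⟩)⁻¹ = phi D (b, 1) := by
    rw [phi_apply, phi_apply, ← map_inv, ← map_mul, ← map_mul]
    congr 1
    exact Subtype.ext hcab
  rw [mem_pre, ← e]
  exact h1

theorem closure_le_of (D : CData f Q ζ) {N : Subgroup (XX f ζ)} (hN : N.Normal) (h : Q ≤ pre D N) :
    normalClosure (Q1 D : Set (XX f ζ)) ≤ N := by
  apply normalClosure_le_normal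
  intro x hx
  obtain ⟨a, ha, rfl⟩ := (mem_Q1 D).1 hx
  exact h ha

/-- The semidihedral case. -/
theorem cov_SD {n : ℕ} {u : ZMod (2 ^ n) → W} {y : W} {w : G} {S : Subgroup G} (F : FusSD S f w u y) {ρ : G}
    (hρ : CentSDClosed.Rho F.coord (CentSDMain.CC n u f) f ρ)
    (D : CData f (CentSDGroup.Q F.coord) (CentSDGroup.zz n u)) {N : Subgroup (XX f (CentSDGroup.zz n u))}
    (hN : N.Normal) (he : phi D (y, 1) ∈ N) :
    normalClosure (Q1 D : Set (XX f (CentSDGroup.zz n u))) ≤ N := by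
  have h := F.coord
  apply closure_le_of D hN
  have hy : y ∈ pre D N := he
  -- the elements `u (2 a)`
  have hu2 : ∀ a, u (2 * a) ∈ pre D N := by
    intro a
    obtain ⟨b, hb⟩ := CentSDGroup.conj_even h a
    have h1 := pre_conj D hN hy (u b)⁻¹
    have h2 : (u b)⁻¹ * y * ((u b)⁻¹)⁻¹ = u (2 * a) * y := by
      calc (u b)⁻¹ * y * ((u b)⁻¹)⁻¹ = (u b)⁻¹ * (u b * (u (2 * a) * y) * (u b)⁻¹) * ((u b)⁻¹)⁻¹ := by rw [hb]
        _ = _ := by group
    rw [h2] at h1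
    exact ((pre D N).mul_mem_cancel_right hy).1 h1
  have hi : CentSDGroup.ii n u ∈ pre D N := by
    have := hu2 (2 ^ (n - 3))
    rwa [CentSDGroup.two_mul_eighth h] at this
  have hj : u 1 * y ∈ pre D N := pre_fusion D hN hi hρ.mem hρ.conj
  have hu1 : u 1 ∈ pre D N := ((pre D N).mul_mem_cancel_right hy).1 hj
  rintro x ⟨a, rfl | rfl⟩
  · exact hu2 a
  · rw [← h.u_mul]
    exact mul_mem (mul_mem (hu2 a) hu1) hy

/-- The wreathed case. -/
theorem cov_WR {n : ℕ} {u : ZMod (2 ^ n) → ZMod (2 ^ n) → W} {s : W}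
    (hc : TwoFusion.WreathedBasic.IsWCoord n u s) {ρ : G} (hρ : IsRho f u s ρ)
    (D : CData f (CentWR.QWR hc) (u (2 ^ (n - 1)) (2 ^ (n - 1))))
    {N : Subgroup (XX f (u (2 ^ (n - 1)) (2 ^ (n - 1))))}
    (hN : N.Normal) (he : phi D (u (2 ^ (n - 1)) 0, 1) ∈ N) :
    normalClosure (Q1 D : Set (XX f (u (2 ^ (n - 1)) (2 ^ (n - 1))))) ≤ N := by
  have h2n := hc.two_le
  have hq : (2 : ZMod (2 ^ n)) * 2 ^ (n - 2) = 2 ^ (n - 1) := by
    rw [← pow_succ']; congr 1; omega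
  have hh : (2 : ZMod (2 ^ n)) * 2 ^ (n - 1) = 0 := TwoFusion.QDBasic.two_mul_half n (by omega)
  apply closure_le_of D hN
  have heM : u (2 ^ (n - 1)) 0 ∈ pre D N := he
  have hρC : ρ ∈ Ct f (u (2 ^ (n - 1)) (2 ^ (n - 1))) := mem_centralizer_singleton_iff.2 (hρ.comm _ 1)
  have hus : ∀ a b, s * u a b = u b a * s := hc.z_u
  -- `s ∈ N`
  have hs : s ∈ pre D N := by
    refine pre_fusion D hN heM hρC ?_
    have e1 : f (u (2 ^ (n - 1)) 0, 1) =
        f (u (-(2 ^ (n - 2))) (2 ^ (n - 2)), 1) * f (u (-(2 ^ (n - 2))) (-(2 ^ (n - 2))), 1) := by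
      rw [← map_mul, Prod.mk_mul_mk, hc.u_mul, mul_one]
      congr 3
      · linear_combination hq + hh
      · ring
    have e2 : ρ * (f (u (-(2 ^ (n - 2))) (2 ^ (n - 2)), 1) * f (u (-(2 ^ (n - 2))) (-(2 ^ (n - 2))), 1)) * ρ⁻¹ =
        (ρ * f (u (-(2 ^ (n - 2))) (2 ^ (n - 2)), 1) * ρ⁻¹) *
          (ρ * f (u (-(2 ^ (n - 2))) (-(2 ^ (n - 2))), 1) * ρ⁻¹) := by group
    rw [e1, e2, hρ.i_j, hρ.comm, mul_inv_cancel_right, ← map_mul, Prod.mk_mul_mk, mul_assoc, hus,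
      ← mul_assoc, hc.u_mul, add_neg_cancel, hc.u_zero, one_mul, mul_one]
  -- `u c (-c) ∈ N`
  have hcc : ∀ c, u c (-c) ∈ pre D N := by
    intro c
    have h1 := pre_conj D hN hs (u c 0)
    have h2 : u c 0 * s * (u c 0)⁻¹ = u c (-c) * s := by
      have h3 : (u c 0)⁻¹ = u (-c) 0 := by
        rw [inv_eq_iff_mul_eq_one, hc.u_mul, add_neg_cancel, add_zero, hc.u_zero]
      rw [h3, mul_assoc, hus, ← mul_assoc, hc.u_mul, add_zero, zero_add]
    rw [h2] at h1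
    exact ((pre D N).mul_mem_cancel_right hs).1 h1
  have hi : u (-(2 ^ (n - 2))) (2 ^ (n - 2)) ∈ pre D N := by
    have := hcc (-(2 ^ (n - 2)))
    rwa [neg_neg] at this
  have hj : u (2 ^ (n - 2)) (2 ^ (n - 2)) * s ∈ pre D N := pre_fusion D hN hi hρC hρ.i_j
  intro x hx
  rcases hc.cases x with ⟨a, b, rfl⟩ | ⟨a, b, rfl⟩
  · rw [CentWR.u_mem_QWR_iff] at hx
    have : b = -a := by linear_combination hx
    rw [this]
    exact hcc a
  · rw [CentWR.us_mem_QWR_iff] at hx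
    have e : u a b * s = u (a - 2 ^ (n - 2)) (-(a - 2 ^ (n - 2))) * (u (2 ^ (n - 2)) (2 ^ (n - 2)) * s) := by
      rw [← mul_assoc, hc.u_mul]
      congr 2
      · ring
      · linear_combination hx - hq
    rw [e]
    exact mul_mem (hcc _) hj

end Cfsg.Agent.TypeLFive.CentCov
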