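import Mathlib
import Cfsg.Agent.TypeLFive.CentAbs
import Cfsg.Agent.TypeLFive.Out
import Cfsg.Agent.Intrinsic.OddQuot
import Cfsg.Agent.S0215

/-!
# (R): `z₁ = f (e ζ, ζ)` centralises `J` modulo `O(C_G(t))` (S0511)

`comm_of_types`: in the situation of `CHyp`, an involution `a ∈ T ∖ W2` centralising `W2` and not fused to any
other involution of the coset `a W2` centralises `J` (Glauberman's `Z*`-theorem in `J⟨a⟩`).
`comm_J`: for `a = f (e, ζ)`, by the fusion of involutions in `G`.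
-/

set_option autoImplicit false

namespace Cfsg.Agent.TypeLFive.CentR

open Subgroup CentAbs

section abs

variable {X : Type*} [Group X] [Finite X] {T : Sylow 2 X} {W1 W2 Q1 : Subgroup X}

theorem comm_of_types (h : CHyp T W1 W2 Q1) {a : X} (haT : a ∈ (T : Subgroup X)) (ha2 : a * a = 1)
    (hac : ∀ y ∈ W2, a * y = y * a) (haW : a ∉ W2)
    (hne : ∀ j ∈ W2, j * j = 1 → j ≠ 1 → ∀ g : X, g * a * g⁻¹ ≠ a * j) :
    ∀ x ∈ normalClosure (W2 : Set X), a * x = x * a := by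
  have : Fact (Nat.Prime 2) := ⟨Nat.prime_two⟩
  set J := normalClosure (W2 : Set X) with hJ
  have hJn : J.Normal := normalClosure_normal
  have haJ : a ∉ J := fun hh => haW (h.mem_W2 haT hh)
  have hainv : a⁻¹ = a := inv_eq_of_mul_eq_one_left ha2
  have ha1 : a ≠ 1 := fun e => haJ (e ▸ one_mem J)
  -- the group `X0 = J ∪ J a`
  let X0 : Subgroup X :=
    { carrier := {x | x ∈ J ∨ x * a ∈ J}
      one_mem' := Or.inl (one_mem _)
      mul_mem' := by
        rintro x y (hx | hx) (hy | hy)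
        · exact Or.inl (mul_mem hx hy)
        · right
          rw [mul_assoc]
          exact mul_mem hx hy
        · right
          have : x * y * a = x * a * (a⁻¹ * y * a) := by group
          rw [this]
          refine mul_mem hx ?_
          have := hJn.conj_mem y hy a⁻¹
          rwa [inv_inv] at this
        · left
          have : x * y = (x * a) * (a⁻¹ * (y * a) * a) * (a * a)⁻¹ := by group
          rw [this, ha2, inv_one, mul_one]
          refine mul_mem hx ?_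
          have := hJn.conj_mem _ hy a⁻¹
          rwa [inv_inv] at this
      inv_mem' := by
        rintro x (hx | hx)
        · exact Or.inl (inv_mem hx)
        · right
          have : x⁻¹ * a = a * (x * a)⁻¹ * a⁻¹ * (a * a) := by group
          rw [this, ha2, mul_one]
          exact hJn.conj_mem _ (inv_mem hx) a }
  have hX0 : ∀ x, x ∈ X0 ↔ x ∈ J ∨ x * a ∈ J := fun _ => Iff.rfl
  have hJX : J ≤ X0 := fun x hx => Or.inl hx
  have haX : a ∈ X0 := Or.inr (by rw [ha2]; exact one_mem _)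
  -- the Sylow subgroup `T0 = W2 ∪ W2 a`
  let T0 : Subgroup X := (T : Subgroup X) ⊓ X0
  have hT0 : ∀ x, x ∈ T0 → x ∈ W2 ∨ x * a ∈ W2 := by
    rintro x ⟨hx, hx' | hx'⟩
    · exact Or.inl (h.mem_W2 hx hx')
    · exact Or.inr (h.mem_W2 (mul_mem hx haT) hx')
  have hidx : ¬ 2 ∣ (T0.subgroupOf X0).index := by
    -- `[X0 : W2]` is twice an odd number and `W2 < T0`
    obtain ⟨P, hP⟩ := h.exists_sylow_J
    have h1 : ¬ 2 ∣ W2.relIndex J := by
      have := P.not_dvd_index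
      rwa [hP] at this
    have h2 : (T0 ⊓ J).relIndex J = W2.relIndex J := by
      congr 1
      apply le_antisymm
      · rintro x ⟨⟨hx, -⟩, hx'⟩
        exact h.mem_W2 hx hx'
      · intro x hx
        exact ⟨⟨h.clW.1 hx, hJX (h.le_J hx)⟩, h.le_J hx⟩
    rw [inf_relIndex_right] at h2
    -- `X0 = T0 J`
    have h3 : T0 ⊔ J = X0 := by
      apply le_antisymm
      · exact sup_le inf_le_right hJX
      · rintro x (hx | hx)
        · exact mem_sup_right hx
        · have : x = x * a * a⁻¹ := by group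
          rw [this]
          refine mul_mem (mem_sup_right hx) (mem_sup_left ?_)
          rw [hainv]
          exact ⟨haT, haX⟩
    have h4 : T0.relIndex X0 = T0.relIndex J := by
      have e1 : (T0 ⊓ J).relIndex J * J.relIndex (T0 ⊔ J) = (T0 ⊓ J).relIndex (T0 ⊔ J) :=
        relIndex_mul_relIndex _ _ _ inf_le_right le_sup_right
      have e2 : (T0 ⊓ J).relIndex T0 * T0.relIndex (T0 ⊔ J) = (T0 ⊓ J).relIndex (T0 ⊔ J) :=
        relIndex_mul_relIndex _ _ _ inf_le_left le_sup_left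
      rw [inf_relIndex_right, relIndex_sup_right] at e1
      rw [inf_relIndex_left] at e2
      have e3 : J.relIndex T0 ≠ 0 := fun h0 => by
        have e4 := relIndex_dvd_card J T0
        rw [h0, zero_dvd_iff] at e4
        exact Nat.card_pos.ne' e4
      rw [← h3]
      apply Nat.eq_of_mul_eq_mul_left (Nat.pos_of_ne_zero e3)
      rw [e2, ← e1, mul_comm]
    show ¬ 2 ∣ T0.relIndex X0
    rw [h4, h2]
    exact h1
  have pT0 : IsPGroup 2 (T0.subgroupOf X0) := (T.isPGroup'.to_le inf_le_left).comap_subtype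
  let S0 : Sylow 2 ↥X0 := pT0.toSylow hidx
  have hS0 : (S0 : Subgroup ↥X0) = T0.subgroupOf X0 := IsPGroup.toSylow_coe pT0 hidx
  let a0 : ↥X0 := ⟨a, haX⟩
  have hord : orderOf a0 = 2 := by
    apply orderOf_eq_prime
    · rw [pow_two]; exact Subtype.ext ha2
    · exact fun e => ha1 (congrArg Subtype.val e)
  have haS : a0 ∈ (S0 : Subgroup ↥X0) := by
    rw [hS0, mem_subgroupOf]
    exact ⟨haT, haX⟩
  have hiso : ∀ g : ↥X0, g * a0 * g⁻¹ ∈ (S0 : Subgroup ↥X0) → g * a0 * g⁻¹ = a0 := by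
    intro g hg
    rw [hS0, mem_subgroupOf] at hg
    have hsq : ((g * a0 * g⁻¹ : ↥X0) : X) * ((g * a0 * g⁻¹ : ↥X0) : X) = 1 := by
      push_cast
      calc (g : X) * a * (g : X)⁻¹ * ((g : X) * a * (g : X)⁻¹) = g * (a * a) * (g : X)⁻¹ := by group
        _ = 1 := by rw [ha2, mul_one, mul_inv_cancel]
    rcases hT0 _ hg with h1 | h1
    · exfalso
      have h2 : (g : X)⁻¹ * ((g * a0 * g⁻¹ : ↥X0) : X) * (g : X)⁻¹⁻¹ ∈ J := hJn.conj_mem _ (h.le_J h1) _
      apply haJ
      have h3 : (g : X)⁻¹ * ((g * a0 * g⁻¹ : ↥X0) : X) * (g : X)⁻¹⁻¹ = a := by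
        push_cast
        show (g : X)⁻¹ * (g * a * (g : X)⁻¹) * (g : X)⁻¹⁻¹ = a
        group
      rwa [h3] at h2
    · set j := ((g * a0 * g⁻¹ : ↥X0) : X) * a with hj
      have h2 : ((g * a0 * g⁻¹ : ↥X0) : X) = j * a := by
        rw [hj, mul_assoc (((g * a0 * g⁻¹ : ↥X0) : X)) a a, ha2, mul_one]
      have h3 : j * a = a * j := (hac j h1).symm
      have hj2 : j * j = 1 := by
        have h4 : (j * a) * (j * a) = 1 := by rw [← h2]; exact hsq
        calc j * j = j * (j * (a * a)) := by rw [ha2, mul_one]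
          _ = j * ((j * a) * a) := by group
          _ = j * ((a * j) * a) := by rw [h3]
          _ = (j * a) * (j * a) := by group
          _ = 1 := h4
      by_cases hj1 : j = 1
      · apply Subtype.ext
        rw [h2, hj1, one_mul]
      · exfalso
        refine hne j h1 hj2 hj1 (g : X) ?_
        rw [← h3, ← h2]
        push_cast
        rfl
  obtain ⟨N, hN, hodd, hc⟩ := Cfsg.Agent.S0215.result S0 a0 hord haS hiso
  -- `N ∩ J` is an odd normal subgroup of the simple group `J`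
  obtain ⟨hs, hcomm⟩ := h.simple_J
  have hNJ : ∀ x : ↥X0, x ∈ N → (x : X) ∈ J → x = 1 := by
    intro x hx hxJ
    let M : Subgroup ↥J := (N.map X0.subtype).subgroupOf J
    have hMn : M.Normal := by
      constructor
      intro m hm g
      rw [mem_subgroupOf] at hm ⊢
      obtain ⟨y, hy, hym⟩ := hm
      refine ⟨⟨g, hJX g.2⟩ * y * ⟨g, hJX g.2⟩⁻¹, hN.conj_mem y hy _, ?_⟩
      rw [map_mul, map_mul, map_inv, hym]
      rfl
    have hMcard : Odd (Nat.card M) := by
      have h1 : Nat.card M ∣ Nat.card N := by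
        have e1 : Nat.card M = Nat.card (M.map J.subtype) :=
          (Subgroup.card_map_of_injective J.subtype_injective).symm
        have e2 : Nat.card (N.map X0.subtype) = Nat.card N :=
          Subgroup.card_map_of_injective X0.subtype_injective
        rw [e1, ← e2]
        apply Subgroup.card_dvd_of_le
        rintro _ ⟨y, hy, rfl⟩
        exact mem_subgroupOf.1 hy
      exact Odd.of_dvd_nat hodd h1
    rcases hMn.eq_bot_or_eq_top with h2 | h2
    · have h3 : (⟨(x : X), hxJ⟩ : ↥J) ∈ M := mem_subgroupOf.2 ⟨x, hx, rfl⟩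
      rw [h2, mem_bot] at h3
      have h4 : (x : X) = 1 := congrArg Subtype.val h3
      exact Subtype.ext h4
    · exfalso
      obtain ⟨P, hP⟩ := h.exists_sylow_J
      rw [h2, card_top] at hMcard
      -- `J` of odd order, so `P` is trivial, so `J` is ..., contradiction with the type of `W2`
      have h4 : Nat.card (P : Subgroup ↥J) ∣ Nat.card ↥J := Subgroup.card_subgroup_dvd_card _
      have h5 : Nat.card (P : Subgroup ↥J) = Nat.card W2 := by
        rw [hP]
        exact Nat.card_congr (Subgroup.subgroupOfEquivOfLe h.le_J).toEquiv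
      have h6 : 2 ∣ Nat.card W2 := by
        rcases h.type with ⟨n, hn, hcard, -⟩ | ⟨n, hn, hcard, -⟩
        · rw [hcard]; exact dvd_pow_self 2 (by omega)
        · rw [hcard]; exact dvd_pow_self 2 (by omega)
      rw [← Nat.not_even_iff_odd, even_iff_two_dvd] at hMcard
      exact hMcard (h6.trans (h5 ▸ h4))
  intro x hx
  have h1 := hc ⟨x, hJX hx⟩
  have h2 : ((a0 * ⟨x, hJX hx⟩ * a0⁻¹ * (⟨x, hJX hx⟩ : ↥X0)⁻¹ : ↥X0) : X) ∈ J := by
    push_cast
    exact mul_mem (hJn.conj_mem x hx a) (inv_mem hx)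
  have h3 := congrArg Subtype.val (hNJ _ h1 h2)
  have h4 : a * x * a⁻¹ * x⁻¹ = 1 := h3
  calc a * x = (a * x * a⁻¹ * x⁻¹) * (x * a) := by group
    _ = x * a := by rw [h4, one_mul]

end abs

section lift

open Cfsg.Agent.TypeLFive.Out

variable {G W X : Type*} [Group G] [Group W] [Group X] [Finite X] {S : Subgroup G} {f : W × W →* G}
  {w : G} {ζ e : W}

/-- (R): the image of `f (e, ζ)` in `X = C_G(t) / O(C_G(t))` centralises `J`. -/
theorem comm_J {T : Sylow 2 X} {W1 W2 Q1 : Subgroup X} (h : CHyp T W1 W2 Q1) (F : FusOut S f w ζ e)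
    (hζ : ζ * ζ = 1) (hζ1 : ζ ≠ 1) (he : e * e = 1) (he1 : e ≠ 1) (heζ : e ≠ ζ) (hζc : ∀ x, ζ * x = x * ζ)
    (hW : IsPGroup 2 W) {C : Subgroup G} (φ : ↥C →* X) (hφs : Function.Surjective φ)
    (hφo : Odd (Nat.card φ.ker)) (hf : ∀ p, f p ∈ C)
    (hW2 : ∀ x, x ∈ W2 ↔ ∃ y : W, x = φ ⟨f (1, y), hf _⟩) (hW1 : ∀ x, x ∈ W1 ↔ ∃ y : W, x = φ ⟨f (y, 1), hf _⟩) :
    ∀ x ∈ normalClosure (W2 : Set X), φ ⟨f (e, ζ), hf _⟩ * x = x * φ ⟨f (e, ζ), hf _⟩ := by
  have hfm : ∀ p q : W × W, (⟨f p, hf p⟩ : ↥C) * ⟨f q, hf q⟩ = ⟨f (p * q), hf _⟩ := by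
    intro p q
    exact Subtype.ext (map_mul f p q).symm
  -- the kernel contains no 2-elements
  have hker : ∀ p : W × W, φ ⟨f p, hf p⟩ = 1 → p = 1 := by
    intro p hp
    have h1 : (⟨f p, hf p⟩ : ↥C) ^ Nat.card φ.ker = 1 := by
      have := pow_card_eq_one' (x := (⟨⟨f p, hf p⟩, hp⟩ : φ.ker))
      exact congrArg Subtype.val this
    have h2 : p ^ Nat.card φ.ker = 1 := by
      apply F.wr.inj
      rw [map_pow, map_one]
      exact congrArg Subtype.val h1
    have h3 : ∃ k : ℕ, p ^ 2 ^ k = 1 := by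
      obtain ⟨k1, hk1⟩ := hW p.1
      obtain ⟨k2, hk2⟩ := hW p.2
      refine ⟨k1 + k2, Prod.ext ?_ ?_⟩
      · rw [Prod.pow_fst, pow_add, pow_mul, hk1, one_pow]; rfl
      · rw [Prod.pow_snd, pow_add, mul_comm, pow_mul, hk2, one_pow]; rfl
    obtain ⟨k, hk⟩ := h3
    have h4 := Nat.dvd_gcd (orderOf_dvd_of_pow_eq_one h2) (orderOf_dvd_of_pow_eq_one hk)
    have h5 : Nat.Coprime (Nat.card φ.ker) (2 ^ k) := by
      apply Nat.Coprime.pow_right
      rw [Nat.coprime_comm]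
      exact (Nat.coprime_two_left).2 hφo
    rw [h5.gcd_eq_one, Nat.dvd_one] at h4
    exact orderOf_eq_one_iff.1 h4
  have hWT : W2 ≤ T := h.clW.1
  have hez : (e, ζ) = ((e, 1) : W × W) * (1, ζ) := by rw [Prod.mk_mul_mk, mul_one, one_mul]
  refine comm_of_types h ?_ ?_ ?_ ?_ ?_
  · rw [hez, ← hfm, map_mul]
    exact mul_mem (h.leT ((hW1 _).2 ⟨e, rfl⟩)) (hWT ((hW2 _).2 ⟨ζ, rfl⟩))
  · rw [← map_mul, hfm, Prod.mk_mul_mk, he, hζ]
    have : (⟨f ((1 : W), (1 : W)), hf _⟩ : ↥C) = 1 := Subtype.ext (map_one f)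
    rw [this, map_one]
  · intro y hy
    obtain ⟨y, rfl⟩ := (hW2 _).1 hy
    rw [← map_mul, ← map_mul, hfm, hfm, Prod.mk_mul_mk, Prod.mk_mul_mk, mul_one, one_mul, hζc]
  · intro hh
    obtain ⟨y, hy⟩ := (hW2 _).1 hh
    have h1 : φ ⟨f ((e, ζ) * (1, y)⁻¹), hf _⟩ = 1 := by
      have e1 : (⟨f ((e, ζ) * (1, y)⁻¹), hf _⟩ : ↥C) = ⟨f (e, ζ), hf _⟩ * (⟨f (1, y), hf _⟩ : ↥C)⁻¹ := by
        apply Subtype.ext
        show f ((e, ζ) * (1, y)⁻¹) = f (e, ζ) * (f (1, y))⁻¹
        rw [map_mul, map_inv]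
      rw [e1, map_mul, map_inv, hy, mul_inv_cancel]
    have h2 := congrArg Prod.fst (hker _ h1)
    have h3 : e * (1 : W)⁻¹ = 1 := h2
    rw [inv_one, mul_one] at h3
    exact he1 h3
  · intro j hj hjj hj1 g hg
    obtain ⟨y, rfl⟩ := (hW2 _).1 hj
    have hyy : y * y = 1 := by
      rw [← map_mul, hfm] at hjj
      have := congrArg Prod.snd (hker _ hjj)
      exact this
    have hy1 : y ≠ 1 := by
      rintro rfl
      apply hj1
      have : (⟨f ((1 : W), (1 : W)), hf _⟩ : ↥C) = 1 := Subtype.ext (map_one f)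
      rw [this, map_one]
    obtain ⟨c, rfl⟩ := hφs g
    rw [← map_mul, ← map_inv, ← map_mul, ← map_mul, hfm, Prod.mk_mul_mk, mul_one] at hg
    -- lift to a conjugacy in `C`
    have hinv1 : (c * ⟨f (e, ζ), hf _⟩ * c⁻¹) * (c * ⟨f (e, ζ), hf _⟩ * c⁻¹) = 1 := by
      have e1 : (⟨f (e, ζ), hf _⟩ : ↥C) * ⟨f (e, ζ), hf _⟩ = 1 := by
        rw [hfm, Prod.mk_mul_mk, he, hζ]
        exact Subtype.ext (map_one f)
      calc (c * ⟨f (e, ζ), hf _⟩ * c⁻¹) * (c * ⟨f (e, ζ), hf _⟩ * c⁻¹) =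
          c * ((⟨f (e, ζ), hf _⟩ : ↥C) * ⟨f (e, ζ), hf _⟩) * c⁻¹ := by group
        _ = 1 := by rw [e1, mul_one, mul_inv_cancel]
    have hζy : (ζ * y) * (ζ * y) = 1 := by
      calc (ζ * y) * (ζ * y) = ζ * (y * ζ) * y := by group
        _ = ζ * (ζ * y) * y := by rw [← hζc y]
        _ = (ζ * ζ) * (y * y) := by group
        _ = 1 := by rw [hζ, hyy, mul_one]
    have hinv2 : (⟨f (e, ζ * y), hf _⟩ : ↥C) * ⟨f (e, ζ * y), hf _⟩ = 1 := by
      rw [hfm, Prod.mk_mul_mk, he, hζy]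
      exact Subtype.ext (map_one f)
    have hmk : QuotientGroup.mk' φ.ker (c * ⟨f (e, ζ), hf _⟩ * c⁻¹) =
        QuotientGroup.mk' φ.ker ⟨f (e, ζ * y), hf _⟩ := by
      rw [QuotientGroup.mk'_apply, QuotientGroup.mk'_apply, QuotientGroup.eq, MonoidHom.mem_ker, map_mul, map_inv,
        hg, inv_mul_cancel]
    obtain ⟨o, -, ho⟩ := Cfsg.Agent.Intrinsic.OddQuot.conj_of_mk_eq hφo hinv1 hinv2 hmk
    have hconj : IsConj (f (e, ζ)) (f (e, ζ * y)) := by
      rw [isConj_iff]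
      refine ⟨(o : G) * c, ?_⟩
      have h1 := congrArg Subtype.val ho
      have h2 : (o : G) * ((c : G) * f (e, ζ) * (c : G)⁻¹) * (o : G)⁻¹ = f (e, ζ * y) := h1
      rw [← h2]; group
    have hz : IsConj (f (ζ, ζ)) (f (e, ζ)) := F.conj_z e ζ he hζ he1 hζ1 (Or.inr rfl)
    have ht : IsConj (f (ζ, 1)) (f (e, ζ * y)) := by
      refine F.conj_t e (ζ * y) he hζy (fun hh => he1 hh.1) ?_
      rintro ⟨-, h2, h3⟩
      rcases h3 with h3 | h3
      · exact heζ h3
      · exact hy1 (mul_eq_left.1 h3)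
    exact F.not_conj (ht.trans (hconj.symm.trans hz.symm))

end lift

end Cfsg.Agent.TypeLFive.CentR
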