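import Mathlib
import Cfsg.Prelude.Def_Local
import Cfsg.Agent.SignalizersComponents.SolFunctorTwo

/-!
# A signalizer functor given on a part of the involutions

`E` is elementary abelian of order at least 16, `T` a set of involutions of `E` such that for every
involution `z` of `E` outside `T`, every coset of `⟨z⟩` in `E` other than `⟨z⟩` meets `T`. A balanced family
`θ` of odd order subgroups given on `T` only is complete: its values at the other involutions are
obtained by completing a functor in `C(z)`.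
-/

set_option autoImplicit false

namespace Cfsg.Agent.TypeLFive.CoreFunctor

open Subgroup Cfsg
open Cfsg.Agent.SignalizersComponents

universe u

variable {G : Type u} [Group G]

/-- The combinatorial hypotheses on the set `T` of involutions of `E`. -/
structure Pair (E : Subgroup G) (T : Set G) : Prop where
  comm : ∀ a ∈ E, ∀ b ∈ E, a * b = b * a
  sq : ∀ a ∈ E, a * a = 1
  card : 2 ^ 4 ≤ Nat.card E
  sub : ∀ t ∈ T, t ∈ E
  ne : ∀ t ∈ T, t ≠ 1
  cov : ∀ z ∈ E, z ≠ 1 → z ∉ T → ∀ e ∈ E, e ≠ 1 → e ≠ z → e ∈ T ∨ e * z ∈ T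

/-- A balanced family of subgroups of odd order on `T`. -/
structure Bal (E : Subgroup G) (T : Set G) (θ : G → Subgroup G) : Prop where
  cen : ∀ t ∈ T, θ t ≤ centralizer ({t} : Set G)
  odd : ∀ t ∈ T, ¬ 2 ∣ Nat.card (θ t)
  inv : ∀ t ∈ T, ∀ b ∈ E, ∀ x ∈ θ t, b * x * b⁻¹ ∈ θ t
  bal : ∀ a ∈ T, ∀ b ∈ T, θ a ⊓ centralizer ({b} : Set G) ≤ θ b

/-- The value of the functor at an involution outside `T`. -/
def ext (T : Set G) (θ : G → Subgroup G) (z : G) : Subgroup G :=
  ⨆ t : T, θ (t : G) ⊓ centralizer ({z} : Set G)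

theorem le_ext {T : Set G} {θ : G → Subgroup G} {t : G} (ht : t ∈ T) (z : G) :
    θ t ⊓ centralizer ({z} : Set G) ≤ ext T θ z :=
  le_iSup (fun t : T => θ (t : G) ⊓ centralizer ({z} : Set G)) ⟨t, ht⟩

theorem ext_le {T : Set G} {θ : G → Subgroup G} (z : G) :
    ext T θ z ≤ centralizer ({z} : Set G) := iSup_le fun _ => inf_le_right

theorem mem_cen {x a : G} : x ∈ centralizer ({a} : Set G) ↔ x * a = a * x :=
  mem_centralizer_singleton_iff

theorem cen_mul {a b : G} :
    centralizer ({a} : Set G) ⊓ centralizer ({b} : Set G) ≤ centralizer ({a * b} : Set G) := by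
  rintro x ⟨ha, hb⟩
  have ha' : x * a = a * x := mem_cen.1 ha
  have hb' : x * b = b * x := mem_cen.1 hb
  rw [mem_cen, ← mul_assoc, ha', mul_assoc, hb', mul_assoc]

theorem exists_complement [Finite G] {E : Subgroup G} (hE : ∀ a ∈ E, ∀ b ∈ E, a * b = b * a)
    (hsq : ∀ a ∈ E, a * a = 1) {z : G} (hz1 : z ≠ 1) :
    ∃ A : Subgroup G, A ≤ E ∧ z ∉ A ∧ ∀ e ∈ E, e ∈ A ∨ e * z ∈ A := by
  classical
  obtain ⟨A, ⟨hAE, hzA⟩, hmax⟩ := Set.Finite.exists_maximal
    (s := {A : Subgroup G | A ≤ E ∧ z ∉ A}) (Set.toFinite _) ⟨⊥, bot_le, by simpa using hz1⟩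
  refine ⟨A, hAE, hzA, fun e he => ?_⟩
  by_contra hcon
  push Not at hcon
  obtain ⟨heA, hezA⟩ := hcon
  -- the subgroup `A ∪ e A`
  let B : Subgroup G :=
    { carrier := {x | x ∈ E ∧ (x ∈ A ∨ e * x ∈ A)}
      one_mem' := ⟨one_mem _, Or.inl (one_mem _)⟩
      mul_mem' := by
        rintro x y ⟨hx, hx'⟩ ⟨hy, hy'⟩
        refine ⟨mul_mem hx hy, ?_⟩
        rcases hx' with h1 | h1 <;> rcases hy' with h2 | h2
        · exact Or.inl (mul_mem h1 h2)
        · right
          have : e * (x * y) = x * (e * y) := by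
            rw [← mul_assoc, ← mul_assoc, hE e he x hx]
          rw [this]; exact mul_mem h1 h2
        · right
          rw [← mul_assoc]; exact mul_mem h1 h2
        · left
          have : x * y = (e * x) * (e * y) := by
            have h3 : (e * x) * (e * y) = (e * e) * (x * y) := by
              calc (e * x) * (e * y) = e * (x * e) * y := by group
                _ = e * (e * x) * y := by rw [hE x hx e he]
                _ = (e * e) * (x * y) := by group
            rw [h3, hsq e he, one_mul]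
          rw [this]; exact mul_mem h1 h2
      inv_mem' := by
        rintro x ⟨hx, hx'⟩
        have h3 : x⁻¹ = x := inv_eq_of_mul_eq_one_right (hsq x hx)
        rw [h3]; exact ⟨hx, hx'⟩ }
  have hAB : A ≤ B := fun x hx => ⟨hAE hx, Or.inl hx⟩
  have heB : e ∈ B := ⟨he, Or.inr (by rw [hsq e he]; exact one_mem _)⟩
  by_cases hzB : z ∈ B
  · rcases hzB.2 with h | h
    · exact hzA h
    · exact hezA h
  · have h1 : B ≤ A := hmax ⟨fun x hx => hx.1, hzB⟩ hAB
    exact heA (h1 heB)

theorem card_complement [Finite G] {E A : Subgroup G} {z : G} (h : ∀ e ∈ E, e ∈ A ∨ e * z ∈ A) : Nat.card E ≤ 2 * Nat.card A := by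
  classical
  have h1 : (E : Set G) ⊆ (A : Set G) ∪ (fun x => x * z⁻¹) '' (A : Set G) := by
    intro e he
    rcases h e he with h2 | h2
    · exact Or.inl h2
    · exact Or.inr ⟨e * z, h2, by simp⟩
  have h2 := Set.ncard_le_ncard h1 (Set.toFinite _)
  have h3 := Set.ncard_union_le (A : Set G) ((fun x => x * z⁻¹) '' (A : Set G))
  have h4 : ((fun x => x * z⁻¹) '' (A : Set G)).ncard ≤ (A : Set G).ncard :=
    Set.ncard_image_le (Set.toFinite _)
  have h5 : (E : Set G).ncard = Nat.card E := (Nat.card_coe_set_eq _).symm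
  have h6 : (A : Set G).ncard = Nat.card A := (Nat.card_coe_set_eq _).symm
  omega

section

variable [Finite G] {E : Subgroup G} {T : Set G} {θ : G → Subgroup G}
  (P : Pair E T) (B : Bal E T θ) (hOO : ∀ X : Subgroup G, ¬ 2 ∣ Nat.card X → Group.IsSolvable X)

include P B in
theorem inf_eq {z t : G} (ht : t ∈ T) (htz : t * z ∈ T) :
    θ (t * z) ⊓ centralizer ({z} : Set G) = θ t ⊓ centralizer ({z} : Set G) := by
  have htt : t * t = 1 := P.sq t (P.sub t ht)
  have hz : z = t * (t * z) := by rw [← mul_assoc, htt, one_mul]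
  have hzE : z ∈ E := by rw [hz]; exact mul_mem (P.sub t ht) (P.sub _ htz)
  have hzz : z * z = 1 := P.sq z hzE
  apply le_antisymm
  · refine le_inf ?_ inf_le_right
    refine le_trans (le_inf inf_le_left ?_) (B.bal (t * z) htz t ht)
    intro x hx
    have h1 := cen_mul (a := t * z) (b := z) ⟨B.cen _ htz hx.1, hx.2⟩
    rwa [mul_assoc, hzz, mul_one] at h1
  · refine le_inf ?_ inf_le_right
    refine le_trans (le_inf inf_le_left ?_) (B.bal t ht (t * z) htz)
    intro x hx
    exact cen_mul ⟨B.cen _ ht hx.1, hx.2⟩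

include P B hOO in
theorem ext_spec {z : G} (hz : z ∈ E) (hz1 : z ≠ 1) (hzT : z ∉ T) :
    ¬ 2 ∣ Nat.card (ext T θ z) ∧
      ∀ t ∈ T, ext T θ z ⊓ centralizer ({t} : Set G) = θ t ⊓ centralizer ({z} : Set G) := by
  classical
  obtain ⟨A, hAE, hzA, hA⟩ := exists_complement P.comm P.sq hz1
  have hcard := card_complement hA
  have hA8 : 2 ^ 3 ≤ Nat.card A := by
    have := P.card
    norm_num at *
    omega
  have hzz : z * z = 1 := P.sq z hz
  let ψ : G → Subgroup G := fun a =>
    if a ∈ T then θ a ⊓ centralizer ({z} : Set G) else θ (a * z) ⊓ centralizer ({z} : Set G)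
  -- representatives
  have hrep : ∀ a ∈ A, a ≠ 1 → ∃ t ∈ T, (t = a ∨ t = a * z) ∧ ψ a = θ t ⊓ centralizer ({z} : Set G) := by
    intro a ha ha1
    by_cases haT : a ∈ T
    · exact ⟨a, haT, Or.inl rfl, if_pos haT⟩
    · have haz : a ≠ z := fun h => hzA (h ▸ ha)
      rcases P.cov z hz hz1 hzT a (hAE ha) ha1 haz with h | h
      · exact (haT h).elim
      · exact ⟨a * z, h, Or.inr rfl, if_neg haT⟩
  have hψz : ∀ a ∈ A, a ≠ 1 → ψ a ≤ centralizer ({z} : Set G) := by
    intro a ha ha1
    obtain ⟨t, -, -, h⟩ := hrep a ha ha1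
    rw [h]; exact inf_le_right
  -- centralizing a representative is the same thing in `C(z)`
  have hcen : ∀ a t x : G, (t = a ∨ t = a * z) → x ∈ centralizer ({z} : Set G) →
      (x ∈ centralizer ({a} : Set G) ↔ x ∈ centralizer ({t} : Set G)) := by
    rintro a t x (rfl | rfl) hx
    · exact Iff.rfl
    · constructor
      · intro h; exact cen_mul ⟨h, hx⟩
      · intro h
        have h1 := cen_mul (a := a * z) (b := z) ⟨h, hx⟩
        rwa [mul_assoc, hzz, mul_one] at h1
  have hSF := SolFunctorTwo.solvable_signalizer_functor_two A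
    (fun a ha b hb => P.comm a (hAE ha) b (hAE hb))
    (fun a ha => by rw [pow_two]; exact P.sq a (hAE ha)) hA8 ψ
    (by
      intro a ha ha1 x hx
      obtain ⟨t, ht, hta, h⟩ := hrep a ha ha1
      rw [h] at hx
      exact (hcen a t x hta hx.2).2 (B.cen t ht hx.1))
    (by
      intro a ha ha1
      obtain ⟨t, ht, hta, h⟩ := hrep a ha ha1
      rw [h]
      exact fun h2 => B.odd t ht (h2.trans (card_dvd_of_le inf_le_left)))
    (by
      intro a ha ha1 b hb x hx
      obtain ⟨t, ht, hta, h⟩ := hrep a ha ha1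
      rw [h] at hx ⊢
      refine ⟨B.inv t ht b (hAE hb) x hx.1, ?_⟩
      have hbz : b ∈ centralizer ({z} : Set G) := mem_cen.2 (P.comm b (hAE hb) z hz)
      exact (centralizer ({z} : Set G)).mul_mem ((centralizer ({z} : Set G)).mul_mem hbz hx.2)
        ((centralizer ({z} : Set G)).inv_mem hbz))
    (by
      intro a ha ha1
      refine hOO _ ?_
      obtain ⟨t, ht, hta, h⟩ := hrep a ha ha1
      rw [h]
      exact fun h2 => B.odd t ht (h2.trans (card_dvd_of_le inf_le_left)))
    (by
      intro a ha ha1 b hb hb1 x hx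
      obtain ⟨t, ht, hta, h⟩ := hrep a ha ha1
      obtain ⟨s, hs, hsb, h'⟩ := hrep b hb hb1
      rw [h'] 
      have hx1 := hx.1
      rw [h] at hx1
      refine ⟨B.bal t ht s hs ⟨hx1.1, ?_⟩, hx1.2⟩
      exact (hcen b s x hsb hx1.2).1 hx.2)
  -- the closure is `ext T θ z`
  have hcl : (⨆ a : {a : G // a ∈ A ∧ a ≠ 1}, ψ a) = ext T θ z := by
    apply le_antisymm
    · refine iSup_le ?_
      rintro ⟨a, ha, ha1⟩
      obtain ⟨t, ht, hta, h⟩ := hrep a ha ha1
      show ψ a ≤ _
      rw [h]
      exact le_ext ht z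
    · refine iSup_le ?_
      rintro ⟨t, ht⟩
      show θ t ⊓ centralizer ({z} : Set G) ≤ _
      rcases hA t (P.sub t ht) with h | h
      · refine le_trans ?_ (le_iSup (fun a : {a : G // a ∈ A ∧ a ≠ 1} => ψ a) ⟨t, h, P.ne t ht⟩)
        show _ ≤ ψ t
        simp only [ψ, if_pos ht]
        exact le_rfl
      · have h1 : t * z ≠ 1 := by
          intro h1
          have h2 : t = z := by
            have h3 : t * z * z = z := by rw [h1, one_mul]
            rwa [mul_assoc, hzz, mul_one] at h3
          exact hzT (h2 ▸ ht)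
        refine le_trans ?_ (le_iSup (fun a : {a : G // a ∈ A ∧ a ≠ 1} => ψ a) ⟨t * z, h, h1⟩)
        show _ ≤ ψ (t * z)
        by_cases h2 : t * z ∈ T
        · simp only [ψ, if_pos h2]
          rw [inf_eq P B ht h2]
        · simp only [ψ, if_neg h2]
          rw [mul_assoc, hzz, mul_one]
  rw [hcl] at hSF
  refine ⟨hSF.1, ?_⟩
  intro t ht
  rcases hA t (P.sub t ht) with h | h
  · rw [hSF.2.1 t h (P.ne t ht)]
    simp only [ψ, if_pos ht]
  · have h1 : t * z ≠ 1 := by
      intro h1
      have h2 : t = z := by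
        have h3 : t * z * z = z := by rw [h1, one_mul]
        rwa [mul_assoc, hzz, mul_one] at h3
      exact hzT (h2 ▸ ht)
    have h2 : ext T θ z ⊓ centralizer ({t} : Set G) = ext T θ z ⊓ centralizer ({t * z} : Set G) := by
      ext x
      constructor
      · rintro ⟨hx1, hx2⟩
        exact ⟨hx1, (hcen t (t * z) x (Or.inr rfl) (ext_le z hx1)).1 hx2⟩
      · rintro ⟨hx1, hx2⟩
        exact ⟨hx1, (hcen t (t * z) x (Or.inr rfl) (ext_le z hx1)).2 hx2⟩
    rw [h2, hSF.2.1 (t * z) h h1]
    by_cases h3 : t * z ∈ T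
    · simp only [ψ, if_pos h3]
      rw [inf_eq P B ht h3]
    · simp only [ψ, if_neg h3]
      rw [mul_assoc, hzz, mul_one]

include P B hOO in
/-- **Completeness.** -/
theorem complete : ¬ 2 ∣ Nat.card (⨆ t : T, θ (t : G) : Subgroup G) ∧
    ∀ t ∈ T, (⨆ s : T, θ (s : G)) ⊓ centralizer ({t} : Set G) = θ t := by
  classical
  let φ : G → Subgroup G := fun a => if a ∈ T then θ a else ext T θ a
  have hφT : ∀ a ∈ T, φ a = θ a := fun a ha => if_pos ha
  have hφN : ∀ a, a ∉ T → φ a = ext T θ a := fun a ha => if_neg ha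
  have hSF := SolFunctorTwo.solvable_signalizer_functor_two E P.comm
    (fun a ha => by rw [pow_two]; exact P.sq a ha)
    (le_trans (by norm_num) P.card) φ
    (by
      intro a ha ha1
      by_cases h : a ∈ T
      · rw [hφT a h]; exact B.cen a h
      · rw [hφN a h]; exact ext_le a)
    (by
      intro a ha ha1
      by_cases h : a ∈ T
      · rw [hφT a h]; exact B.odd a h
      · rw [hφN a h]; exact (ext_spec P B hOO ha ha1 h).1)
    (by
      intro a ha ha1 b hb x hx
      by_cases h : a ∈ T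
      · rw [hφT a h] at hx ⊢; exact B.inv a h b hb x hx
      · rw [hφN a h] at hx ⊢
        have h1 : (ext T θ a).map (MulAut.conj b).toMonoidHom ≤ ext T θ a := by
          rw [ext, Subgroup.map_iSup]
          refine iSup_le ?_
          rintro ⟨t, ht⟩
          refine le_trans ?_ (le_ext ht a)
          rintro _ ⟨y, hy, rfl⟩
          refine ⟨B.inv t ht b hb y hy.1, ?_⟩
          have hbz : b ∈ centralizer ({a} : Set G) := mem_cen.2 (P.comm b hb a ha)
          exact (centralizer ({a} : Set G)).mul_mem ((centralizer ({a} : Set G)).mul_mem hbz hy.2)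
            ((centralizer ({a} : Set G)).inv_mem hbz)
        exact h1 ⟨x, hx, rfl⟩)
    (by
      intro a ha ha1
      refine hOO _ ?_
      by_cases h : a ∈ T
      · rw [hφT a h]; exact B.odd a h
      · rw [hφN a h]; exact (ext_spec P B hOO ha ha1 h).1)
    (by
      intro a ha ha1 b hb hb1
      by_cases h : a ∈ T
      · rw [hφT a h]
        by_cases h' : b ∈ T
        · rw [hφT b h']; exact B.bal a h b h'
        · rw [hφN b h']; exact le_ext h b
      · rw [hφN a h]
        by_cases h' : b ∈ T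
        · rw [hφT b h', (ext_spec P B hOO ha ha1 h).2 b h']
          exact inf_le_left
        · rw [hφN b h']
          by_cases hab : b = a
          · subst hab; exact inf_le_left
          · have h2 : b * a ∈ T := (P.cov a ha ha1 h b hb hb1 hab).resolve_left h'
            intro x hx
            have h3 : x ∈ ext T θ a ⊓ centralizer ({b * a} : Set G) :=
              ⟨hx.1, cen_mul ⟨hx.2, ext_le a hx.1⟩⟩
            rw [(ext_spec P B hOO ha ha1 h).2 _ h2] at h3
            exact le_ext h2 b ⟨h3.1, hx.2⟩)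
  have hcl : (⨆ a : {a : G // a ∈ E ∧ a ≠ 1}, φ a) = ⨆ s : T, θ (s : G) := by
    apply le_antisymm
    · refine iSup_le ?_
      rintro ⟨a, ha, ha1⟩
      show φ a ≤ _
      by_cases h : a ∈ T
      · rw [hφT a h]
        exact le_iSup (fun s : T => θ (s : G)) ⟨a, h⟩
      · rw [hφN a h]
        refine iSup_le fun s => ?_
        exact le_trans inf_le_left (le_iSup (fun s : T => θ (s : G)) s)
    · refine iSup_le ?_
      rintro ⟨t, ht⟩
      refine le_trans ?_ (le_iSup (fun a : {a : G // a ∈ E ∧ a ≠ 1} => φ a) ⟨t, P.sub t ht, P.ne t ht⟩)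
      exact (hφT t ht).ge
  rw [hcl] at hSF
  refine ⟨hSF.1, fun t ht => ?_⟩
  rw [hSF.2.1 t (P.sub t ht) (P.ne t ht), hφT t ht]

end

end Cfsg.Agent.TypeLFive.CoreFunctor
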