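import Mathlib
import Cfsg.Prelude.Def_Local
import Cfsg.Agent.SignalizersComponents.GoldschmidtFunctor
import Cfsg.Agent.TypeLFive.CoreFunctor

/-!
# `3/2`-balance

`b` is an involution, `X = C(b) / O(C(b))` has a normal subgroup `K`, `E = R F` with `F ≤ K` modulo the core, and
`R` centralising `K`, such that `O(C_K(f))` is centralised by `F` for `1 ≠ f ∈ F`. Then
`[O(C(a)) ∩ C(b), E] ≤ O(C(b))`.
-/

set_option autoImplicit false

namespace Cfsg.Agent.TypeLFive.CoreBalance

open Subgroup Cfsg
open Cfsg.Agent.SignalizersComponents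
open Cfsg.Agent.SignalizersComponents.GoldschmidtFunctor

universe u

variable {G : Type u} [Group G]

/-- the quotient `C_G(b) / O(C_G(b))` -/
abbrev Q (b : G) : Type u :=
  ↥(centralizer ({b} : Set G)) ⧸ pPrimeCore 2 ↥(centralizer ({b} : Set G))

/-- The local hypotheses at the involution `b`. -/
structure Loc (E : Subgroup G) (T : Set G) (b : G) (F R : Subgroup G) (K : Subgroup (Q b)) :
    Prop where
  FE : F ≤ E
  RE : R ≤ E
  ER : E ≤ R ⊔ F
  F4 : Nat.card F = 4
  R4 : Nat.card R = 4
  bR : b ∈ R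
  TR : ∀ a ∈ T, a ∈ R → a = b
  FT : ∀ f ∈ F, f ≠ 1 → f ∈ T
  /-- the hyperplane `R ⟨f⟩` contains a four-group with all involutions in `T` -/
  VT : ∀ f ∈ F, f ≠ 1 → ∃ V : Subgroup G, V ≤ R ⊔ zpowers f ∧ Nat.card V = 4 ∧
    ∀ v ∈ V, v ≠ 1 → v ∈ T
  normal : K.Normal
  FK : bar b F ≤ K
  RK : bar b R ≤ centralizer (K : Set (Q b))
  core : ∀ f ∈ F, f ≠ 1 → ∀ D : Subgroup (Q b), ¬ 2 ∣ Nat.card D →
    D ≤ K ⊓ centralizer (bar b (zpowers f) : Set (Q b)) →
    K ⊓ centralizer (bar b (zpowers f) : Set (Q b)) ≤ normalizer (D : Set (Q b)) →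
    ⁅D, bar b F⁆ = ⊥
  gen : ∀ D : Subgroup (Q b), (∀ f ∈ F, f ≠ 1 → ∃ D' : Subgroup (Q b), D ≤ D' ∧
    ¬ 2 ∣ Nat.card D' ∧ D' ≤ centralizer (bar b (zpowers f) : Set (Q b)) ∧
    K ⊓ centralizer (bar b (zpowers f) : Set (Q b)) ≤ normalizer (D' : Set (Q b))) →
    D ≤ centralizer (K : Set (Q b))
  genK : K ≤ ⨆ f : {f : G // f ∈ F ∧ f ≠ 1},
    K ⊓ centralizer (bar b (zpowers (f : G)) : Set (Q b))
  fratt : ⊤ ≤ K ⊔ centralizer (bar b F : Set (Q b))

/-- A subgroup of odd order normalised by a normal subgroup containing it is trivial, if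
`O(X) = 1`. -/
theorem eq_bot_of_normalized {X : Type*} [Group X] [Finite X] (hO : pPrimeCore 2 X = ⊥)
    {C D : Subgroup X} (hC : C.Normal) (hDC : D ≤ C) (hD : ¬ 2 ∣ Nat.card D)
    (hn : C ≤ normalizer (D : Set X)) : D = ⊥ := by
  have h1 : (D.subgroupOf C).Normal := normal_subgroupOf_of_le_normalizer hn
  have h2 : D.IsSubnormal := Subgroup.IsSubnormal.trans hDC h1.isSubnormal hC.isSubnormal
  have h3 : (Nat.card D).Coprime 2 := (Nat.prime_two.coprime_iff_not_dvd.2 hD).symm
  have h4 := CompBasic.subnormal_coprime_le_pPrimeCore h2 h3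
  rwa [hO, le_bot_iff] at h4

theorem core_quot [Finite G] (b : G) : pPrimeCore 2 (Q b) = ⊥ :=
  Lib.Cores.pPrimeCore_quotient_pPrimeCore 2

/-- the core -/
abbrev M (t : G) : Subgroup G := centralizerPPrimeCore 2 t

theorem M_odd [Finite G] (t : G) : ¬ 2 ∣ Nat.card (M t) := by
  have := CoreOfCentralizer.card_centralizerPPrimeCore_coprime 2 t
  exact Nat.prime_two.coprime_iff_not_dvd.1 this.symm

theorem M_le (t : G) : M t ≤ centralizer ({t} : Set G) :=
  CoreOfCentralizer.centralizerPPrimeCore_le 2 t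

theorem cen_le_normalizer_M (t : G) : centralizer ({t} : Set G) ≤ normalizer (M t : Set G) :=
  CoreOfCentralizer.centralizer_le_normalizer_centralizerPPrimeCore 2 t

theorem cen_le_of_mem {A : Subgroup G} {a : G} (ha : a ∈ A) :
    centralizer (A : Set G) ≤ centralizer ({a} : Set G) :=
  centralizer_le (by rintro _ rfl; exact ha)

theorem cen_zpowers (a : G) :
    centralizer ((zpowers a : Subgroup G) : Set G) = centralizer ({a} : Set G) :=
  CoprimeGen.centralizer_zpowers a

theorem le_normalizer_inf {A B C : Subgroup G} (h1 : A ≤ normalizer (B : Set G))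
    (h2 : A ≤ normalizer (C : Set G)) : A ≤ normalizer ((B ⊓ C : Subgroup G) : Set G) := by
  intro x hx
  rw [mem_normalizer_iff]
  intro y
  have h3 := mem_normalizer_iff.1 (h1 hx) y
  have h4 := mem_normalizer_iff.1 (h2 hx) y
  exact and_congr h3 h4

theorem cen_le_normalizer_cen (A : Subgroup G) :
    centralizer (A : Set G) ≤ normalizer ((centralizer (A : Set G) : Subgroup G) : Set G) :=
  le_normalizer

theorem comm_le_cen {E A B : Subgroup G} (hE : ∀ a ∈ E, ∀ b ∈ E, a * b = b * a) (hA : A ≤ E)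
    (hB : B ≤ E) : A ≤ centralizer (B : Set G) := by
  intro a ha
  rw [mem_centralizer_iff]
  intro b hb
  exact hE b (hB hb) a (hA ha)

theorem isPGroup_of_sq {A : Subgroup G} (h : ∀ a ∈ A, a * a = 1) : IsPGroup 2 A := by
  rintro ⟨a, ha⟩
  refine ⟨1, Subtype.ext ?_⟩
  simpa [pow_two] using h a ha

/-- the elements of a four-group -/
theorem mem_four {R : Subgroup G} (h4 : Nat.card R = 4) (hsq : ∀ a ∈ R, a * a = 1) {b r : G}
    (hb : b ∈ R) (hr : r ∈ R) (hb1 : b ≠ 1) (hr1 : r ≠ 1) (hrb : r ≠ b) {s : G} (hs : s ∈ R) :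
    s = 1 ∨ s = b ∨ s = r ∨ s = b * r := by
  classical
  have h1 : ({1, b, r, b * r} : Finset G).card = 4 := by
    have h5 : b * r ≠ 1 := by
      intro h
      have h6 : b * r = b * b := by rw [h, hsq b hb]
      exact hrb (mul_left_cancel h6)
    have h6 : b * r ≠ b := fun h => hr1 (mul_left_cancel (by rw [h, mul_one]))
    have h7 : b * r ≠ r := fun h => hb1 (mul_right_cancel (by rw [h, one_mul]))
    rw [Finset.card_insert_of_notMem, Finset.card_insert_of_notMem, Finset.card_insert_of_notMem,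
      Finset.card_singleton]
    · simpa using h7.symm
    · simp only [Finset.mem_insert, Finset.mem_singleton, not_or]
      exact ⟨hrb.symm, h6.symm⟩
    · simp only [Finset.mem_insert, Finset.mem_singleton, not_or]
      exact ⟨hb1.symm, hr1.symm, h5.symm⟩
  have h2 : (({1, b, r, b * r} : Finset G) : Set G) = (R : Set G) := by
    apply Set.eq_of_subset_of_ncard_le
    · intro x hx
      simp only [Finset.coe_insert, Finset.coe_singleton, Set.mem_insert_iff,
        Set.mem_singleton_iff] at hx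
      rcases hx with h | h | h | h
      · rw [h]; exact one_mem _
      · rw [h]; exact hb
      · rw [h]; exact hr
      · rw [h]; exact mul_mem hb hr
    · rw [Set.ncard_coe_finset, h1, ← Nat.card_coe_set_eq]
      exact h4.le
    · exact Set.finite_coe_iff.1 (Nat.finite_of_card_ne_zero (by
        show Nat.card R ≠ 0
        omega))
  have h3 : s ∈ (({1, b, r, b * r} : Finset G) : Set G) := by rw [h2]; exact hs
  simpa using h3

section

variable [Finite G] {E : Subgroup G} {T : Set G} {b : G} {F R : Subgroup G} {K : Subgroup (Q b)}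

/-- the image in `C(b) / O(C(b))` of a subgroup normalised by the centraliser of the 2-group `P` is
normalised by the centraliser of the image of `P`. -/
theorem cen_bar_le (P : Subgroup G) (hPb : P ≤ centralizer ({b} : Set G)) (hP : IsPGroup 2 P)
    (D : Subgroup G) (hn : centralizer (P : Set G) ≤ normalizer (D : Set G)) :
    centralizer (bar b P : Set (Q b)) ≤ normalizer (bar b D : Set (Q b)) :=
  centralizer_bar_le_normalizer hPb hP (inf_le_left.trans hn)

theorem bar_odd {D : Subgroup G} (hD : D ≤ centralizer ({b} : Set G)) (h : ¬ 2 ∣ Nat.card D) :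
    ¬ 2 ∣ Nat.card (bar b D) := fun h2 => h (h2.trans (card_bar_dvd D hD))

theorem bar_commute {A B : Subgroup G} (hA : A ≤ centralizer ({b} : Set G))
    (hB : B ≤ centralizer ({b} : Set G)) (h : A ≤ centralizer (B : Set G)) :
    bar b A ≤ centralizer (bar b B : Set (Q b)) := by
  rw [← commutator_eq_bot_iff_le_centralizer, ← bar_commutator hA hB,
    commutator_eq_bot_iff_le_centralizer.2 h]
  simp [bar]

theorem commute_bar_b (x : Q b) (hb : b ∈ centralizer ({b} : Set G)) :
    x * QuotientGroup.mk' (pPrimeCore 2 ↥(centralizer ({b} : Set G))) ⟨b, hb⟩ =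
      QuotientGroup.mk' (pPrimeCore 2 ↥(centralizer ({b} : Set G))) ⟨b, hb⟩ * x := by
  obtain ⟨y, rfl⟩ := QuotientGroup.mk'_surjective _ x
  rw [← map_mul, ← map_mul]
  congr 1
  apply Subtype.ext
  exact mem_centralizer_singleton_iff.1 y.2

/-- an element of `bar b A` for `A ≤ C(b)` -/
theorem mem_bar_iff {A : Subgroup G} {x : Q b} : x ∈ bar b A ↔
    ∃ y : G, ∃ hy : y ∈ centralizer ({b} : Set G), y ∈ A ∧
      QuotientGroup.mk' (pPrimeCore 2 ↥(centralizer ({b} : Set G))) ⟨y, hy⟩ = x := by
  constructor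
  · rintro ⟨y, hy, rfl⟩
    exact ⟨y, y.2, hy, rfl⟩
  · rintro ⟨y, hy, hyA, rfl⟩
    exact mem_bar hy hyA

/-- `bar b (A ⊔ B) ≤ bar b A ⊔ bar b B` if `A`, `B` lie in `C(b)`. -/
theorem bar_sup_le {A B : Subgroup G} (hA : A ≤ centralizer ({b} : Set G))
    (hB : B ≤ centralizer ({b} : Set G)) : bar b (A ⊔ B) ≤ bar b A ⊔ bar b B := by
  have h1 : (A ⊔ B).subgroupOf (centralizer ({b} : Set G)) =
      A.subgroupOf (centralizer ({b} : Set G)) ⊔ B.subgroupOf (centralizer ({b} : Set G)) :=
    Subgroup.subgroupOf_sup hA hB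
  unfold bar
  rw [h1, Subgroup.map_sup]

variable (hE : ∀ a ∈ E, ∀ b ∈ E, a * b = b * a) (hsq : ∀ a ∈ E, a * a = 1)
  (L : Loc E T b F R K)

include L hE in
theorem E_le : E ≤ centralizer ({b} : Set G) := by
  intro x hx
  exact mem_centralizer_singleton_iff.2 (hE x hx b (L.RE L.bR))

include L in
/-- a subgroup of odd order of `X` contained in `C_X(K)` and in a subgroup normalised by
`C_X(K)` of odd order is trivial -/
theorem eq_bot_of_le {D D' : Subgroup (Q b)} (hDD : D ≤ D') (hD' : ¬ 2 ∣ Nat.card D')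
    (hD : D ≤ centralizer (K : Set (Q b)))
    (hn : centralizer (K : Set (Q b)) ≤ normalizer (D' : Set (Q b))) : D = ⊥ := by
  have hKn := L.normal
  have hC : (centralizer (K : Set (Q b))).Normal := inferInstance
  have h1 : D' ⊓ centralizer (K : Set (Q b)) = ⊥ := by
    refine eq_bot_of_normalized (core_quot b) hC inf_le_right ?_ ?_
    · exact fun h => hD' (h.trans (card_dvd_of_le inf_le_left))
    · exact le_normalizer_inf hn le_normalizer
  rw [← le_bot_iff, ← h1]
  exact le_inf hDD hD

/-- commuting with `bar b A` can be tested on elements -/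
theorem mem_cen_bar {A : Subgroup G} (hA : A ≤ centralizer ({b} : Set G)) {x : Q b}
    (h : ∀ a : G, ∀ ha : a ∈ A,
      QuotientGroup.mk' (pPrimeCore 2 ↥(centralizer ({b} : Set G))) ⟨a, hA ha⟩ * x =
        x * QuotientGroup.mk' (pPrimeCore 2 ↥(centralizer ({b} : Set G))) ⟨a, hA ha⟩) :
    x ∈ centralizer (bar b A : Set (Q b)) := by
  rw [mem_centralizer_iff]
  intro y hy
  obtain ⟨a, _, ha, rfl⟩ := mem_bar_iff.1 hy
  exact h a ha

include L hE hsq in
/-- **3/2-balance.** -/
theorem three_half (hb1 : b ≠ 1) {a : G} (ha : a ∈ T) (haE : a ∈ E) (hab : a ≠ b) :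
    ⁅M a ⊓ centralizer ({b} : Set G), E⁆ ≤ M b := by
  have hEb : E ≤ centralizer ({b} : Set G) := E_le hE L
  have hFb := L.FE.trans hEb
  have hRb := L.RE.trans hEb
  have hKn := L.normal
  set H : Subgroup G := M a ⊓ centralizer ({b} : Set G) with hH
  have hHb : H ≤ centralizer ({b} : Set G) := inf_le_right
  set D : Subgroup (Q b) := bar b H with hD
  have hHodd : ¬ 2 ∣ Nat.card H := fun h => M_odd a (h.trans (card_dvd_of_le inf_le_left))
  have hDodd : ¬ 2 ∣ Nat.card D := bar_odd hHb hHodd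
  have hab' : zpowers a ≤ centralizer ({b} : Set G) := by
    rw [zpowers_le]; exact hEb haE
  have hEa : E ≤ centralizer ({a} : Set G) := fun x hx =>
    mem_centralizer_singleton_iff.2 (hE x hx a haE)
  -- `D` commutes with `a`
  have hDa : D ≤ centralizer (bar b (zpowers a) : Set (Q b)) := by
    refine bar_commute hHb hab' ?_
    rw [cen_zpowers]
    exact inf_le_left.trans (M_le a)
  -- `C_X(a)` normalises `D`
  have hCaD : centralizer (bar b (zpowers a) : Set (Q b)) ≤ normalizer (D : Set (Q b)) := by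
    refine centralizer_bar_le_normalizer hab' ?_ ?_
    · refine isPGroup_of_sq ?_
      intro x hx
      exact hsq x ((zpowers_le.2 haE) hx)
    · rw [cen_zpowers]
      refine le_normalizer_inf (inf_le_left.trans (cen_le_normalizer_M a)) ?_
      exact inf_le_right.trans le_normalizer
  -- `a = r f`
  obtain ⟨r, hr, f, hf, hrf⟩ : ∃ r ∈ R, ∃ f ∈ F, r * f = a := by
    have hn : F ≤ normalizer (R : Set G) := by
      refine (comm_le_cen hE L.FE L.RE).trans ?_
      exact Subgroup.centralizer_le_normalizer _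
    exact (CoprimeBasic.mem_sup_iff hn a).1 (L.ER haE)
  have hf1 : f ≠ 1 := by
    rintro rfl
    rw [mul_one] at hrf
    exact hab (L.TR a ha (hrf ▸ hr))
  have hfb : zpowers f ≤ centralizer ({b} : Set G) := by
    rw [zpowers_le]; exact hFb hf
  have hrC := hRb hr
  have hfC := hFb hf
  have haC := hEb haE
  -- elements of `K` commuting with `f` commute with `a`
  have hmk : QuotientGroup.mk' (pPrimeCore 2 ↥(centralizer ({b} : Set G))) ⟨a, haC⟩ =
      QuotientGroup.mk' (pPrimeCore 2 ↥(centralizer ({b} : Set G))) ⟨r, hrC⟩ *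
      QuotientGroup.mk' (pPrimeCore 2 ↥(centralizer ({b} : Set G))) ⟨f, hfC⟩ := by
    rw [← map_mul]
    congr 1
    exact Subtype.ext hrf.symm
  set ra : Q b := QuotientGroup.mk' (pPrimeCore 2 ↥(centralizer ({b} : Set G))) ⟨r, hrC⟩ with hra
  set fa : Q b := QuotientGroup.mk' (pPrimeCore 2 ↥(centralizer ({b} : Set G))) ⟨f, hfC⟩ with hfa
  set aa : Q b := QuotientGroup.mk' (pPrimeCore 2 ↥(centralizer ({b} : Set G))) ⟨a, haC⟩ with haa
  have hraK : ∀ k ∈ K, k * ra = ra * k := fun k hk =>
    (mem_centralizer_iff.1 (L.RK (mem_bar hrC hr)) k hk)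
  have hraR : ra ∈ bar b R := mem_bar hrC hr
  have hfaF : fa ∈ bar b F := mem_bar hfC hf
  have hmemz : ∀ (y : G) (hy : y ∈ centralizer ({b} : Set G)) (x : Q b),
      x ∈ centralizer (bar b (zpowers y) : Set (Q b)) ↔
        QuotientGroup.mk' (pPrimeCore 2 ↥(centralizer ({b} : Set G))) ⟨y, hy⟩ * x =
        x * QuotientGroup.mk' (pPrimeCore 2 ↥(centralizer ({b} : Set G))) ⟨y, hy⟩ := by
    intro y hy x
    constructor
    · intro h
      exact mem_centralizer_iff.1 h _ (mem_bar hy (mem_zpowers y))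
    · intro h
      rw [mem_centralizer_iff]
      intro z hz
      obtain ⟨w, hw, hwy, rfl⟩ := mem_bar_iff.1 hz
      obtain ⟨n, rfl⟩ := mem_zpowers_iff.1 hwy
      have h2 : QuotientGroup.mk' (pPrimeCore 2 ↥(centralizer ({b} : Set G))) ⟨y ^ n, hw⟩ =
        QuotientGroup.mk' (pPrimeCore 2 ↥(centralizer ({b} : Set G))) ⟨y, hy⟩ ^ n := by
        rw [← map_zpow]
        congr 1
      rw [h2]
      exact (Commute.zpow_left h n).eq
  have hKfa : K ⊓ centralizer (bar b (zpowers f) : Set (Q b)) ≤
      centralizer (bar b (zpowers a) : Set (Q b)) := by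
    rintro k ⟨hk, hkf⟩
    rw [hmemz a haC, ← haa, hmk]
    have h1 := (hmemz f hfC k).1 hkf
    have h2 := hraK k hk
    calc ra * fa * k = ra * (fa * k) := mul_assoc _ _ _
      _ = ra * (k * fa) := by rw [h1]
      _ = (ra * k) * fa := by group
      _ = (k * ra) * fa := by rw [h2]
      _ = k * (ra * fa) := by group
  have hDKf : D ⊓ K ≤ K ⊓ centralizer (bar b (zpowers f) : Set (Q b)) := by
    rintro k ⟨hkD, hk⟩
    refine ⟨hk, (hmemz f hfC k).2 ?_⟩
    have h1 := (hmemz a haC k).1 (hDa hkD)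
    rw [← haa, hmk] at h1
    have h2 := hraK k hk
    have h3 : ra * (fa * k) = ra * (k * fa) := by
      calc ra * (fa * k) = ra * fa * k := (mul_assoc _ _ _).symm
        _ = k * (ra * fa) := h1
        _ = (k * ra) * fa := by group
        _ = (ra * k) * fa := by rw [h2]
        _ = ra * (k * fa) := by group
    exact mul_left_cancel h3
  -- `[D ⊓ K, F] = 1`
  have hcore : ⁅D ⊓ K, bar b F⁆ = ⊥ := by
    refine L.core f hf hf1 (D ⊓ K) ?_ hDKf ?_
    · exact fun h => hDodd (h.trans (card_dvd_of_le inf_le_left))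
    · refine le_normalizer_inf (hKfa.trans hCaD) ?_
      exact inf_le_left.trans le_normalizer
  have hFa : bar b F ≤ centralizer (bar b (zpowers a) : Set (Q b)) :=
    bar_commute hFb hab' (comm_le_cen hE L.FE (zpowers_le.2 haE))
  have hFD : bar b F ≤ normalizer (D : Set (Q b)) := hFa.trans hCaD
  have hcop : (Nat.card (bar b F)).Coprime (Nat.card D) := by
    have h1 : Nat.card (bar b F) ∣ 4 := by
      rw [← L.F4]; exact card_bar_dvd F hFb
    refine Nat.Coprime.coprime_dvd_left h1 ?_
    have : (4 : ℕ) = 2 ^ 2 := rfl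
    rw [this]
    exact Nat.Coprime.pow_left 2 (Nat.prime_two.coprime_iff_not_dvd.2 hDodd)
  have hDF : ⁅D, bar b F⁆ = ⊥ := by
    have h1 : ⁅D, bar b F⁆ ≤ D ⊓ K := by
      refine le_inf (Lib.CoprimeCommutator.commutator_le_left hFD) ?_
      exact (commutator_mono le_rfl L.FK).trans (commutator_le_right _ _)
    have h2 : ⁅⁅D, bar b F⁆, bar b F⁆ = ⊥ := by
      rw [← le_bot_iff, ← hcore]
      exact commutator_mono h1 le_rfl
    rwa [Lib.CoprimeCommutator.commutator_commutator_eq (bar b F) D hFD hcop] at h2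
  -- `[D, R] = 1`
  have hDR : ⁅D, bar b R⁆ = ⊥ := by
    by_cases hrb : r = 1 ∨ r = b
    · -- `C_X(K) ≤ C_X(a)`
      have hCK : centralizer (K : Set (Q b)) ≤ centralizer (bar b (zpowers a) : Set (Q b)) := by
        intro x hx
        rw [hmemz a haC, ← haa, hmk]
        have h1 : fa * x = x * fa := mem_centralizer_iff.1 hx fa (L.FK hfaF)
        have h2 : ra * x = x * ra := by
          rcases hrb with h | h
          · have : ra = 1 := by
              rw [hra]
              have : (⟨r, hrC⟩ : ↥(centralizer ({b} : Set G))) = 1 := Subtype.ext h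
              rw [this, map_one]
            rw [this, one_mul, mul_one]
          · subst h
            exact (commute_bar_b x hrC).symm
        calc ra * fa * x = ra * (fa * x) := mul_assoc _ _ _
          _ = (ra * x) * fa := by rw [h1]; group
          _ = x * (ra * fa) := by rw [h2]; group
      have hRa : bar b R ≤ centralizer (bar b (zpowers a) : Set (Q b)) :=
        bar_commute hRb hab' (comm_le_cen hE L.RE (zpowers_le.2 haE))
      refine eq_bot_of_le L (D' := D) ?_ hDodd ?_ (hCK.trans hCaD)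
      · exact Lib.CoprimeCommutator.commutator_le_left (hRa.trans hCaD)
      · exact (commutator_mono le_rfl L.RK).trans (commutator_le_right _ _)
    · push Not at hrb
      -- every element of `R` is a product of `b` and `r`
      rw [commutator_eq_bot_iff_le_centralizer]
      intro d hd
      refine mem_cen_bar hRb ?_
      intro s hs
      have hdr : ra * d = d * ra := by
        have h1 := (hmemz a haC d).1 (hDa hd)
        rw [← haa, hmk] at h1
        have h2 : fa * d = d * fa := by
          rw [commutator_eq_bot_iff_le_centralizer] at hDF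
          exact mem_centralizer_iff.1 (hDF hd) fa hfaF
        have h3 : (ra * d) * fa = (d * ra) * fa := by
          calc (ra * d) * fa = ra * (d * fa) := mul_assoc _ _ _
            _ = ra * fa * d := by rw [← h2, mul_assoc]
            _ = (d * ra) * fa := by rw [h1, mul_assoc]
        exact mul_right_cancel h3
      have hbC : b ∈ centralizer ({b} : Set G) := hRb L.bR
      set ba : Q b := QuotientGroup.mk' (pPrimeCore 2 ↥(centralizer ({b} : Set G))) ⟨b, hbC⟩
        with hba
      have hdb : ba * d = d * ba := (commute_bar_b d hbC).symm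
      have hs4 : s = 1 ∨ s = b ∨ s = r ∨ s = b * r := by
        exact mem_four L.R4 (fun x hx => hsq x (L.RE hx)) L.bR hr hb1 hrb.1 hrb.2 hs
      rcases hs4 with h | h | h | h
      · subst h
        have : (⟨1, hRb hs⟩ : ↥(centralizer ({b} : Set G))) = 1 := rfl
        rw [this, map_one, one_mul, mul_one]
      · subst h; exact hdb
      · subst h; exact hdr
      · subst h
        have h5 : (⟨b * r, hRb hs⟩ : ↥(centralizer ({b} : Set G))) = ⟨b, hbC⟩ * ⟨r, hrC⟩ := rfl
        rw [h5, map_mul, ← hra, ← hba, mul_assoc, hdr, ← mul_assoc, hdb, mul_assoc]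
  -- conclusion
  have hDE : bar b ⁅H, E⁆ = ⊥ := by
    rw [bar_commutator hHb hEb, ← le_bot_iff]
    have h1 : bar b E ≤ bar b R ⊔ bar b F := (bar_mono L.ER).trans (bar_sup_le hRb hFb)
    refine (commutator_mono le_rfl h1).trans ?_
    rw [Lib.Cores.commutator_sup_le_iff]
    exact ⟨hDR.le, hDF.le⟩
  refine le_of_bar_eq_bot ?_ hDE
  exact (commutator_mono hHb hEb).trans (commutator_le_self _)

end

end Cfsg.Agent.TypeLFive.CoreBalance
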