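import Mathlib
import Cfsg.Prelude.Def_Local
import Cfsg.Agent.TypeLFive.CoreBalance
import Cfsg.Agent.Lib.CoreCent

/-!
# Cores: `[O(C(t)), E] = 1`

The `3/2`-balanced signalizer functor `t ↦ [O(C(t)), E] O(C(E))` on the set `T`, and its closure.
-/

set_option autoImplicit false

namespace Cfsg.Agent.TypeLFive.CoreMain

open Subgroup Cfsg
open Cfsg.Agent.SignalizersComponents
open Cfsg.Agent.SignalizersComponents.GoldschmidtFunctor
open Cfsg.Agent.TypeLFive.CoreFunctor
open Cfsg.Agent.TypeLFive.CoreBalance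
open scoped commutatorElement

universe u

variable {G : Type u} [Group G]

/-! ### Normalisers -/

theorem le_normalizer_iff {C A : Subgroup G} :
    C ≤ normalizer (A : Set G) ↔ ∀ c ∈ C, ∀ a ∈ A, c * a * c⁻¹ ∈ A := by
  constructor
  · intro h c hc a ha
    exact (mem_normalizer_iff.1 (h hc) a).1 ha
  · intro h c hc
    rw [mem_normalizer_iff]
    intro a
    refine ⟨h c hc a, fun ha => ?_⟩
    have := h c⁻¹ (inv_mem hc) _ ha
    simpa [mul_assoc] using this

theorem le_normalizer_iSup {ι : Sort*} {C : Subgroup G} {A : ι → Subgroup G}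
    (h : ∀ i, C ≤ normalizer (A i : Set G)) : C ≤ normalizer ((⨆ i, A i : Subgroup G) : Set G) := by
  rw [le_normalizer_iff]
  intro c hc a ha
  have h1 : (⨆ i, A i).map (MulAut.conj c).toMonoidHom ≤ ⨆ i, A i := by
    rw [Subgroup.map_iSup]
    refine iSup_le fun i => ?_
    refine le_trans ?_ (le_iSup A i)
    rintro _ ⟨x, hx, rfl⟩
    exact le_normalizer_iff.1 (h i) c hc x hx
  exact h1 ⟨a, ha, rfl⟩

theorem le_normalizer_sup {C A B : Subgroup G} (hA : C ≤ normalizer (A : Set G))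
    (hB : C ≤ normalizer (B : Set G)) : C ≤ normalizer ((A ⊔ B : Subgroup G) : Set G) := by
  rw [le_normalizer_iff]
  intro c hc a ha
  have h1 : (A ⊔ B).map (MulAut.conj c).toMonoidHom ≤ A ⊔ B := by
    rw [Subgroup.map_sup]
    refine sup_le ?_ ?_
    · refine le_trans ?_ le_sup_left
      rintro _ ⟨x, hx, rfl⟩
      exact le_normalizer_iff.1 hA c hc x hx
    · refine le_trans ?_ le_sup_right
      rintro _ ⟨x, hx, rfl⟩
      exact le_normalizer_iff.1 hB c hc x hx
  exact h1 ⟨a, ha, rfl⟩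

theorem le_normalizer_iInf {ι : Sort*} {C : Subgroup G} {A : ι → Subgroup G}
    (h : ∀ i, C ≤ normalizer (A i : Set G)) : C ≤ normalizer ((⨅ i, A i : Subgroup G) : Set G) := by
  rw [le_normalizer_iff]
  intro c hc a ha
  rw [mem_iInf] at ha ⊢
  exact fun i => le_normalizer_iff.1 (h i) c hc a (ha i)

theorem le_normalizer_commutator {C A B : Subgroup G} (hA : C ≤ normalizer (A : Set G))
    (hB : C ≤ normalizer (B : Set G)) : C ≤ normalizer ((⁅A, B⁆ : Subgroup G) : Set G) := by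
  rw [le_normalizer_iff]
  intro c hc a ha
  have h1 : (⁅A, B⁆ : Subgroup G).map (MulAut.conj c).toMonoidHom ≤ ⁅A, B⁆ := by
    rw [Subgroup.map_commutator]
    refine commutator_mono ?_ ?_
    · rintro _ ⟨x, hx, rfl⟩
      exact le_normalizer_iff.1 hA c hc x hx
    · rintro _ ⟨x, hx, rfl⟩
      exact le_normalizer_iff.1 hB c hc x hx
  exact h1 ⟨a, ha, rfl⟩

/-! ### Coprime action -/

/-- Elements centralised by `E` do not contribute to the commutator. -/
theorem commutator_sup_le_of {N Z E : Subgroup G} (hZ : Z ≤ centralizer (E : Set G))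
    (hn : Z ≤ normalizer (N : Set G)) : ⁅N ⊔ Z, E⁆ ≤ ⁅N, E⁆ := by
  rw [commutator_le]
  intro g hg e he
  obtain ⟨n, hn', z, hz, rfl⟩ := (CoprimeBasic.mem_sup_iff hn g).1 hg
  have h1 : e * z = z * e := mem_centralizer_iff.1 (hZ hz) e he
  have h2 : ⁅n * z, e⁆ = ⁅n, e⁆ := by
    rw [commutatorElement_def, commutatorElement_def, mul_inv_rev]
    calc n * z * e * (z⁻¹ * n⁻¹) * e⁻¹ = n * (z * e) * z⁻¹ * n⁻¹ * e⁻¹ := by group
      _ = n * (e * z) * z⁻¹ * n⁻¹ * e⁻¹ := by rw [h1]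
      _ = n * e * n⁻¹ * e⁻¹ := by group
  rw [h2]
  exact commutator_mem_commutator hn' he

theorem le_decomp [Finite G] {H E : Subgroup G} (hH : ¬ 2 ∣ Nat.card H)
    (hE : IsPGroup 2 E) (hn : E ≤ normalizer (H : Set G)) :
    H ≤ ⁅H, E⁆ ⊔ (H ⊓ centralizer (E : Set G)) := by
  intro k hk
  obtain ⟨m, hm, c, hc, rfl⟩ :=
    Lib.CoprimeCommutator.exists_commutator_mul_fixed_of_isPGroup 2 E H hE hn hH k hk
  exact mul_mem (le_sup_left (a := ⁅H, E⁆) hm) (le_sup_right (a := ⁅H, E⁆) hc)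

theorem comm_comm_eq [Finite G] {H E : Subgroup G} (hH : ¬ 2 ∣ Nat.card H)
    (hE : IsPGroup 2 E) (hn : E ≤ normalizer (H : Set G)) : ⁅⁅H, E⁆, E⁆ = ⁅H, E⁆ := by
  refine Lib.CoprimeCommutator.commutator_commutator_eq E H hn ?_
  obtain ⟨n, h⟩ := IsPGroup.iff_card.1 hE
  rw [h]
  exact Nat.Coprime.pow_left n (Nat.prime_two.coprime_iff_not_dvd.2 hH)

/-- `[H, E] ≤ [H, W] [C_H(W), E]` for `W ≤ E`. -/
theorem commutator_le_sup [Finite G] {H E W : Subgroup G} (hH : ¬ 2 ∣ Nat.card H)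
    (hE : ∀ a ∈ E, ∀ b ∈ E, a * b = b * a) (hE2 : IsPGroup 2 E) (hWE : W ≤ E)
    (hn : E ≤ normalizer (H : Set G)) :
    ⁅H, E⁆ ≤ ⁅H, W⁆ ⊔ ⁅H ⊓ centralizer (W : Set G), E⁆ := by
  rw [commutator_le]
  intro m hm e he
  obtain ⟨n, hn', c, hc, rfl⟩ := Lib.CoprimeCommutator.exists_commutator_mul_fixed_of_isPGroup 2 W H
    (hE2.to_le hWE) (hWE.trans hn) hH m hm
  have hnJ : n ∈ ⁅H, W⁆ ⊔ ⁅H ⊓ centralizer (W : Set G), E⁆ := le_sup_left (a := ⁅H, W⁆) hn'
  have h1 : ⁅n * c, e⁆ = n * ⁅c, e⁆ * n⁻¹ * ⁅n, e⁆ := by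
    simp only [commutatorElement_def]; group
  rw [h1]
  have h2 : ⁅c, e⁆ ∈ ⁅H, W⁆ ⊔ ⁅H ⊓ centralizer (W : Set G), E⁆ :=
    le_sup_right (a := ⁅H, W⁆) (commutator_mem_commutator hc he)
  have hEW : E ≤ normalizer ((⁅H, W⁆ : Subgroup G) : Set G) := by
    refine le_normalizer_commutator hn ?_
    rw [le_normalizer_iff]
    intro x hx w hw
    rw [hE x hx w (hWE hw), mul_inv_cancel_right]
    exact hw
  have h3 : ⁅n, e⁆ ∈ ⁅H, W⁆ := by
    have h4 : ⁅n, e⁆ = n * (e * n⁻¹ * e⁻¹) := by rw [commutatorElement_def]; group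
    rw [h4]
    exact mul_mem hn' (le_normalizer_iff.1 hEW e he _ (inv_mem hn'))
  exact mul_mem (mul_mem (mul_mem hnJ h2) (inv_mem hnJ)) (le_sup_left (a := ⁅H, W⁆) h3)

/-- The hypotheses. -/
structure Hyp (E : Subgroup G) (T : Set G) : Prop where
  pair : Pair E T
  card : Nat.card E = 16
  conj : ∀ n ∈ normalizer (E : Set G), ∀ t ∈ T, n * t * n⁻¹ ∈ T
  loc : ∀ b ∈ T, ∃ (F R : Subgroup G) (K : Subgroup (Q b)), Loc E T b F R K

/-- the functor -/
def theta (E : Subgroup G) (t : G) : Subgroup G := ⁅M t, E⁆ ⊔ coreC E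

section

variable [Finite G] {E : Subgroup G} {T : Set G} (H : Hyp E T)

include H

theorem Hyp.isPGroup : IsPGroup 2 E := isPGroup_of_sq H.pair.sq

theorem Hyp.E_le {t : G} (ht : t ∈ T) : E ≤ centralizer ({t} : Set G) := fun x hx =>
  mem_centralizer_singleton_iff.2 (H.pair.comm x hx t (H.pair.sub t ht))

theorem Hyp.cenE_le {t : G} (ht : t ∈ T) : centralizer (E : Set G) ≤ centralizer ({t} : Set G) :=
  cen_le_of_mem (H.pair.sub t ht)

theorem Hyp.E_le_nM {t : G} (ht : t ∈ T) : E ≤ normalizer (M t : Set G) :=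
  (H.E_le ht).trans (cen_le_normalizer_M t)

theorem Hyp.cenE_le_nM {t : G} (ht : t ∈ T) : centralizer (E : Set G) ≤ normalizer (M t : Set G) :=
  (H.cenE_le ht).trans (cen_le_normalizer_M t)

theorem Hyp.E_le_cenE : E ≤ centralizer (E : Set G) := comm_le_cen H.pair.comm le_rfl le_rfl

theorem Hyp.comm_le {t : G} (ht : t ∈ T) : ⁅M t, E⁆ ≤ M t :=
  Lib.CoprimeCommutator.commutator_le_left (H.E_le_nM ht)

theorem Hyp.cenE_le_ncomm {t : G} (ht : t ∈ T) :
    centralizer (E : Set G) ≤ normalizer ((⁅M t, E⁆ : Subgroup G) : Set G) :=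
  le_normalizer_commutator (H.cenE_le_nM ht) (Subgroup.centralizer_le_normalizer _)

omit H in
theorem Z_odd (E : Subgroup G) : ¬ 2 ∣ Nat.card (coreC E) :=
  Nat.prime_two.coprime_iff_not_dvd.1 (card_coreC_coprime E).symm

theorem Hyp.M_inf_le {t : G} (ht : t ∈ T) : M t ⊓ centralizer (E : Set G) ≤ coreC E := by
  refine le_coreC inf_le_right ?_ ?_
  · refine Nat.Coprime.symm (Nat.prime_two.coprime_iff_not_dvd.2 ?_)
    exact fun h => M_odd t (h.trans (card_dvd_of_le inf_le_left))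
  · exact le_normalizer_inf (H.cenE_le_nM ht) le_normalizer

theorem Hyp.theta_odd {t : G} (ht : t ∈ T) : ¬ 2 ∣ Nat.card (theta E t) := by
  intro h
  have h1 := CoprimeBasic.card_sup_dvd (X := ⁅M t, E⁆) (Y := coreC E)
    ((coreC_le E).trans (H.cenE_le_ncomm ht))
  rcases (Nat.prime_two.dvd_mul).1 (h.trans h1) with h2 | h2
  · exact M_odd t (h2.trans (card_dvd_of_le (H.comm_le ht)))
  · exact Z_odd E h2

theorem Hyp.theta_le {t : G} (ht : t ∈ T) : theta E t ≤ centralizer ({t} : Set G) :=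
  sup_le ((H.comm_le ht).trans (M_le t)) ((coreC_le E).trans (H.cenE_le ht))

theorem Hyp.theta_norm {t : G} (ht : t ∈ T) :
    centralizer (E : Set G) ≤ normalizer (theta E t : Set G) :=
  le_normalizer_sup (H.cenE_le_ncomm ht) (centralizer_le_normalizer_coreC E)

theorem Hyp.three_half {a b : G} (ha : a ∈ T) (hb : b ∈ T) (hab : a ≠ b) :
    ⁅M a ⊓ centralizer ({b} : Set G), E⁆ ≤ M b := by
  obtain ⟨F, R, K, L⟩ := H.loc b hb
  exact CoreBalance.three_half H.pair.comm H.pair.sq L (H.pair.ne b hb) ha (H.pair.sub a ha) hab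

theorem Hyp.bal : Bal E T (theta E) where
  cen t ht := H.theta_le ht
  odd t ht := H.theta_odd ht
  inv t ht b hb x hx := le_normalizer_iff.1 (H.E_le_cenE.trans (H.theta_norm ht)) b hb x hx
  bal := by
    intro a ha b hb
    by_cases hab : a = b
    · subst hab; exact inf_le_left
    set D : Subgroup G := theta E a ⊓ centralizer ({b} : Set G) with hD
    have hDodd : ¬ 2 ∣ Nat.card D := fun h =>
      H.theta_odd ha (h.trans (card_dvd_of_le inf_le_left))
    have hED : E ≤ normalizer (D : Set G) :=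
      le_normalizer_inf (H.E_le_cenE.trans (H.theta_norm ha)) ((H.E_le hb).trans le_normalizer)
    have h1 : ⁅D, E⁆ ≤ M a ⊓ centralizer ({b} : Set G) := by
      refine le_inf ?_ ?_
      · refine (commutator_mono inf_le_left le_rfl).trans ?_
        refine (commutator_sup_le_of (coreC_le E) ((coreC_le E).trans (H.cenE_le_ncomm ha))).trans ?_
        refine le_trans ?_ (H.comm_le ha)
        exact Lib.CoprimeCommutator.commutator_le_left
          (le_normalizer_commutator (H.E_le_nM ha) le_normalizer)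
      · exact (Lib.CoprimeCommutator.commutator_le_left hED).trans inf_le_right
    have h2 : ⁅D, E⁆ ≤ ⁅M b, E⁆ := by
      rw [← comm_comm_eq hDodd H.isPGroup hED]
      refine commutator_mono ?_ le_rfl
      rw [← comm_comm_eq hDodd H.isPGroup hED]
      exact (commutator_mono h1 le_rfl).trans (H.three_half ha hb hab)
    refine (le_decomp hDodd H.isPGroup hED).trans (sup_le (h2.trans le_sup_left) ?_)
    refine le_trans ?_ le_sup_right
    rintro g ⟨⟨hg, -⟩, hgE⟩
    obtain ⟨n, hn, z, hz, rfl⟩ :=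
      (CoprimeBasic.mem_sup_iff ((coreC_le E).trans (H.cenE_le_ncomm ha)) g).1 hg
    have hzE := coreC_le E hz
    have hnE : n ∈ centralizer (E : Set G) := by
      have := (centralizer (E : Set G)).mul_mem hgE (inv_mem hzE)
      simpa using this
    exact mul_mem (H.M_inf_le ha ⟨H.comm_le ha hn, hnE⟩) hz

/-- the closure of the functor -/
theorem Hyp.complete (hOO : ∀ X : Subgroup G, ¬ 2 ∣ Nat.card X → Group.IsSolvable X) :
    ¬ 2 ∣ Nat.card (⨆ t : T, theta E (t : G) : Subgroup G) ∧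
      ∀ t ∈ T, (⨆ s : T, theta E (s : G)) ⊓ centralizer ({t} : Set G) = theta E t :=
  CoreFunctor.complete H.pair H.bal hOO

end

/-- `Θ = ⟨[O(C(t)), E] : t ∈ T⟩` -/
def Th (E : Subgroup G) (T : Set G) : Subgroup G := ⨆ t : T, ⁅M (t : G), E⁆

/-- `D_0`, the intersection of the `O(C(t))`, `t ∈ T`, and `C(E)` -/
def D0 (E : Subgroup G) (T : Set G) : Subgroup G := (⨅ t : T, M (t : G)) ⊓ centralizer (E : Set G)

/-- `D_W` -/
def DW (T : Set G) (W : Subgroup G) : Subgroup G :=
  (⨅ w : {w : G // w ∈ T ∧ w ∈ W}, M (w : G)) ⊓ centralizer (W : Set G)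

section

variable [Finite G] {E : Subgroup G} {T : Set G} (H : Hyp E T)
  (hOO : ∀ X : Subgroup G, ¬ 2 ∣ Nat.card X → Group.IsSolvable X)

omit [Finite G] in
theorem le_Th {t : G} (ht : t ∈ T) : ⁅M t, E⁆ ≤ Th E T := le_iSup (fun t : T => ⁅M (t : G), E⁆) ⟨t, ht⟩

omit [Finite G] in
theorem Th_le : Th E T ≤ ⨆ t : T, theta E (t : G) := iSup_mono fun _ => le_sup_left

include H hOO in
theorem Hyp.Th_odd : ¬ 2 ∣ Nat.card (Th E T) := fun h =>
  (H.complete hOO).1 (h.trans (card_dvd_of_le Th_le))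

include H in
theorem Hyp.cenE_le_nTh : centralizer (E : Set G) ≤ normalizer (Th E T : Set G) :=
  le_normalizer_iSup fun t => H.cenE_le_ncomm t.2

include H hOO in
/-- `Θ` is generated by the `[O(C(v)), E]`, `v ∈ V#`, for a four-group `V` with `V# ⊆ T`. -/
theorem Hyp.Th_le_iSup {V : Subgroup G} (hV4 : Nat.card V = 4) (hVT : ∀ v ∈ V, v ≠ 1 → v ∈ T) :
    Th E T ≤ ⨆ v : {v : G // v ∈ V ∧ v ≠ 1}, ⁅M (v : G), E⁆ := by
  obtain ⟨hodd, hcen⟩ := H.complete hOO
  set Θb : Subgroup G := ⨆ s : T, theta E (s : G) with hΘb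
  have hVE : V ≤ E := by
    intro v hv
    by_cases hv1 : v = 1
    · rw [hv1]; exact one_mem _
    · exact H.pair.sub v (hVT v hv hv1)
  have hEΘ : E ≤ normalizer (Θb : Set G) :=
    le_normalizer_iSup fun t => H.E_le_cenE.trans (H.theta_norm t.2)
  have hVel : IsElementaryAbelian 2 V := by
    refine ⟨⟨⟨fun x y => Subtype.ext (H.pair.comm x (hVE x.2) y (hVE y.2))⟩⟩, fun a ha => ?_⟩
    rw [pow_two]; exact H.pair.sq a (hVE ha)
  have h1 := CoprimeGen.le_iSup_centralizer_ne_one (p := 2) (A := V) (Z := Θb) hVel (by rw [hV4]; norm_num)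
    hodd (hVE.trans hEΘ)
  set NV : Subgroup G := ⨆ v : {v : G // v ∈ V ∧ v ≠ 1}, ⁅M (v : G), E⁆ with hNV
  have hCNV : centralizer (E : Set G) ≤ normalizer (NV : Set G) :=
    le_normalizer_iSup fun v => H.cenE_le_ncomm (hVT v v.2.1 v.2.2)
  have h2 : Θb ≤ NV ⊔ coreC E := by
    refine h1.trans (iSup_le ?_)
    rintro ⟨v, hv, hv1⟩
    show Θb ⊓ centralizer ({v} : Set G) ≤ _
    rw [hcen v (hVT v hv hv1)]
    exact sup_le_sup_right (le_iSup (fun v : {v : G // v ∈ V ∧ v ≠ 1} => ⁅M (v : G), E⁆) ⟨v, hv, hv1⟩) _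
  refine iSup_le ?_
  rintro ⟨t, ht⟩
  show ⁅M t, E⁆ ≤ NV
  rw [← comm_comm_eq (M_odd t) H.isPGroup (H.E_le_nM ht)]
  refine (commutator_mono ((le_Th ht).trans (Th_le.trans h2)) le_rfl).trans ?_
  refine (commutator_sup_le_of (coreC_le E) ((coreC_le E).trans hCNV)).trans ?_
  exact Lib.CoprimeCommutator.commutator_le_left (H.E_le_cenE.trans hCNV)

omit [Finite G] in
theorem DW_le {W : Subgroup G} {w : G} (hw : w ∈ T) (hwW : w ∈ W) : DW T W ≤ M w :=
  inf_le_left.trans (iInf_le (fun w : {w : G // w ∈ T ∧ w ∈ W} => M (w : G)) ⟨w, hw, hwW⟩)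

omit [Finite G] in
theorem D0_le_DW {W : Subgroup G} (hW : W ≤ E) : D0 E T ≤ DW T W := by
  refine le_inf ?_ (inf_le_right.trans (centralizer_le hW))
  refine inf_le_left.trans (le_iInf fun w => ?_)
  exact iInf_le (fun t : T => M (t : G)) ⟨w, w.2.1⟩

omit [Finite G] in
theorem cenW_le_nDW (W : Subgroup G) : centralizer (W : Set G) ≤ normalizer (DW T W : Set G) :=
  le_normalizer_inf (le_normalizer_iInf fun w =>
    (cen_le_of_mem w.2.2).trans (cen_le_normalizer_M _)) le_normalizer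

include H in
/-- `[C_{O(C(w))}(W), E] ≤ D_W`. -/
theorem Hyp.comm_le_DW {W : Subgroup G} (hWE : W ≤ E) {w : G} (hw : w ∈ T) :
    ⁅M w ⊓ centralizer (W : Set G), E⁆ ≤ DW T W := by
  have hE : E ≤ normalizer ((M w ⊓ centralizer (W : Set G) : Subgroup G) : Set G) :=
    le_normalizer_inf (H.E_le_nM hw)
      ((comm_le_cen H.pair.comm le_rfl hWE).trans le_normalizer)
  refine le_inf (le_iInf ?_) ?_
  · rintro ⟨v, hv, hvW⟩
    by_cases hvw : w = v
    · subst hvw
      exact (Lib.CoprimeCommutator.commutator_le_left hE).trans inf_le_left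
    · refine le_trans (commutator_mono ?_ le_rfl) (H.three_half hw hv hvw)
      exact inf_le_inf_left _ (cen_le_of_mem hvW)
  · exact (Lib.CoprimeCommutator.commutator_le_left hE).trans inf_le_right

/-- two subgroups of `E` of large order meet -/
theorem exists_mem_inf {A B : Subgroup G}
    (hA : A ≤ E) (hB : B ≤ E) (h : Nat.card E < Nat.card A * Nat.card B) :
    ∃ x ∈ A, x ∈ B ∧ x ≠ 1 := by
  by_contra hcon
  push Not at hcon
  have hinj : Function.Injective (fun p : A × B => (⟨(p.1 : G) * p.2, mul_mem (hA p.1.2) (hB p.2.2)⟩ : E)) := by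
    rintro ⟨⟨a, ha⟩, ⟨b, hb⟩⟩ ⟨⟨a', ha'⟩, ⟨b', hb'⟩⟩ hab
    have h1 : a * b = a' * b' := congrArg Subtype.val hab
    have h2 : a'⁻¹ * a = b' * b⁻¹ := by
      calc a'⁻¹ * a = a'⁻¹ * (a * b) * b⁻¹ := by group
        _ = a'⁻¹ * (a' * b') * b⁻¹ := by rw [h1]
        _ = b' * b⁻¹ := by group
    have h3 := hcon (a'⁻¹ * a) (mul_mem (inv_mem ha') ha) (by rw [h2]; exact mul_mem hb' (inv_mem hb))
    have h4 : a = a' := by
      have := congrArg (a' * ·) h3
      simpa using this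
    have h5 : b = b' := by
      rw [h3] at h2
      have := congrArg (· * b) h2
      simpa using this
    subst h4; subst h5; rfl
  have h1 := Nat.card_le_card_of_injective _ hinj
  rw [Nat.card_prod] at h1
  omega

include H in
/-- the hyperplanes `R ⟨f⟩` and `⟨b⟩ F` have order 8 -/
theorem Hyp.card_sup {b : G} (hb : b ∈ T) {F R : Subgroup G} {K : Subgroup (Q b)}
    (L : Loc E T b F R K) {f : G} (hf : f ∈ F) (hf1 : f ≠ 1) :
    8 ≤ Nat.card (R ⊔ zpowers f : Subgroup G) ∧ 8 ≤ Nat.card (zpowers b ⊔ F : Subgroup G) := by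
  have hn : F ≤ normalizer (R : Set G) :=
    (comm_le_cen H.pair.comm L.FE L.RE).trans (Subgroup.centralizer_le_normalizer _)
  -- multiplication `R × F → E` is bijective
  let m : R × F → E := fun p => ⟨(p.1 : G) * p.2, mul_mem (L.RE p.1.2) (L.FE p.2.2)⟩
  have hsurj : Function.Surjective m := by
    rintro ⟨e, he⟩
    obtain ⟨r, hr, f, hf, hrf⟩ := (CoprimeBasic.mem_sup_iff hn e).1 (L.ER he)
    exact ⟨(⟨r, hr⟩, ⟨f, hf⟩), Subtype.ext hrf⟩
  have hinj : Function.Injective m := by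
    have hbij : Function.Bijective m := by
      rw [Nat.bijective_iff_surjective_and_card]
      exact ⟨hsurj, by rw [Nat.card_prod, L.R4, L.F4, H.card]⟩
    exact hbij.1
  have key : ∀ A B : Subgroup G, A ≤ R → B ≤ F → Nat.card A * Nat.card B ≤
      Nat.card (A ⊔ B : Subgroup G) := by
    intro A B hA hB
    rw [← Nat.card_prod]
    refine Nat.card_le_card_of_injective (fun p : A × B => (⟨(p.1 : G) * p.2,
      mul_mem (le_sup_left (a := A) p.1.2) (le_sup_right (a := A) p.2.2)⟩ : (A ⊔ B : Subgroup G))) ?_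
    rintro ⟨⟨a, ha⟩, ⟨c, hc⟩⟩ ⟨⟨a', ha'⟩, ⟨c', hc'⟩⟩ h
    have h1 : a * c = a' * c' := congrArg Subtype.val h
    have h2 := @hinj (⟨a, hA ha⟩, ⟨c, hB hc⟩) (⟨a', hA ha'⟩, ⟨c', hB hc'⟩) (Subtype.ext h1)
    simp only [Prod.mk.injEq, Subtype.mk.injEq] at h2 ⊢
    exact h2
  have hz : ∀ x : G, x ≠ 1 → x ∈ E → 2 ≤ Nat.card (zpowers x) := by
    intro x hx hxE
    rw [Nat.card_zpowers]
    have h1 : 0 < orderOf x := orderOf_pos x
    have h2 : orderOf x ≠ 1 := fun h => hx (orderOf_eq_one_iff.1 h)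
    omega
  constructor
  · have h1 := key R (zpowers f) le_rfl (zpowers_le.2 hf)
    have h2 := hz f hf1 (L.FE hf)
    rw [L.R4] at h1
    omega
  · have h1 := key (zpowers b) F (zpowers_le.2 L.bR) le_rfl
    have h2 := hz b (H.pair.ne b hb) (L.RE L.bR)
    rw [L.F4] at h1
    omega

include H in
/-- Step (4). -/
theorem Hyp.DW_inf_le {V W : Subgroup G} (hV4 : Nat.card V = 4) (hVT : ∀ v ∈ V, v ≠ 1 → v ∈ T)
    (hVW : V ≤ W) (hWE : W ≤ E) {b : G} (hb : b ∈ T) :
    DW T W ⊓ centralizer (E : Set G) ≤ M b := by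
  obtain ⟨F, R, K, L⟩ := H.loc b hb
  have hE := H.pair.comm
  have hKn := L.normal
  have hEb : E ≤ centralizer ({b} : Set G) := H.E_le hb
  have hVE : V ≤ E := hVW.trans hWE
  set D : Subgroup G := DW T W ⊓ centralizer (E : Set G) with hD
  have hDb : D ≤ centralizer ({b} : Set G) := inf_le_right.trans (H.cenE_le hb)
  -- for a hyperplane `P` of order 8 there is an odd subgroup containing `D` normalised by `C(P)`
  have key : ∀ P : Subgroup G, P ≤ E → 8 ≤ Nat.card P → ∃ D' : Subgroup G, D ≤ D' ∧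
      ¬ 2 ∣ Nat.card D' ∧ D' ≤ centralizer (P : Set G) ∧
      centralizer (P : Set G) ≤ normalizer (D' : Set G) := by
    intro P hPE hP8
    obtain ⟨v, hvV, hvP, hv1⟩ := exists_mem_inf hVE hPE (by
      rw [H.card, hV4]; omega)
    have hvT := hVT v hvV hv1
    refine ⟨M v ⊓ centralizer (P : Set G), le_inf ?_ ?_, ?_, inf_le_right, ?_⟩
    · exact inf_le_left.trans (DW_le hvT (hVW hvV))
    · exact inf_le_right.trans (centralizer_le hPE)
    · exact fun h => M_odd v (h.trans (card_dvd_of_le inf_le_left))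
    · exact le_normalizer_inf ((cen_le_of_mem hvP).trans (cen_le_normalizer_M v)) le_normalizer
  have hRb := L.RE.trans hEb
  have hFb := L.FE.trans hEb
  -- `D` centralises `K`
  have hDK : bar b D ≤ centralizer (K : Set (Q b)) := by
    refine L.gen (bar b D) ?_
    intro f hf hf1
    have hPE : R ⊔ zpowers f ≤ E := sup_le L.RE (zpowers_le.2 (L.FE hf))
    have hPb := hPE.trans hEb
    obtain ⟨D', h1, h2, h3, h4⟩ := key (R ⊔ zpowers f) hPE (H.card_sup hb L hf hf1).1
    have hbP : b ∈ R ⊔ zpowers f := le_sup_left (a := R) L.bR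
    have hD'b : D' ≤ centralizer ({b} : Set G) := h3.trans (cen_le_of_mem hbP)
    refine ⟨bar b D', bar_mono h1, bar_odd hD'b h2, ?_, ?_⟩
    · refine bar_commute hD'b ((zpowers_le.2 (L.FE hf)).trans hEb) ?_
      exact h3.trans (centralizer_le (SetLike.coe_subset_coe.2 (le_sup_right (a := R))))
    · have h5 := cen_bar_le (b := b) (R ⊔ zpowers f) hPb (H.isPGroup.to_le hPE) D' h4
      refine le_trans ?_ h5
      rintro x ⟨hxK, hxf⟩
      have h6 : bar b (R ⊔ zpowers f) ≤ bar b R ⊔ bar b (zpowers f) :=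
        bar_sup_le hRb ((zpowers_le.2 (L.FE hf)).trans hEb)
      refine centralizer_le h6 ?_
      have h7 : bar b R ⊔ bar b (zpowers f) ≤ centralizer ({x} : Set (Q b)) := by
        refine sup_le ?_ ?_
        · intro y hy
          rw [mem_centralizer_singleton_iff]
          exact (mem_centralizer_iff.1 (L.RK hy) x hxK).symm
        · intro y hy
          rw [mem_centralizer_singleton_iff]
          exact mem_centralizer_iff.1 hxf y hy
      rw [mem_centralizer_iff]
      intro y hy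
      exact mem_centralizer_singleton_iff.1 (h7 hy)
  -- `D` is trivial
  have hPE : zpowers b ⊔ F ≤ E := sup_le (zpowers_le.2 (L.RE L.bR)) L.FE
  have hPb := hPE.trans hEb
  obtain ⟨f, hf, hf1⟩ : ∃ f ∈ F, f ≠ 1 := by
    by_contra hcon
    push Not at hcon
    have : F = ⊥ := by rw [eq_bot_iff_forall]; exact hcon
    have h4 := L.F4
    rw [this, card_bot] at h4
    omega
  obtain ⟨D', h1, h2, h3, h4⟩ := key (zpowers b ⊔ F) hPE (H.card_sup hb L hf hf1).2
  have hbP : b ∈ zpowers b ⊔ F := le_sup_left (a := zpowers b) (mem_zpowers b)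
  have hD'b : D' ≤ centralizer ({b} : Set G) := h3.trans (cen_le_of_mem hbP)
  have hbot : bar b D = ⊥ := by
    refine eq_bot_of_le L (bar_mono h1) (bar_odd hD'b h2) hDK ?_
    have h5 := cen_bar_le (b := b) (zpowers b ⊔ F) hPb (H.isPGroup.to_le hPE) D' h4
    refine le_trans ?_ h5
    intro x hx
    refine mem_cen_bar hPb ?_
    intro a ha
    have h7 : zpowers b ⊔ F ≤ ((centralizer ({x} : Set (Q b))).comap
        (QuotientGroup.mk' (pPrimeCore 2 ↥(centralizer ({b} : Set G))))).map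
        (centralizer ({b} : Set G)).subtype := by
      refine sup_le ?_ ?_
      · rw [zpowers_le]
        refine ⟨⟨b, hEb (L.RE L.bR)⟩, ?_, rfl⟩
        rw [coe_comap, Set.mem_preimage, SetLike.mem_coe, mem_centralizer_singleton_iff]
        exact (commute_bar_b x _).symm
      · intro y hy
        refine ⟨⟨y, hFb hy⟩, ?_, rfl⟩
        rw [coe_comap, Set.mem_preimage, SetLike.mem_coe, mem_centralizer_singleton_iff]
        exact mem_centralizer_iff.1 hx _ (L.FK (mem_bar (hFb hy) hy))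
    obtain ⟨y, hy, hya⟩ := h7 ha
    have h8 : y = ⟨a, hPb ha⟩ := Subtype.ext hya
    rw [← h8]
    exact mem_centralizer_singleton_iff.1 hy
  exact le_of_bar_eq_bot hDb hbot

/-- `Ψ = Θ D_0` -/
def Psi (E : Subgroup G) (T : Set G) : Subgroup G := Th E T ⊔ D0 E T

include H in
theorem Hyp.DW_inf_le_D0 {V W : Subgroup G} (hV4 : Nat.card V = 4) (hVT : ∀ v ∈ V, v ≠ 1 → v ∈ T)
    (hVW : V ≤ W) (hWE : W ≤ E) : DW T W ⊓ centralizer (E : Set G) ≤ D0 E T :=
  le_inf (le_iInf fun b => H.DW_inf_le hV4 hVT hVW hWE b.2) inf_le_right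

omit [Finite G] in
theorem exists_ne_one {V : Subgroup G} (hV4 : Nat.card V = 4) : ∃ v ∈ V, v ≠ 1 := by
  by_contra hcon
  push Not at hcon
  have : V = ⊥ := by rw [eq_bot_iff_forall]; exact hcon
  rw [this, card_bot] at hV4
  omega

include H hOO in
/-- `Ψ` in terms of a hyperplane `W` containing a four-group `V` with `V# ⊆ T`. -/
theorem Hyp.Psi_eq {V W : Subgroup G} (hV4 : Nat.card V = 4) (hVT : ∀ v ∈ V, v ≠ 1 → v ∈ T)
    (hVW : V ≤ W) (hWE : W ≤ E) :
    Psi E T = (⨆ v : {v : G // v ∈ V ∧ v ≠ 1}, ⁅M (v : G), W⁆) ⊔ DW T W := by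
  obtain ⟨v₀, hv₀, hv₀1⟩ := exists_ne_one hV4
  have hv₀T := hVT v₀ hv₀ hv₀1
  apply le_antisymm
  · refine sup_le ?_ ((D0_le_DW hWE).trans le_sup_right)
    refine (H.Th_le_iSup hOO hV4 hVT).trans (iSup_le ?_)
    rintro ⟨v, hv, hv1⟩
    show ⁅M v, E⁆ ≤ _
    have hvT := hVT v hv hv1
    refine (commutator_le_sup (M_odd v) H.pair.comm H.isPGroup hWE (H.E_le_nM hvT)).trans ?_
    refine sup_le_sup ?_ (H.comm_le_DW hWE hvT)
    exact le_iSup (fun v : {v : G // v ∈ V ∧ v ≠ 1} => ⁅M (v : G), W⁆) ⟨v, hv, hv1⟩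
  · refine sup_le ?_ ?_
    · refine iSup_le ?_
      rintro ⟨v, hv, hv1⟩
      exact (commutator_mono le_rfl hWE).trans ((le_Th (hVT v hv hv1)).trans le_sup_left)
    · have hodd : ¬ 2 ∣ Nat.card (DW T W) := fun h =>
        M_odd v₀ (h.trans (card_dvd_of_le (DW_le hv₀T (hVW hv₀))))
      have hEn : E ≤ normalizer (DW T W : Set G) :=
        (comm_le_cen H.pair.comm le_rfl hWE).trans (cenW_le_nDW W)
      refine (le_decomp hodd H.isPGroup hEn).trans (sup_le_sup ?_ (H.DW_inf_le_D0 hV4 hVT hVW hWE))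
      exact (commutator_mono (DW_le hv₀T (hVW hv₀)) le_rfl).trans (le_Th hv₀T)

include H hOO in
theorem Hyp.cenW_le_nPsi {V W : Subgroup G} (hV4 : Nat.card V = 4)
    (hVT : ∀ v ∈ V, v ≠ 1 → v ∈ T) (hVW : V ≤ W) (hWE : W ≤ E) :
    centralizer (W : Set G) ≤ normalizer (Psi E T : Set G) := by
  rw [H.Psi_eq hOO hV4 hVT hVW hWE]
  refine le_normalizer_sup (le_normalizer_iSup ?_) (cenW_le_nDW W)
  rintro ⟨v, hv, hv1⟩
  refine le_normalizer_commutator ?_ (Subgroup.centralizer_le_normalizer _)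
  exact (cen_le_of_mem (hVW hv)).trans (cen_le_normalizer_M v)

include H in
theorem Hyp.cenE_le_nPsi : centralizer (E : Set G) ≤ normalizer (Psi E T : Set G) :=
  le_normalizer_sup H.cenE_le_nTh (le_normalizer_inf
    (le_normalizer_iInf fun t => H.cenE_le_nM t.2) le_normalizer)

theorem map_M (g t : G) : (M t).map (MulAut.conj g).toMonoidHom = M (g * t * g⁻¹) := by
  have : Fact (Nat.Prime 2) := ⟨Nat.prime_two⟩
  exact (Lib.CoreCent.core_conj 2 t g).symm

include H in
theorem Hyp.nE_le_nPsi : normalizer (E : Set G) ≤ normalizer (Psi E T : Set G) := by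
  rw [le_normalizer_iff]
  intro n hn x hx
  have hEn : E.map (MulAut.conj n).toMonoidHom = E := by
    apply le_antisymm
    · rintro _ ⟨y, hy, rfl⟩
      exact (mem_normalizer_iff.1 hn y).1 hy
    · intro y hy
      refine ⟨n⁻¹ * y * n, ?_, by simp [mul_assoc]⟩
      have := (mem_normalizer_iff.1 (inv_mem hn) y).1 hy
      simpa using this
  have h1 : (Th E T).map (MulAut.conj n).toMonoidHom ≤ Th E T := by
    rw [Th, Subgroup.map_iSup]
    refine iSup_le ?_
    rintro ⟨t, ht⟩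
    rw [Subgroup.map_commutator, map_M, hEn]
    exact le_Th (H.conj n hn t ht)
  have h2 : (D0 E T).map (MulAut.conj n).toMonoidHom ≤ D0 E T := by
    rintro _ ⟨y, ⟨hy1, hy2⟩, rfl⟩
    refine ⟨?_, ?_⟩
    · refine mem_iInf.2 ?_
      rintro ⟨t, ht⟩
      have h3 : n⁻¹ * t * n ∈ T := by
        have := H.conj n⁻¹ (inv_mem hn) t ht
        simpa using this
      have h4 : M t = (M (n⁻¹ * t * n)).map (MulAut.conj n).toMonoidHom := by
        rw [map_M]; congr 1; group
      show _ ∈ M t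
      rw [h4]
      refine ⟨y, ?_, rfl⟩
      have := (mem_iInf.1 hy1) ⟨_, h3⟩
      exact this
    · have h5 : normalizer (E : Set G) ≤
          normalizer ((centralizer (E : Set G) : Subgroup G) : Set G) := by
        rw [le_normalizer_iff]
        intro c hc z hz
        rw [mem_centralizer_iff] at hz ⊢
        intro e he
        have h6 : c⁻¹ * e * c ∈ E := by
          have := (mem_normalizer_iff.1 (inv_mem hc) e).1 he
          simpa using this
        have h7 := hz _ h6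
        calc e * (c * z * c⁻¹) = c * ((c⁻¹ * e * c) * z) * c⁻¹ := by group
          _ = c * (z * (c⁻¹ * e * c)) * c⁻¹ := by rw [h7]
          _ = c * z * c⁻¹ * e := by group
      exact le_normalizer_iff.1 h5 n hn y hy2
  have h3 : (Psi E T).map (MulAut.conj n).toMonoidHom ≤ Psi E T := by
    rw [Psi, Subgroup.map_sup]
    exact sup_le_sup h1 h2
  exact h3 ⟨x, hx, rfl⟩

include H in
theorem Hyp.M_le_nPsi {b : G} (hb : b ∈ T) : M b ≤ normalizer (Psi E T : Set G) := by
  refine (le_decomp (M_odd b) H.isPGroup (H.E_le_nM hb)).trans (sup_le ?_ ?_)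
  · exact (le_Th hb).trans (le_sup_left.trans le_normalizer)
  · exact inf_le_right.trans H.cenE_le_nPsi

include H hOO in
/-- Step (5). -/
theorem Hyp.cen_le_nPsi {b : G} (hb : b ∈ T) :
    centralizer ({b} : Set G) ≤ normalizer (Psi E T : Set G) := by
  obtain ⟨F, R, K, L⟩ := H.loc b hb
  have hEb : E ≤ centralizer ({b} : Set G) := H.E_le hb
  have hRb := L.RE.trans hEb
  have hFb := L.FE.trans hEb
  set N : Subgroup G := normalizer (Psi E T : Set G) with hN
  -- an element of `X` centralising `bar P` is the image of an element of `N`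
  have key : ∀ P : Subgroup G, P ≤ E → centralizer (P : Set G) ≤ N →
      centralizer (bar b P : Set (Q b)) ≤ bar b N := by
    intro P hPE hPN x hx
    obtain ⟨g, hg, hgP, rfl⟩ := exists_centralizing (hPE.trans hEb) (H.isPGroup.to_le hPE) hx
    exact mem_bar hg (hPN hgP)
  have hK : K ≤ bar b N := by
    refine L.genK.trans (iSup_le ?_)
    rintro ⟨f, hf, hf1⟩
    obtain ⟨V, hV, hV4, hVT⟩ := L.VT f hf hf1
    have hPE : R ⊔ zpowers f ≤ E := sup_le L.RE (zpowers_le.2 (L.FE hf))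
    refine le_trans ?_ (key (R ⊔ zpowers f) hPE (H.cenW_le_nPsi hOO hV4 hVT hV hPE))
    rintro x ⟨hxK, hxf⟩
    have h6 : bar b (R ⊔ zpowers f) ≤ bar b R ⊔ bar b (zpowers f) :=
      bar_sup_le hRb ((zpowers_le.2 (L.FE hf)).trans hEb)
    refine centralizer_le h6 ?_
    have h7 : bar b R ⊔ bar b (zpowers f) ≤ centralizer ({x} : Set (Q b)) := by
      refine sup_le ?_ ?_
      · intro y hy
        rw [mem_centralizer_singleton_iff]
        exact (mem_centralizer_iff.1 (L.RK hy) x hxK).symm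
      · intro y hy
        rw [mem_centralizer_singleton_iff]
        exact mem_centralizer_iff.1 hxf y hy
    rw [mem_centralizer_iff]
    intro y hy
    exact mem_centralizer_singleton_iff.1 (h7 hy)
  have hF : centralizer (bar b F : Set (Q b)) ≤ bar b N := by
    have hPE : zpowers b ⊔ F ≤ E := sup_le (zpowers_le.2 (L.RE L.bR)) L.FE
    have hPb := hPE.trans hEb
    refine le_trans ?_ (key (zpowers b ⊔ F) hPE (H.cenW_le_nPsi hOO L.F4 L.FT le_sup_right hPE))
    intro x hx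
    refine mem_cen_bar hPb ?_
    intro a ha
    have h7 : zpowers b ⊔ F ≤ ((centralizer ({x} : Set (Q b))).comap
        (QuotientGroup.mk' (pPrimeCore 2 ↥(centralizer ({b} : Set G))))).map
        (centralizer ({b} : Set G)).subtype := by
      refine sup_le ?_ ?_
      · rw [zpowers_le]
        refine ⟨⟨b, hEb (L.RE L.bR)⟩, ?_, rfl⟩
        rw [coe_comap, Set.mem_preimage, SetLike.mem_coe, mem_centralizer_singleton_iff]
        exact (commute_bar_b x _).symm
      · intro y hy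
        refine ⟨⟨y, hFb hy⟩, ?_, rfl⟩
        rw [coe_comap, Set.mem_preimage, SetLike.mem_coe, mem_centralizer_singleton_iff]
        exact mem_centralizer_iff.1 hx _ (mem_bar (hFb hy) hy)
    obtain ⟨y, hy, hya⟩ := h7 ha
    have h8 : y = ⟨a, hPb ha⟩ := Subtype.ext hya
    rw [← h8]
    exact mem_centralizer_singleton_iff.1 hy
  have htop : (⊤ : Subgroup (Q b)) ≤ bar b N := L.fratt.trans (sup_le hK hF)
  intro x hx
  obtain ⟨y, hy, hyN, hyx⟩ := mem_bar_iff.1 (htop
    (mem_top (QuotientGroup.mk' (pPrimeCore 2 ↥(centralizer ({b} : Set G))) ⟨x, hx⟩)))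
  have h1 : (⟨y, hy⟩ : ↥(centralizer ({b} : Set G)))⁻¹ * ⟨x, hx⟩ ∈
      pPrimeCore 2 ↥(centralizer ({b} : Set G)) := QuotientGroup.eq.1 hyx
  have h2 : y⁻¹ * x ∈ M b := ⟨_, h1, rfl⟩
  have h3 : x = y * (y⁻¹ * x) := by group
  rw [h3]
  exact mul_mem hyN (H.M_le_nPsi hb h2)

include H hOO in
theorem Hyp.Psi_odd : ¬ 2 ∣ Nat.card (Psi E T) := by
  intro h
  have h1 := CoprimeBasic.card_sup_dvd (X := Th E T) (Y := D0 E T)
    (inf_le_right.trans H.cenE_le_nTh)
  rcases (Nat.prime_two.dvd_mul).1 (h.trans h1) with h2 | h2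
  · exact H.Th_odd hOO h2
  · refine Z_odd E (h2.trans (card_dvd_of_le ?_))
    by_cases hT : ∃ t, t ∈ T
    · obtain ⟨t, ht⟩ := hT
      refine le_trans ?_ (H.M_inf_le ht)
      exact inf_le_inf_right _ (iInf_le (fun t : T => M (t : G)) ⟨t, ht⟩)
    · -- `T` is not empty
      exfalso
      push Not at hT
      obtain ⟨z, hz, hz1⟩ : ∃ z ∈ E, z ≠ 1 := by
        by_contra hcon
        push Not at hcon
        have : E = ⊥ := by rw [eq_bot_iff_forall]; exact hcon
        have h4 := H.card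
        rw [this, card_bot] at h4
        omega
      obtain ⟨e, he, hez⟩ : ∃ e ∈ E, e ∉ zpowers z := by
        by_contra hcon
        push Not at hcon
        have h3 : E ≤ zpowers z := hcon
        have h4 := Nat.card_le_card_of_injective _ (Subgroup.inclusion_injective h3)
        rw [H.card, Nat.card_zpowers] at h4
        have h5 : orderOf z ≤ 2 := Nat.le_of_dvd two_pos (orderOf_dvd_of_pow_eq_one (by
          rw [pow_two]; exact H.pair.sq z hz))
        omega
      have he1 : e ≠ 1 := fun h => hez (h ▸ one_mem _)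
      have hez' : e ≠ z := fun h => hez (h ▸ mem_zpowers z)
      rcases H.pair.cov z hz hz1 (hT z) e he he1 hez' with h3 | h3
      · exact hT _ h3
      · exact hT _ h3

include H hOO in
/-- **Main theorem on cores.** -/
theorem Hyp.main (hO : pPrimeCore 2 G = ⊥)
    (hclose : ∀ N : Subgroup G, normalizer (E : Set G) ≤ N →
      (∀ b ∈ T, centralizer ({b} : Set G) ≤ N) → N = ⊤) {t : G} (ht : t ∈ T) :
    ⁅M t, E⁆ = ⊥ := by
  have h1 := hclose (normalizer (Psi E T : Set G)) H.nE_le_nPsi (fun b hb => H.cen_le_nPsi hOO hb)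
  have h2 : (Psi E T).Normal := normalizer_eq_top_iff.1 h1
  have h3 : Psi E T ≤ pPrimeCore 2 G := Lib.Cores.le_pPrimeCore h2
    (Nat.Coprime.symm (Nat.prime_two.coprime_iff_not_dvd.2 (H.Psi_odd hOO)))
  rw [hO, le_bot_iff] at h3
  rw [← le_bot_iff, ← h3]
  exact (le_Th ht).trans le_sup_left

end

end Cfsg.Agent.TypeLFive.CoreMain
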