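import Mathlib
import Cfsg.Agent.TypeLFive.CoreMain

/-!
# Lifting a normal subgroup of `C(b) / O(C(b))` to a subgroup centralising `O(C(b))`

`pre b N = {x ∈ C(b) : x mod O(C(b)) ∈ N, x centralises O(C(b))}` and its commutator subgroup `lft b N`.
-/

set_option autoImplicit false

namespace Cfsg.Agent.TypeLFive.CoreLift

open Subgroup Cfsg
open Cfsg.Agent.SignalizersComponents
open Cfsg.Agent.SignalizersComponents.GoldschmidtFunctor
open Cfsg.Agent.TypeLFive.CoreBalance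
open Cfsg.Agent.TypeLFive.CoreMain
open scoped commutatorElement

universe u

variable {G : Type u} [Group G]

/-- the elements of `C(b)` centralising `O(C(b))` -/
def C0 (b : G) : Subgroup G := centralizer ({b} : Set G) ⊓ centralizer (M b : Set G)

/-- the elements of `C0 b` whose class is in `N` -/
def pre (b : G) (N : Subgroup (Q b)) : Subgroup G :=
  C0 b ⊓ (N.comap (QuotientGroup.mk' (pPrimeCore 2 ↥(centralizer ({b} : Set G))))).map
    (centralizer ({b} : Set G)).subtype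

/-- the commutator subgroup of `pre b N` -/
def lft (b : G) (N : Subgroup (Q b)) : Subgroup G := ⁅pre b N, pre b N⁆

/-- the class of an element -/
abbrev cl (b : G) (x : G) (hx : x ∈ centralizer ({b} : Set G)) : Q b :=
  QuotientGroup.mk' (pPrimeCore 2 ↥(centralizer ({b} : Set G))) ⟨x, hx⟩

theorem mem_C0 {b x : G} : x ∈ C0 b ↔ x ∈ centralizer ({b} : Set G) ∧
    x ∈ centralizer (M b : Set G) := Iff.rfl

theorem C0_le (b : G) : C0 b ≤ centralizer ({b} : Set G) := inf_le_left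

theorem mem_pre {b x : G} {N : Subgroup (Q b)} :
    x ∈ pre b N ↔ ∃ hx : x ∈ centralizer ({b} : Set G), x ∈ centralizer (M b : Set G) ∧
      cl b x hx ∈ N := by
  constructor
  · rintro ⟨⟨h1, h2⟩, ⟨y, hy, rfl⟩⟩
    exact ⟨y.2, h2, hy⟩
  · rintro ⟨h1, h2, h3⟩
    exact ⟨⟨h1, h2⟩, ⟨⟨x, h1⟩, h3, rfl⟩⟩

theorem pre_le_C0 (b : G) (N : Subgroup (Q b)) : pre b N ≤ C0 b := inf_le_left

theorem pre_le (b : G) (N : Subgroup (Q b)) : pre b N ≤ centralizer ({b} : Set G) :=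
  (pre_le_C0 b N).trans (C0_le b)

theorem pre_mono {b : G} {N N' : Subgroup (Q b)} (h : N ≤ N') : pre b N ≤ pre b N' := by
  intro x hx
  obtain ⟨h1, h2, h3⟩ := mem_pre.1 hx
  exact mem_pre.2 ⟨h1, h2, h h3⟩

theorem lft_le_pre (b : G) (N : Subgroup (Q b)) : lft b N ≤ pre b N := commutator_le_self _

theorem lft_le (b : G) (N : Subgroup (Q b)) : lft b N ≤ centralizer ({b} : Set G) :=
  (lft_le_pre b N).trans (pre_le b N)

theorem cen_le_nC0 (b : G) : centralizer ({b} : Set G) ≤ normalizer (C0 b : Set G) := by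
  refine le_normalizer_inf le_normalizer ?_
  rw [CoreMain.le_normalizer_iff]
  intro c hc x hx
  rw [mem_centralizer_iff] at hx ⊢
  intro m hm
  have h1 : c⁻¹ * m * c ∈ M b := by
    have := CoreMain.le_normalizer_iff.1 (cen_le_normalizer_M b) c⁻¹ (inv_mem hc) m hm
    simpa using this
  have h2 := hx _ h1
  calc m * (c * x * c⁻¹) = c * ((c⁻¹ * m * c) * x) * c⁻¹ := by group
    _ = c * (x * (c⁻¹ * m * c)) * c⁻¹ := by rw [h2]
    _ = c * x * c⁻¹ * m := by group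

theorem cen_le_npre (b : G) {N : Subgroup (Q b)} (hN : N.Normal) :
    centralizer ({b} : Set G) ≤ normalizer (pre b N : Set G) := by
  rw [CoreMain.le_normalizer_iff]
  intro c hc x hx
  obtain ⟨h1, h2, h3⟩ := mem_pre.1 hx
  have h4 := CoreMain.le_normalizer_iff.1 (cen_le_nC0 b) c hc x ⟨h1, h2⟩
  refine mem_pre.2 ⟨h4.1, h4.2, ?_⟩
  exact hN.conj_mem _ h3 (cl b c hc)

theorem cen_le_nlft (b : G) {N : Subgroup (Q b)} (hN : N.Normal) :
    centralizer ({b} : Set G) ≤ normalizer (lft b N : Set G) :=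
  le_normalizer_commutator (cen_le_npre b hN) (cen_le_npre b hN)

/-- elements of `O(C(b))` commute with `pre b N` -/
theorem M_comm_pre {b : G} {N : Subgroup (Q b)} {m x : G} (hm : m ∈ M b) (hx : x ∈ pre b N) :
    m * x = x * m := mem_centralizer_iff.1 (mem_pre.1 hx).2.1 m hm

theorem cl_eq_iff {b x y : G} (hx : x ∈ centralizer ({b} : Set G))
    (hy : y ∈ centralizer ({b} : Set G)) : cl b x hx = cl b y hy ↔ x⁻¹ * y ∈ M b := by
  rw [cl, cl, QuotientGroup.mk'_apply, QuotientGroup.mk'_apply, QuotientGroup.eq]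
  constructor
  · intro h
    exact ⟨_, h, rfl⟩
  · rintro ⟨z, hz, hzx⟩
    have : z = (⟨x, hx⟩ : ↥(centralizer ({b} : Set G)))⁻¹ * ⟨y, hy⟩ := Subtype.ext hzx
    rw [← this]
    exact hz

section

variable [Finite G] {b : G} {N : Subgroup (Q b)} (hNC : N ≤ bar b (C0 b))

include hNC

theorem bar_pre : bar b (pre b N) = N := by
  apply le_antisymm
  · rintro x hx
    obtain ⟨y, hy, hyp, rfl⟩ := mem_bar_iff.1 hx
    exact (mem_pre.1 hyp).2.2
  · intro x hx
    obtain ⟨y, hy, hyC, rfl⟩ := mem_bar_iff.1 (hNC hx)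
    exact mem_bar hy (mem_pre.2 ⟨hyC.1, hyC.2, hx⟩)

/-- an element of `C(b)` with class in `N` is `y m`, `y ∈ pre b N`, `m ∈ O(C(b))` -/
theorem exists_pre {x : G} (hx : x ∈ centralizer ({b} : Set G)) (hxN : cl b x hx ∈ N) :
    ∃ y ∈ pre b N, ∃ m ∈ M b, x = y * m := by
  have h1 : cl b x hx ∈ bar b (pre b N) := by rw [bar_pre hNC]; exact hxN
  obtain ⟨y, hy, hyp, hyx⟩ := mem_bar_iff.1 h1
  exact ⟨y, hyp, y⁻¹ * x, (cl_eq_iff hy hx).1 hyx, by group⟩

omit hNC in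
/-- `x = y m`, `y` in a subgroup `P` commuting with `m` of odd order, `x` a 2-element: then
`x ∈ P`. -/
theorem mem_of_mul {P : Subgroup G} {x y m : G} (hy : y ∈ P) (hm : m ∈ M b) (hym : y * m = m * y)
    (hx : x = y * m) {k : ℕ} (hk : x ^ 2 ^ k = 1) : x ∈ P := by
  have h1 : m ^ Nat.card (M b) = 1 := by
    have := pow_card_eq_one' (G := M b) (x := ⟨m, hm⟩)
    exact congrArg Subtype.val this
  have h2 : x ^ Nat.card (M b) ∈ P := by
    rw [hx, (show Commute y m from hym).mul_pow, h1, mul_one]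
    exact pow_mem hy _
  refine BalanceAux.mem_of_pow_mem_of_coprime (m := Nat.card (M b)) (n := 2 ^ k) ?_ h2 ?_
  · exact Nat.Coprime.pow_right k (Nat.prime_two.coprime_iff_not_dvd.2 (M_odd b)).symm
  · rw [hk]; exact one_mem _

/-- 2-elements with class in `N` are in `pre b N` -/
theorem mem_pre_of_pow {x : G} (hx : x ∈ centralizer ({b} : Set G)) (hxN : cl b x hx ∈ N) {k : ℕ}
    (hk : x ^ 2 ^ k = 1) : x ∈ pre b N := by
  obtain ⟨y, hy, m, hm, h⟩ := exists_pre hNC hx hxN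
  exact mem_of_mul hy hm (M_comm_pre hm hy).symm h hk

variable (hNp : ⁅N, N⁆ = N)

include hNp

theorem bar_lft : bar b (lft b N) = N := by
  rw [lft, bar_commutator (pre_le b N) (pre_le b N), bar_pre hNC, hNp]

/-- an element of `pre b N` is `y m`, `y ∈ lft b N`, `m ∈ O(C(b)) ∩ pre b N` -/
theorem exists_lft {x : G} (hx : x ∈ pre b N) :
    ∃ y ∈ lft b N, ∃ m ∈ M b, m ∈ pre b N ∧ x = y * m := by
  obtain ⟨h1, h2, h3⟩ := mem_pre.1 hx
  have h4 : cl b x h1 ∈ bar b (lft b N) := by rw [bar_lft hNC hNp]; exact h3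
  obtain ⟨y, hy, hyp, hyx⟩ := mem_bar_iff.1 h4
  refine ⟨y, hyp, y⁻¹ * x, (cl_eq_iff hy h1).1 hyx, ?_, by group⟩
  exact mul_mem (inv_mem (lft_le_pre b N hyp)) hx

/-- `lft b N` is perfect -/
theorem lft_perfect : ⁅lft b N, lft b N⁆ = lft b N := by
  apply le_antisymm (commutator_le_self _)
  conv_lhs => rw [lft]
  rw [commutator_le]
  intro x hx y hy
  obtain ⟨x', hx', m, hm, -, rfl⟩ := exists_lft hNC hNp hx
  obtain ⟨y', hy', n, hn, -, rfl⟩ := exists_lft hNC hNp hy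
  have h1 : m * x' = x' * m := M_comm_pre hm (lft_le_pre b N hx')
  have h2 : m * y' = y' * m := M_comm_pre hm (lft_le_pre b N hy')
  have h3 : n * x' = x' * n := M_comm_pre hn (lft_le_pre b N hx')
  have h4 : n * y' = y' * n := M_comm_pre hn (lft_le_pre b N hy')
  have h5 : m * (y' * n) = (y' * n) * m := M_comm_pre hm hy
  have h6 : ⁅x' * m, y' * n⁆ = ⁅x', y'⁆ := by
    rw [commutatorElement_def, commutatorElement_def, mul_inv_rev, mul_inv_rev]
    calc x' * m * (y' * n) * (m⁻¹ * x'⁻¹) * (n⁻¹ * y'⁻¹)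
        = x' * (m * (y' * n)) * m⁻¹ * x'⁻¹ * n⁻¹ * y'⁻¹ := by group
      _ = x' * ((y' * n) * m) * m⁻¹ * x'⁻¹ * n⁻¹ * y'⁻¹ := by rw [h5]
      _ = x' * y' * (n * x'⁻¹) * n⁻¹ * y'⁻¹ := by group
      _ = x' * y' * (x'⁻¹ * n) * n⁻¹ * y'⁻¹ := by
          have : n * x'⁻¹ = x'⁻¹ * n := by
            rw [eq_inv_mul_iff_mul_eq, ← mul_assoc, ← h3, mul_inv_cancel_right]
          rw [this]
      _ = x' * y' * x'⁻¹ * y'⁻¹ := by group
  rw [h6]
  exact commutator_mem_commutator hx' hy'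

/-- 2-elements with class in `N` are in `lft b N` -/
theorem mem_lft_of_pow {x : G} (hx : x ∈ centralizer ({b} : Set G)) (hxN : cl b x hx ∈ N) {k : ℕ}
    (hk : x ^ 2 ^ k = 1) : x ∈ lft b N := by
  obtain ⟨y, hy, m, hm, -, h⟩ := exists_lft hNC hNp (mem_pre_of_pow hNC hx hxN hk)
  exact mem_of_mul hy hm (M_comm_pre hm (lft_le_pre b N hy)).symm h hk

/-- an element of `C(b)` with class in `N` is `y m`, `y ∈ lft b N`, `m ∈ O(C(b))` -/
theorem exists_lft' {x : G} (hx : x ∈ centralizer ({b} : Set G)) (hxN : cl b x hx ∈ N) :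
    ∃ y ∈ lft b N, ∃ m ∈ M b, x = y * m := by
  have h4 : cl b x hx ∈ bar b (lft b N) := by rw [bar_lft hNC hNp]; exact hxN
  obtain ⟨y, hy, hyp, hyx⟩ := mem_bar_iff.1 h4
  exact ⟨y, hyp, y⁻¹ * x, (cl_eq_iff hy hx).1 hyx, by group⟩

/-- `lft b N` commutes with `H ≤ C0 b` as soon as `N` commutes with the classes of `H`. -/
theorem lft_comm {H : Subgroup G} (hH : H ≤ C0 b)
    (hc : ∀ n ∈ N, ∀ h, ∀ hh : h ∈ H, n * cl b h (C0_le b (hH hh)) =
      cl b h (C0_le b (hH hh)) * n) :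
    ∀ x ∈ lft b N, ∀ h ∈ H, x * h = h * x := by
  -- commutators are in `M b`
  have key : ∀ x ∈ lft b N, ∀ h ∈ H, ⁅x, h⁆ ∈ M b := by
    intro x hx h hh
    have hxC := lft_le b N hx
    have hhC := C0_le b (hH hh)
    have h1 := hc (cl b x hxC) (mem_pre.1 (lft_le_pre b N hx)).2.2 h hh
    have h2 : cl b (h * x) (mul_mem hhC hxC) = cl b (x * h) (mul_mem hxC hhC) := h1.symm
    have h3 := (cl_eq_iff _ _).1 h2
    have h4 : ⁅x, h⁆ = (h * x) * ((h * x)⁻¹ * (x * h)) * (h * x)⁻¹ := by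
      rw [commutatorElement_def]; group
    rw [h4]
    exact CoreMain.le_normalizer_iff.1 (cen_le_normalizer_M b) _ (mul_mem hhC hxC) _ h3
  -- `x ↦ ⁅x, h⁆` is a homomorphism to the centre of `M b`
  intro x hx h hh
  have hcom : ∀ y ∈ lft b N, ∀ m ∈ M b, m * y = y * m := fun y hy m hm =>
    M_comm_pre hm (lft_le_pre b N hy)
  have hmul : ∀ y ∈ lft b N, ∀ z ∈ lft b N, ⁅y * z, h⁆ = ⁅y, h⁆ * ⁅z, h⁆ := by
    intro y hy z hz
    have h1 := key z hz h hh
    have h2 : ⁅y * z, h⁆ = y * ⁅z, h⁆ * y⁻¹ * ⁅y, h⁆ := by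
      simp only [commutatorElement_def]; group
    have h3 : y * ⁅z, h⁆ * y⁻¹ = ⁅z, h⁆ := by
      rw [← hcom y hy _ h1, mul_inv_cancel_right]
    have h4 : ⁅z, h⁆ * ⁅y, h⁆ = ⁅y, h⁆ * ⁅z, h⁆ := by
      -- `⁅y, h⁆` is in `M b` and `⁅z, h⁆ = z (h z⁻¹ h⁻¹)` centralises `M b`
      have h5 : ⁅y, h⁆ ∈ M b := key y hy h hh
      have h6 : ⁅z, h⁆ ∈ centralizer (M b : Set G) := by
        have hz' : z ∈ centralizer (M b : Set G) := (mem_pre.1 (lft_le_pre b N hz)).2.1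
        have hh' : h ∈ centralizer (M b : Set G) := (hH hh).2
        rw [commutatorElement_def]
        exact mul_mem (mul_mem (mul_mem hz' hh') (inv_mem hz')) (inv_mem hh')
      exact (mem_centralizer_iff.1 h6 _ h5).symm
    rw [h2, h3, h4]
  -- the kernel
  let Kr : Subgroup G :=
    { carrier := {y | y ∈ lft b N ∧ ⁅y, h⁆ = 1}
      one_mem' := ⟨one_mem _, by simp⟩
      mul_mem' := by
        rintro y z ⟨hy, hy1⟩ ⟨hz, hz1⟩
        exact ⟨mul_mem hy hz, by rw [hmul y hy z hz, hy1, hz1, mul_one]⟩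
      inv_mem' := by
        rintro y ⟨hy, hy1⟩
        refine ⟨inv_mem hy, ?_⟩
        have h1 := hmul y hy y⁻¹ (inv_mem hy)
        rw [mul_inv_cancel, hy1, one_mul] at h1
        rw [← h1]; simp }
  have hle : lft b N ≤ Kr := by
    have hp := lft_perfect hNC hNp
    conv_lhs => rw [← hp]
    rw [commutator_le]
    intro y hy z hz
    refine ⟨(commutator_le_self (lft b N)) (commutator_mem_commutator hy hz), ?_⟩
    have c1 := hmul y hy z hz
    have i1 : ⁅y⁻¹, h⁆ = ⁅y, h⁆⁻¹ := by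
      have h1 := hmul y hy y⁻¹ (inv_mem hy)
      rw [mul_inv_cancel] at h1
      have h2 : ⁅(1 : G), h⁆ = 1 := by simp
      rw [h2] at h1
      exact (inv_eq_of_mul_eq_one_right h1.symm).symm
    have i2 : ⁅z⁻¹, h⁆ = ⁅z, h⁆⁻¹ := by
      have h1 := hmul z hz z⁻¹ (inv_mem hz)
      rw [mul_inv_cancel] at h1
      have h2 : ⁅(1 : G), h⁆ = 1 := by simp
      rw [h2] at h1
      exact (inv_eq_of_mul_eq_one_right h1.symm).symm
    have hab : ⁅y, h⁆ * ⁅z, h⁆ = ⁅z, h⁆ * ⁅y, h⁆ := by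
      have h5 : ⁅z, h⁆ ∈ M b := key z hz h hh
      have h6 : ⁅y, h⁆ ∈ centralizer (M b : Set G) := by
        have hz' : y ∈ centralizer (M b : Set G) := (mem_pre.1 (lft_le_pre b N hy)).2.1
        have hh' : h ∈ centralizer (M b : Set G) := (hH hh).2
        rw [commutatorElement_def]
        exact mul_mem (mul_mem (mul_mem hz' hh') (inv_mem hz')) (inv_mem hh')
      exact (mem_centralizer_iff.1 h6 _ h5).symm
    have h7 : ⁅(⁅y, z⁆ : G), h⁆ = ⁅y, h⁆ * ⁅z, h⁆ * ⁅y⁻¹, h⁆ * ⁅z⁻¹, h⁆ := by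
      have e : (⁅y, z⁆ : G) = y * z * y⁻¹ * z⁻¹ := commutatorElement_def y z
      rw [e, hmul _ (mul_mem (mul_mem hy hz) (inv_mem hy)) _ (inv_mem hz),
        hmul _ (mul_mem hy hz) _ (inv_mem hy), hmul _ hy _ hz]
    rw [h7, i1, i2, hab]
    group
  have h1 := (hle hx).2
  rw [commutatorElement_def] at h1
  have h2 : x * h * x⁻¹ = h := mul_inv_eq_one.1 h1
  exact mul_inv_eq_iff_eq_mul.1 h2

end

end Cfsg.Agent.TypeLFive.CoreLift
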