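import Mathlib
import Cfsg.Agent.SylowLFive.Frame

/-!
# Closing for the core step (K) of S0511

The closing theorem of `SylowLFive.Frame` for an arbitrary subgroup `M` containing the centraliser of `t_01` and
the elements inducing permutations of the frame.
-/

set_option autoImplicit false

namespace Cfsg.Agent.TypeLFive.CoreClose

open Cfsg.Agent.SylowLFive
open Cfsg.Agent.SylowLFive.Frame
open Cfsg.Agent.TwoFusion.StronglyEmbeddedBasic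

/-- Frame with the control of involutions. -/
structure FrC (G : Type*) [Group G] extends Fr G where
  ne : ∀ g, g * T 0 1 * g⁻¹ ≠ T 0 1 * T 2 3
  inv_C : ∀ u, orderOf u = 2 → u * T 0 1 = T 0 1 * u → ∃ c, c * T 0 1 = T 0 1 * c ∧
    c * u * c⁻¹ ∈ Subgroup.closure {y | ∃ i j, y = T i j}
  inv_Cz : ∀ u, orderOf u = 2 → u * (T 0 1 * T 2 3) = (T 0 1 * T 2 3) * u →
    ∃ c, c * (T 0 1 * T 2 3) = (T 0 1 * T 2 3) * c ∧
    c * u * c⁻¹ ∈ Subgroup.closure {y | ∃ i j, y = T i j}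
  S : Sylow 2 G
  S_le : ∀ s ∈ S, s ∈ Subgroup.closure ({c | c * T 0 1 = T 0 1 * c} ∪ {n | toFr.Ind n})
  inv_S : ∀ u ∈ S, orderOf u = 2 → ∃ s ∈ S, ∃ i j, i ≠ j ∧
    (s * u * s⁻¹) * T i j = T i j * (s * u * s⁻¹)

namespace FrC

variable {G : Type*} [Group G] (F : FrC G)

/-- A subgroup containing `C(t_01)` and the elements permuting the frame. -/
structure Big (M : Subgroup G) : Prop where
  C_le : ∀ c, c * F.T 0 1 = F.T 0 1 * c → c ∈ M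
  Ind_mem : ∀ n, F.toFr.Ind n → n ∈ M

variable {F} {M : Subgroup G} (B : F.Big M)

include B

theorem S_le_M : (F.S : Subgroup G) ≤ M := by
  intro s hs
  have h := F.S_le s hs
  have h2 : Subgroup.closure ({c | c * F.T 0 1 = F.T 0 1 * c} ∪ {n | F.toFr.Ind n}) ≤ M := by
    rw [Subgroup.closure_le]
    rintro x (hx | hx)
    · exact B.C_le x hx
    · exact B.Ind_mem x hx
  exact h2 h

theorem T_mem_M (i j : Fin 5) : F.T i j ∈ M := B.C_le _ (F.comm _ _ _ _)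

theorem z_mem_M (i : Fin 5) : F.z i ∈ M := mul_mem (T_mem_M B _ _) (T_mem_M B _ _)

omit B in
theorem z_ne_one (i : Fin 5) : F.z i ≠ 1 := by
  intro h
  obtain ⟨n, _, hn⟩ := F.z_exists_conj i 4
  rw [h, mul_one, mul_inv_cancel] at hn
  -- `z 4 = 1` means `t_01 = t_23`
  have h1 : F.T 0 1 = F.T 2 3 := by
    have h2 : F.T 0 1 * F.T 2 3 = 1 := by rw [← F.z_four, hn]
    rw [← F.T_inv 2 3]
    exact eq_inv_of_mul_eq_one_left h2
  obtain ⟨n, hn2, hn1⟩ := F.toFr.exists_conj (show (1 : Fin 5) ≠ 3 by decide)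
  -- then all `T i j = T k l` for disjoint duads, by symmetry `T 0 1 = T 2 3 = T 0 4`
  obtain ⟨m, hm⟩ := F.perm (Equiv.swap 1 4)
  have h3 : F.T 0 4 = F.T 2 3 := by
    have a1 := hm 0 1
    have a2 := hm 2 3
    have e1 : (Equiv.swap 1 4 : Equiv.Perm (Fin 5)) 0 = 0 := by decide
    have e2 : (Equiv.swap 1 4 : Equiv.Perm (Fin 5)) 1 = 4 := by decide
    have e3 : (Equiv.swap 1 4 : Equiv.Perm (Fin 5)) 2 = 2 := by decide
    have e4 : (Equiv.swap 1 4 : Equiv.Perm (Fin 5)) 3 = 3 := by decide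
    rw [e1, e2] at a1
    rw [e3, e4] at a2
    rw [← a1, ← a2, h1]
  have h4 : F.T 1 4 = 1 := by
    rw [← F.T_mul 1 0 4, F.T_symm 1 0, h1, h3, F.T_sq]
  exact F.toFr.T_ne_one (by decide) h4

omit B in
theorem orderOf_z (i : Fin 5) : orderOf (F.z i) = 2 :=
  orderOf_eq_two_of_mul_self (F.z_sq i) (z_ne_one i)

theorem conj_T {i j : Fin 5} (h : i ≠ j) : ∃ m ∈ M, m * F.T 0 1 * m⁻¹ = F.T i j := by
  obtain ⟨n, hn, h1⟩ := F.toFr.exists_conj h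
  exact ⟨n, B.Ind_mem _ hn, h1⟩

theorem conj_z (i : Fin 5) : ∃ m ∈ M, m * F.z 4 * m⁻¹ = F.z i := by
  obtain ⟨n, hn, h1⟩ := F.z_exists_conj 4 i
  exact ⟨n, B.Ind_mem _ hn, h1⟩

/-- every involution of `M` is `M`-conjugate to `t_01` or `z_4` -/
theorem cls [Finite G] (u : G) (hu : u ∈ M) (h2 : orderOf u = 2) :
    (∃ m ∈ M, m * F.T 0 1 * m⁻¹ = u) ∨ ∃ m ∈ M, m * F.z 4 * m⁻¹ = u := by
  -- it suffices to treat an `M`-conjugate
  have red : ∀ a v : G, a ∈ M → a * u * a⁻¹ = v →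
      ((∃ m ∈ M, m * F.T 0 1 * m⁻¹ = v) ∨ ∃ m ∈ M, m * F.z 4 * m⁻¹ = v) →
      ((∃ m ∈ M, m * F.T 0 1 * m⁻¹ = u) ∨ ∃ m ∈ M, m * F.z 4 * m⁻¹ = u) := by
    rintro a v ha rfl (⟨m, hm, h⟩ | ⟨m, hm, h⟩)
    · left
      exact ⟨a⁻¹ * m, mul_mem (inv_mem ha) hm, by
        calc a⁻¹ * m * F.T 0 1 * (a⁻¹ * m)⁻¹ = a⁻¹ * (m * F.T 0 1 * m⁻¹) * a := by group
          _ = u := by rw [h]; group⟩
    · right
      exact ⟨a⁻¹ * m, mul_mem (inv_mem ha) hm, by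
        calc a⁻¹ * m * F.z 4 * (a⁻¹ * m)⁻¹ = a⁻¹ * (m * F.z 4 * m⁻¹) * a := by group
          _ = u := by rw [h]; group⟩
  -- Sylow in `M`
  obtain ⟨a, ha, hau⟩ : ∃ a ∈ M, a * u * a⁻¹ ∈ F.S := by
    have : Fact (Nat.Prime 2) := ⟨Nat.prime_two⟩
    let P : Sylow 2 M := F.S.subtype (S_le_M B)
    have hp : IsPGroup 2 (Subgroup.zpowers (⟨u, hu⟩ : M)) := by
      apply IsPGroup.of_card (n := 1)
      rw [Nat.card_zpowers, Subgroup.orderOf_mk, h2, pow_one]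
    obtain ⟨Q, hQ⟩ := hp.exists_le_sylow
    obtain ⟨g, hg⟩ := MulAction.exists_smul_eq M Q P
    refine ⟨g, g.2, ?_⟩
    have h3 : (⟨u, hu⟩ : M) ∈ Q := hQ (Subgroup.mem_zpowers _)
    have h4 : g * ⟨u, hu⟩ * g⁻¹ ∈ P := by
      rw [← hg]
      exact Subgroup.smul_mem_pointwise_smul (⟨u, hu⟩ : M) (MulAut.conj g) (Q : Subgroup M) h3
    exact h4
  have hau2 : orderOf (a * u * a⁻¹) = 2 := by rw [orderOf_conj, h2]
  refine red a _ ha rfl ?_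
  obtain ⟨s, hs, i, j, hij, hc⟩ := F.inv_S _ hau hau2
  obtain ⟨m, hm, hmij⟩ := conj_T B hij
  set v := s * (a * u * a⁻¹) * s⁻¹ with hv
  have hv2 : orderOf v = 2 := by rw [hv, orderOf_conj, hau2]
  have hw2 : orderOf (m⁻¹ * v * m) = 2 := by
    have := orderOf_conj m⁻¹ v
    rw [inv_inv] at this
    rw [this, hv2]
  have hwc : m⁻¹ * v * m * F.T 0 1 = F.T 0 1 * (m⁻¹ * v * m) := by
    calc m⁻¹ * v * m * F.T 0 1 = m⁻¹ * (v * (m * F.T 0 1 * m⁻¹)) * m := by group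
      _ = m⁻¹ * ((m * F.T 0 1 * m⁻¹) * v) * m := by rw [hmij, hc]
      _ = _ := by group
  obtain ⟨c, hc1, hc2⟩ := F.inv_C _ hw2 hwc
  have hcM : c ∈ M := B.C_le _ hc1
  have hsM : s ∈ M := S_le_M B hs
  have hbM : c * (m⁻¹ * s) ∈ M := mul_mem hcM (mul_mem (inv_mem hm) hsM)
  have e : c * (m⁻¹ * v * m) * c⁻¹ = c * (m⁻¹ * s) * (a * u * a⁻¹) * (c * (m⁻¹ * s))⁻¹ := by
    rw [hv]; group
  -- generic reduction again
  have red2 : ∀ b x : G, b ∈ M → b * (a * u * a⁻¹) * b⁻¹ = x →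
      ((∃ m ∈ M, m * F.T 0 1 * m⁻¹ = x) ∨ ∃ m ∈ M, m * F.z 4 * m⁻¹ = x) →
      ((∃ m ∈ M, m * F.T 0 1 * m⁻¹ = a * u * a⁻¹) ∨
        ∃ m ∈ M, m * F.z 4 * m⁻¹ = a * u * a⁻¹) := by
    rintro b x hb rfl (⟨m, hm, h⟩ | ⟨m, hm, h⟩)
    · left
      exact ⟨b⁻¹ * m, mul_mem (inv_mem hb) hm, by
        calc b⁻¹ * m * F.T 0 1 * (b⁻¹ * m)⁻¹ = b⁻¹ * (m * F.T 0 1 * m⁻¹) * b := by group
          _ = a * u * a⁻¹ := by rw [h]; group⟩
    · right
      exact ⟨b⁻¹ * m, mul_mem (inv_mem hb) hm, by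
        calc b⁻¹ * m * F.z 4 * (b⁻¹ * m)⁻¹ = b⁻¹ * (m * F.z 4 * m⁻¹) * b := by group
          _ = a * u * a⁻¹ := by rw [h]; group⟩
  refine red2 _ _ hbM e.symm ?_
  rcases F.toFr.closure_cases hc2 with h | ⟨k, l, hkl, h⟩ | ⟨k, h⟩
  · exfalso
    have : orderOf (c * (m⁻¹ * v * m) * c⁻¹) = 2 := by rw [orderOf_conj, hw2]
    rw [h, orderOf_one] at this
    omega
  · left; rw [h]; exact conj_T B hkl
  · right; rw [h]; exact conj_z B k

/-- every involution of `G` is conjugate to `t_01` or `z_4` -/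
theorem all [Finite G] (u : G) (h2 : orderOf u = 2) :
    (∃ g : G, g * F.T 0 1 * g⁻¹ = u) ∨ ∃ g : G, g * F.z 4 * g⁻¹ = u := by
  obtain ⟨a, hau⟩ : ∃ a : G, a * u * a⁻¹ ∈ F.S := by
    have : Fact (Nat.Prime 2) := ⟨Nat.prime_two⟩
    have hp : IsPGroup 2 (Subgroup.zpowers u) := by
      apply IsPGroup.of_card (n := 1)
      rw [Nat.card_zpowers, h2, pow_one]
    obtain ⟨Q, hQ⟩ := hp.exists_le_sylow
    obtain ⟨g, hg⟩ := MulAction.exists_smul_eq G Q F.S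
    refine ⟨g, ?_⟩
    rw [← hg]
    exact Subgroup.smul_mem_pointwise_smul u (MulAut.conj g) (Q : Subgroup G)
      (hQ (Subgroup.mem_zpowers _))
  have h3 : orderOf (a * u * a⁻¹) = 2 := by rw [orderOf_conj, h2]
  rcases cls B _ (S_le_M B hau) h3 with ⟨m, _, h⟩ | ⟨m, _, h⟩
  · left
    exact ⟨a⁻¹ * m, by
      calc a⁻¹ * m * F.T 0 1 * (a⁻¹ * m)⁻¹ = a⁻¹ * (m * F.T 0 1 * m⁻¹) * a := by group
        _ = u := by rw [h]; group⟩
  · right
    exact ⟨a⁻¹ * m, by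
      calc a⁻¹ * m * F.z 4 * (a⁻¹ * m)⁻¹ = a⁻¹ * (m * F.z 4 * m⁻¹) * a := by group
        _ = u := by rw [h]; group⟩

omit B in
/-- no element is conjugate to `t_ij` and to `z_4` -/
theorem not_both {u : G} (h1 : ∃ g : G, g * F.T 0 1 * g⁻¹ = u)
    (h2 : ∃ g : G, g * F.z 4 * g⁻¹ = u) : False := by
  obtain ⟨g, hg⟩ := h1
  obtain ⟨k, hk⟩ := h2
  apply F.ne (k⁻¹ * g)
  rw [← F.z_four]
  calc k⁻¹ * g * F.T 0 1 * (k⁻¹ * g)⁻¹ = k⁻¹ * (g * F.T 0 1 * g⁻¹) * k := by group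
    _ = k⁻¹ * (k * F.z 4 * k⁻¹) * k := by rw [hg, hk]
    _ = F.z 4 := by group

/-- the hypotheses of the closing theorem -/
theorem hyp [Finite G] : Closing.Hyp M (F.T 0 1) (F.z 4) where
  ht := F.toFr.orderOf_T (by decide)
  hz := orderOf_z 4
  tM := T_mem_M B 0 1
  zM := z_mem_M B 4
  all := all B
  cls := cls B
  ne := fun g h => F.ne g (by rw [h, F.z_four])
  ct := fun g h => B.C_le _ h
  zprod := by
    intro g h1 h2
    set u := g * F.z 4 * g⁻¹ with hu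
    have hu2 : orderOf u = 2 := by rw [hu, orderOf_conj, orderOf_z 4]
    obtain ⟨c, hc1, hc2⟩ := F.inv_Cz u hu2 h1
    have hc1' : c * F.z 4 = F.z 4 * c := hc1
    have hcu : orderOf (c * u * c⁻¹) = 2 := by rw [orderOf_conj, hu2]
    rcases F.toFr.closure_cases hc2 with h | ⟨k, l, hkl, h⟩ | ⟨k, h⟩
    · exfalso
      rw [h, orderOf_one] at hcu
      omega
    · exfalso
      obtain ⟨m, _, hm⟩ := conj_T B hkl
      refine not_both (u := c * u * c⁻¹) ⟨m, by rw [hm, h]⟩ ⟨c * g, by rw [hu]; group⟩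
    · have hk : (4 : Fin 5) ≠ k := by
        rintro rfl
        apply h2
        calc u = c⁻¹ * (c * u * c⁻¹) * c := by group
          _ = c⁻¹ * (F.z 4 * c) := by rw [h, mul_assoc]
          _ = F.z 4 := by rw [← hc1', inv_mul_cancel_left]
      obtain ⟨m, _, hm⟩ := conj_T B hk
      refine ⟨c⁻¹ * m, ?_⟩
      have h5 : F.z 4 * F.z k = F.T 4 k := F.z_mul_z 4 k
      calc c⁻¹ * m * F.T 0 1 * (c⁻¹ * m)⁻¹ = c⁻¹ * (m * F.T 0 1 * m⁻¹) * c := by group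
        _ = c⁻¹ * (F.z 4 * (c * u * c⁻¹)) * c := by rw [hm, h, h5]
        _ = c⁻¹ * (F.z 4 * c) * u := by group
        _ = F.z 4 * u := by rw [← hc1', inv_mul_cancel_left]
  d := by
    refine ⟨F.T 4 0, T_mem_M B _ _, (F.z_comm_T 4 4 0).symm, ?_, ?_⟩
    · obtain ⟨m, _, hm⟩ := conj_T B (show (4 : Fin 5) ≠ 0 by decide)
      exact ⟨m, hm⟩
    · obtain ⟨m, _, hm⟩ := conj_z B 0
      exact ⟨m, by rw [hm, ← F.z_comm_T, F.z_mul_T]⟩
  e := by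
    refine ⟨F.T 0 1, T_mem_M B _ _, (F.z_comm_T 4 0 1).symm, ⟨1, by simp⟩, ?_⟩
    obtain ⟨m, _, hm⟩ := conj_T B (show (2 : Fin 5) ≠ 3 by decide)
    exact ⟨m, by rw [hm, F.z_four, ← mul_assoc, F.T_sq, one_mul]⟩


/-- **A subgroup containing `C(t_01)` and the elements permuting the frame is `G`.** -/
theorem eq_top [Finite G] : M = ⊤ := (hyp B).eq_top

end FrC

/-- the closing property -/
def FrC.toFrX {G : Type*} [Group G] [Finite G] (F : FrC G) : FrX G :=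
  { F.toFr with
    ne := F.ne
    close := fun _ hC hI => FrC.eq_top (F := F) ⟨hC, hI⟩ }

namespace FrX

variable {G : Type*} [Group G] (F : FrX G)

theorem z_ne_one (i : Fin 5) : F.toFr.z i ≠ 1 := by
  intro h
  obtain ⟨n, _, hn⟩ := F.toFr.z_exists_conj i 4
  rw [h, mul_one, mul_inv_cancel] at hn
  -- `z 4 = 1` means `t_01 = t_23`
  have h1 : F.T 0 1 = F.T 2 3 := by
    have h2 : F.T 0 1 * F.T 2 3 = 1 := by rw [← F.toFr.z_four, hn]
    rw [← F.toFr.T_inv 2 3]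
    exact eq_inv_of_mul_eq_one_left h2
  -- then all `T i j = T k l` for disjoint duads, by symmetry `T 0 1 = T 2 3 = T 0 4`
  obtain ⟨m, hm⟩ := F.perm (Equiv.swap 1 4)
  have h3 : F.T 0 4 = F.T 2 3 := by
    have a1 := hm 0 1
    have a2 := hm 2 3
    have e1 : (Equiv.swap 1 4 : Equiv.Perm (Fin 5)) 0 = 0 := by decide
    have e2 : (Equiv.swap 1 4 : Equiv.Perm (Fin 5)) 1 = 4 := by decide
    have e3 : (Equiv.swap 1 4 : Equiv.Perm (Fin 5)) 2 = 2 := by decide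
    have e4 : (Equiv.swap 1 4 : Equiv.Perm (Fin 5)) 3 = 3 := by decide
    rw [e1, e2] at a1
    rw [e3, e4] at a2
    rw [← a1, ← a2, h1]
  have h4 : F.T 1 4 = 1 := by
    rw [← F.T_mul 1 0 4, F.T_symm 1 0, h1, h3, F.toFr.T_sq]
  exact F.toFr.T_ne_one (by decide) h4

/-- no element is conjugate to `t_ij` and to `z_4` -/
theorem not_both {u : G} (h1 : ∃ g : G, g * F.T 0 1 * g⁻¹ = u)
    (h2 : ∃ g : G, g * F.toFr.z 4 * g⁻¹ = u) : False := by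
  obtain ⟨g, hg⟩ := h1
  obtain ⟨k, hk⟩ := h2
  apply F.ne (k⁻¹ * g)
  rw [← F.toFr.z_four]
  calc k⁻¹ * g * F.T 0 1 * (k⁻¹ * g)⁻¹ = k⁻¹ * (g * F.T 0 1 * g⁻¹) * k := by group
    _ = k⁻¹ * (k * F.toFr.z 4 * k⁻¹) * k := by rw [hg, hk]
    _ = F.toFr.z 4 := by group

end FrX

end Cfsg.Agent.TypeLFive.CoreClose
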