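import Mathlib.GroupTheory.Subgroup.Center
import Mathlib.Algebra.Group.Subgroup.Lattice
import Mathlib.Algebra.Group.Subgroup.Map
import Mathlib.SetTheory.Cardinal.Finite
import Mathlib.Algebra.Group.Nat.Even
import Mathlib.Tactic

/-!
The facts (b), (d) about `PSL₃(q)`, `PSU₃(q)` (`q` odd) and `M₁₁` which the core step (K) of type
`L₅` (S0511) uses.  `Y p t` is the subgroup generated by the elements of order dividing `p` which
commute with `t`: for `p` the characteristic it is the `SL₂(q)` inside the centraliser of the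
involution `t` (and `SL(2,3)` inside `GL(2,3)` for `M₁₁`, `p = 3`).
-/

namespace Cfsg.Agent.TypeLFive.LThreeDef

variable {K : Type*} [Group K]

/-- The subgroup generated by the `p`-elements (exponent `p`) commuting with `t`. -/
def Y (p : ℕ) (t : K) : Subgroup K := Subgroup.closure {x | x * t = t * x ∧ x ^ p = 1}

/-- The facts (b), (d) of `L₃^ε(q)`, `M₁₁`. -/
structure Facts (K : Type*) [Group K] (p : ℕ) : Prop where
  /-- `O(C_K(t)) ≤ Z(C_K(t))`. -/
  cent : ∀ t : K, t ≠ 1 → t * t = 1 → ∀ N : Subgroup K, Odd (Nat.card N) →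
    (∀ n ∈ N, n * t = t * n) → (∀ g, g * t = t * g → ∀ n ∈ N, g * n * g⁻¹ ∈ N) →
    ∀ n ∈ N, ∀ g, g * t = t * g → n * g = g * n
  /-- `O(Y_t) = 1`. -/
  odd : ∀ t : K, t ≠ 1 → t * t = 1 → ∀ N : Subgroup K, N ≤ Y p t → Odd (Nat.card N) →
    (∀ g ∈ Y p t, ∀ n ∈ N, g * n * g⁻¹ ∈ N) → N = ⊥
  /-- `K = ⟨Y_w : w ∈ F#⟩` for every four-group `F = {1, t, u, t u}`. -/
  gen : ∀ t u : K, t ≠ 1 → t * t = 1 → u ≠ 1 → u * u = 1 → t ≠ u → t * u = u * t →
    Y p t ⊔ Y p u ⊔ Y p (t * u) = ⊤

theorem Y_le_cent {p : ℕ} {t x : K} (hx : x ∈ Y p t) : x * t = t * x := by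
  refine Subgroup.closure_induction (p := fun x _ => x * t = t * x) (fun x hx => hx.1) ?_ ?_ ?_ hx
  · rw [one_mul, mul_one]
  · intro a b _ _ ha hb
    rw [mul_assoc, hb, ← mul_assoc, ha, mul_assoc]
  · intro a _ ha
    rw [inv_mul_eq_iff_eq_mul, ← mul_assoc, ha, mul_inv_cancel_right]

theorem mem_Y {p : ℕ} {t x : K} (h : x * t = t * x) (hp : x ^ p = 1) : x ∈ Y p t :=
  Subgroup.subset_closure ⟨h, hp⟩

variable {K' : Type*} [Group K']

theorem map_Y (e : K ≃* K') (p : ℕ) (t : K) : (Y p t).map e.toMonoidHom = Y p (e t) := by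
  unfold Y
  rw [MonoidHom.map_closure]
  congr 1
  ext x
  constructor
  · rintro ⟨y, ⟨h1, h2⟩, rfl⟩
    refine ⟨?_, ?_⟩
    · have := congrArg e h1
      simpa using this
    · have := congrArg e h2
      simpa using this
  · rintro ⟨h1, h2⟩
    refine ⟨e.symm x, ⟨?_, ?_⟩, by simp⟩
    · apply e.injective
      simpa using h1
    · apply e.injective
      simpa using h2

theorem mem_Y_iff (e : K ≃* K') (p : ℕ) (t : K) (x : K) : e x ∈ Y p (e t) ↔ x ∈ Y p t := by
  rw [← map_Y e]
  constructor
  · rintro ⟨y, hy, hyx⟩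
    have : y = x := e.injective hyx
    rwa [← this]
  · intro h
    exact ⟨x, h, rfl⟩

/-- `Y_t` is invariant under every automorphism which fixes `t`. -/
theorem Y_char (e : K ≃* K) {p : ℕ} {t : K} (ht : e t = t) {x : K} (hx : x ∈ Y p t) :
    e x ∈ Y p t := by
  have := (mem_Y_iff e p t x).2 hx
  rwa [ht] at this

/-- `Y_t` is normalised by the centraliser of `t`. -/
theorem conj_mem_Y {p : ℕ} {t g x : K} (hg : g * t = t * g) (hx : x ∈ Y p t) :
    g * x * g⁻¹ ∈ Y p t := by
  have h := Y_char (MulAut.conj g) (p := p) (t := t) (by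
    rw [MulAut.conj_apply, hg, mul_inv_cancel_right]) hx
  simpa using h

theorem Facts.congr {p : ℕ} (h : Facts K p) (e : K ≃* K') : Facts K' p := by
  have cardN : ∀ N : Subgroup K', Nat.card (N.comap e.toMonoidHom) = Nat.card N := by
    intro N
    exact Nat.card_congr ((e.symm.subgroupMap N).symm.toEquiv.trans (Equiv.refl _) |>.symm.symm
      |> fun f => (Equiv.subtypeEquiv e.toEquiv (by intro a; rfl)))
  refine ⟨?_, ?_, ?_⟩
  · intro t h1 h2 N hN hc hn n hnN g hg
    have e1 : ∀ x : K', e (e.symm x) = x := fun x => e.apply_symm_apply x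
    have key := h.cent (e.symm t) (by simpa using h1) (by
        rw [← map_mul, h2, map_one]) (N.comap e.toMonoidHom) (by rw [cardN]; exact hN)
      (by
        intro m hm
        apply e.injective
        have := hc (e m) hm
        simpa using this)
      (by
        intro a ha m hm
        have ha' : e a * t = t * e a := by
          have := congrArg e ha
          simpa using this
        have := hn (e a) ha' (e m) hm
        simpa using this)
      (e.symm n) (by simpa using hnN) (e.symm g) (by
        rw [← map_mul, hg, map_mul])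
    have := congrArg e key
    simpa using this
  · intro t h1 h2 N hle hN hn
    have key := h.odd (e.symm t) (by simpa using h1) (by
        rw [← map_mul, h2, map_one]) (N.comap e.toMonoidHom) (by
        intro x hx
        rw [← mem_Y_iff e, e.apply_symm_apply]
        exact hle hx) (by rw [cardN]; exact hN)
      (by
        intro g hg m hm
        rw [← mem_Y_iff e, e.apply_symm_apply] at hg
        have := hn (e g) hg (e m) hm
        simpa using this)
    rw [eq_bot_iff]
    intro x hx
    have hx' : e.symm x ∈ N.comap e.toMonoidHom := by simpa using hx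
    rw [key] at hx'
    have := Subgroup.mem_bot.1 hx'
    rw [Subgroup.mem_bot]
    have h2 := congrArg e this
    simpa using h2
  · intro t u h1 h2 h3 h4 h5 h6
    have key := h.gen (e.symm t) (e.symm u) (by simpa using h1) (by
        rw [← map_mul, h2, map_one]) (by simpa using h3) (by
        rw [← map_mul, h4, map_one]) (by simpa using h5) (by
        rw [← map_mul, h6, map_mul])
    have h7 := congrArg (Subgroup.map e.toMonoidHom) key
    rw [Subgroup.map_sup, Subgroup.map_sup, map_Y, map_Y, map_Y] at h7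
    rw [← map_mul] at h7
    simp only [e.apply_symm_apply] at h7
    rw [h7]
    exact Subgroup.map_top_of_surjective _ e.surjective

end Cfsg.Agent.TypeLFive.LThreeDef
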