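import Mathlib
import Cfsg.Agent.TypeLFive.CoreMain
import Cfsg.Agent.TypeLFive.CoreClose
import Cfsg.Agent.TypeLFive.LThreeDef

/-!
# Cores in the frame of `SylowLFive.Frame`

From the structure of `C(t) / O(C(t))` at `t = t_01` to the hypotheses of `CoreMain`.
-/

set_option autoImplicit false

namespace Cfsg.Agent.TypeLFive.CoreLoc

open Subgroup Cfsg
open Cfsg.Agent.SignalizersComponents
open Cfsg.Agent.SignalizersComponents.GoldschmidtFunctor
open Cfsg.Agent.TypeLFive.CoreFunctor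
open Cfsg.Agent.TypeLFive.CoreBalance
open Cfsg.Agent.TypeLFive.CoreMain
open Cfsg.Agent.TypeLFive.CoreClose
open Cfsg.Agent.TypeLFive.LThreeDef
open Cfsg.Agent.SylowLFive.Frame

universe u

variable {G : Type u} [Group G]

/-! ### Conjugation of `C(b) / O(C(b))` -/

theorem cen_conj {g b x : G} (hx : x ∈ centralizer ({b} : Set G)) :
    g * x * g⁻¹ ∈ centralizer ({g * b * g⁻¹} : Set G) := by
  rw [mem_centralizer_singleton_iff] at hx ⊢
  calc g * x * g⁻¹ * (g * b * g⁻¹) = g * (x * b) * g⁻¹ := by group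
    _ = g * (b * x) * g⁻¹ := by rw [hx]
    _ = g * b * g⁻¹ * (g * x * g⁻¹) := by group

theorem cen_conj' {g b x : G} (hx : x ∈ centralizer ({g * b * g⁻¹} : Set G)) :
    g⁻¹ * x * g ∈ centralizer ({b} : Set G) := by
  rw [mem_centralizer_singleton_iff] at hx ⊢
  calc g⁻¹ * x * g * b = g⁻¹ * (x * (g * b * g⁻¹)) * g := by group
    _ = g⁻¹ * (g * b * g⁻¹ * x) * g := by rw [hx]
    _ = b * (g⁻¹ * x * g) := by group

/-- conjugation by `g` from `C(b)` to `C(g b g⁻¹)` -/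
def conjCen (g b : G) :
    ↥(centralizer ({b} : Set G)) ≃* ↥(centralizer ({g * b * g⁻¹} : Set G)) where
  toFun x := ⟨g * x * g⁻¹, cen_conj x.2⟩
  invFun x := ⟨g⁻¹ * x * g, cen_conj' x.2⟩
  left_inv x := Subtype.ext (by show g⁻¹ * (g * x * g⁻¹) * g = x; group)
  right_inv x := Subtype.ext (by show g * (g⁻¹ * x * g) * g⁻¹ = x; group)
  map_mul' x y := Subtype.ext (by
    show g * (x * y) * g⁻¹ = g * x * g⁻¹ * (g * y * g⁻¹); group)

/-- the induced isomorphism of the quotients -/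
def conjQ (g b : G) : Q b ≃* Q (g * b * g⁻¹) :=
  QuotientGroup.congr _ _ (conjCen g b) (Lib.Cores.map_equiv_pPrimeCore (conjCen g b) 2)

/-- the class of an element of `C(b)` -/
abbrev mk (b : G) (x : G) (hx : x ∈ centralizer ({b} : Set G)) : Q b :=
  QuotientGroup.mk' (pPrimeCore 2 ↥(centralizer ({b} : Set G))) ⟨x, hx⟩

theorem mk_congr {b x y : G} (h : x = y) (hx : x ∈ centralizer ({b} : Set G))
    (hy : y ∈ centralizer ({b} : Set G)) : mk b x hx = mk b y hy := by subst h; rfl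

theorem mk_mul {b x y : G} (hx : x ∈ centralizer ({b} : Set G))
    (hy : y ∈ centralizer ({b} : Set G)) (hxy : x * y ∈ centralizer ({b} : Set G)) :
    mk b (x * y) hxy = mk b x hx * mk b y hy := rfl

theorem conjQ_mk (g b x : G) (hx : x ∈ centralizer ({b} : Set G)) :
    conjQ g b (mk b x hx) = mk (g * b * g⁻¹) (g * x * g⁻¹) (cen_conj hx) := rfl

/-- The structure of `C(b) / O(C(b))`. -/
structure CenOut (b t₁ t₂ z : G) (p : ℕ) (J : Subgroup (Q b)) : Prop where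
  t1C : t₁ ∈ centralizer ({b} : Set G)
  t2C : t₂ ∈ centralizer ({b} : Set G)
  zC : z ∈ centralizer ({b} : Set G)
  nml : J.Normal
  t1J : mk b t₁ t1C ∈ J
  t2J : mk b t₂ t2C ∈ J
  zJ : ∀ j ∈ J, mk b z zC * j = j * mk b z zC
  fratt : ∀ x : Q b, ∃ j ∈ J, ∃ c : Q b, x = j * c ∧ c * mk b t₁ t1C = mk b t₁ t1C * c ∧
    c * mk b t₂ t2C = mk b t₂ t2C * c
  facts : Facts J p

theorem CenOut.conj {b t₁ t₂ z : G} {p : ℕ} {J : Subgroup (Q b)} (h : CenOut b t₁ t₂ z p J)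
    (g : G) : CenOut (g * b * g⁻¹) (g * t₁ * g⁻¹) (g * t₂ * g⁻¹) (g * z * g⁻¹) p
      (J.map (conjQ g b).toMonoidHom) where
  t1C := cen_conj h.t1C
  t2C := cen_conj h.t2C
  zC := cen_conj h.zC
  nml := h.nml.map _ (conjQ g b).surjective
  t1J := ⟨_, h.t1J, rfl⟩
  t2J := ⟨_, h.t2J, rfl⟩
  zJ := by
    rintro _ ⟨j, hj, rfl⟩
    have := congrArg (conjQ g b) (h.zJ j hj)
    rw [map_mul, map_mul, conjQ_mk] at this
    exact this
  fratt := by
    intro x
    obtain ⟨y, rfl⟩ := (conjQ g b).surjective x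
    obtain ⟨j, hj, c, rfl, h1, h2⟩ := h.fratt y
    refine ⟨conjQ g b j, ⟨j, hj, rfl⟩, conjQ g b c, map_mul _ _ _, ?_, ?_⟩
    · have := congrArg (conjQ g b) h1
      rw [map_mul, map_mul, conjQ_mk] at this
      exact this
    · have := congrArg (conjQ g b) h2
      rw [map_mul, map_mul, conjQ_mk] at this
      exact this
  facts := h.facts.congr (J.equivMapOfInjective _ (conjQ g b).injective)

/-! ### Four-groups -/

/-- the four-group `{1, a, c, a c}` -/
def four (a c : G) (ha : a * a = 1) (hc : c * c = 1) (h : a * c = c * a) : Subgroup G where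
  carrier := {x | x = 1 ∨ x = a ∨ x = c ∨ x = a * c}
  one_mem' := Or.inl rfl
  mul_mem' := by
    have h1 : a * (a * c) = c := by rw [← mul_assoc, ha, one_mul]
    have h2 : c * (a * c) = a := by rw [h, ← mul_assoc, hc, one_mul]
    have h3 : a * c * a = c := by rw [h, mul_assoc, ha, mul_one]
    have h4 : a * c * c = a := by rw [mul_assoc, hc, mul_one]
    have h5 : a * c * (a * c) = 1 := by rw [← mul_assoc, h3, hc]
    rintro x y (rfl | rfl | rfl | rfl) (rfl | rfl | rfl | rfl) <;>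
      simp only [Set.mem_ofPred_eq, one_mul, mul_one, ha, hc, h1, h2, h3, h4, h5, ← h, true_or,
        or_true]
  inv_mem' := by
    have h1 : a⁻¹ = a := inv_eq_of_mul_eq_one_right ha
    have h2 : c⁻¹ = c := inv_eq_of_mul_eq_one_right hc
    rintro x (rfl | rfl | rfl | rfl)
    · simp
    · simp [h1]
    · simp [h2]
    · simp [h1, h2, ← h]

theorem mem_four_iff {a c : G} {ha : a * a = 1} {hc : c * c = 1} {h : a * c = c * a} {x : G} :
    x ∈ four a c ha hc h ↔ x = 1 ∨ x = a ∨ x = c ∨ x = a * c := Iff.rfl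

theorem card_four {a c : G} {ha : a * a = 1} {hc : c * c = 1} {h : a * c = c * a}
    (ha1 : a ≠ 1) (hc1 : c ≠ 1) (hac : a ≠ c) : Nat.card (four a c ha hc h) = 4 := by
  classical
  have hac1 : a * c ≠ 1 := fun h1 => hac (by
    have : a * c * c = c := by rw [h1, one_mul]
    rwa [mul_assoc, hc, mul_one] at this)
  have hac2 : a * c ≠ a := fun h1 => hc1 (mul_eq_left.1 h1)
  have hac3 : a * c ≠ c := fun h1 => ha1 (mul_eq_right.1 h1)
  have h1 : ((four a c ha hc h : Subgroup G) : Set G) = (({1, a, c, a * c} : Finset G) : Set G) := by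
    ext x
    simp only [SetLike.mem_coe, mem_four_iff, Finset.coe_insert, Finset.coe_singleton,
      Set.mem_insert_iff, Set.mem_singleton_iff]
  have h2 : Nat.card (four a c ha hc h) = ((four a c ha hc h : Subgroup G) : Set G).ncard :=
    Nat.card_coe_set_eq _
  rw [h2, h1, Set.ncard_coe_finset, Finset.card_insert_of_notMem, Finset.card_insert_of_notMem,
    Finset.card_insert_of_notMem, Finset.card_singleton]
  · simpa using hac3.symm
  · simp only [Finset.mem_insert, Finset.mem_singleton, not_or]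
    exact ⟨hac, hac2.symm⟩
  · simp only [Finset.mem_insert, Finset.mem_singleton, not_or]
    exact ⟨ha1.symm, hc1.symm, hac1.symm⟩

/-! ### Consequences of `Facts` -/

section Facts

variable {X : Type u} [Group X] {J : Subgroup X} {p : ℕ} (hf : Facts J p)

include hf in
theorem facts_core {a : X} (haJ : a ∈ J) (ha1 : a ≠ 1) (ha : a * a = 1) {D : Subgroup X}
    (hD : ¬ 2 ∣ Nat.card D) (hDJ : D ≤ J) (hDa : ∀ d ∈ D, d * a = a * d)
    (hn : ∀ g ∈ J, g * a = a * g → ∀ d ∈ D, g * d * g⁻¹ ∈ D) :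
    ∀ d ∈ D, ∀ g ∈ J, g * a = a * g → d * g = g * d := by
  intro d hd g hg hga
  have h1 := hf.cent ⟨a, haJ⟩ (fun h => ha1 (congrArg Subtype.val h)) (Subtype.ext ha)
    (D.subgroupOf J) ?_ ?_ ?_ ⟨d, hDJ hd⟩ hd ⟨g, hg⟩ (Subtype.ext hga)
  · exact congrArg Subtype.val h1
  · rw [Nat.card_congr (subgroupOfEquivOfLe hDJ).toEquiv]
    exact Nat.not_even_iff_odd.1 fun h => hD h.two_dvd
  · intro n hn'
    exact Subtype.ext (hDa n hn')
  · intro g hg n hn'
    exact hn g g.2 (congrArg Subtype.val hg) n hn'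

include hf in
theorem facts_Y (hJ : J.Normal) {a : X} (haJ : a ∈ J) (ha1 : a ≠ 1) (ha : a * a = 1)
    {D : Subgroup X} (hD : ¬ 2 ∣ Nat.card D) (hDa : ∀ d ∈ D, d * a = a * d)
    (hn : ∀ g ∈ J, g * a = a * g → ∀ d ∈ D, g * d * g⁻¹ ∈ D) :
    ∀ d ∈ D, ∀ y ∈ Y p (⟨a, haJ⟩ : J), d * (y : X) = y * d := by
  intro d hd y hy
  -- conjugation by `x` as an automorphism of `J`
  have key : ∀ x : X, x * a = a * x → ∀ z ∈ Y p (⟨a, haJ⟩ : J),
      ∃ h : x * z * x⁻¹ ∈ J, (⟨x * z * x⁻¹, h⟩ : J) ∈ Y p (⟨a, haJ⟩ : J) := by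
    intro x hx z hz
    have h1 : MulAut.conjNormal x (⟨a, haJ⟩ : J) = ⟨a, haJ⟩ := by
      apply Subtype.ext
      rw [MulAut.conjNormal_apply]
      show x * a * x⁻¹ = a
      rw [hx, mul_inv_cancel_right]
    have h2 := Y_char (MulAut.conjNormal x : MulAut J) (p := p) h1 hz
    refine ⟨hJ.conj_mem z z.2 x, ?_⟩
    have h3 : (⟨x * z * x⁻¹, hJ.conj_mem z z.2 x⟩ : J) = MulAut.conjNormal x z :=
      Subtype.ext (MulAut.conjNormal_apply x z).symm
    rw [h3]
    exact h2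
  have hN := hf.odd ⟨a, haJ⟩ (fun h => ha1 (congrArg Subtype.val h)) (Subtype.ext ha)
    (D.subgroupOf J ⊓ Y p ⟨a, haJ⟩) inf_le_right ?_ ?_
  · -- the commutator
    obtain ⟨hJ1, hY1⟩ := key d (hDa d hd) y hy
    have hY2 : (⟨d * y * d⁻¹, hJ1⟩ * y⁻¹ : J) ∈ Y p (⟨a, haJ⟩ : J) := mul_mem hY1 (inv_mem hy)
    have hD2 : (⟨d * y * d⁻¹, hJ1⟩ * y⁻¹ : J) ∈ D.subgroupOf J := by
      rw [mem_subgroupOf]
      have h2 : (y : X) * a = a * y := congrArg Subtype.val (Y_le_cent hy)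
      have h3 := hn y y.2 h2 _ (inv_mem hd)
      have h4 : ((⟨d * y * d⁻¹, hJ1⟩ * y⁻¹ : J) : X) = d * (y * d⁻¹ * (y : X)⁻¹) := by
        show d * y * d⁻¹ * (y : X)⁻¹ = _
        group
      rw [h4]
      exact mul_mem hd h3
    have h1 : (⟨d * y * d⁻¹, hJ1⟩ * y⁻¹ : J) ∈ (⊥ : Subgroup J) := by
      rw [← hN]
      exact Subgroup.mem_inf.2 ⟨hD2, hY2⟩
    rw [mem_bot] at h1
    have h2 : d * y * d⁻¹ * (y : X)⁻¹ = 1 := congrArg Subtype.val h1
    have h3 : d * y * d⁻¹ = y := by rw [mul_inv_eq_one] at h2; exact h2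
    rw [mul_inv_eq_iff_eq_mul] at h3
    exact h3
  · refine Nat.not_even_iff_odd.1 fun h => hD ?_
    have h1 : Nat.card (D.subgroupOf J ⊓ Y p ⟨a, haJ⟩ : Subgroup J) ∣ Nat.card (D.subgroupOf J) :=
      card_dvd_of_le inf_le_left
    have h2 : Nat.card (D.subgroupOf J) ∣ Nat.card D := card_comap_dvd_of_injective D J.subtype
      J.subtype_injective
    exact h.two_dvd.trans (h1.trans h2)
  · intro g hg n hn'
    obtain ⟨hn1, hn2⟩ := Subgroup.mem_inf.1 hn'
    have hY2 : g * n * g⁻¹ ∈ Y p (⟨a, haJ⟩ : J) := mul_mem (mul_mem hg hn2) (inv_mem hg)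
    refine Subgroup.mem_inf.2 ⟨?_, hY2⟩
    rw [mem_subgroupOf]
    exact hn g g.2 (congrArg Subtype.val (Y_le_cent hg)) n (mem_subgroupOf.1 hn1)

end Facts

theorem mem_cen_zpowers {b y : G} (hy : y ∈ centralizer ({b} : Set G)) (x : Q b) :
    x ∈ centralizer (bar b (zpowers y) : Set (Q b)) ↔ x * mk b y hy = mk b y hy * x := by
  constructor
  · intro h
    exact (mem_centralizer_iff.1 h _ (mem_bar hy (mem_zpowers y))).symm
  · intro h
    rw [mem_centralizer_iff]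
    intro z hz
    obtain ⟨w, hw, rfl⟩ := hz
    obtain ⟨n, hn⟩ := mem_zpowers_iff.1 hw
    have h2 : QuotientGroup.mk' (pPrimeCore 2 ↥(centralizer ({b} : Set G))) w = mk b y hy ^ n := by
      rw [← map_zpow]
      congr 1
      exact Subtype.ext hn.symm
    rw [h2]
    exact (Commute.zpow_left (show Commute (mk b y hy) x from h.symm) n).eq

/-! ### The frame -/

section Frame

variable (F : FrX G)

/-- the group `E` -/
def EE : Subgroup G := Subgroup.closure {y | ∃ i j, y = F.T i j}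

/-- the set of the `t_ij` -/
def TT : Set G := {x | ∃ i j, i ≠ j ∧ x = F.T i j}

theorem T_mem_EE (i j : Fin 5) : F.T i j ∈ EE F := subset_closure ⟨i, j, rfl⟩

theorem z_mem_EE (i : Fin 5) : F.toFr.z i ∈ EE F := mul_mem (T_mem_EE F _ _) (T_mem_EE F _ _)

theorem T_mem_TT {i j : Fin 5} (h : i ≠ j) : F.T i j ∈ TT F := ⟨i, j, h, rfl⟩

theorem T_ne_z {i j : Fin 5} (h : i ≠ j) (k : Fin 5) : F.T i j ≠ F.toFr.z k := by
  intro h1
  obtain ⟨n, _, hn⟩ := F.toFr.exists_conj h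
  obtain ⟨m, _, hm⟩ := F.toFr.z_exists_conj 4 k
  exact CoreClose.FrX.not_both F (u := F.T i j) ⟨n, hn⟩ ⟨m, by rw [hm, h1]⟩

theorem EE_cases {x : G} (hx : x ∈ EE F) :
    x = 1 ∨ (∃ i j, i ≠ j ∧ x = F.T i j) ∨ ∃ i, x = F.toFr.z i := F.toFr.closure_cases hx

theorem EE_comm : ∀ a ∈ EE F, ∀ b ∈ EE F, a * b = b * a := by
  intro a ha b hb
  obtain ⟨v, rfl⟩ := F.toFr.mem_closure ha
  obtain ⟨w, rfl⟩ := F.toFr.mem_closure hb
  rw [← F.toFr.el_add, ← F.toFr.el_add, add_comm]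

theorem EE_sq : ∀ a ∈ EE F, a * a = 1 := by
  intro a ha
  obtain ⟨v, rfl⟩ := F.toFr.mem_closure ha
  rw [← F.toFr.el_add]
  have : v + v = 0 := by
    funext i
    exact CharTwo.add_self_eq_zero (v i)
  rw [this, F.toFr.el_zero]

theorem el_eq_one {v : Fin 5 → ZMod 2} (h : F.toFr.el v = 1) :
    v 0 = 0 ∧ v 1 = 0 ∧ v 2 = 0 ∧ v 3 = 0 := by
  have h0 : F.toFr.el v = F.toFr.el ![v 0, v 1, v 2, v 3, v 0 + v 1 + v 2 + v 3] := rfl
  rcases spec1 (v 0) (v 1) (v 2) (v 3) with h1 | ⟨i, j, hij, h1⟩ | ⟨i, h1⟩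
  · exact ⟨h1 0, h1 1, h1 2, h1 3⟩
  · exfalso
    rw [h0, F.toFr.el_congr h1, F.toFr.el_T] at h
    exact F.toFr.T_ne_one hij h
  · exfalso
    rw [h0, F.toFr.el_congr h1, F.toFr.el_z] at h
    exact CoreClose.FrX.z_ne_one F i h

theorem card_EE : Nat.card (EE F) = 16 := by
  have hel : ∀ v, F.toFr.el v ∈ EE F := by
    intro v
    exact mul_mem (mul_mem (mul_mem (pow_mem (T_mem_EE F 0 4) _) (pow_mem (T_mem_EE F 1 4) _))
      (pow_mem (T_mem_EE F 2 4) _)) (pow_mem (T_mem_EE F 3 4) _)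
  let m : (Fin 4 → ZMod 2) → EE F := fun v => ⟨F.toFr.el ![v 0, v 1, v 2, v 3, 0], hel _⟩
  have hm : Function.Bijective m := by
    constructor
    · intro v w hvw
      have h1 : F.toFr.el ![v 0, v 1, v 2, v 3, 0] = F.toFr.el ![w 0, w 1, w 2, w 3, 0] :=
        congrArg Subtype.val hvw
      have h2 : F.toFr.el (![v 0, v 1, v 2, v 3, 0] + ![w 0, w 1, w 2, w 3, 0]) = 1 := by
        rw [F.toFr.el_add, h1]
        exact EE_sq F _ (hel _)
      obtain ⟨a0, a1, a2, a3⟩ := el_eq_one F h2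
      have key : ∀ x y : ZMod 2, x + y = 0 → x = y := by decide
      funext i
      fin_cases i
      · exact key _ _ a0
      · exact key _ _ a1
      · exact key _ _ a2
      · exact key _ _ a3
    · rintro ⟨x, hx⟩
      obtain ⟨v, rfl⟩ := F.toFr.mem_closure hx
      exact ⟨![v 0, v 1, v 2, v 3], Subtype.ext rfl⟩
  rw [← Nat.card_congr (Equiv.ofBijective m hm), Nat.card_fun, Nat.card_eq_fintype_card,
    Nat.card_eq_fintype_card, ZMod.card, Fintype.card_fin]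
  norm_num

theorem pair : Pair (EE F) (TT F) where
  comm := EE_comm F
  sq := EE_sq F
  card := by rw [card_EE]; norm_num
  sub := by rintro _ ⟨i, j, _, rfl⟩; exact T_mem_EE F i j
  ne := by rintro _ ⟨i, j, h, rfl⟩; exact F.toFr.T_ne_one h
  cov := by
    intro z hz hz1 hzT e he he1 hez
    obtain ⟨i, rfl⟩ : ∃ i, z = F.toFr.z i := by
      rcases EE_cases F hz with h | ⟨i, j, hij, h⟩ | h
      · exact (hz1 h).elim
      · exact (hzT ⟨i, j, hij, h⟩).elim
      · exact h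
    rcases EE_cases F he with h | ⟨j, k, hjk, h⟩ | ⟨j, rfl⟩
    · exact (he1 h).elim
    · exact Or.inl ⟨j, k, hjk, h⟩
    · refine Or.inr ⟨j, i, fun h => hez (by rw [h]), F.toFr.z_mul_z j i⟩

theorem conj_TT : ∀ n ∈ normalizer (EE F : Set G), ∀ t ∈ TT F, n * t * n⁻¹ ∈ TT F := by
  rintro n hn _ ⟨i, j, hij, rfl⟩
  have h1 : n * F.T i j * n⁻¹ ∈ EE F := (mem_normalizer_iff.1 hn _).1 (T_mem_EE F i j)
  rcases EE_cases F h1 with h | ⟨k, l, hkl, h⟩ | ⟨k, h⟩
  · exfalso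
    apply F.toFr.T_ne_one hij
    have : F.T i j = n⁻¹ * (n * F.T i j * n⁻¹) * n := by group
    rw [this, h]; group
  · exact ⟨k, l, hkl, h⟩
  · exfalso
    obtain ⟨m, _, hm⟩ := F.toFr.exists_conj hij
    obtain ⟨m', _, hm'⟩ := F.toFr.z_exists_conj 4 k
    exact CoreClose.FrX.not_both F (u := n * F.T i j * n⁻¹) ⟨n * m, by rw [← hm]; group⟩
      ⟨m', by rw [hm', h]⟩

theorem Ind_mem_normalizer {n : G} (hn : F.toFr.Ind n) : n ∈ normalizer (EE F : Set G) := by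
  obtain ⟨σ, hσ⟩ := hn
  have h1 : ∀ x ∈ EE F, n * x * n⁻¹ ∈ EE F := by
    have h2 : EE F ≤ (EE F).comap (MulAut.conj n).toMonoidHom := by
      conv_lhs => rw [EE]
      rw [closure_le]
      rintro _ ⟨i, j, rfl⟩
      show n * F.T i j * n⁻¹ ∈ EE F
      rw [hσ]
      exact T_mem_EE F _ _
    exact fun x hx => h2 hx
  have h2 : ∀ x ∈ EE F, n⁻¹ * x * n ∈ EE F := by
    have h2 : EE F ≤ (EE F).comap (MulAut.conj n⁻¹).toMonoidHom := by
      conv_lhs => rw [EE]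
      rw [closure_le]
      rintro _ ⟨i, j, rfl⟩
      show n⁻¹ * F.T i j * n⁻¹⁻¹ ∈ EE F
      have := hσ (σ.symm i) (σ.symm j)
      rw [Equiv.apply_symm_apply, Equiv.apply_symm_apply] at this
      rw [← this]
      have h3 : n⁻¹ * (n * F.T (σ.symm i) (σ.symm j) * n⁻¹) * n⁻¹⁻¹ = F.T (σ.symm i) (σ.symm j) := by
        group
      rw [h3]
      exact T_mem_EE F _ _
    intro x hx
    have := h2 hx
    simpa using this
  rw [mem_normalizer_iff]
  intro x
  refine ⟨h1 x, fun h => ?_⟩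
  have := h2 _ h
  have e : n⁻¹ * (n * x * n⁻¹) * n = x := by group
  rwa [e] at this

/-- `T (σ a) (σ b)` is a product of elements of a subgroup containing a path. -/
theorem T_mem_of (σ : Equiv.Perm (Fin 5)) {H : Subgroup G} (h01 : F.T (σ 0) (σ 1) ∈ H)
    (h12 : F.T (σ 1) (σ 2) ∈ H) (h23 : F.T (σ 2) (σ 3) ∈ H) (h34 : F.T (σ 3) (σ 4) ∈ H) :
    EE F ≤ H := by
  have h02 : F.T (σ 0) (σ 2) ∈ H := by rw [← F.T_mul _ (σ 1)]; exact mul_mem h01 h12
  have h03 : F.T (σ 0) (σ 3) ∈ H := by rw [← F.T_mul _ (σ 2)]; exact mul_mem h02 h23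
  have h04 : F.T (σ 0) (σ 4) ∈ H := by rw [← F.T_mul _ (σ 3)]; exact mul_mem h03 h34
  have h0 : ∀ a : Fin 5, F.T (σ 0) (σ a) ∈ H := by
    intro a
    fin_cases a
    · exact (F.T_self (σ 0)) ▸ one_mem H
    · exact h01
    · exact h02
    · exact h03
    · exact h04
  rw [EE, closure_le]
  rintro _ ⟨i, j, rfl⟩
  have h1 := h0 (σ.symm i)
  have h2 := h0 (σ.symm j)
  rw [Equiv.apply_symm_apply] at h1 h2
  rw [← F.T_mul i (σ 0) j, F.T_symm i]
  exact mul_mem h1 h2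

/-- `F = {1, t_23, t_34, t_24}` -/
def FF (σ : Equiv.Perm (Fin 5)) : Subgroup G :=
  four (F.T (σ 2) (σ 3)) (F.T (σ 3) (σ 4)) (F.toFr.T_sq _ _) (F.toFr.T_sq _ _) (F.toFr.comm _ _ _ _)

/-- `R = {1, t_01, z_0, z_1}` -/
def RR (σ : Equiv.Perm (Fin 5)) : Subgroup G :=
  four (F.T (σ 0) (σ 1)) (F.toFr.z (σ 0)) (F.toFr.T_sq _ _) (F.toFr.z_sq _) (F.toFr.z_comm_T _ _ _).symm

theorem TT_z (σ : Equiv.Perm (Fin 5)) {a b c d i : Fin 5} (h1 : a ≠ b) (h2 : a ≠ c) (h3 : a ≠ d)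
    (h4 : a ≠ i) (h5 : b ≠ c) (h6 : b ≠ d) (h7 : b ≠ i) (h8 : c ≠ d) (h9 : c ≠ i) (h0 : d ≠ i) :
    F.T (σ a) (σ b) * F.T (σ c) (σ d) = F.toFr.z (σ i) :=
  F.toFr.TT_eq_z (σ.injective.ne h1) (σ.injective.ne h2) (σ.injective.ne h3) (σ.injective.ne h4)
    (σ.injective.ne h5) (σ.injective.ne h6) (σ.injective.ne h7) (σ.injective.ne h8)
    (σ.injective.ne h9) (σ.injective.ne h0)

theorem mem_FF {σ : Equiv.Perm (Fin 5)} {x : G} : x ∈ FF F σ ↔ x = 1 ∨ x = F.T (σ 2) (σ 3) ∨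
    x = F.T (σ 3) (σ 4) ∨ x = F.T (σ 2) (σ 4) := by
  unfold FF
  rw [mem_four_iff, F.T_mul]

theorem mem_RR {σ : Equiv.Perm (Fin 5)} {x : G} : x ∈ RR F σ ↔ x = 1 ∨ x = F.T (σ 0) (σ 1) ∨
    x = F.toFr.z (σ 0) ∨ x = F.toFr.z (σ 1) := by
  unfold RR
  rw [mem_four_iff, ← F.toFr.z_comm_T, F.toFr.z_mul_T]

/-- The local hypotheses at `T (σ 0) (σ 1)`. -/
theorem loc [Finite G] (σ : Equiv.Perm (Fin 5)) {p : ℕ} {b : G} (hb : b = F.T (σ 0) (σ 1))
    {J : Subgroup (Q b)}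
    (h : CenOut b (F.T (σ 2) (σ 3)) (F.T (σ 3) (σ 4)) (F.toFr.z (σ 0)) p J) :
    Loc (EE F) (TT F) b (FF F σ) (RR F σ) J := by
  have ne : ∀ {i j : Fin 5}, i ≠ j → σ i ≠ σ j := fun hij => σ.injective.ne hij
  have hFE : FF F σ ≤ EE F := by
    intro x hx
    rcases (mem_FF F).1 hx with rfl | rfl | rfl | rfl
    · exact one_mem _
    all_goals exact T_mem_EE F _ _
  have hRE : RR F σ ≤ EE F := by
    intro x hx
    rcases (mem_RR F).1 hx with rfl | rfl | rfl | rfl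
    · exact one_mem _
    · exact T_mem_EE F _ _
    all_goals exact z_mem_EE F _
  have hT01 : b ∈ RR F σ := (mem_RR F).2 (Or.inr (Or.inl hb))
  have hz0 : F.toFr.z (σ 0) ∈ RR F σ := (mem_RR F).2 (Or.inr (Or.inr (Or.inl rfl)))
  have hz1 : F.toFr.z (σ 1) ∈ RR F σ := (mem_RR F).2 (Or.inr (Or.inr (Or.inr rfl)))
  have hT23 : F.T (σ 2) (σ 3) ∈ FF F σ := (mem_FF F).2 (Or.inr (Or.inl rfl))
  have hT34 : F.T (σ 3) (σ 4) ∈ FF F σ := (mem_FF F).2 (Or.inr (Or.inr (Or.inl rfl)))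
  have hT24 : F.T (σ 2) (σ 4) ∈ FF F σ := (mem_FF F).2 (Or.inr (Or.inr (Or.inr rfl)))
  have hEb : EE F ≤ centralizer ({b} : Set G) := fun x hx =>
    mem_centralizer_singleton_iff.2 (EE_comm F x hx _ (hRE hT01))
  have hJn := h.nml
  -- the classes of the elements of `F`
  have hfJ : ∀ f, ∀ hf : f ∈ FF F σ, mk b f (hEb (hFE hf)) ∈ J := by
    intro f hf
    rcases (mem_FF F).1 hf with hh | hh | hh | hh
    · subst hh
      exact one_mem J
    · subst hh; exact h.t1J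
    · subst hh; exact h.t2J
    · subst hh
      have h1 := mul_mem h.t1J h.t2J
      rw [← map_mul] at h1
      have h2 : (⟨F.T (σ 2) (σ 3), h.t1C⟩ * ⟨F.T (σ 3) (σ 4), h.t2C⟩ :
          ↥(centralizer ({b} : Set G))) = ⟨F.T (σ 2) (σ 4), hEb (hFE hf)⟩ :=
        Subtype.ext (F.T_mul _ _ _)
      rw [h2] at h1
      exact h1
  have hfsq : ∀ f, ∀ hf : f ∈ FF F σ, mk b f (hEb (hFE hf)) *
      mk b f (hEb (hFE hf)) = 1 := by
    intro f hf
    rw [← map_mul]
    have h2 : (⟨f, hEb (hFE hf)⟩ * ⟨f, hEb (hFE hf)⟩ :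
        ↥(centralizer ({b} : Set G))) = 1 := Subtype.ext (EE_sq F f (hFE hf))
    rw [h2]
    exact (QuotientGroup.mk' (pPrimeCore 2 ↥(centralizer ({b} : Set G)))).map_one
  have hfne : ∀ f, ∀ hf : f ∈ FF F σ, f ≠ 1 → mk b f (hEb (hFE hf)) ≠ 1 := by
    intro f hf hf1 h1
    rw [mk, QuotientGroup.mk'_apply, QuotientGroup.eq_one_iff] at h1
    have h2 : f ∈ M b := ⟨_, h1, rfl⟩
    have h3 : orderOf f = 2 := orderOf_eq_prime (by rw [pow_two]; exact EE_sq F f (hFE hf)) hf1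
    apply M_odd b
    rw [← h3, ← Subgroup.orderOf_mk f h2]
    exact orderOf_dvd_natCard _
  have hT23ne : F.T (σ 2) (σ 3) ≠ 1 := F.toFr.T_ne_one (ne (by decide))
  have hT34ne : F.T (σ 3) (σ 4) ≠ 1 := F.toFr.T_ne_one (ne (by decide))
  have hT24ne : F.T (σ 2) (σ 4) ≠ 1 := F.toFr.T_ne_one (ne (by decide))
  have hT23T34 : F.T (σ 2) (σ 3) ≠ F.T (σ 3) (σ 4) := by
    intro h1
    apply hT24ne
    rw [← F.T_mul (σ 2) (σ 3) (σ 4), h1]
    exact F.toFr.T_sq _ _
  -- generation of `J` by three subgroups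
  set t₁ : ↥J := ⟨mk b (F.T (σ 2) (σ 3)) (hEb (hFE hT23)), hfJ _ hT23⟩ with ht₁
  set t₂ : ↥J := ⟨mk b (F.T (σ 3) (σ 4)) (hEb (hFE hT34)), hfJ _ hT34⟩ with ht₂
  set t₃ : ↥J := ⟨mk b (F.T (σ 2) (σ 4)) (hEb (hFE hT24)), hfJ _ hT24⟩ with ht₃
  have ht12 : t₁ * t₂ = t₃ := by
    apply Subtype.ext
    show mk b _ _ * mk b _ _ = mk b _ _
    rw [← map_mul]
    congr 1
    exact Subtype.ext (F.T_mul _ _ _)
  have ht21 : t₂ * t₁ = t₃ := by
    apply Subtype.ext
    show mk b _ _ * mk b _ _ = mk b _ _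
    rw [← map_mul]
    congr 1
    refine Subtype.ext ?_
    show F.T (σ 3) (σ 4) * F.T (σ 2) (σ 3) = F.T (σ 2) (σ 4)
    rw [F.toFr.comm, F.T_mul]
  have hgen : Y p t₁ ⊔ Y p t₂ ⊔ Y p t₃ = ⊤ := by
    rw [← ht12]
    refine h.facts.gen t₁ t₂ ?_ ?_ ?_ ?_ ?_ (by rw [ht12, ht21])
    · exact fun h1 => hfne _ hT23 hT23ne (congrArg Subtype.val h1)
    · exact Subtype.ext (hfsq _ hT23)
    · exact fun h1 => hfne _ hT34 hT34ne (congrArg Subtype.val h1)
    · exact Subtype.ext (hfsq _ hT34)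
    · intro h1
      have h2 : t₃ = 1 := by
        rw [← ht12, h1]
        exact Subtype.ext (hfsq _ hT34)
      exact hfne _ hT24 hT24ne (congrArg Subtype.val h2)
  -- a subgroup of `J` containing the three subgroups
  have hgen' : ∀ H : Subgroup (Q b), (∀ f, ∀ hf : f ∈ FF F σ, f ≠ 1 →
      ∀ y ∈ Y p (⟨mk b f (hEb (hFE hf)), hfJ f hf⟩ : J), (y : Q b) ∈ H) → J ≤ H := by
    intro H hH x hx
    have h1 : (⊤ : Subgroup J) ≤ H.subgroupOf J := by
      rw [← hgen]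
      refine sup_le (sup_le ?_ ?_) ?_
      · exact fun y hy => hH _ hT23 hT23ne y hy
      · exact fun y hy => hH _ hT34 hT34ne y hy
      · exact fun y hy => hH _ hT24 hT24ne y hy
    exact h1 (mem_top (⟨x, hx⟩ : J))
  refine { FE := hFE, RE := hRE, ER := ?_, F4 := ?_, R4 := ?_, bR := hT01, TR := ?_, FT := ?_, VT := ?_,
           normal := h.nml, FK := ?_, RK := ?_, core := ?_, gen := ?_, genK := ?_, fratt := ?_ }
  · -- ER
    refine T_mem_of F σ (H := RR F σ ⊔ FF F σ) (le_sup_left (a := RR F σ) (hb ▸ hT01)) ?_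
      (le_sup_right (a := RR F σ) hT23) (le_sup_right (a := RR F σ) hT34)
    have h1 : F.T (σ 1) (σ 2) = F.toFr.z (σ 0) * F.T (σ 3) (σ 4) := by
      have h2 := TT_z F σ (a := 1) (b := 2) (c := 3) (d := 4) (i := 0) (by decide) (by decide)
        (by decide) (by decide) (by decide) (by decide) (by decide) (by decide) (by decide)
        (by decide)
      rw [← h2, mul_assoc, F.toFr.T_sq, mul_one]
    rw [h1]
    exact mul_mem (le_sup_left (a := RR F σ) hz0) (le_sup_right (a := RR F σ) hT34)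
  · -- F4
    exact card_four hT23ne hT34ne hT23T34
  · -- R4
    exact card_four (F.toFr.T_ne_one (ne (by decide))) (CoreClose.FrX.z_ne_one F _)
      (T_ne_z F (ne (by decide)) _)
  · -- TR
    rintro _ ⟨i, j, hij, rfl⟩ ha
    rcases (mem_RR F).1 ha with h1 | h1 | h1 | h1
    · exact (F.toFr.T_ne_one hij h1).elim
    · exact h1.trans hb.symm
    · exact (T_ne_z F hij _ h1).elim
    · exact (T_ne_z F hij _ h1).elim
  · -- FT
    intro f hf hf1
    rcases (mem_FF F).1 hf with h1 | h1 | h1 | h1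
    · exact (hf1 h1).elim
    all_goals exact ⟨_, _, ne (by decide), h1⟩
  · -- VT
    have key : ∀ c : Fin 5, (c = 2 ∨ c = 3 ∨ c = 4) → ∀ f : G,
        F.T (σ 1) (σ c) = F.toFr.z (σ 0) * f →
        ∃ V : Subgroup G, V ≤ RR F σ ⊔ zpowers f ∧ Nat.card V = 4 ∧ ∀ v ∈ V, v ≠ 1 → v ∈ TT F := by
      intro c hc f hcf
      have h1c : (1 : Fin 5) ≠ c := by rcases hc with rfl | rfl | rfl <;> decide
      have h0c : (0 : Fin 5) ≠ c := by rcases hc with rfl | rfl | rfl <;> decide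
      have h1 : F.T (σ 1) (σ c) ∈ RR F σ ⊔ zpowers f := by
        rw [hcf]
        exact mul_mem (le_sup_left (a := RR F σ) hz0) (le_sup_right (a := RR F σ) (mem_zpowers f))
      have h0 : F.T (σ 0) (σ 1) ∈ RR F σ ⊔ zpowers f := le_sup_left (a := RR F σ) (hb ▸ hT01)
      refine ⟨four (F.T (σ 0) (σ 1)) (F.T (σ 1) (σ c)) (F.toFr.T_sq _ _) (F.toFr.T_sq _ _)
        (F.toFr.comm _ _ _ _), ?_, ?_, ?_⟩
      · intro x hx
        rcases mem_four_iff.1 hx with h2 | h2 | h2 | h2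
        · rw [h2]; exact one_mem _
        · rw [h2]; exact h0
        · rw [h2]; exact h1
        · rw [h2]; exact mul_mem h0 h1
      · refine card_four (F.toFr.T_ne_one (ne (by decide))) (F.toFr.T_ne_one (ne h1c)) ?_
        intro h2
        apply F.toFr.T_ne_one (ne h0c)
        rw [← F.T_mul (σ 0) (σ 1) (σ c), h2]
        exact F.toFr.T_sq _ _
      · intro v hv hv1
        rcases mem_four_iff.1 hv with h2 | h2 | h2 | h2
        · exact (hv1 h2).elim
        · exact ⟨_, _, ne (by decide), h2⟩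
        · exact ⟨_, _, ne h1c, h2⟩
        · exact ⟨σ 0, σ c, ne h0c, by rw [h2, F.T_mul]⟩
    have aux : ∀ a c d : Fin 5, F.T (σ 1) (σ a) * F.T (σ c) (σ d) = F.toFr.z (σ 0) →
        F.T (σ 1) (σ a) = F.toFr.z (σ 0) * F.T (σ c) (σ d) := by
      intro a c d h1
      rw [← h1, mul_assoc, F.toFr.T_sq, mul_one]
    intro f hf hf1
    rcases (mem_FF F).1 hf with h1 | h1 | h1 | h1
    · exact (hf1 h1).elim
    · subst h1
      exact key 4 (by simp) _ (aux _ _ _ (TT_z F σ (by decide) (by decide) (by decide) (by decide)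
        (by decide) (by decide) (by decide) (by decide) (by decide) (by decide)))
    · subst h1
      exact key 2 (by simp) _ (aux _ _ _ (TT_z F σ (by decide) (by decide) (by decide) (by decide)
        (by decide) (by decide) (by decide) (by decide) (by decide) (by decide)))
    · subst h1
      exact key 3 (by simp) _ (aux _ _ _ (TT_z F σ (by decide) (by decide) (by decide) (by decide)
        (by decide) (by decide) (by decide) (by decide) (by decide) (by decide)))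
  · -- FK
    rintro x hx
    obtain ⟨y, hy, hyF, rfl⟩ := mem_bar_iff.1 hx
    exact hfJ y hyF
  · -- RK
    rintro x hx
    obtain ⟨y, hy, hyR, rfl⟩ := mem_bar_iff.1 hx
    rw [mem_centralizer_iff]
    intro j hj
    have hzz : mk b (F.toFr.z (σ 0)) h.zC * j = j * mk b (F.toFr.z (σ 0)) h.zC := h.zJ j hj
    have hbb : j * mk b b (hRE.trans hEb hT01) = mk b b (hRE.trans hEb hT01) * j :=
      commute_bar_b j _
    rcases (mem_RR F).1 hyR with h1 | h1 | h1 | h1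
    · subst h1
      have h2 : mk b 1 hy = 1 := map_one _
      show j * mk b 1 hy = mk b 1 hy * j
      rw [h2, one_mul, mul_one]
    · have h2 : mk b y hy = mk b b (hRE.trans hEb hT01) := mk_congr (h1.trans hb.symm) _ _
      show j * mk b y hy = mk b y hy * j
      rw [h2, hbb]
    · subst h1
      exact hzz.symm
    · have h3 : y = F.toFr.z (σ 0) * b := by rw [h1, hb, F.toFr.z_mul_T]
      have h2 : mk b y hy = mk b (F.toFr.z (σ 0)) h.zC * mk b b (hRE.trans hEb hT01) := by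
        rw [mk_congr h3 hy (h3 ▸ hy)]
        rfl
      show j * mk b y hy = mk b y hy * j
      rw [h2, ← mul_assoc, ← hzz, mul_assoc, hbb, ← mul_assoc]
  · -- core
    intro f hf hf1 D hD hDJ hn
    rw [commutator_eq_bot_iff_le_centralizer]
    intro d hd
    rw [mem_centralizer_iff]
    intro y hy
    obtain ⟨g, hg, hgF, rfl⟩ := mem_bar_iff.1 hy
    refine (facts_core h.facts (hfJ f hf) (hfne f hf hf1) (hfsq f hf) hD
      (fun d hd => (hDJ hd).1) ?_ ?_ d hd _ (hfJ g hgF) ?_).symm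
    · intro d hd
      exact (mem_cen_zpowers (hEb (hFE hf)) d).1 (hDJ hd).2
    · intro g hg hgf d hd
      exact CoreMain.le_normalizer_iff.1 hn g ⟨hg, (mem_cen_zpowers (hEb (hFE hf)) g).2 hgf⟩ d hd
    · rw [← map_mul, ← map_mul]
      congr 1
      exact Subtype.ext (EE_comm F g (hFE hgF) f (hFE hf))
  · -- gen
    intro D hD d hd
    rw [mem_centralizer_iff]
    have h1 : J ≤ centralizer ({d} : Set (Q b)) := by
      refine hgen' _ ?_
      intro f hf hf1 y hy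
      obtain ⟨D', hDD', hD'odd, hD'f, hn⟩ := hD f hf hf1
      rw [mem_centralizer_singleton_iff]
      refine (facts_Y h.facts h.nml (hfJ f hf) (hfne f hf hf1) (hfsq f hf) hD'odd ?_ ?_ d
        (hDD' hd) y hy).symm
      · intro d hd
        exact (mem_cen_zpowers (hEb (hFE hf)) d).1 (hD'f hd)
      · intro g hg hgf d hd
        exact CoreMain.le_normalizer_iff.1 hn g ⟨hg, (mem_cen_zpowers (hEb (hFE hf)) g).2 hgf⟩ d hd
    intro j hj
    exact mem_centralizer_singleton_iff.1 (h1 hj)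
  · -- genK
    refine hgen' _ ?_
    intro f hf hf1 y hy
    refine le_iSup (fun f : {f : G // f ∈ FF F σ ∧ f ≠ 1} =>
      J ⊓ centralizer (bar b (zpowers (f : G)) : Set (Q b))) ⟨f, hf, hf1⟩ ⟨y.2, ?_⟩
    exact (mem_cen_zpowers (hEb (hFE hf)) _).2 (congrArg Subtype.val (Y_le_cent hy))
  · -- fratt
    intro x _
    obtain ⟨j, hj, c, rfl, h1, h2⟩ := h.fratt x
    refine mul_mem (le_sup_left (a := J) hj) (le_sup_right (a := J) ?_)
    rw [mem_centralizer_iff]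
    intro y hy
    obtain ⟨g, hg, hgF, rfl⟩ := mem_bar_iff.1 hy
    rcases (mem_FF F).1 hgF with h3 | h3 | h3 | h3
    · subst h3
      have h4 : mk b 1 hg = 1 := map_one _
      show mk b 1 hg * c = c * mk b 1 hg
      rw [h4, one_mul, mul_one]
    · subst h3; exact h1.symm
    · subst h3; exact h2.symm
    · have h5 : g = F.T (σ 2) (σ 3) * F.T (σ 3) (σ 4) := by rw [h3, F.T_mul]
      have h4 : mk b g hg = mk b (F.T (σ 2) (σ 3)) h.t1C * mk b (F.T (σ 3) (σ 4)) h.t2C := by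
        rw [mk_congr h5 hg (h5 ▸ hg)]
        rfl
      show mk b g hg * c = c * mk b g hg
      rw [h4, mul_assoc, ← h2, ← mul_assoc, ← h1, mul_assoc]

/-- **Cores in the frame.** -/
theorem main [Finite G] (hO : pPrimeCore 2 G = ⊥)
    (hOO : ∀ X : Subgroup G, ¬ 2 ∣ Nat.card X → Group.IsSolvable X)
    {p : ℕ} {J : Subgroup (Q (F.T 0 1))}
    (h : CenOut (F.T 0 1) (F.T 2 3) (F.T 3 4) (F.toFr.z 0) p J) :
    ∀ t ∈ TT F, ⁅M t, EE F⁆ = ⊥ := by
  have hyp : CoreMain.Hyp (EE F) (TT F) :=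
    { pair := pair F
      card := card_EE F
      conj := conj_TT F
      loc := by
        rintro _ ⟨i, j, hij, rfl⟩
        obtain ⟨σ, h0, h1⟩ := Fr.exists_perm hij
        obtain ⟨n, hn⟩ := F.perm σ
        have h2 := h.conj n
        obtain ⟨J', h3⟩ : ∃ J' : Subgroup (Q (F.T (σ 0) (σ 1))), CenOut (F.T (σ 0) (σ 1))
            (F.T (σ 2) (σ 3)) (F.T (σ 3) (σ 4)) (F.toFr.z (σ 0)) p J' := by
          rw [← hn 0 1, ← hn 2 3, ← hn 3 4, ← F.toFr.z_conj hn 0]
          exact ⟨_, h2⟩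
        rw [← h0, ← h1]
        exact ⟨_, _, _, loc F σ rfl h3⟩ }
  intro t ht
  refine hyp.main hOO hO ?_ ht
  intro N hN hC
  refine F.close N ?_ ?_
  · intro c hc
    exact hC (F.T 0 1) (T_mem_TT F (by decide)) (mem_centralizer_singleton_iff.2 hc)
  · intro n hn
    exact hN (Ind_mem_normalizer F hn)

end Frame

end Cfsg.Agent.TypeLFive.CoreLoc
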