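import Mathlib
import Cfsg.Agent.SylowLFive.KFrame
import Cfsg.Agent.TypeLFive.CoreLoc
import Cfsg.Agent.TypeLFive.CoreLift

/-!
# From `C(t) / O(C(t))` to the frame with `J` and `K`

`CenK`: the structure of `X = C(t) / O(C(t))` at `t = t_01` (`J`, `K` normal subgroups of `X`, `P` a 2-subgroup of `C(t)`
with image in `K`).  Once `O(C(t))` centralises `E` (`CoreLoc.main`), `J` and `K` lift to normal subgroups of `C(t)`
centralising `O(C(t))`, and all fields of `SylowLFive.KFrame.JK` hold.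
-/

set_option autoImplicit false
set_option linter.unusedSectionVars false
set_option linter.unusedVariables false

namespace Cfsg.Agent.TypeLFive.CoreOut

open Subgroup hiding mk
open Cfsg
open Cfsg.Agent.SignalizersComponents
open Cfsg.Agent.SignalizersComponents.GoldschmidtFunctor
open Cfsg.Agent.TypeLFive.CoreBalance
open Cfsg.Agent.TypeLFive.CoreMain
open Cfsg.Agent.TypeLFive.CoreClose
open Cfsg.Agent.TypeLFive.CoreLoc
open Cfsg.Agent.TypeLFive.CoreLift
open Cfsg.Agent.SylowLFive.Frame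
open Cfsg.Agent.SylowLFive.KFrame
open scoped commutatorElement

universe u

variable {G : Type u} [Group G]

/-- commutators are not changed by commuting factors -/
theorem commutator_mul_mul {x y m n : G} (h1 : m * x = x * m) (h3 : n * x = x * n)
    (h4 : n * y = y * n) (h5 : m * (y * n) = (y * n) * m) : ⁅x * m, y * n⁆ = ⁅x, y⁆ := by
  rw [commutatorElement_def, commutatorElement_def, mul_inv_rev, mul_inv_rev]
  calc x * m * (y * n) * (m⁻¹ * x⁻¹) * (n⁻¹ * y⁻¹)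
      = x * (m * (y * n)) * m⁻¹ * x⁻¹ * n⁻¹ * y⁻¹ := by group
    _ = x * ((y * n) * m) * m⁻¹ * x⁻¹ * n⁻¹ * y⁻¹ := by rw [h5]
    _ = x * y * (n * x⁻¹) * n⁻¹ * y⁻¹ := by group
    _ = x * y * (x⁻¹ * n) * n⁻¹ * y⁻¹ := by
        have : n * x⁻¹ = x⁻¹ * n := by
          rw [eq_inv_mul_iff_mul_eq, ← mul_assoc, ← h3, mul_inv_cancel_right]
        rw [this]
    _ = x * y * x⁻¹ * y⁻¹ := by group

/-- The structure of `C(t) / O(C(t))`, `t = t_01`. -/
structure CenK (F : FrX G) (p : ℕ) (J K : Subgroup (Q (F.T 0 1))) (P : Subgroup G) (w : G) :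
    Prop where
  out : CenOut (F.T 0 1) (F.T 2 3) (F.T 3 4) (F.toFr.z 0) p J
  simple : IsSimpleGroup ↥J
  nonab : ¬ IsMulCommutative ↥J
  K_nml : K.Normal
  kj : ∀ k ∈ K, ∀ j ∈ J, k * j = j * k
  P2 : IsPGroup 2 P
  PC : P ≤ centralizer ({F.T 0 1} : Set G)
  PK : bar (F.T 0 1) P ≤ K
  w01 : w * F.T 0 1 * w⁻¹ = F.T 2 3
  w23 : w * F.T 2 3 * w⁻¹ = F.T 0 1
  wP : ∀ x ∈ P, ∃ h : w * x * w⁻¹ ∈ centralizer ({F.T 0 1} : Set G),
    mk (F.T 0 1) (w * x * w⁻¹) h ∈ J
  cov : ∀ N : Subgroup (Q (F.T 0 1)), N.Normal → bar (F.T 0 1) (EE F) ≤ N → K ≤ N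

section

variable {F : FrX G} {p : ℕ} {J K : Subgroup (Q (F.T 0 1))} {P : Subgroup G} {w : G}

theorem EE_le_cen : EE F ≤ centralizer ({F.T 0 1} : Set G) := fun x hx =>
  mem_centralizer_singleton_iff.2 (EE_comm F x hx _ (T_mem_EE F 0 1))

theorem mem_cen {x : G} : x ∈ centralizer ({F.T 0 1} : Set G) ↔ x * F.T 0 1 = F.T 0 1 * x :=
  mem_centralizer_singleton_iff

section core

variable (hE : ⁅M (F.T 0 1), EE F⁆ = ⊥)

include hE

theorem comm_M {m e : G} (hm : m ∈ M (F.T 0 1)) (he : e ∈ EE F) : m * e = e * m := by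
  rw [commutator_eq_bot_iff_le_centralizer] at hE
  exact (mem_centralizer_iff.1 (hE hm) e he).symm

theorem EE_le_C0 : EE F ≤ C0 (F.T 0 1) := by
  intro e he
  refine mem_C0.2 ⟨EE_le_cen he, ?_⟩
  rw [mem_centralizer_iff]
  intro m hm
  exact comm_M hE hm he

end core

theorem bar_C0_normal [Finite G] (b : G) : (bar b (C0 b)).Normal := by
  constructor
  intro x hx g
  obtain ⟨c, rfl⟩ := QuotientGroup.mk'_surjective _ g
  obtain ⟨y, hy, hyC, rfl⟩ := mem_bar_iff.1 hx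
  have h1 := CoreMain.le_normalizer_iff.1 (cen_le_nC0 b) c c.2 y hyC
  exact mem_bar (C0_le b h1) h1

theorem bar_mono [Finite G] {b : G} {A B : Subgroup G} (h : A ≤ B) : bar b A ≤ bar b B := by
  intro x hx
  obtain ⟨y, hy, hyA, rfl⟩ := mem_bar_iff.1 hx
  exact mem_bar hy (h hyA)

theorem mk_eq_one_iff {b x : G} (hx : x ∈ centralizer ({b} : Set G)) :
    mk b x hx = 1 ↔ x ∈ M b := by
  rw [mk, QuotientGroup.mk'_apply, QuotientGroup.eq_one_iff]
  constructor
  · intro h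
    exact ⟨_, h, rfl⟩
  · rintro ⟨z, hz, hzx⟩
    have : z = (⟨x, hx⟩ : ↥(centralizer ({b} : Set G))) := Subtype.ext hzx
    rw [← this]
    exact hz

theorem not_mem_M [Finite G] {b x : G} (h1 : x ≠ 1) (h2 : x * x = 1) : x ∉ M b := by
  intro h
  have h3 : orderOf x = 2 := orderOf_eq_prime (by rw [pow_two]; exact h2) h1
  apply M_odd b
  rw [← h3, ← Subgroup.orderOf_mk x h]
  exact orderOf_dvd_natCard _

/-- elements of odd order group with trivial square are trivial -/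
theorem eq_one_of_mem_M [Finite G] {b x : G} (h : x ∈ M b) (h2 : x * x = 1) : x = 1 := by
  by_contra h1
  exact not_mem_M h1 h2 h

variable [Finite G] (H : CenK F p J K P w) (hE : ⁅M (F.T 0 1), EE F⁆ = ⊥)

include H in
theorem J_perf : ⁅J, J⁆ = J := by
  have hs := H.simple
  have hn : (commutator ↥J).Normal := inferInstance
  have key : (commutator ↥J).map J.subtype = ⁅J, J⁆ := by
    rw [_root_.commutator_def, Subgroup.map_commutator, ← MonoidHom.range_eq_map,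
      Subgroup.range_subtype]
  rcases hn.eq_bot_or_eq_top with h | h
  · exfalso
    apply H.nonab
    constructor
    constructor
    intro a b
    have h1 : ⁅a, b⁆ ∈ commutator ↥J := by
      rw [_root_.commutator_def]
      exact commutator_mem_commutator (mem_top _) (mem_top _)
    rw [h, mem_bot] at h1
    exact commutatorElement_eq_one_iff_mul_comm.1 h1
  · rw [← key, h, ← MonoidHom.range_eq_map, Subgroup.range_subtype]

include H hE in
theorem J_le : J ≤ bar (F.T 0 1) (C0 (F.T 0 1)) := by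
  have hs := H.simple
  have hn : ((bar (F.T 0 1) (C0 (F.T 0 1))).subgroupOf J).Normal :=
    (bar_C0_normal (F.T 0 1)).subgroupOf J
  rcases hn.eq_bot_or_eq_top with h | h
  · exfalso
    have h1 : (⟨mk (F.T 0 1) (F.T 2 3) H.out.t1C, H.out.t1J⟩ : J) ∈
        (bar (F.T 0 1) (C0 (F.T 0 1))).subgroupOf J := by
      rw [mem_subgroupOf]
      exact mem_bar H.out.t1C (EE_le_C0 hE (T_mem_EE F 2 3))
    rw [h, mem_bot] at h1
    have h2 : mk (F.T 0 1) (F.T 2 3) H.out.t1C = 1 := congrArg Subtype.val h1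
    exact not_mem_M (F.toFr.T_ne_one (by decide)) (F.toFr.T_sq 2 3) ((mk_eq_one_iff _).1 h2)
  · intro x hx
    have h1 : (⟨x, hx⟩ : J) ∈ (bar (F.T 0 1) (C0 (F.T 0 1))).subgroupOf J := by rw [h]; trivial
    exact h1

include H hE in
theorem K_le_C0 : K ≤ bar (F.T 0 1) (C0 (F.T 0 1)) :=
  H.cov _ (bar_C0_normal _) (bar_mono (EE_le_C0 hE))

/-- the lift of `J` -/
def JG (_H : CenK F p J K P w) : Subgroup G := lft (F.T 0 1) J

include hE in
theorem mem_JG {x : G} (hx : x ∈ centralizer ({F.T 0 1} : Set G)) (hxJ : mk (F.T 0 1) x hx ∈ J)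
    {k : ℕ} (hk : x ^ 2 ^ k = 1) : x ∈ JG H :=
  mem_lft_of_pow (J_le H hE) (J_perf H) hx hxJ hk

theorem JG_le : JG H ≤ centralizer ({F.T 0 1} : Set G) := lft_le _ _

theorem JG_nml {c x : G} (hc : c ∈ centralizer ({F.T 0 1} : Set G)) (hx : x ∈ JG H) :
    c * x * c⁻¹ ∈ JG H :=
  CoreMain.le_normalizer_iff.1 (cen_le_nlft _ H.out.nml) c hc x hx

include hE in
theorem T23_mem : F.T 2 3 ∈ JG H :=
  mem_JG H hE H.out.t1C H.out.t1J (k := 1) (by rw [pow_one, pow_two, F.toFr.T_sq])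

include hE in
theorem T34_mem : F.T 3 4 ∈ JG H :=
  mem_JG H hE H.out.t2C H.out.t2J (k := 1) (by rw [pow_one, pow_two, F.toFr.T_sq])

include hE in
theorem comm_of_mk {y t : G} (hy : y ∈ centralizer ({F.T 0 1} : Set G)) (ht : t ∈ EE F)
    (h : mk (F.T 0 1) y hy * mk (F.T 0 1) t (EE_le_cen ht) =
      mk (F.T 0 1) t (EE_le_cen ht) * mk (F.T 0 1) y hy) : y * t = t * y := by
  have htC := EE_le_cen ht
  have h1 : cl (F.T 0 1) (t * y) (mul_mem htC hy) = cl (F.T 0 1) (y * t) (mul_mem hy htC) :=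
    h.symm
  have h2 : (t * y)⁻¹ * (y * t) ∈ M (F.T 0 1) := (cl_eq_iff _ _).1 h1
  -- `y t y⁻¹ = t m`
  set m : G := t⁻¹ * (y * t * y⁻¹) with hm
  have hmM : m ∈ M (F.T 0 1) := by
    have h3 := CoreMain.le_normalizer_iff.1 (cen_le_normalizer_M (F.T 0 1)) y hy _ h2
    have e : y * ((t * y)⁻¹ * (y * t)) * y⁻¹ = m := by rw [hm]; group
    rwa [e] at h3
  have hmt : m * t = t * m := comm_M hE hmM ht
  have htt : t * t = 1 := EE_sq F t ht
  have h4 : (t * m) * (t * m) = 1 := by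
    have e : t * m = y * t * y⁻¹ := by rw [hm]; group
    rw [e]
    calc y * t * y⁻¹ * (y * t * y⁻¹) = y * (t * t) * y⁻¹ := by group
      _ = 1 := by rw [htt]; group
  have h5 : m * m = 1 := by
    calc m * m = (t * t) * (m * m) := by rw [htt, one_mul]
      _ = t * (t * m) * m := by group
      _ = t * (m * t) * m := by rw [hmt]
      _ = (t * m) * (t * m) := by group
      _ = 1 := h4
  have h6 := eq_one_of_mem_M hmM h5
  rw [hm] at h6
  have h7 : y * t * y⁻¹ = t := by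
    calc y * t * y⁻¹ = t * (t⁻¹ * (y * t * y⁻¹)) := by group
      _ = t := by rw [h6, mul_one]
  exact mul_inv_eq_iff_eq_mul.1 h7

include hE in
theorem decomp {c : G} (hc : c ∈ centralizer ({F.T 0 1} : Set G)) :
    ∃ j ∈ JG H, ∃ x, c = j * x ∧ x * F.T 2 3 = F.T 2 3 * x ∧ x * F.T 3 4 = F.T 3 4 * x := by
  obtain ⟨j', hj', c', h1, h2, h3⟩ := H.out.fratt (mk (F.T 0 1) c hc)
  have h4 : j' ∈ bar (F.T 0 1) (lft (F.T 0 1) J) := by
    rw [bar_lft (J_le H hE) (J_perf H)]; exact hj'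
  obtain ⟨j, hj, hjl, rfl⟩ := mem_bar_iff.1 h4
  have hx : j⁻¹ * c ∈ centralizer ({F.T 0 1} : Set G) := mul_mem (inv_mem hj) hc
  have h5 : mk (F.T 0 1) (j⁻¹ * c) hx = c' := by
    have : mk (F.T 0 1) (j⁻¹ * c) hx = (mk (F.T 0 1) j hj)⁻¹ * mk (F.T 0 1) c hc := rfl
    rw [this, h1, inv_mul_cancel_left]
  refine ⟨j, hjl, j⁻¹ * c, by group, ?_, ?_⟩
  · refine comm_of_mk hE hx (T_mem_EE F 2 3) ?_
    rw [h5]; exact h2
  · refine comm_of_mk hE hx (T_mem_EE F 3 4) ?_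
    rw [h5]; exact h3

/-- an element of `C0` centralising `J` modulo the core centralises `JG` -/
theorem JG_comm_of {x : G} (hx : x ∈ C0 (F.T 0 1))
    (hc : ∀ j ∈ J, j * mk (F.T 0 1) x (C0_le _ hx) = mk (F.T 0 1) x (C0_le _ hx) * j)
    (hE : ⁅M (F.T 0 1), EE F⁆ = ⊥) : ∀ j ∈ JG H, j * x = x * j := by
  intro j hj
  have hz : zpowers x ≤ C0 (F.T 0 1) := by rw [zpowers_le]; exact hx
  refine lft_comm (J_le H hE) (J_perf H) hz ?_ j hj x (mem_zpowers x)
  intro n hn h hh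
  obtain ⟨k, rfl⟩ := mem_zpowers_iff.1 hh
  have h1 : cl (F.T 0 1) (x ^ k) (C0_le _ (hz hh)) = mk (F.T 0 1) x (C0_le _ hx) ^ k := by
    rw [← map_zpow]
    congr 1
  rw [h1]
  exact (Commute.zpow_right (show Commute n (mk (F.T 0 1) x (C0_le _ hx)) from hc n hn) k).eq

include hE in
/-- (R) -/
theorem z_comm : ∀ j ∈ JG H, j * F.toFr.z 0 = F.toFr.z 0 * j :=
  JG_comm_of H (EE_le_C0 hE (z_mem_EE F 0)) (fun j hj => (H.out.zJ j hj).symm) hE

theorem M_comm_JG {m j : G} (hm : m ∈ M (F.T 0 1)) (hj : j ∈ JG H) : m * j = j * m :=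
  M_comm_pre hm (lft_le_pre _ _ hj)

include hE in
/-- central elements of `JG` are in the core -/
theorem center_JG {x : G} (hx : x ∈ JG H) (hc : ∀ j ∈ JG H, x * j = j * x) :
    x ∈ M (F.T 0 1) := by
  have hxC := JG_le H hx
  have hxJ : mk (F.T 0 1) x hxC ∈ J := (mem_pre.1 (lft_le_pre _ _ hx)).2.2
  rw [← mk_eq_one_iff hxC]
  have hs := H.simple
  have h1 : (⟨mk (F.T 0 1) x hxC, hxJ⟩ : J) ∈ center J := by
    rw [mem_center_iff]
    rintro ⟨j', hj'⟩
    have h4 : j' ∈ bar (F.T 0 1) (lft (F.T 0 1) J) := by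
      rw [bar_lft (J_le H hE) (J_perf H)]; exact hj'
    obtain ⟨j, hj, hjl, rfl⟩ := mem_bar_iff.1 h4
    apply Subtype.ext
    show mk (F.T 0 1) j hj * mk (F.T 0 1) x hxC = mk (F.T 0 1) x hxC * mk (F.T 0 1) j hj
    rw [← map_mul, ← map_mul]
    congr 1
    exact Subtype.ext (hc j hjl).symm
  rcases (inferInstance : (center J).Normal).eq_bot_or_eq_top with h | h
  · rw [h, mem_bot] at h1
    exact congrArg Subtype.val h1
  · exfalso
    apply H.nonab
    constructor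
    constructor
    intro a b
    have h2 : b ∈ center J := by rw [h]; trivial
    exact mem_center_iff.1 h2 a

include hE in
/-- `w y w⁻¹ ∈ JG` for `y ∈ P` -/
theorem wP_mem {y : G} (hy : y ∈ P) : w * y * w⁻¹ ∈ JG H := by
  obtain ⟨h1, h2⟩ := H.wP y hy
  obtain ⟨k, hk⟩ := H.P2 ⟨y, hy⟩
  have hk' : y ^ 2 ^ k = 1 := congrArg Subtype.val hk
  refine mem_JG H hE h1 h2 (k := k) ?_
  rw [conj_pow, hk']
  group

include H in
theorem comm_w {x : G} (h : x * F.T 2 3 = F.T 2 3 * x) :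
    w * x * w⁻¹ ∈ centralizer ({F.T 0 1} : Set G) := by
  rw [mem_centralizer_singleton_iff]
  have h1 : F.T 0 1 = w * F.T 2 3 * w⁻¹ := H.w23.symm
  rw [h1]
  calc w * x * w⁻¹ * (w * F.T 2 3 * w⁻¹) = w * (x * F.T 2 3) * w⁻¹ := by group
    _ = w * (F.T 2 3 * x) * w⁻¹ := by rw [h]
    _ = w * F.T 2 3 * w⁻¹ * (w * x * w⁻¹) := by group

/-- the frame with `J` and any suitable `K` -/
def mkJK {KG : Subgroup G} (h1 : KG ≤ centralizer ({F.T 0 1} : Set G))
    (h2 : ∀ c ∈ centralizer ({F.T 0 1} : Set G), ∀ k ∈ KG, c * k * c⁻¹ ∈ KG)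
    (h3 : ∀ k ∈ KG, ∀ j ∈ JG H, k * j = j * k) (h4 : ∀ k ∈ KG, w * k * w⁻¹ ∈ JG H) : JK G :=
  { F with
    J := JG H
    J_comm := fun j hj => mem_cen.1 (JG_le H hj)
    J_nml := fun c hc j hj => JG_nml H (mem_cen.2 hc) hj
    T23 := T23_mem H hE
    T34 := T34_mem H hE
    decomp := fun c hc => decomp H hE (mem_cen.2 hc)
    K := KG
    K_comm := fun k hk => mem_cen.1 (h1 hk)
    K_nml := fun c hc k hk => h2 c (mem_cen.2 hc) k hk
    K_J := h3
    K_le := by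
      intro x hx
      have h5 := (F.toFr.mem_tr_iff (H := KG) (fun c hc k hk => h2 c (mem_cen.2 hc) k hk)
        H.w01).1 hx
      have h6 := h4 _ h5
      have e : w * (w⁻¹ * x * w) * w⁻¹ = x := by group
      rwa [e] at h6 }

/-! ### `q = 3`: `K = P` -/

section three

variable (KP : K = bar (F.T 0 1) P)

include H hE in
theorem P_le_pre : P ≤ pre (F.T 0 1) K := by
  intro x hx
  obtain ⟨k, hk⟩ := H.P2 ⟨x, hx⟩
  have hk' : x ^ 2 ^ k = 1 := congrArg Subtype.val hk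
  exact mem_pre_of_pow (K_le_C0 H hE) (H.PC hx) (H.PK (mem_bar (H.PC hx) hx)) hk'

include H KP hE in
theorem P_nml {c x : G} (hc : c ∈ centralizer ({F.T 0 1} : Set G)) (hx : x ∈ P) :
    c * x * c⁻¹ ∈ P := by
  have h1 := CoreMain.le_normalizer_iff.1 (cen_le_npre _ H.K_nml) c hc x (P_le_pre H hE hx)
  obtain ⟨h2, h3, h4⟩ := mem_pre.1 h1
  have h5 : CoreLoc.mk (F.T 0 1) (c * x * c⁻¹) h2 ∈ bar (F.T 0 1) P := by rw [← KP]; exact h4
  obtain ⟨y, hy, hyP, hyx⟩ := mem_bar_iff.1 h5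
  obtain ⟨k, hk⟩ := H.P2 ⟨x, hx⟩
  have hk' : x ^ 2 ^ k = 1 := congrArg Subtype.val hk
  have h6 : y⁻¹ * (c * x * c⁻¹) ∈ M (F.T 0 1) := (cl_eq_iff hy h2).1 hyx
  refine mem_of_mul (y := y) (m := y⁻¹ * (c * x * c⁻¹)) hyP h6 ?_ (by group) (k := k) ?_
  · exact (M_comm_pre h6 (P_le_pre H hE hyP)).symm
  · rw [conj_pow, hk']; group

include hE in
theorem P_comm_JG : ∀ k ∈ P, ∀ j ∈ JG H, k * j = j * k := by
  intro k hk j hj
  have hkC := pre_le_C0 _ _ (P_le_pre H hE hk)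
  refine (JG_comm_of H hkC ?_ hE j hj).symm
  intro j hj
  exact (H.kj _ (H.PK (mem_bar (C0_le _ hkC) hk)) j hj).symm

/-- **`q = 3`** -/
def JK3 : JK G :=
  mkJK H hE H.PC (fun c hc k hk => P_nml H hE KP hc hk) (P_comm_JG H hE)
    (fun k hk => wP_mem H hE hk)

theorem JK3_toFrX : (JK3 H hE KP).toFrX = F := rfl

theorem JK3_J : (JK3 H hE KP).J = JG H := rfl

theorem JK3_K : (JK3 H hE KP).K = P := rfl

end three

/-! ### `q > 3`: `K` perfect -/

section big

variable (perf : ⁅K, K⁆ = K)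
  (gen : ∀ N ≤ K, (∀ k ∈ K, ∀ n ∈ N, k * n * k⁻¹ ∈ N) → bar (F.T 0 1) P ≤ N → N = K)

/-- the lift of `K` -/
def KG (_H : CenK F p J K P w) : Subgroup G := lft (F.T 0 1) K

theorem KG_le : KG H ≤ centralizer ({F.T 0 1} : Set G) := lft_le _ _

theorem KG_nml {c x : G} (hc : c ∈ centralizer ({F.T 0 1} : Set G)) (hx : x ∈ KG H) :
    c * x * c⁻¹ ∈ KG H :=
  CoreMain.le_normalizer_iff.1 (cen_le_nlft _ H.K_nml) c hc x hx

theorem M_comm_KG {m j : G} (hm : m ∈ M (F.T 0 1)) (hj : j ∈ KG H) : m * j = j * m :=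
  M_comm_pre hm (lft_le_pre _ _ hj)

include perf hE in
theorem KG_perf : ⁅KG H, KG H⁆ = KG H := lft_perfect (K_le_C0 H hE) perf

include hE in
theorem JG_perf : ⁅JG H, JG H⁆ = JG H := lft_perfect (J_le H hE) (J_perf H)

include perf hE in
theorem P_le_KG : P ≤ KG H := by
  intro x hx
  obtain ⟨k, hk⟩ := H.P2 ⟨x, hx⟩
  have hk' : x ^ 2 ^ k = 1 := congrArg Subtype.val hk
  exact mem_lft_of_pow (K_le_C0 H hE) perf (H.PC hx) (H.PK (mem_bar (H.PC hx) hx)) hk'

include perf hE in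
theorem KG_comm_JG : ∀ k ∈ KG H, ∀ j ∈ JG H, k * j = j * k := by
  intro k hk j hj
  refine lft_comm (K_le_C0 H hE) perf (H := JG H) ((lft_le_pre _ _).trans (pre_le_C0 _ _)) ?_
    k hk j hj
  intro n hn h hh
  exact H.kj n hn _ (mem_pre.1 (lft_le_pre _ _ hh)).2.2

include perf gen hE in
/-- `KG` is generated by the conjugates of `P` -/
theorem KG_gen : KG H ≤ Subgroup.closure {x | ∃ k ∈ KG H, ∃ y ∈ P, x = k * y * k⁻¹} := by
  set L : Subgroup G := Subgroup.closure {x | ∃ k ∈ KG H, ∃ y ∈ P, x = k * y * k⁻¹} with hL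
  have hPK := P_le_KG H hE perf
  have hLK : L ≤ KG H := by
    rw [hL, closure_le]
    rintro _ ⟨k, hk, y, hy, rfl⟩
    exact mul_mem (mul_mem hk (hPK hy)) (inv_mem hk)
  have hPL : P ≤ L := by
    intro y hy
    exact subset_closure ⟨1, one_mem _, y, hy, by group⟩
  have hLn : ∀ k ∈ KG H, ∀ l ∈ L, k * l * k⁻¹ ∈ L := by
    intro k hk
    have h1 : L ≤ L.comap (MulAut.conj k).toMonoidHom := by
      conv_lhs => rw [hL]
      rw [closure_le]
      rintro _ ⟨k', hk', y, hy, rfl⟩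
      refine subset_closure ⟨k * k', mul_mem hk hk', y, hy, ?_⟩
      show k * (k' * y * k'⁻¹) * k⁻¹ = _
      group
    exact fun l hl => h1 hl
  -- `bar L = K`
  have hbK : bar (F.T 0 1) (KG H) = K := bar_lft (K_le_C0 H hE) perf
  have hbL : bar (F.T 0 1) L = K := by
    refine gen _ ?_ ?_ (bar_mono hPL)
    · rw [← hbK]; exact bar_mono hLK
    · intro k hk n hn
      rw [← hbK] at hk
      obtain ⟨k', hkC, hk', rfl⟩ := mem_bar_iff.1 hk
      obtain ⟨n', hnC, hn', rfl⟩ := mem_bar_iff.1 hn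
      exact mem_bar (mul_mem (mul_mem hkC hnC) (inv_mem hkC)) (hLn k' hk' n' hn')
  have key : ∀ x ∈ KG H, ∃ l ∈ L, ∃ m ∈ M (F.T 0 1), x = l * m := by
    intro x hx
    have hxC := KG_le H hx
    have h1 : CoreLoc.mk (F.T 0 1) x hxC ∈ bar (F.T 0 1) L := by
      rw [hbL, ← hbK]; exact mem_bar hxC hx
    obtain ⟨l, hl, hlL, hlx⟩ := mem_bar_iff.1 h1
    exact ⟨l, hlL, l⁻¹ * x, (cl_eq_iff hl hxC).1 hlx, by group⟩
  have hp := KG_perf H hE perf
  conv_lhs => rw [← hp]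
  rw [commutator_le]
  intro x hx y hy
  obtain ⟨x', hx', m, hm, rfl⟩ := key x hx
  obtain ⟨y', hy', n, hn, rfl⟩ := key y hy
  rw [commutator_mul_mul (M_comm_KG H hm (hLK hx')) (M_comm_KG H hn (hLK hx'))
    (M_comm_KG H hn (hLK hy')) (M_comm_KG H hm hy)]
  exact (commutator_le_self L) (commutator_mem_commutator hx' hy')

include perf gen hE in
theorem KG_conj {k : G} (hk : k ∈ KG H) : w * k * w⁻¹ ∈ JG H := by
  have h1 : Subgroup.closure {x | ∃ k ∈ KG H, ∃ y ∈ P, x = k * y * k⁻¹} ≤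
      (JG H).comap (MulAut.conj w).toMonoidHom := by
    rw [closure_le]
    rintro _ ⟨k, hk, y, hy, rfl⟩
    show w * (k * y * k⁻¹) * w⁻¹ ∈ JG H
    have h2 : w * k * w⁻¹ ∈ centralizer ({F.T 0 1} : Set G) :=
      comm_w H (KG_comm_JG H hE perf k hk _ (T23_mem H hE))
    have h3 := JG_nml H h2 (wP_mem H hE hy)
    have e : w * (k * y * k⁻¹) * w⁻¹ = w * k * w⁻¹ * (w * y * w⁻¹) * (w * k * w⁻¹)⁻¹ := by group
    rw [e]; exact h3
  exact h1 (KG_gen H hE perf gen hk)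

/-- **`q > 3`** -/
def JKB : JK G :=
  mkJK H hE (KG_le H) (fun c hc k hk => KG_nml H hc hk) (KG_comm_JG H hE perf)
    (fun k hk => KG_conj H hE perf gen hk)

theorem JKB_toFrX : (JKB H hE perf gen).toFrX = F := rfl

theorem JKB_J : (JKB H hE perf gen).J = JG H := rfl

theorem JKB_K : (JKB H hE perf gen).K = KG H := rfl

end big

/-! ### reduction modulo the core -/

/-- reduction modulo the core -/
def red (b : G) (N : Subgroup (Q b)) : lft b N →* N where
  toFun x := ⟨CoreLoc.mk b x (lft_le b N x.2), (mem_pre.1 (lft_le_pre b N x.2)).2.2⟩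
  map_one' := rfl
  map_mul' _ _ := rfl

theorem red_surj {b : G} {N : Subgroup (Q b)} (hNC : N ≤ bar b (C0 b)) (hNp : ⁅N, N⁆ = N) :
    Function.Surjective (red b N) := by
  rintro ⟨x, hx⟩
  have h1 : x ∈ bar b (lft b N) := by rw [bar_lft hNC hNp]; exact hx
  obtain ⟨y, hy, hyl, hyx⟩ := mem_bar_iff.1 h1
  exact ⟨⟨y, hyl⟩, Subtype.ext hyx⟩

theorem red_eq_one_iff {b : G} {N : Subgroup (Q b)} (x : lft b N) :
    red b N x = 1 ↔ (x : G) ∈ M b := by
  rw [← mk_eq_one_iff (lft_le b N x.2)]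
  exact ⟨fun h => congrArg Subtype.val h, fun h => Subtype.ext h⟩

theorem red_ker_center (b : G) (N : Subgroup (Q b)) : (red b N).ker ≤ center (lft b N) := by
  intro x hx
  rw [MonoidHom.mem_ker, red_eq_one_iff] at hx
  rw [mem_center_iff]
  intro y
  exact Subtype.ext (M_comm_pre hx (lft_le_pre b N y.2)).symm

theorem red_ker_odd (b : G) (N : Subgroup (Q b)) : Odd (Nat.card (red b N).ker) := by
  have h1 : (red b N).ker = (M b).subgroupOf (lft b N) := by
    ext x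
    rw [MonoidHom.mem_ker, red_eq_one_iff]
    rfl
  rw [h1]
  have h2 : Nat.card ((M b).subgroupOf (lft b N)) ∣ Nat.card (M b) :=
    card_comap_dvd_of_injective (M b) (lft b N).subtype (lft b N).subtype_injective
  exact Nat.not_even_iff_odd.1 fun h => M_odd b (h.two_dvd.trans h2)

include H hE in
theorem red_J_surj : Function.Surjective (red (F.T 0 1) J) :=
  red_surj (J_le H hE) (J_perf H)

include H hE in
theorem red_K_surj (perf : ⁅K, K⁆ = K) : Function.Surjective (red (F.T 0 1) K) :=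
  red_surj (K_le_C0 H hE) perf

include H hE in
/-- central elements of `J_G` centralise the frame -/
theorem center_JG_comm {x : G} (hx : x ∈ JG H) (hc : ∀ j ∈ JG H, x * j = j * x) (i j : Fin 5) :
    x * F.T i j = F.T i j * x :=
  comm_M hE (center_JG H hE hx hc) (T_mem_EE F i j)

end

end Cfsg.Agent.TypeLFive.CoreOut
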