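import Mathlib
import Cfsg.Agent.TypeLFive.Model

/-!
# Facts on the component `W` (semidihedral or wreathed)
-/

set_option autoImplicit false

namespace Cfsg.Agent.TypeLFive.Facts

open Cfsg.Agent.TwoFusion.QDBasic Cfsg.Agent.TwoFusion.WreathedBasic
open scoped commutatorElement

/-- The facts on `W` used in both cases. -/
structure WBase {W : Type*} [Group W] (ζ : W) : Prop where
  finite : Finite W
  pgroup : IsPGroup 2 W
  ne : ζ ≠ 1
  sq : ζ * ζ = 1
  central : ∀ x, ζ * x = x * ζ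
  uniq : ∀ x, (∀ y, x * y = y * x) → x * x = 1 → x = 1 ∨ x = ζ
  comm1 : ∃ x : W, (∀ y, x * y = y * x ∨ x * y = ζ * (y * x)) ∧ ∃ y, x * y = ζ * (y * x)
  derived_inv : ∀ c ∈ commutator W, c * c = 1 → c = 1 ∨ c = ζ
  derived_four : ∃ c ∈ commutator W, c * c = ζ
  cent_abelian : ∀ x : W, x * x = 1 → x ≠ 1 → x ≠ ζ → ∀ v v', v * x = x * v → v' * x = x * v' →
    v * v' = v' * v

/-! ### the semidihedral case -/

section SD

variable {W : Type*} [Group W] {n : ℕ} {u : ZMod (2 ^ n) → W} {y : W}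

theorem sd_two_ne (h : IsQDCoord n u y) (c : ZMod (2 ^ n)) :
    2 * (2 * c + 1) ≠ (2 : ZMod (2 ^ n)) ^ (n - 1) := by
  intro hc
  have h3 := h.three_le
  obtain ⟨m, rfl⟩ : ∃ m, n = m + 3 := ⟨n - 3, by omega⟩
  have e : (2 : ZMod (2 ^ (m + 3))) ^ (m + 3 - 1) = 2 * 2 ^ (m + 1) := by
    rw [← pow_succ']; congr 1
  rw [e] at hc
  have h4 : 2 * (2 * c + 1 - 2 ^ (m + 1)) = (0 : ZMod (2 ^ (m + 3))) := by
    linear_combination hc
  have e5 : (2 : ZMod (2 ^ (m + 3))) ^ (m + 1) = 2 * 2 ^ m := pow_succ' 2 m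
  rcases (two_mul_eq_zero_iff _ (by omega) _).1 h4 with h5 | h5
  · apply two_mul_ne_two_mul_add_one (m + 3) (by omega) (2 ^ m) c
    linear_combination h5 * (-1) - e5
  · apply two_mul_ne_two_mul_add_one (m + 3) (by omega) (2 ^ m + 2 ^ (m + 1)) c
    rw [e] at h5
    linear_combination h5 * (-1) - e5

theorem sd_u_comm_uy_iff (h : IsQDCoord n u y) (c a : ZMod (2 ^ n)) :
    u c * (u a * y) = u a * y * u c ↔ c = 0 ∨ c = 2 ^ (n - 1) := by
  rw [h.u_mul_uy, h.uy_mul_u, mul_left_inj, h.u_eq_iff]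
  constructor
  · intro h1
    have h2 : 2 * c = 2 ^ (n - 1) * c := by linear_combination h1
    rcases even_or_odd' n c with ⟨b, rfl⟩ | ⟨b, rfl⟩
    · have h3 : (2 : ZMod (2 ^ n)) ^ (n - 1) * (2 * b) = 0 := by
        have := two_mul_half n h.one_le
        linear_combination b * this
      rw [h3] at h2
      exact (two_mul_eq_zero_iff n h.one_le _).1 h2
    · rw [half_mul_odd n h.one_le] at h2
      exact absurd h2 (sd_two_ne h b)
  · have := half_mul_half n h.two_le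
    have h2 := two_mul_half n h.one_le
    rintro (rfl | rfl)
    · ring
    · linear_combination h2 - this

theorem sd_zeta_central (h : IsQDCoord n u y) (x : W) :
    u (2 ^ (n - 1)) * x = x * u (2 ^ (n - 1)) := by
  rcases h.cases x with ⟨a, rfl⟩ | ⟨a, rfl⟩
  · rw [h.u_mul, h.u_mul, add_comm]
  · exact (sd_u_comm_uy_iff h _ _).2 (Or.inr rfl)

theorem sd_zeta_sq (h : IsQDCoord n u y) : u (2 ^ (n - 1)) * u (2 ^ (n - 1)) = 1 := by
  rw [h.u_mul, ← two_mul, two_mul_half n h.one_le, h.u_zero]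

theorem sd_zeta_ne (h : IsQDCoord n u y) : u (2 ^ (n - 1)) ≠ 1 := by
  rw [Ne, h.u_eq_one_iff]
  exact half_ne_zero n h.one_le

theorem sd_u_sq_iff (h : IsQDCoord n u y) (a : ZMod (2 ^ n)) :
    u a * u a = 1 ↔ a = 0 ∨ a = 2 ^ (n - 1) := by
  rw [h.u_mul, ← two_mul, h.u_eq_one_iff, two_mul_eq_zero_iff n h.one_le]

theorem sd_uy_sq_iff (h : IsQDCoord n u y) (a : ZMod (2 ^ n)) :
    u a * y * (u a * y) = 1 ↔ ∃ b, a = 2 * b := by
  rw [← pow_two, h.uy_sq, h.u_eq_one_iff]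
  constructor
  · intro h1
    rcases even_or_odd' n a with ⟨b, rfl⟩ | ⟨b, rfl⟩
    · exact ⟨b, rfl⟩
    · rw [half_mul_odd n h.one_le] at h1
      exact absurd h1 (half_ne_zero n h.one_le)
  · rintro ⟨b, rfl⟩
    have := two_mul_half n h.one_le
    linear_combination b * this

/-- the noncentral involutions -/
theorem sd_inv_cases (h : IsQDCoord n u y) (x : W) (hx : x * x = 1) (h1 : x ≠ 1)
    (h2 : x ≠ u (2 ^ (n - 1))) : ∃ b, x = u (2 * b) * y := by
  rcases h.cases x with ⟨a, rfl⟩ | ⟨a, rfl⟩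
  · rcases (sd_u_sq_iff h a).1 hx with rfl | rfl
    · exact absurd h.u_zero h1
    · exact absurd rfl h2
  · obtain ⟨b, rfl⟩ := (sd_uy_sq_iff h a).1 hx
    exact ⟨b, rfl⟩

/-- the centraliser of a noncentral involution -/
theorem sd_cent (h : IsQDCoord n u y) (b : ZMod (2 ^ n)) (v : W)
    (hv : v * (u b * y) = u b * y * v) :
    v = 1 ∨ v = u (2 ^ (n - 1)) ∨ v = u b * y ∨ v = u (2 ^ (n - 1)) * (u b * y) := by
  rcases h.cases v with ⟨a, rfl⟩ | ⟨a, rfl⟩
  · rcases (sd_u_comm_uy_iff h a b).1 hv with rfl | rfl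
    · exact Or.inl h.u_zero
    · exact Or.inr (Or.inl rfl)
  · have h1 : u (a - b) * (u b * y) = u b * y * u (a - b) := by
      have e : u (a - b) * (u b * y) = u a * y := by
        rw [h.u_mul_uy]; congr 2; ring
      have e2 : u (a - b) = u a * y * (u b * y)⁻¹ := by rw [← e]; group
      rw [e, e2]
      calc u a * y = u a * y * (u b * y)⁻¹ * (u b * y) := by group
        _ = (u a * y * (u b * y)) * (u b * y)⁻¹ * (u b * y)⁻¹ * (u b * y) := by group
        _ = (u b * y * (u a * y)) * (u b * y)⁻¹ * (u b * y)⁻¹ * (u b * y) := by rw [hv]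
        _ = u b * y * (u a * y * (u b * y)⁻¹) := by group
    rcases (sd_u_comm_uy_iff h _ _).1 h1 with h2 | h2
    · have : a = b := sub_eq_zero.1 h2
      subst this
      exact Or.inr (Or.inr (Or.inl rfl))
    · right; right; right
      rw [h.u_mul_uy]
      congr 2
      rw [← h2]; ring

theorem sd_conj_y (h : IsQDCoord n u y) (b : ZMod (2 ^ n)) :
    ∃ c, u c * y * (u c)⁻¹ = u (2 * b) * y := by
  have h3 := h.three_le
  obtain ⟨m, rfl⟩ : ∃ m, n = m + 3 := ⟨n - 3, by omega⟩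
  have hu : IsUnit (2 * (-(2 ^ m)) + 1 : ZMod (2 ^ (m + 3))) := isUnit_odd _ _
  obtain ⟨v, hv⟩ := hu
  refine ⟨b * ((v⁻¹ : (ZMod (2 ^ (m + 3)))ˣ) : ZMod (2 ^ (m + 3))), ?_⟩
  have h1 := h.u_conj_uy (b * ((v⁻¹ : (ZMod (2 ^ (m + 3)))ˣ) : ZMod (2 ^ (m + 3)))) 0
  rw [h.u_zero, one_mul] at h1
  rw [h1]
  congr 2
  have h4 : (v : ZMod (2 ^ (m + 3))) * ((v⁻¹ : (ZMod (2 ^ (m + 3)))ˣ) : ZMod (2 ^ (m + 3))) = 1 :=
    v.mul_inv
  rw [hv] at h4
  have e : (2 : ZMod (2 ^ (m + 3))) ^ (m + 3 - 1) = 4 * 2 ^ m := by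
    rw [show m + 3 - 1 = m + 2 by omega, pow_add]; ring
  rw [e]
  linear_combination 2 * b * h4

theorem sd_pgroup (h : IsQDCoord n u y) : IsPGroup 2 W := IsPGroup.of_card h.card

theorem sd_commutator (h : IsQDCoord n u y) (c : W) (hc : c ∈ commutator W) : ∃ a, c = u a := by
  let U : Subgroup W :=
    { carrier := {x | ∃ a, x = u a}
      one_mem' := ⟨0, h.u_zero.symm⟩
      mul_mem' := by rintro _ _ ⟨a, rfl⟩ ⟨b, rfl⟩; exact ⟨a + b, h.u_mul a b⟩
      inv_mem' := by rintro _ ⟨a, rfl⟩; exact ⟨-a, h.u_inv a⟩ }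
  have hU : commutator W ≤ U := by
    rw [commutator_def, Subgroup.commutator_le]
    intro x _ v _
    change ∃ a, ⁅x, v⁆ = u a
    rw [commutatorElement_def]
    rcases h.cases x with ⟨a, rfl⟩ | ⟨a, rfl⟩ <;> rcases h.cases v with ⟨b, rfl⟩ | ⟨b, rfl⟩
    · exact ⟨a + b + -a + -b, by rw [h.u_inv, h.u_inv, h.u_mul, h.u_mul, h.u_mul]⟩
    · rw [h.u_mul_uy, h.u_inv, h.uy_mul_u, h.uy_inv, h.uy_mul_uy]
      exact ⟨_, rfl⟩
    · rw [h.uy_mul_u, h.uy_inv, h.uy_mul_uy, h.u_inv, h.u_mul]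
      exact ⟨_, rfl⟩
    · rw [h.uy_mul_uy, h.uy_inv, h.uy_inv, h.u_mul_uy, h.uy_mul_uy]
      exact ⟨_, rfl⟩
  exact hU hc

theorem sd_derived_four (h : IsQDCoord n u y) : ∃ c ∈ commutator W, c * c = u (2 ^ (n - 1)) := by
  have h3 := h.three_le
  refine ⟨⁅u (2 ^ (n - 3)), y⁆, ?_, ?_⟩
  · rw [commutator_def]
    exact Subgroup.commutator_mem_commutator (Subgroup.mem_top _) (Subgroup.mem_top _)
  · have e : ⁅u (2 ^ (n - 3)), y⁆ = u (2 * 2 ^ (n - 3) - 2 ^ (n - 1) * 2 ^ (n - 3)) := by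
      rw [commutatorElement_def, h.u_inv, mul_assoc, mul_assoc, ← mul_assoc y, h.y_conj, h.u_mul]
      congr 1; ring
    rw [e, h.u_mul]
    congr 1
    have h2 := two_mul_half n h.one_le
    have e2 : (2 : ZMod (2 ^ n)) ^ (n - 1) = 4 * 2 ^ (n - 3) := by
      rw [show (4 : ZMod (2 ^ n)) = 2 ^ 2 by norm_num, ← pow_add]; congr 1; omega
    linear_combination (-(2 : ZMod (2 ^ n)) ^ (n - 3)) * h2 - e2

/-- The base facts in the semidihedral case. -/
theorem sd_base (h : IsQDCoord n u y) : WBase (u (2 ^ (n - 1))) where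
  finite := h.finite
  pgroup := sd_pgroup h
  ne := sd_zeta_ne h
  sq := sd_zeta_sq h
  central := sd_zeta_central h
  uniq x hx hxx := by
    by_contra hcon
    push Not at hcon
    obtain ⟨b, rfl⟩ := sd_inv_cases h x hxx hcon.1 hcon.2
    have h1 := (sd_u_comm_uy_iff h 1 (2 * b)).1 (hx (u 1)).symm
    rcases h1 with h1 | h1
    · have := two_mul_ne_two_mul_add_one n h.one_le 0 0
      apply this
      rw [mul_zero, zero_add]; exact h1.symm
    · have h3 := h.three_le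
      apply two_mul_ne_two_mul_add_one n h.one_le (2 ^ (n - 2)) 0
      rw [mul_zero, zero_add, h1, ← pow_succ']
      congr 1; omega
  comm1 := by
    have h3 := h.three_le
    have h2 := two_mul_half n h.one_le
    have e2 : (2 : ZMod (2 ^ n)) ^ (n - 1) = 2 * 2 ^ (n - 2) := by
      rw [← pow_succ']; congr 1; omega
    have e3 : (2 : ZMod (2 ^ n)) ^ (n - 1) * 2 ^ (n - 2) = 0 := by
      rw [← pow_add, show n - 1 + (n - 2) = n + (n - 3) by omega, pow_add, two_pow_eq_zero,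
        zero_mul]
    have key : ∀ a, u (2 ^ (n - 2)) * (u a * y) = u (2 ^ (n - 1)) * (u a * y * u (2 ^ (n - 2))) := by
      intro a
      rw [h.u_mul_uy, h.uy_mul_u, h.u_mul_uy]
      congr 2
      linear_combination -e3 - e2
    refine ⟨u (2 ^ (n - 2)), ?_, y, ?_⟩
    · intro v
      rcases h.cases v with ⟨a, rfl⟩ | ⟨a, rfl⟩
      · left; rw [h.u_mul, h.u_mul, add_comm]
      · right; exact key a
    · have := key 0
      rwa [h.u_zero, one_mul] at this
  derived_inv c hc hcc := by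
    obtain ⟨a, rfl⟩ := sd_commutator h c hc
    rcases (sd_u_sq_iff h a).1 hcc with rfl | rfl
    · exact Or.inl h.u_zero
    · exact Or.inr rfl
  derived_four := sd_derived_four h
  cent_abelian x hx h1 h2 v v' hv hv' := by
    obtain ⟨b, rfl⟩ := sd_inv_cases h x hx h1 h2
    have hz := sd_zeta_central h
    have hzz := sd_zeta_sq h
    rcases sd_cent h _ v hv with rfl | rfl | rfl | rfl
    · rw [one_mul, mul_one]
    · exact hz _
    · exact hv'.symm
    · calc u (2 ^ (n - 1)) * (u (2 * b) * y) * v' = u (2 ^ (n - 1)) * (u (2 * b) * y * v') := by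
            group
        _ = u (2 ^ (n - 1)) * (v' * (u (2 * b) * y)) := by rw [hv']
        _ = (u (2 ^ (n - 1)) * v') * (u (2 * b) * y) := by group
        _ = (v' * u (2 ^ (n - 1))) * (u (2 * b) * y) := by rw [hz]
        _ = _ := by group

/-- squares which are involutions -/
theorem sd_sq_cases (h : IsQDCoord n u y) (x : W) (hx : x * x * (x * x) = 1) :
    x * x = 1 ∨ x * x = u (2 ^ (n - 1)) := by
  rcases h.cases x with ⟨a, rfl⟩ | ⟨a, rfl⟩
  · rw [h.u_mul] at hx ⊢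
    rcases (sd_u_sq_iff h _).1 hx with h1 | h1
    · left; rw [h1, h.u_zero]
    · right; rw [h1]
  · rw [← pow_two, h.uy_sq]
    rcases even_or_odd' n a with ⟨b, rfl⟩ | ⟨b, rfl⟩
    · left
      rw [h.u_eq_one_iff]
      have := two_mul_half n h.one_le
      linear_combination b * this
    · right
      rw [half_mul_odd n h.one_le]

end SD

/-! ### the wreathed case -/

section WR

variable {W : Type*} [Group W] {n : ℕ} {u : ZMod (2 ^ n) → ZMod (2 ^ n) → W} {s : W}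

theorem wr_half (h : IsWCoord n u s) : (2 : ZMod (2 ^ n)) ^ (n - 1) = 2 * 2 ^ (n - 2) := by
  have := h.two_le
  rw [← pow_succ']; congr 1; omega

theorem wr_neg_half (h : IsWCoord n u s) :
    -(2 : ZMod (2 ^ n)) ^ (n - 1) = 2 ^ (n - 1) := by
  have := two_mul_half n h.one_le
  linear_combination -this

theorem wr_zeta_central (h : IsWCoord n u s) (x : W) :
    u (2 ^ (n - 1)) (2 ^ (n - 1)) * x = x * u (2 ^ (n - 1)) (2 ^ (n - 1)) := by
  rcases h.cases x with ⟨a, b, rfl⟩ | ⟨a, b, rfl⟩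
  · exact h.u_comm _ _ _ _
  · rw [h.u_mul_uz, h.uz_mul_u, add_comm, add_comm (2 ^ (n - 1)) b]

theorem wr_diag_central (h : IsWCoord n u s) (c : ZMod (2 ^ n)) (x : W) :
    u c c * x = x * u c c := by
  rcases h.cases x with ⟨a, b, rfl⟩ | ⟨a, b, rfl⟩
  · exact h.u_comm _ _ _ _
  · rw [h.u_mul_uz, h.uz_mul_u, add_comm, add_comm c b]

theorem wr_zeta_sq (h : IsWCoord n u s) :
    u (2 ^ (n - 1)) (2 ^ (n - 1)) * u (2 ^ (n - 1)) (2 ^ (n - 1)) = 1 := by
  rw [h.u_mul, ← two_mul, two_mul_half n h.one_le, h.u_zero]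

theorem wr_zeta_ne (h : IsWCoord n u s) : u (2 ^ (n - 1)) (2 ^ (n - 1)) ≠ 1 := by
  rw [Ne, h.u_eq_one_iff]
  exact fun hh => half_ne_zero n h.one_le hh.1

theorem wr_u_sq_iff (h : IsWCoord n u s) (a b : ZMod (2 ^ n)) :
    u a b * u a b = 1 ↔ (a = 0 ∨ a = 2 ^ (n - 1)) ∧ (b = 0 ∨ b = 2 ^ (n - 1)) := by
  rw [h.u_mul, ← two_mul, ← two_mul, h.u_eq_one_iff, two_mul_eq_zero_iff n h.one_le,
    two_mul_eq_zero_iff n h.one_le]

theorem wr_us_sq_iff (h : IsWCoord n u s) (a b : ZMod (2 ^ n)) :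
    u a b * s * (u a b * s) = 1 ↔ b = -a := by
  rw [← pow_two, h.uz_sq, h.u_eq_one_iff]
  constructor
  · rintro ⟨h1, -⟩; linear_combination h1
  · rintro rfl; constructor <;> ring

/-- the noncentral involutions -/
theorem wr_inv_cases (h : IsWCoord n u s) (x : W) (hx : x * x = 1) (h1 : x ≠ 1)
    (h2 : x ≠ u (2 ^ (n - 1)) (2 ^ (n - 1))) :
    x = u (2 ^ (n - 1)) 0 ∨ x = u 0 (2 ^ (n - 1)) ∨ ∃ a, x = u a (-a) * s := by
  rcases h.cases x with ⟨a, b, rfl⟩ | ⟨a, b, rfl⟩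
  · rcases (wr_u_sq_iff h a b).1 hx with ⟨rfl | rfl, rfl | rfl⟩
    · exact absurd h.u_zero h1
    · exact Or.inr (Or.inl rfl)
    · exact Or.inl rfl
    · exact absurd rfl h2
  · rw [wr_us_sq_iff h] at hx
    subst hx
    exact Or.inr (Or.inr ⟨a, rfl⟩)

theorem wr_cent_u (h : IsWCoord n u s) (a b : ZMod (2 ^ n)) (hab : a ≠ b) (v : W)
    (hv : v * u a b = u a b * v) : ∃ c d, v = u c d := by
  rcases h.cases v with ⟨c, d, rfl⟩ | ⟨c, d, rfl⟩
  · exact ⟨c, d, rfl⟩
  · exfalso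
    rw [h.uz_mul_u, h.u_mul_uz, mul_left_inj, h.u_eq_iff] at hv
    exact hab (by linear_combination -hv.1)

theorem wr_cent_us (h : IsWCoord n u s) (a b : ZMod (2 ^ n)) (v : W)
    (hv : v * (u a b * s) = u a b * s * v) :
    (∃ c, v = u c c) ∨ ∃ c, v = u c c * (u a b * s) := by
  have key : ∀ c d, u c d * (u a b * s) = u a b * s * u c d → c = d := by
    intro c d hcd
    rw [h.u_mul_uz, h.uz_mul_u, mul_left_inj, h.u_eq_iff] at hcd
    linear_combination hcd.1
  rcases h.cases v with ⟨c, d, rfl⟩ | ⟨c, d, rfl⟩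
  · obtain rfl := key c d hv
    exact Or.inl ⟨c, rfl⟩
  · right
    have e : u (c - a) (d - b) * (u a b * s) = u c d * s := by
      rw [h.u_mul_uz]; congr 2 <;> ring
    have e2 : u (c - a) (d - b) = u c d * s * (u a b * s)⁻¹ := by rw [← e]; group
    have h1 : u (c - a) (d - b) * (u a b * s) = u a b * s * u (c - a) (d - b) := by
      rw [e, e2]
      calc u c d * s = (u c d * s * (u a b * s)) * (u a b * s)⁻¹ := by group
        _ = (u a b * s * (u c d * s)) * (u a b * s)⁻¹ := by rw [hv]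
        _ = u a b * s * (u c d * s * (u a b * s)⁻¹) := by group
    have h2 := key _ _ h1
    refine ⟨c - a, ?_⟩
    rw [← e, ← h2]

theorem wr_pgroup (h : IsWCoord n u s) : IsPGroup 2 W := IsPGroup.of_card h.card

theorem wr_commutator (h : IsWCoord n u s) (c : W) (hc : c ∈ commutator W) :
    ∃ a, c = u a (-a) := by
  let U : Subgroup W :=
    { carrier := {x | ∃ a, x = u a (-a)}
      one_mem' := ⟨0, by rw [neg_zero, h.u_zero]⟩
      mul_mem' := by
        rintro _ _ ⟨a, rfl⟩ ⟨b, rfl⟩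
        exact ⟨a + b, by rw [h.u_mul]; congr 1; ring⟩
      inv_mem' := by rintro _ ⟨a, rfl⟩; exact ⟨-a, h.u_inv _ _⟩ }
  have hU : commutator W ≤ U := by
    rw [commutator_def, Subgroup.commutator_le]
    intro x _ v _
    change ∃ a, ⁅x, v⁆ = u a (-a)
    rw [commutatorElement_def]
    rcases h.cases x with ⟨a, b, rfl⟩ | ⟨a, b, rfl⟩ <;>
      rcases h.cases v with ⟨c, d, rfl⟩ | ⟨c, d, rfl⟩
    · refine ⟨0, ?_⟩
      rw [h.u_inv, h.u_inv, h.u_mul, h.u_mul, h.u_mul]; congr 1 <;> ring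
    · rw [h.u_mul_uz, h.u_inv, h.uz_mul_u, h.uz_inv, h.uz_mul_uz]
      exact ⟨_, by congr 1; ring⟩
    · rw [h.uz_mul_u, h.uz_inv, h.uz_mul_uz, h.u_inv, h.u_mul]
      exact ⟨_, by congr 1; ring⟩
    · rw [h.uz_mul_uz, h.uz_inv, h.uz_inv, h.u_mul_uz, h.uz_mul_uz]
      exact ⟨_, by congr 1; ring⟩
  exact hU hc

/-- The base facts in the wreathed case. -/
theorem wr_base (h : IsWCoord n u s) : WBase (u (2 ^ (n - 1)) (2 ^ (n - 1))) where
  finite := h.finite
  pgroup := wr_pgroup h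
  ne := wr_zeta_ne h
  sq := wr_zeta_sq h
  central := wr_zeta_central h
  uniq x hx hxx := by
    obtain ⟨a, rfl⟩ := (h.mem_center_iff x).1 (Subgroup.mem_center_iff.2 (fun g => (hx g).symm))
    rcases ((wr_u_sq_iff h a a).1 hxx).1 with rfl | rfl
    · exact Or.inl h.u_zero
    · exact Or.inr rfl
  comm1 := by
    have e2 := wr_half h
    have e3 := two_mul_half n h.one_le
    have key : ∀ a b, u (2 ^ (n - 2)) (-(2 ^ (n - 2))) * (u a b * s) =
        u (2 ^ (n - 1)) (2 ^ (n - 1)) * (u a b * s * u (2 ^ (n - 2)) (-(2 ^ (n - 2)))) := by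
      intro a b
      rw [h.u_mul_uz, h.uz_mul_u, h.u_mul_uz]
      congr 2
      · linear_combination -e2
      · linear_combination e2 - e3
    refine ⟨u (2 ^ (n - 2)) (-(2 ^ (n - 2))), ?_, s, ?_⟩
    · intro v
      rcases h.cases v with ⟨a, b, rfl⟩ | ⟨a, b, rfl⟩
      · left; exact h.u_comm _ _ _ _
      · right; exact key a b
    · have := key 0 0
      rwa [h.u_zero, one_mul] at this
  derived_inv c hc hcc := by
    obtain ⟨a, rfl⟩ := wr_commutator h c hc
    rcases ((wr_u_sq_iff h _ _).1 hcc).1 with rfl | rfl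
    · left; rw [neg_zero, h.u_zero]
    · right; rw [wr_neg_half h]
  derived_four := by
    refine ⟨⁅u (2 ^ (n - 2)) 0, s⁆, ?_, ?_⟩
    · rw [commutator_def]
      exact Subgroup.commutator_mem_commutator (Subgroup.mem_top _) (Subgroup.mem_top _)
    · have e : ⁅u (2 ^ (n - 2)) 0, s⁆ = u (2 ^ (n - 2)) (-(2 ^ (n - 2))) := by
        rw [commutatorElement_def, h.u_inv, mul_assoc, mul_assoc, ← mul_assoc s, h.z_conj_u,
          h.u_mul]
        congr 1 <;> ring
      rw [e, h.u_mul]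
      have e2 := wr_half h
      have e3 := two_mul_half n h.one_le
      congr 1
      · linear_combination -e2
      · linear_combination e2 - e3
  cent_abelian x hx h1 h2 v v' hv hv' := by
    rcases wr_inv_cases h x hx h1 h2 with rfl | rfl | ⟨a, rfl⟩
    · have h0 := half_ne_zero n h.one_le
      obtain ⟨c, d, rfl⟩ := wr_cent_u h _ _ h0 v hv
      obtain ⟨c', d', rfl⟩ := wr_cent_u h _ _ h0 v' hv'
      exact h.u_comm _ _ _ _
    · have h0 := (half_ne_zero n h.one_le).symm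
      obtain ⟨c, d, rfl⟩ := wr_cent_u h _ _ h0 v hv
      obtain ⟨c', d', rfl⟩ := wr_cent_u h _ _ h0 v' hv'
      exact h.u_comm _ _ _ _
    · rcases wr_cent_us h _ _ v hv with ⟨c, rfl⟩ | ⟨c, rfl⟩
      · exact wr_diag_central h c v'
      · calc u c c * (u a (-a) * s) * v' = u c c * (u a (-a) * s * v') := by group
          _ = u c c * (v' * (u a (-a) * s)) := by rw [hv']
          _ = u c c * v' * (u a (-a) * s) := by group
          _ = v' * u c c * (u a (-a) * s) := by rw [wr_diag_central h]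
          _ = _ := by group

end WR

end Cfsg.Agent.TypeLFive.Facts
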