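import Mathlib
import Cfsg.Agent.TypeLFive.Facts
import Cfsg.Agent.SylowSp4.Extremal

/-!
# S0511 (F), step (1): `t = (ζ, 1)` is not conjugate to `z = (ζ, ζ)`, `T` is Sylow in `C_G(t)`
-/

set_option autoImplicit false

namespace Cfsg.Agent.TypeLFive.TNotZ

open Cfsg.Agent.TypeLFive.Model Cfsg.Agent.TypeLFive.Facts

variable {G W : Type*} [Group G] [Group W]

theorem relIndex_range {S : Subgroup G} {f : W × W →* G} {w : G} (h : Wr S f w) :
    f.range.relIndex S = 2 := by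
  rw [Subgroup.relIndex, Subgroup.index_eq_two_iff]
  refine ⟨⟨w, h.w_mem⟩, ?_⟩
  rintro ⟨b, hb⟩
  rw [Subgroup.mem_subgroupOf, Subgroup.mem_subgroupOf]
  change Xor (b * w ∈ f.range) (b ∈ f.range)
  rcases h.cases b hb with ⟨x, y, rfl⟩ | ⟨x, y, rfl⟩
  · right; exact ⟨⟨_, rfl⟩, h.fw_not_mem_range _⟩
  · left
    refine ⟨?_, h.fw_not_mem_range _⟩
    rw [mul_assoc, h.w_w, mul_one]
    exact ⟨_, rfl⟩

/-- Elements of `S` commuting with everything in `T`. -/
theorem central_iff {S : Subgroup G} {f : W × W →* G} {w : G} (h : Wr S f w) {ζ : W}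
    (b : WBase ζ) (s : G) (hs : s ∈ S) (hc : ∀ p, s * f p = f p * s) :
    ∃ x y, s = f (x, y) ∧ (∀ v, x * v = v * x) ∧ (∀ v, y * v = v * y) := by
  rcases h.cases s hs with ⟨x, y, rfl⟩ | ⟨x, y, rfl⟩
  · refine ⟨x, y, rfl, fun v => ?_, fun v => ?_⟩
    · exact ((h.f_comm_f_iff x y v v).1 (hc (v, v))).1
    · exact ((h.f_comm_f_iff x y v v).1 (hc (v, v))).2
  · exfalso
    have h1 := (h.fw_comm_f_iff x y ζ 1).1 (hc (ζ, 1))
    apply b.ne
    have h2 := h1.1
    rw [mul_one] at h2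
    exact mul_eq_right.1 h2.symm

/-- `z` is the only involution of the centre of `S`. -/
theorem center_inv {S : Subgroup G} {f : W × W →* G} {w : G} (h : Wr S f w) {ζ : W}
    (b : WBase ζ) (s : G) (hs : s ∈ S) (hc : ∀ r ∈ S, s * r = r * s) (hss : s * s = 1)
    (hs1 : s ≠ 1) : s = f (ζ, ζ) := by
  obtain ⟨x, y, rfl, hx, hy⟩ := central_iff h b s hs (fun p => hc _ (h.mem p))
  have h1 := (h.f_comm_w_iff x y).1 (hc _ h.w_mem)
  subst h1
  rw [h.f_mul_f, h.f_eq_one_iff, Prod.mk_eq_one] at hss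
  rcases b.uniq x hx hss.1 with rfl | rfl
  · exact absurd (map_one f) hs1
  · rfl

theorem z_comm {S : Subgroup G} {f : W × W →* G} {w : G} (h : Wr S f w) {ζ : W}
    (b : WBase ζ) (r : G) (hr : r ∈ S) : r * f (ζ, ζ) = f (ζ, ζ) * r := by
  rcases h.cases r hr with ⟨x, y, rfl⟩ | ⟨x, y, rfl⟩
  · rw [h.f_comm_f_iff]
    exact ⟨(b.central x).symm, (b.central y).symm⟩
  · rw [h.fw_comm_f_iff]
    exact ⟨(b.central x).symm, (b.central y).symm⟩

theorem t_comm {S : Subgroup G} {f : W × W →* G} {w : G} (h : Wr S f w) {ζ : W}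
    (b : WBase ζ) (p : W × W) : f p * f (ζ, 1) = f (ζ, 1) * f p := by
  obtain ⟨x, y⟩ := p
  rw [h.f_comm_f_iff]
  exact ⟨(b.central x).symm, by rw [one_mul, mul_one]⟩

theorem t_ne_z {S : Subgroup G} {f : W × W →* G} {w : G} (h : Wr S f w) {ζ : W}
    (b : WBase ζ) : f (ζ, 1) ≠ f (ζ, ζ) := by
  rw [Ne, h.f_eq_iff, Prod.mk.injEq]
  exact fun hh => b.ne hh.2.symm

/-- **(F)(1)**: `t` is not conjugate to `z`. -/
theorem not_conj [Finite G] {S : Sylow 2 G} {f : W × W →* G} {w : G}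
    (h : Wr (S : Subgroup G) f w) {ζ : W} (b : WBase ζ) :
    ¬ IsConj (f (ζ, 1)) (f (ζ, ζ)) := by
  intro hcon
  rw [isConj_iff] at hcon
  obtain ⟨g, hg, hgS⟩ := SylowSp4.Extremal.exists_conj_of_central S
    (fun y hy => z_comm h b y hy) hcon
  have hgT : ∀ p, g * f p * g⁻¹ ∈ (S : Subgroup G) := fun p => hgS _ (h.mem p) (t_comm h b p)
  have hfinW := b.finite
  by_cases hc : ∀ p, ∃ q, g * f p * g⁻¹ = f q
  · -- `g` normalises `T`
    choose φ hφ using hc
    have hinj : Function.Injective φ := by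
      intro p q hpq
      have h1 : g * f p * g⁻¹ = g * f q * g⁻¹ := by rw [hφ, hφ, hpq]
      exact h.inj (mul_left_cancel (mul_right_cancel h1))
    have hsurj : Function.Surjective φ := Finite.surjective_of_injective hinj
    obtain ⟨x1, hx1, y1, hy1⟩ := b.comm1
    obtain ⟨⟨a, c⟩, hac⟩ : ∃ q, φ (x1, 1) = q := ⟨_, rfl⟩
    have hfac : g * f (x1, 1) * g⁻¹ = f (a, c) := by rw [hφ, hac]
    have key : ∀ q : W × W, f (a, c) * f q = f q * f (a, c) ∨
        f (a, c) * f q = f (ζ, ζ) * (f q * f (a, c)) := by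
      intro q
      obtain ⟨⟨p1, p2⟩, rfl⟩ := hsurj q
      rw [← hφ, ← hfac]
      rcases hx1 p1 with h1 | h1
      · left
        have h2 : f (x1, 1) * f (p1, p2) = f (p1, p2) * f (x1, 1) := by
          rw [h.f_comm_f_iff]
          exact ⟨h1, by rw [one_mul, mul_one]⟩
        calc g * f (x1, 1) * g⁻¹ * (g * f (p1, p2) * g⁻¹) = g * (f (x1, 1) * f (p1, p2)) * g⁻¹ := by
              group
          _ = g * (f (p1, p2) * f (x1, 1)) * g⁻¹ := by rw [h2]
          _ = _ := by group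
      · right
        have h2 : f (x1, 1) * f (p1, p2) = f (ζ, 1) * (f (p1, p2) * f (x1, 1)) := by
          rw [h.f_mul_f, h.f_mul_f, h.f_mul_f, h1, one_mul, one_mul, mul_one]
        rw [← hg]
        calc g * f (x1, 1) * g⁻¹ * (g * f (p1, p2) * g⁻¹) = g * (f (x1, 1) * f (p1, p2)) * g⁻¹ := by
              group
          _ = g * (f (ζ, 1) * (f (p1, p2) * f (x1, 1))) * g⁻¹ := by rw [h2]
          _ = _ := by group
    have ha : ∀ v, a * v = v * a := by
      intro v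
      rcases key (v, 1) with h1 | h1
      · exact ((h.f_comm_f_iff _ _ _ _).1 h1).1
      · exfalso
        rw [h.f_mul_f, h.f_mul_f, h.f_mul_f, h.f_eq_iff, Prod.mk.injEq, one_mul, mul_one] at h1
        exact b.ne (mul_eq_right.1 h1.2.symm)
    have hc' : ∀ v, c * v = v * c := by
      intro v
      rcases key (1, v) with h1 | h1
      · exact ((h.f_comm_f_iff _ _ _ _).1 h1).2
      · exfalso
        rw [h.f_mul_f, h.f_mul_f, h.f_mul_f, h.f_eq_iff, Prod.mk.injEq, one_mul, mul_one] at h1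
        exact b.ne (mul_eq_right.1 h1.1.symm)
    -- contradiction: `(x1, 1)` is central in `T`
    have h3 : f (x1, 1) * f (y1, 1) = f (y1, 1) * f (x1, 1) := by
      obtain ⟨⟨d1, d2⟩, hd⟩ : ∃ q, φ (y1, 1) = q := ⟨_, rfl⟩
      have hfd : g * f (y1, 1) * g⁻¹ = f (d1, d2) := by rw [hφ, hd]
      have h4 : f (a, c) * f (d1, d2) = f (d1, d2) * f (a, c) := by
        rw [h.f_comm_f_iff]; exact ⟨ha _, hc' _⟩
      rw [← hfac, ← hfd] at h4
      have h5 : g * (f (x1, 1) * f (y1, 1)) * g⁻¹ = g * (f (y1, 1) * f (x1, 1)) * g⁻¹ := by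
        calc g * (f (x1, 1) * f (y1, 1)) * g⁻¹ = g * f (x1, 1) * g⁻¹ * (g * f (y1, 1) * g⁻¹) := by
              group
          _ = _ := h4
          _ = _ := by group
      exact mul_left_cancel (mul_right_cancel h5)
    have h4 := ((h.f_comm_f_iff _ _ _ _).1 h3).1
    rw [hy1] at h4
    exact b.ne (mul_eq_right.1 h4)
  · -- `T^g ≠ T`
    push Not at hc
    obtain ⟨p0, hp0⟩ := hc
    obtain ⟨a, c, hac⟩ : ∃ a c, g * f p0 * g⁻¹ = f (a, c) * w := by
      rcases h.cases _ (hgT p0) with ⟨x, y, hxy⟩ | ⟨x, y, hxy⟩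
      · exact absurd hxy (hp0 _)
      · exact ⟨x, y, hxy⟩
    let T1 : Subgroup G := f.range.map (MulAut.conj g).toMonoidHom
    have hT1 : T1 ≤ (S : Subgroup G) := by
      rintro _ ⟨_, ⟨p, rfl⟩, rfl⟩
      exact hgT p
    have hT1card : Nat.card T1 = Nat.card f.range :=
      (Nat.card_congr (f.range.equivMapOfInjective _ (MulAut.conj g).injective).toEquiv).symm
    have hidx : (T1.subgroupOf (S : Subgroup G)).index = 2 := by
      have e1 : Nat.card (T1.subgroupOf (S : Subgroup G)) * (T1.subgroupOf (S : Subgroup G)).index =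
        Nat.card (S : Subgroup G) := Subgroup.card_mul_index _
      have e2 : Nat.card (f.range.subgroupOf (S : Subgroup G)) *
        (f.range.subgroupOf (S : Subgroup G)).index = Nat.card (S : Subgroup G) :=
        Subgroup.card_mul_index _
      have e3 : (f.range.subgroupOf (S : Subgroup G)).index = 2 := relIndex_range h
      have e4 : Nat.card (T1.subgroupOf (S : Subgroup G)) = Nat.card T1 :=
        Nat.card_congr (Subgroup.subgroupOfEquivOfLe hT1).toEquiv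
      have e5 : Nat.card (f.range.subgroupOf (S : Subgroup G)) = Nat.card f.range :=
        Nat.card_congr (Subgroup.subgroupOfEquivOfLe h.range_le).toEquiv
      rw [e4, hT1card] at e1
      rw [e5, e3] at e2
      have e6 : 0 < Nat.card f.range := by
        have : Finite f.range := inferInstance
        exact Nat.card_pos
      exact Nat.eq_of_mul_eq_mul_left e6 (e1.trans e2.symm)
    -- the index two property
    have hK : ∀ p q : W × W, f p ∉ T1 → f q ∉ T1 → f p * f q ∈ T1 := by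
      intro p q hp hq
      have h1 := Subgroup.mul_mem_iff_of_index_two hidx (a := ⟨f p, h.mem p⟩)
        (b := ⟨f q, h.mem q⟩)
      exact h1.2 ⟨fun h => absurd h hp, fun h => absurd h hq⟩
    have hyT1 : f (a, c) * w ∈ T1 := ⟨f p0, ⟨p0, rfl⟩, hac⟩
    -- conjugation by `y = f (a, c) w`
    have hyc : ∀ p1 p2, f (p1, p2) ∈ T1 → f (a * p2 * a⁻¹, c * p1 * c⁻¹) ∈ T1 := by
      intro p1 p2 hp
      have h1 := T1.mul_mem (T1.mul_mem hyT1 hp) (T1.inv_mem hyT1)
      have e : f (a, c) * w * f (p1, p2) * (f (a, c) * w)⁻¹ =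
          f (a * p2 * a⁻¹, c * p1 * c⁻¹) := by
        rw [h.fw_inv, h.fw_mul_f, h.fw_mul_fw]
      rwa [e] at h1
    have hproj1 : ∀ x, ∃ v, f (x, v) ∈ T1 := by
      by_contra hcon
      push Not at hcon
      obtain ⟨x, hx⟩ := hcon
      have hx' : f (x⁻¹, 1) ∉ T1 := by
        intro h1
        apply hx 1
        have h2 := T1.inv_mem h1
        rwa [← map_inv, Prod.inv_mk, inv_inv, inv_one] at h2
      have h1 : ∀ v, f (1, v) ∈ T1 := by
        intro v
        have h2 := hK (x, v) (x⁻¹, 1) (hx v) hx'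
        rwa [h.f_mul_f, mul_inv_cancel, mul_one] at h2
      have h2 : ∀ v, f (v, 1) ∈ T1 := by
        intro v
        have h3 := hyc 1 (a⁻¹ * v * a) (h1 _)
        have e : a * (a⁻¹ * v * a) * a⁻¹ = v := by group
        rwa [e, mul_one, mul_inv_cancel] at h3
      exact hx 1 (h2 x)
    have hproj2 : ∀ x, ∃ v, f (v, x) ∈ T1 := by
      intro x
      obtain ⟨v, hv⟩ := hproj1 (c⁻¹ * x * c)
      have h1 := hyc _ _ hv
      have e : c * (c⁻¹ * x * c) * c⁻¹ = x := by group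
      rw [e] at h1
      exact ⟨_, h1⟩
    have hζ1 : f (ζ, 1) ∈ T1 := by
      obtain ⟨x1, hx1, y1, hy1⟩ := b.comm1
      obtain ⟨v, hv⟩ := hproj1 x1
      have hn : (T1.subgroupOf (S : Subgroup G)).Normal := Subgroup.normal_of_index_eq_two hidx
      have h1 : f (y1, 1) * f (x1, v) * (f (y1, 1))⁻¹ ∈ T1 :=
        hn.conj_mem ⟨f (x1, v), h.mem _⟩ hv ⟨f (y1, 1), h.mem _⟩
      have h2 := T1.mul_mem hv (T1.inv_mem h1)
      have e : f (x1, v) * (f (y1, 1) * f (x1, v) * (f (y1, 1))⁻¹)⁻¹ = f (ζ, 1) := by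
        rw [← map_inv f (y1, 1), h.f_mul_f, Prod.inv_mk, h.f_mul_f, ← map_inv, h.f_mul_f,
          h.f_eq_iff, Prod.mk.injEq]
        refine ⟨?_, by simp⟩
        calc x1 * (y1 * x1 * y1⁻¹)⁻¹ = (x1 * y1) * x1⁻¹ * y1⁻¹ := by group
          _ = ζ * (y1 * x1) * x1⁻¹ * y1⁻¹ := by rw [hy1]
          _ = ζ := by group
      rwa [e] at h2
    -- the element `r = g (1, ζ) g⁻¹` of the centre of `T1`
    have hrT1 : g * f (1, ζ) * g⁻¹ ∈ T1 := ⟨_, ⟨_, rfl⟩, rfl⟩
    have hrc : ∀ r ∈ T1, g * f (1, ζ) * g⁻¹ * r = r * (g * f (1, ζ) * g⁻¹) := by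
      rintro _ ⟨_, ⟨⟨p1, p2⟩, rfl⟩, rfl⟩
      have h1 : f (1, ζ) * f (p1, p2) = f (p1, p2) * f (1, ζ) := by
        rw [h.f_comm_f_iff]
        exact ⟨by rw [one_mul, mul_one], b.central p2⟩
      change g * f (1, ζ) * g⁻¹ * (g * f (p1, p2) * g⁻¹) = g * f (p1, p2) * g⁻¹ * (g * f (1, ζ) * g⁻¹)
      calc g * f (1, ζ) * g⁻¹ * (g * f (p1, p2) * g⁻¹) = g * (f (1, ζ) * f (p1, p2)) * g⁻¹ := by
            group
        _ = g * (f (p1, p2) * f (1, ζ)) * g⁻¹ := by rw [h1]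
        _ = _ := by group
    have hrr : g * f (1, ζ) * g⁻¹ * (g * f (1, ζ) * g⁻¹) = 1 := by
      have h1 : f (1, ζ) * f (1, ζ) = 1 := by
        rw [h.f_mul_f, one_mul, b.sq]; exact map_one f
      calc g * f (1, ζ) * g⁻¹ * (g * f (1, ζ) * g⁻¹) = g * (f (1, ζ) * f (1, ζ)) * g⁻¹ := by group
        _ = 1 := by rw [h1]; group
    have hr1 : g * f (1, ζ) * g⁻¹ ≠ 1 := by
      rw [Ne, conj_eq_one_iff, h.f_eq_one_iff, Prod.mk_eq_one]
      exact fun hh => b.ne hh.2
    have hrz : g * f (1, ζ) * g⁻¹ ≠ f (ζ, ζ) := by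
      rw [← hg, Ne, mul_left_inj, mul_right_inj, h.f_eq_iff, Prod.mk.injEq]
      exact fun hh => b.ne hh.2
    rcases h.cases _ (hgT (1, ζ)) with ⟨r1, r2, hr⟩ | ⟨r1, r2, hr⟩
    · rw [hr] at hrc hrr hr1 hrz
      have hr1c : ∀ v, r1 * v = v * r1 := by
        intro v
        obtain ⟨v', hv'⟩ := hproj1 v
        exact ((h.f_comm_f_iff _ _ _ _).1 (hrc _ hv')).1
      have hr2c : ∀ v, r2 * v = v * r2 := by
        intro v
        obtain ⟨v', hv'⟩ := hproj2 v
        exact ((h.f_comm_f_iff _ _ _ _).1 (hrc _ hv')).2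
      rw [h.f_mul_f, h.f_eq_one_iff, Prod.mk_eq_one] at hrr
      have h5 := (h.fw_comm_f_iff _ _ _ _).1 (hrc _ hyT1).symm
      rcases b.uniq r1 hr1c hrr.1 with rfl | rfl <;> rcases b.uniq r2 hr2c hrr.2 with rfl | rfl
      · exact hr1 (map_one f)
      · have h6 := h5.1
        rw [one_mul] at h6
        exact b.ne (mul_eq_left.1 h6)
      · have h6 := h5.2
        rw [one_mul] at h6
        exact b.ne (mul_eq_left.1 h6)
      · exact hrz rfl
    · rw [hr] at hrc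
      have h5 := (h.fw_comm_f_iff _ _ _ _).1 (hrc _ hζ1)
      have h6 := h5.1
      rw [mul_one] at h6
      exact b.ne (mul_eq_right.1 h6.symm)

/-- `T` is a Sylow 2-subgroup of `C_G(t)`. -/
theorem sylow_t [Finite G] {S : Sylow 2 G} {f : W × W →* G} {w : G}
    (h : Wr (S : Subgroup G) f w) {ζ : W} (b : WBase ζ) (R : Subgroup G) (hR : IsPGroup 2 R)
    (hTR : f.range ≤ R) (hRt : ∀ r ∈ R, r * f (ζ, 1) = f (ζ, 1) * r) : R = f.range := by
  by_contra hne
  -- `|R| = |S|`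
  obtain ⟨Q, hQ⟩ := hR.exists_le_sylow
  have hfR : Finite R := inferInstance
  have hT : f.range < R := lt_of_le_of_ne hTR (Ne.symm hne)
  have e2 : Nat.card (f.range.subgroupOf (S : Subgroup G)) *
    (f.range.subgroupOf (S : Subgroup G)).index = Nat.card (S : Subgroup G) :=
    Subgroup.card_mul_index _
  have e3 : (f.range.subgroupOf (S : Subgroup G)).index = 2 := relIndex_range h
  have e5 : Nat.card (f.range.subgroupOf (S : Subgroup G)) = Nat.card f.range :=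
    Nat.card_congr (Subgroup.subgroupOfEquivOfLe h.range_le).toEquiv
  rw [e3, e5] at e2
  have e6 : Nat.card (Q : Subgroup G) = Nat.card (S : Subgroup G) := Nat.card_congr (Sylow.equiv Q S).toEquiv
  have e7 : Nat.card R ∣ Nat.card (Q : Subgroup G) := Subgroup.card_dvd_of_le hQ
  have e8 : Nat.card f.range ∣ Nat.card R := Subgroup.card_dvd_of_le hTR
  obtain ⟨k, hk⟩ := e8
  obtain ⟨l, hl⟩ := e7
  have hpos : 0 < Nat.card f.range := Nat.card_pos
  have hkl : k * l = 2 := by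
    rw [e6, ← e2, hk, mul_assoc] at hl
    exact (Nat.eq_of_mul_eq_mul_left hpos hl).symm
  have hk1 : k ≠ 1 := by
    rintro rfl
    rw [mul_one] at hk
    exact hne (Subgroup.eq_of_le_of_card_ge hTR hk.le).symm
  have hl1 : l = 1 := by
    have : k ∣ 2 := ⟨l, hkl.symm⟩
    rcases (Nat.dvd_prime Nat.prime_two).1 this with h1 | h1
    · exact absurd h1 hk1
    · subst h1; omega
  have hRQ : R = (Q : Subgroup G) := Subgroup.eq_of_le_of_card_ge hQ (by rw [hl, hl1, mul_one])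
  obtain ⟨n, hn⟩ := MulAction.exists_smul_eq G Q S
  have hnR : ∀ y, y ∈ (S : Subgroup G) ↔ n⁻¹ * y * n ∈ R := by
    intro y
    rw [← hn, Sylow.coe_subgroup_smul, hRQ, Subgroup.mem_pointwise_smul_iff_inv_smul_mem]
    simp [← map_inv]
  apply not_conj h b
  rw [isConj_iff]
  refine ⟨n, ?_⟩
  have hn1 : ∀ x, n⁻¹ * (n * x * n⁻¹) * n = x := by intro x; group
  have htR : f (ζ, 1) ∈ R := hTR ⟨_, rfl⟩
  have htt : f (ζ, 1) * f (ζ, 1) = 1 := by
    rw [h.f_mul_f, one_mul, b.sq]; exact map_one f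
  apply center_inv h b
  · rw [hnR, hn1]; exact htR
  · intro r hr
    have h1 := hRt _ ((hnR r).1 hr)
    calc n * f (ζ, 1) * n⁻¹ * r = n * (f (ζ, 1) * (n⁻¹ * r * n)) * n⁻¹ := by group
      _ = n * (n⁻¹ * r * n * f (ζ, 1)) * n⁻¹ := by rw [h1]
      _ = r * (n * f (ζ, 1) * n⁻¹) := by group
  · calc n * f (ζ, 1) * n⁻¹ * (n * f (ζ, 1) * n⁻¹) = n * (f (ζ, 1) * f (ζ, 1)) * n⁻¹ := by group
      _ = 1 := by rw [htt]; group
  · rw [Ne, conj_eq_one_iff, h.f_eq_one_iff, Prod.mk_eq_one]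
    exact fun hh => b.ne hh.1

end Cfsg.Agent.TypeLFive.TNotZ
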