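import Mathlib
import Cfsg.Agent.Lib.GoldschmidtFusion
import Cfsg.Agent.TypeLFive.TNotZ

/-!
# Control of fusion lemmas
-/

set_option autoImplicit false

namespace Cfsg.Agent.TypeLFive.Control

open Subgroup Cfsg.Agent.Lib.GoldschmidtFusion
open Cfsg.Agent.TypeLFive.Model Cfsg.Agent.TypeLFive.Facts

variable {G : Type*} [Group G] [Finite G]

omit [Finite G] in
theorem map_conj_mul (A : Subgroup G) (a b : G) :
    (A.map (MulAut.conj b).toMonoidHom).map (MulAut.conj a).toMonoidHom =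
      A.map (MulAut.conj (a * b)).toMonoidHom := by
  rw [Subgroup.map_map, map_mul]
  rfl

omit [Finite G] in
theorem map_conj_inj {A B : Subgroup G} {k : G}
    (h : A.map (MulAut.conj k).toMonoidHom = B.map (MulAut.conj k).toMonoidHom) : A = B :=
  Subgroup.map_injective (MulAut.conj k).injective h

/-- A weakly closed abelian subgroup: its normaliser controls fusion in it, also inside any
subgroup `C` containing it. -/
theorem control_weak {p : ℕ} [Fact p.Prime] (S : Sylow p G) (A : Subgroup G)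
    (hA : IsPGroup p A) (hab : ∀ x ∈ A, ∀ y ∈ A, x * y = y * x)
    (hw : ∀ g : G, A.map (MulAut.conj g).toMonoidHom ≤ (S : Subgroup G) →
      A.map (MulAut.conj g).toMonoidHom = A)
    (C : Subgroup G) (hAC : A ≤ C) (g : G) (hgC : g ∈ C) (x : G) (_hx : x ∈ A)
    (hgx : g * x * g⁻¹ ∈ A) (hxA : ∀ y ∈ A, x * y = y * x) :
    ∃ n ∈ C, A.map (MulAut.conj n).toMonoidHom = A ∧ n * x * n⁻¹ = g * x * g⁻¹ := by
  let N : Subgroup G := C ⊓ centralizer ({g * x * g⁻¹} : Set G)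
  have hAN : A ≤ N := by
    intro y hy
    exact ⟨hAC hy, mem_centralizer_singleton_iff.2 (hab _ hy _ hgx)⟩
  have hAgN : A.map (MulAut.conj g).toMonoidHom ≤ N := by
    rintro _ ⟨y, hy, rfl⟩
    refine Subgroup.mem_inf.2 ⟨C.mul_mem (C.mul_mem hgC (hAC hy)) (C.inv_mem hgC),
      mem_centralizer_singleton_iff.2 ?_⟩
    change g * y * g⁻¹ * (g * x * g⁻¹) = g * x * g⁻¹ * (g * y * g⁻¹)
    have h1 := hxA y hy
    calc g * y * g⁻¹ * (g * x * g⁻¹) = g * (y * x) * g⁻¹ := by group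
      _ = g * (x * y) * g⁻¹ := by rw [h1]
      _ = _ := by group
  obtain ⟨R, hAR, hRN, hR, hRi⟩ := exists_sylow_in (p := p) hAN hA
  obtain ⟨m, hm, hmD⟩ := exists_conj_le_in hR hRi hAgN (hA.map _)
  obtain ⟨Q, hQ⟩ := hR.exists_le_sylow
  obtain ⟨k, hk⟩ := MulAction.exists_smul_eq G Q S
  have hkS : ∀ B : Subgroup G, B ≤ R → B.map (MulAut.conj k).toMonoidHom ≤ (S : Subgroup G) := by
    rintro B hB _ ⟨y, hy, rfl⟩
    rw [← hk, Sylow.coe_subgroup_smul]
    have := Subgroup.smul_mem_pointwise_smul _ (MulAut.conj k) _ (hQ (hB hy))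
    simpa using this
  have h1 := hw k (hkS A hAR)
  have h2 := hkS _ hmD
  rw [map_conj_mul, map_conj_mul] at h2
  have h3 := hw _ h2
  refine ⟨m * g, C.mul_mem hm.1 hgC, ?_, ?_⟩
  · apply map_conj_inj (k := k)
    rw [map_conj_mul, h1, ← mul_assoc, h3]
  · have h4 := mem_centralizer_singleton_iff.1 hm.2
    calc m * g * x * (m * g)⁻¹ = m * (g * x * g⁻¹) * m⁻¹ := by group
      _ = g * x * g⁻¹ * m * m⁻¹ := by rw [h4]
      _ = _ := by group

/-- Fusion of `x` and `v` is controlled by `N_G(E)` if a Sylow subgroup `R` of `C_G(x)` has one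
class of conjugates of `E`. -/
theorem control_of {p : ℕ} [Fact p.Prime] (R : Subgroup G) (hR : IsPGroup p R) (x v : G)
    (hRi : ¬ p ∣ R.relIndex (centralizer ({x} : Set G))) (hRx : ∀ y ∈ R, y * x = x * y)
    (E : Subgroup G) (hE : IsPGroup p E) (hEv : ∀ y ∈ E, y * v = v * y)
    (hcl : ∀ g : G, E.map (MulAut.conj g).toMonoidHom ≤ R →
      ∃ s ∈ R, E.map (MulAut.conj (s * g)).toMonoidHom = E)
    (g : G) (hg : g * x * g⁻¹ = v) :
    ∃ n, E.map (MulAut.conj n).toMonoidHom = E ∧ n * x * n⁻¹ = v := by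
  have hD : E.map (MulAut.conj g⁻¹).toMonoidHom ≤ centralizer ({x} : Set G) := by
    rintro _ ⟨y, hy, rfl⟩
    rw [mem_centralizer_singleton_iff]
    change g⁻¹ * y * g⁻¹⁻¹ * x = x * (g⁻¹ * y * g⁻¹⁻¹)
    have h1 := hEv y hy
    rw [← hg] at h1
    rw [inv_inv]
    calc g⁻¹ * y * g * x = g⁻¹ * (y * (g * x * g⁻¹)) * g := by group
      _ = g⁻¹ * (g * x * g⁻¹ * y) * g := by rw [h1]
      _ = _ := by group
  obtain ⟨m, hm, hmD⟩ := exists_conj_le_in hR hRi hD (hE.map _)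
  rw [map_conj_mul] at hmD
  obtain ⟨s, hs, hsE⟩ := hcl _ hmD
  refine ⟨(s * (m * g⁻¹))⁻¹, ?_, ?_⟩
  · apply map_conj_inj (k := s * (m * g⁻¹))
    rw [map_conj_mul, mul_inv_cancel, hsE]
    ext y
    simp
  · have h4 := mem_centralizer_singleton_iff.1 hm
    have h5 := hRx s hs
    have h6 : s * (m * g⁻¹) * v * (s * (m * g⁻¹))⁻¹ = x := by
      rw [← hg]
      calc s * (m * g⁻¹) * (g * x * g⁻¹) * (s * (m * g⁻¹))⁻¹ = s * (m * x) * m⁻¹ * s⁻¹ := by group
        _ = s * (x * m) * m⁻¹ * s⁻¹ := by rw [h4]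
        _ = s * x * s⁻¹ := by group
        _ = x * s * s⁻¹ := by rw [h5]
        _ = x := by group
    rw [← h6]; group

section

variable {W : Type*} [Group W]

/-- `|C_G(t) : T|` is odd. -/
theorem not_dvd_relIndex_t {S : Sylow 2 G} {f : W × W →* G} {w : G}
    (h : Wr (S : Subgroup G) f w) {ζ : W} (b : WBase ζ) :
    ¬ 2 ∣ f.range.relIndex (centralizer ({f (ζ, 1)} : Set G)) := by
  have hle : f.range ≤ centralizer ({f (ζ, 1)} : Set G) := by
    rintro _ ⟨p, rfl⟩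
    rw [mem_centralizer_singleton_iff]
    exact TNotZ.t_comm h b p
  obtain ⟨R, hTR, hRN, hR, hRi⟩ := exists_sylow_in (p := 2) hle (S.isPGroup'.to_le h.range_le)
  have h1 := TNotZ.sylow_t h b R hR hTR (fun r hr => mem_centralizer_singleton_iff.1 (hRN hr))
  rwa [h1] at hRi

/-- `|C_G(z) : S|` is odd. -/
theorem not_dvd_relIndex_z (S : Sylow 2 G) (z : G)
    (hz : ∀ y ∈ (S : Subgroup G), y * z = z * y) :
    ¬ 2 ∣ (S : Subgroup G).relIndex (centralizer ({z} : Set G)) := by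
  have hle : (S : Subgroup G) ≤ centralizer ({z} : Set G) := fun y hy =>
    mem_centralizer_singleton_iff.2 (hz y hy)
  intro hd
  exact S.not_dvd_index (hd.trans (relIndex_dvd_index_of_le hle))

end

end Cfsg.Agent.TypeLFive.Control
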