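import Mathlib
import Cfsg.Agent.Lib.NormalAbelian
import Cfsg.Agent.SylowSp4.ExtTransfer
import Cfsg.Agent.TypeLFive.Control

/-!
# S0511 (F), step (5): the fusion of `w`, part common to both types
-/

set_option autoImplicit false

namespace Cfsg.Agent.TypeLFive.Five

open Subgroup Cfsg.Agent.TypeLFive.Model Cfsg.Agent.TypeLFive.Facts

section W

variable {W : Type*} [Group W] {ζ : W}

/-- a nontrivial normal subgroup of `W` contains `ζ`. -/
theorem zeta_mem_of_normal (b : WBase ζ) (K : Subgroup W) [K.Normal] (hK : K ≠ ⊥) : ζ ∈ K := by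
  have hfin := b.finite
  have : Fact (Nat.Prime 2) := ⟨Nat.prime_two⟩
  have hnil : Group.IsNilpotent W := b.pgroup.isNilpotent
  have h1 := Cfsg.Agent.Lib.NormalAbelian.normal_inf_center_ne_bot K hK
  have hp : IsPGroup 2 (K ⊓ Subgroup.center W : Subgroup W) := b.pgroup.to_subgroup _
  have hnt : Nontrivial (K ⊓ Subgroup.center W : Subgroup W) :=
    (Subgroup.nontrivial_iff_ne_bot _).2 h1
  obtain ⟨m, hm, hcard⟩ := (hp.nontrivial_iff_card).1 hnt
  obtain ⟨x, hx⟩ := exists_prime_orderOf_dvd_card' (G := (K ⊓ Subgroup.center W : Subgroup W)) 2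
    (by rw [hcard]; exact dvd_pow_self 2 hm.ne')
  have hxx : (x : W) * (x : W) = 1 := by
    have h2 : x ^ 2 = 1 := by rw [← hx]; exact pow_orderOf_eq_one x
    have h3 := congrArg Subtype.val h2
    rw [pow_two] at h3
    exact h3
  have hx1 : (x : W) ≠ 1 := by
    intro h2
    have h3 : x = 1 := Subtype.ext h2
    rw [h3, orderOf_one] at hx
    exact absurd hx (by norm_num)
  obtain ⟨hxK, hxZ⟩ := Subgroup.mem_inf.1 x.2
  rcases b.uniq x (fun y => ((Subgroup.mem_center_iff.1 hxZ) y).symm) hxx with h2 | h2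
  · exact absurd h2 hx1
  · rw [← h2]; exact hxK

/-- an endomorphism of `W` not killing `ζ` is injective. -/
theorem injective_of_zeta (b : WBase ζ) (β : W →* W) (hβ : β ζ ≠ 1) : Function.Injective β := by
  rw [← MonoidHom.ker_eq_bot_iff]
  by_contra hne
  exact hβ (MonoidHom.mem_ker.1 (zeta_mem_of_normal b β.ker hne))

/-- a hom to an abelian subgroup kills commutators -/
theorem map_commutator_eq_one (β : W →* W)
    (hβ : ∀ v v', β v * β v' = β v' * β v) (c : W) (hc : c ∈ commutator W) : β c = 1 := by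
  have h1 : commutator W ≤ β.ker := by
    rw [commutator_def, Subgroup.commutator_le]
    intro x _ v _
    rw [MonoidHom.mem_ker, map_commutatorElement, commutatorElement_eq_one_iff_mul_comm]
    exact hβ x v
  exact MonoidHom.mem_ker.1 (h1 hc)

theorem map_commutator_mem (β : W →* W) (c : W) (hc : c ∈ commutator W) :
    β c ∈ commutator W := by
  have h1 : (commutator W).map β ≤ commutator W := by
    rw [commutator_def, Subgroup.map_commutator]
    exact Subgroup.commutator_mono le_top le_top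
  exact h1 ⟨c, hc, rfl⟩

theorem zeta_mem_commutator (b : WBase ζ) : ζ ∈ commutator W := by
  obtain ⟨c, hc, hcc⟩ := b.derived_four
  rw [← hcc]
  exact (commutator W).mul_mem hc hc

end W

variable {G W : Type*} [Group G] [Group W]

/-- homs into `T = W × W`. -/
theorem exists_homs {S : Subgroup G} {f : W × W →* G} {w : G} (h : Wr S f w) (D : W →* G)
    (hD : ∀ v, D v ∈ f.range) : ∃ β α : W →* W, ∀ v, D v = f (β v, α v) := by
  let ψ : W →* f.range := D.codRestrict f.range hD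
  let e : W × W ≃* f.range := MonoidHom.ofInjective h.inj
  refine ⟨((MonoidHom.fst W W).comp e.symm.toMonoidHom).comp ψ,
    ((MonoidHom.snd W W).comp e.symm.toMonoidHom).comp ψ, fun v => ?_⟩
  have h1 : e (e.symm (ψ v)) = ψ v := e.apply_symm_apply _
  have h2 := congrArg Subtype.val h1
  exact h2.symm

/-- The diagonal hom `v ↦ g f(v,v) g⁻¹`. -/
def diag (f : W × W →* G) (g : G) : W →* G where
  toFun v := g * f (v, v) * g⁻¹
  map_one' := by
    have : f ((1 : W), (1 : W)) = 1 := map_one f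
    rw [this, mul_one, mul_inv_cancel]
  map_mul' a b := by
    have h1 : f (a * b, a * b) = f (a, a) * f (b, b) := by rw [← map_mul, Prod.mk_mul_mk]
    rw [h1]; group

theorem diag_apply (f : W × W →* G) (g : G) (v : W) : diag f g v = g * f (v, v) * g⁻¹ := rfl

/-- commutators of `S` lie in `T`. -/
theorem commutator_le_range {S : Subgroup G} {f : W × W →* G} {w : G} (h : Wr S f w)
    (D : W →* G) (hD : ∀ v, D v ∈ S) (c : W) (hc : c ∈ commutator W) : D c ∈ f.range := by
  have h1 : commutator W ≤ f.range.comap D := by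
    rw [commutator_def, Subgroup.commutator_le]
    intro x _ v _
    rw [Subgroup.mem_comap, commutatorElement_def, map_mul, map_mul, map_mul, map_inv, map_inv]
    have hidx : (f.range.subgroupOf S).index = 2 := TNotZ.relIndex_range h
    have h2 : (⟨D x, hD x⟩ * ⟨D v, hD v⟩ * (⟨D x, hD x⟩)⁻¹ * (⟨D v, hD v⟩)⁻¹ : S) ∈
        f.range.subgroupOf S := by
      rw [Subgroup.mul_mem_iff_of_index_two hidx, Subgroup.mul_mem_iff_of_index_two hidx,
        Subgroup.mul_mem_iff_of_index_two hidx, inv_mem_iff, inv_mem_iff]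
      tauto
    exact h2
  exact h1 hc

/-- The setting of (5): `g w g⁻¹ = f (x, y)` and `g C_S(w) g⁻¹ ≤ S`. -/
structure Ext (S : Subgroup G) (f : W × W →* G) (w g : G) (x y : W) : Prop where
  eq : g * w * g⁻¹ = f (x, y)
  le : ∀ r ∈ S, r * w = w * r → g * r * g⁻¹ ∈ S

namespace Ext

variable {S : Subgroup G} {f : W × W →* G} {w g : G} {x y ζ : W}

theorem diag_mem (h : Wr S f w) (k : Ext S f w g x y) (v : W) : diag f g v ∈ S := by
  rw [diag_apply]
  exact k.le _ (h.mem _) ((h.f_comm_w_iff v v).2 rfl)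

theorem diag_comm (h : Wr S f w) (k : Ext S f w g x y) (v : W) :
    diag f g v * f (x, y) = f (x, y) * diag f g v := by
  rw [diag_apply, ← k.eq]
  have h1 := (h.f_comm_w_iff v v).2 rfl
  calc g * f (v, v) * g⁻¹ * (g * w * g⁻¹) = g * (f (v, v) * w) * g⁻¹ := by group
    _ = g * (w * f (v, v)) * g⁻¹ := by rw [h1]
    _ = _ := by group

/-- swapping the two coordinates. -/
theorem swap (h : Wr S f w) (k : Ext S f w g x y) : Ext S f w (w * g) y x where
  eq := by
    calc w * g * w * (w * g)⁻¹ = w * (g * w * g⁻¹) * w⁻¹ := by group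
      _ = f (y, x) := by rw [k.eq, h.w_conj]
  le r hr hrw := by
    have h1 := k.le r hr hrw
    have h2 := S.mul_mem (S.mul_mem h.w_mem h1) (S.inv_mem h.w_mem)
    have e : w * (g * r * g⁻¹) * w⁻¹ = w * g * r * (w * g)⁻¹ := by group
    rwa [e] at h2

/-- conjugating by an element of `T`. -/
theorem conjT (h : Wr S f w) (k : Ext S f w g x y) (a b : W) :
    Ext S f w (f (a, b) * g) (a * x * a⁻¹) (b * y * b⁻¹) where
  eq := by
    calc f (a, b) * g * w * (f (a, b) * g)⁻¹ = f (a, b) * (g * w * g⁻¹) * (f (a, b))⁻¹ := by group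
      _ = _ := by rw [k.eq, ← map_inv, Prod.inv_mk, h.f_mul_f, h.f_mul_f]
  le r hr hrw := by
    have h1 := k.le r hr hrw
    have h2 := S.mul_mem (S.mul_mem (h.mem (a, b)) h1) (S.inv_mem (h.mem (a, b)))
    have e : f (a, b) * (g * r * g⁻¹) * (f (a, b))⁻¹ = f (a, b) * g * r * (f (a, b) * g)⁻¹ := by
      group
    rwa [e] at h2

/-- elements of `S` commuting with `f (x, y)`, `y` central, `x ≠ y`, are in `T`. -/
theorem mem_range_of_comm (h : Wr S f w) (hy : ∀ v, y * v = v * y) (hxy : x ≠ y) (r : G)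
    (hr : r ∈ S) (hc : r * f (x, y) = f (x, y) * r) : r ∈ f.range := by
  rcases h.cases r hr with ⟨a, b, rfl⟩ | ⟨a, b, rfl⟩
  · exact ⟨_, rfl⟩
  · exfalso
    have h1 := ((h.fw_comm_f_iff a b x y).1 hc).1
    rw [← hy a] at h1
    exact hxy (mul_right_cancel h1).symm

/-- involutions in `T'`. -/
theorem zz_cases (h : Wr S f w) (b : WBase ζ) (_k : Ext S f w g x y) (hT : ∀ v, diag f g v ∈ f.range) :
    g * f (ζ, ζ) * g⁻¹ = f (ζ, 1) ∨ g * f (ζ, ζ) * g⁻¹ = f (1, ζ) ∨
      g * f (ζ, ζ) * g⁻¹ = f (ζ, ζ) := by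
  obtain ⟨β, α, hβα⟩ := exists_homs h (diag f g) hT
  have hz := hβα ζ
  rw [diag_apply] at hz
  have h1 : β ζ * β ζ = 1 := by rw [← map_mul, b.sq, map_one]
  have h2 : α ζ * α ζ = 1 := by rw [← map_mul, b.sq, map_one]
  have h3 := b.derived_inv _ (map_commutator_mem β ζ (zeta_mem_commutator b)) h1
  have h4 := b.derived_inv _ (map_commutator_mem α ζ (zeta_mem_commutator b)) h2
  rw [hz]
  rcases h3 with h3 | h3 <;> rcases h4 with h4 | h4 <;> rw [h3, h4]
  · exfalso
    rw [h3, h4] at hz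
    have h5 : f ((1 : W), (1 : W)) = 1 := map_one f
    rw [h5, conj_eq_one_iff, h.f_eq_one_iff, Prod.mk_eq_one] at hz
    exact b.ne hz.1
  · right; left; rfl
  · left; rfl
  · right; right; rfl

/-- `z^g = z` in the cases where `C_S(w)^g ≤ T`. -/
theorem zz_eq [Finite G] {S : Sylow 2 G} (h : Wr (S : Subgroup G) f w) (b : WBase ζ)
    (k : Ext (S : Subgroup G) f w g x y) (hT : ∀ v, diag f g v ∈ f.range) :
    g * f (ζ, ζ) * g⁻¹ = f (ζ, ζ) := by
  have hn := TNotZ.not_conj h b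
  rcases zz_cases h b k hT with h1 | h1 | h1
  · exfalso
    apply hn
    apply IsConj.symm
    rw [isConj_iff]
    exact ⟨g, h1⟩
  · exfalso
    apply hn
    apply IsConj.symm
    rw [isConj_iff]
    refine ⟨w * g, ?_⟩
    calc w * g * f (ζ, ζ) * (w * g)⁻¹ = w * (g * f (ζ, ζ) * g⁻¹) * w⁻¹ := by group
      _ = f (ζ, 1) := by rw [h1, h.w_conj]
  · exact h1

/-- `w^g = (x, y)` with `x` a noncentral involution, `y` central: impossible. -/
theorem not_mixed [Finite G] {S : Sylow 2 G} (h : Wr (S : Subgroup G) f w) (b : WBase ζ)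
    (k : Ext (S : Subgroup G) f w g x y) (hx : x * x = 1) (hx1 : x ≠ 1) (hxζ : x ≠ ζ)
    (hy : y = 1 ∨ y = ζ) : False := by
  have hyc : ∀ v, y * v = v * y := by
    intro v
    rcases hy with rfl | rfl
    · rw [one_mul, mul_one]
    · exact b.central v
  have hxy : x ≠ y := by
    rcases hy with rfl | rfl
    · exact hx1
    · exact hxζ
  have hT : ∀ v, diag f g v ∈ f.range := fun v =>
    mem_range_of_comm h hyc hxy _ (k.diag_mem h v) (k.diag_comm h v)
  have hz := k.zz_eq h b hT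
  obtain ⟨β, α, hβα⟩ := exists_homs h (diag f g) hT
  have hβx : ∀ v, β v * x = x * β v := by
    intro v
    have h1 := k.diag_comm h v
    rw [hβα v, h.f_comm_f_iff] at h1
    exact h1.1
  have h1 : β ζ = 1 := map_commutator_eq_one β
    (fun v v' => b.cent_abelian x hx hx1 hxζ _ _ (hβx v) (hβx v')) ζ (zeta_mem_commutator b)
  have h2 := hβα ζ
  rw [diag_apply, hz, h.f_eq_iff, Prod.mk.injEq, h1] at h2
  exact b.ne h2.1

/-- `w^g = t`: then `t` is conjugate to an involution `(x', y')` with both components noncentral,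
inside `C_G(z)`. -/
theorem case_t [Finite G] {S : Sylow 2 G} (h : Wr (S : Subgroup G) f w) (b : WBase ζ)
    (k : Ext (S : Subgroup G) f w g ζ 1) (e : W) (he : e * e = 1) :
    g * f (ζ, ζ) * g⁻¹ = f (ζ, ζ) ∧
    ∃ β α : W →* W, Function.Injective β ∧ Function.Injective α ∧ β ζ = ζ ∧ α ζ = ζ ∧
      (∀ v, g * f (v, v) * g⁻¹ = f (β v, α v)) ∧
      ∃ c, c * f (ζ, 1) * c⁻¹ = f (ζ * β e, α e) ∧ c * f (ζ, ζ) * c⁻¹ = f (ζ, ζ) := by
  have hT : ∀ v, diag f g v ∈ f.range := fun v =>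
    mem_range_of_comm h (fun v => by rw [one_mul, mul_one]) b.ne _ (k.diag_mem h v)
      (k.diag_comm h v)
  have hz := k.zz_eq h b hT
  obtain ⟨β, α, hβα⟩ := exists_homs h (diag f g) hT
  have h2 := hβα ζ
  rw [diag_apply, hz, h.f_eq_iff, Prod.mk.injEq] at h2
  have hβ : β ζ = ζ := h2.1.symm
  have hα : α ζ = ζ := h2.2.symm
  refine ⟨hz, β, α, injective_of_zeta b β (by rw [hβ]; exact b.ne),
    injective_of_zeta b α (by rw [hα]; exact b.ne), hβ, hα, fun v => hβα v, ?_⟩
  refine ⟨g * f (e, 1) * g⁻¹, ?_, ?_⟩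
  · have h3 : f (e, 1) * w * (f (e, 1))⁻¹ = f (e, e) * w := by
      rw [h.f_conj_w]
      congr 2
      rw [inv_one, mul_one, one_mul]
      rw [inv_eq_of_mul_eq_one_left he]
    rw [← k.eq]
    calc g * f (e, 1) * g⁻¹ * (g * w * g⁻¹) * (g * f (e, 1) * g⁻¹)⁻¹
        = g * (f (e, 1) * w * (f (e, 1))⁻¹) * g⁻¹ := by group
      _ = g * (f (e, e) * w) * g⁻¹ := by rw [h3]
      _ = (g * f (e, e) * g⁻¹) * (g * w * g⁻¹) := by group
      _ = f (β e, α e) * f (ζ, 1) := by rw [k.eq, ← diag_apply, hβα]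
      _ = f (ζ * β e, α e) := by rw [h.f_mul_f, mul_one, b.central]
  · have h3 := TNotZ.z_comm h b _ (h.mem (e, 1))
    calc g * f (e, 1) * g⁻¹ * f (ζ, ζ) * (g * f (e, 1) * g⁻¹)⁻¹
        = g * f (e, 1) * g⁻¹ * (g * f (ζ, ζ) * g⁻¹) * (g * f (e, 1) * g⁻¹)⁻¹ := by rw [hz]
      _ = g * (f (e, 1) * f (ζ, ζ)) * (f (e, 1))⁻¹ * g⁻¹ := by group
      _ = g * (f (ζ, ζ) * f (e, 1)) * (f (e, 1))⁻¹ * g⁻¹ := by rw [h3]
      _ = g * f (ζ, ζ) * g⁻¹ := by group
      _ = _ := hz

end Ext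

/-- The reduction: extremal transfer for `w` and `T`. -/
theorem exists_ext [Finite G] {S : Sylow 2 G} {f : W × W →* G} {w : G}
    (h : Wr (S : Subgroup G) f w) (hG : ∀ φ : G →* ℤˣ, ∀ x, φ x = 1) :
    ∃ g x y, Ext (S : Subgroup G) f w g x y ∧ x * x = 1 ∧ y * y = 1 ∧ ¬ (x = 1 ∧ y = 1) ∧
      ∀ R : Subgroup G, IsPGroup 2 R → (∀ r ∈ R, r * f (x, y) = f (x, y) * r) →
        (∀ r ∈ (S : Subgroup G), r * f (x, y) = f (x, y) * r → r ∈ R) →
        R ≤ (S : Subgroup G) := by
  -- a Sylow 2-subgroup of `C_G(w)` containing `C_S(w)`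
  obtain ⟨R, hxR, hRN, hR, hRi⟩ := Cfsg.Agent.Lib.GoldschmidtFusion.exists_sylow_in (p := 2)
    (N := centralizer ({w} : Set G)) (D := (S : Subgroup G) ⊓ centralizer ({w} : Set G))
    inf_le_right (S.isPGroup'.to_le inf_le_left)
  obtain ⟨g, hgT, hgR⟩ := SylowSp4.ExtTransfer.exists_extremal S f.range h.range_le
    (TNotZ.relIndex_range h) w h.w_w (fun φ => hG φ w) R hR
    (fun r hr => mem_centralizer_singleton_iff.1 (hRN hr))
  obtain ⟨⟨x, y⟩, hxy⟩ := hgT
  have hsq : f (x, y) * f (x, y) = 1 := by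
    rw [hxy]
    calc g * w * g⁻¹ * (g * w * g⁻¹) = g * (w * w) * g⁻¹ := by group
      _ = 1 := by rw [h.w_w]; group
  rw [h.f_mul_f, h.f_eq_one_iff, Prod.mk_eq_one] at hsq
  refine ⟨g, x, y, ⟨hxy.symm, fun r hr hrw => hgR r (hxR ?_)⟩, hsq.1, hsq.2, ?_, ?_⟩
  · exact Subgroup.mem_inf.2 ⟨hr, mem_centralizer_singleton_iff.2 hrw⟩
  · rintro ⟨rfl, rfl⟩
    have h1 : f ((1 : W), (1 : W)) = 1 := map_one f
    rw [h1, eq_comm, conj_eq_one_iff] at hxy
    exact h.w_ne_one hxy
  · intro R' hR' hR'c hR'S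
    -- `R^g` is a Sylow 2-subgroup of `C_G(f(x,y))` inside `S`, so it equals `C_S(f(x,y)) ≤ R'`
    have hRle : R.map (MulAut.conj g).toMonoidHom ≤ (S : Subgroup G) := by
      rintro _ ⟨r, hr, rfl⟩
      exact hgR r hr
    have hRle' : R.map (MulAut.conj g).toMonoidHom ≤ R' := by
      rintro _ ⟨r, hr, rfl⟩
      apply hR'S _ (hgR r hr)
      have h1 := mem_centralizer_singleton_iff.1 (hRN hr)
      rw [hxy]
      change g * r * g⁻¹ * (g * w * g⁻¹) = g * w * g⁻¹ * (g * r * g⁻¹)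
      calc g * r * g⁻¹ * (g * w * g⁻¹) = g * (r * w) * g⁻¹ := by group
        _ = g * (w * r) * g⁻¹ := by rw [h1]
        _ = _ := by group
    -- pull `R'` back into `C_G(w)`
    have hR'2 : IsPGroup 2 (R'.map (MulAut.conj g⁻¹).toMonoidHom) := hR'.map _
    have hR'N : R'.map (MulAut.conj g⁻¹).toMonoidHom ≤ centralizer ({w} : Set G) := by
      rintro _ ⟨r, hr, rfl⟩
      rw [mem_centralizer_singleton_iff]
      have h1 := hR'c r hr
      rw [hxy] at h1
      change g⁻¹ * r * g⁻¹⁻¹ * w = w * (g⁻¹ * r * g⁻¹⁻¹)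
      rw [inv_inv]
      calc g⁻¹ * r * g * w = g⁻¹ * (r * (g * w * g⁻¹)) * g := by group
        _ = g⁻¹ * (g * w * g⁻¹ * r) * g := by rw [h1]
        _ = _ := by group
    obtain ⟨m, hm, hmD⟩ := Cfsg.Agent.Lib.GoldschmidtFusion.exists_conj_le_in hR hRi hR'N hR'2
    have hc1 : Nat.card R' ≤ Nat.card R := by
      have h1 : Nat.card ((R'.map (MulAut.conj g⁻¹).toMonoidHom).map (MulAut.conj m).toMonoidHom) =
        Nat.card R' := by
        rw [Subgroup.card_map_of_injective (MulAut.conj m).injective,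
          Subgroup.card_map_of_injective (MulAut.conj g⁻¹).injective]
      rw [← h1]
      exact Nat.le_of_dvd Nat.card_pos (Subgroup.card_dvd_of_le hmD)
    have hc2 : Nat.card (R.map (MulAut.conj g).toMonoidHom) = Nat.card R :=
      Subgroup.card_map_of_injective (MulAut.conj g).injective
    have h3 : R.map (MulAut.conj g).toMonoidHom = R' :=
      Subgroup.eq_of_le_of_card_ge hRle' (by rw [hc2]; exact hc1)
    rw [← h3]
    exact hRle

end Cfsg.Agent.TypeLFive.Five
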