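import Mathlib
import Cfsg.Agent.TypeLFive.Five

/-!
# S0511 (F), step (5) for `W` semidihedral
-/

set_option autoImplicit false

namespace Cfsg.Agent.TypeLFive.SDFive

open Subgroup Cfsg.Agent.TypeLFive.Model Cfsg.Agent.TypeLFive.Facts Cfsg.Agent.TypeLFive.Five
open Cfsg.Agent.TwoFusion.QDBasic Cfsg.Agent.TwoFusion.WreathedBasic

variable {G W : Type*} [Group G] [Group W] [Finite G] {n : ℕ} {u : ZMod (2 ^ n) → W} {y : W}

omit [Finite G] in
/-- `w^g` is not of type `(e', e'')`. -/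
theorem not_two {S : Sylow 2 G} {f : W × W →* G} {w g : G} {p q : W}
    (h : Wr (S : Subgroup G) f w) (hc : IsQDCoord n u y)
    (k : Ext (S : Subgroup G) f w g p q) (hp : p * p = 1) (hp1 : p ≠ 1)
    (hp2 : p ≠ u (2 ^ (n - 1))) (hq : q * q = 1) (hq1 : q ≠ 1) (hq2 : q ≠ u (2 ^ (n - 1))) :
    False := by
  have b := sd_base hc
  obtain ⟨c, hcc, hc2⟩ := b.derived_four
  obtain ⟨⟨c1, c2⟩, hcT⟩ := commutator_le_range h (diag f g) (k.diag_mem h) c hcc
  have h1 := k.diag_comm h c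
  rw [← hcT, h.f_comm_f_iff] at h1
  have key : ∀ x v : W, x * x = 1 → x ≠ 1 → x ≠ u (2 ^ (n - 1)) → v * x = x * v → v * v = 1 := by
    intro x v hx hx1 hx2 hv
    obtain ⟨a, rfl⟩ := sd_inv_cases hc x hx hx1 hx2
    have hζ := sd_zeta_sq hc
    have hζc := sd_zeta_central hc
    rcases sd_cent hc _ v hv with rfl | rfl | rfl | rfl
    · rw [one_mul]
    · exact hζ
    · exact hx
    · calc u (2 ^ (n - 1)) * (u (2 * a) * y) * (u (2 ^ (n - 1)) * (u (2 * a) * y))
          = u (2 ^ (n - 1)) * ((u (2 * a) * y) * u (2 ^ (n - 1))) * (u (2 * a) * y) := by group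
        _ = u (2 ^ (n - 1)) * (u (2 ^ (n - 1)) * (u (2 * a) * y)) * (u (2 * a) * y) := by
            rw [← hζc]
        _ = (u (2 ^ (n - 1)) * u (2 ^ (n - 1))) * ((u (2 * a) * y) * (u (2 * a) * y)) := by group
        _ = 1 := by rw [hζ, hx, one_mul]
  have h2 : c1 * c1 = 1 := key p c1 hp hp1 hp2 h1.1
  have h3 : c2 * c2 = 1 := key q c2 hq hq1 hq2 h1.2
  have h4 : diag f g (u (2 ^ (n - 1))) = 1 := by
    rw [← hc2, map_mul, ← hcT, h.f_mul_f, h2, h3]
    exact map_one f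
  rw [diag_apply, conj_eq_one_iff, h.f_eq_one_iff, Prod.mk_eq_one] at h4
  exact b.ne h4.1

/-- `w^g ≠ z`. -/
theorem not_z {S : Sylow 2 G} {f : W × W →* G} {w g : G}
    (h : Wr (S : Subgroup G) f w) (hc : IsQDCoord n u y)
    (k : Ext (S : Subgroup G) f w g (u (2 ^ (n - 1))) (u (2 ^ (n - 1)))) : False := by
  have b := sd_base hc
  have hn := TNotZ.not_conj h b
  obtain ⟨c, hcc, hc2⟩ := b.derived_four
  obtain ⟨⟨c1, c2⟩, hcT⟩ := commutator_le_range h (diag f g) (k.diag_mem h) c hcc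
  have hz : diag f g (u (2 ^ (n - 1))) = f (c1 * c1, c2 * c2) := by
    rw [← hc2, map_mul, ← hcT, h.f_mul_f]
  have hzz : diag f g (u (2 ^ (n - 1))) * diag f g (u (2 ^ (n - 1))) = 1 := by
    rw [← map_mul, b.sq, map_one]
  rw [hz, h.f_mul_f, h.f_eq_one_iff, Prod.mk_eq_one] at hzz
  rw [diag_apply] at hz
  rcases sd_sq_cases hc c1 hzz.1 with h1 | h1 <;> rcases sd_sq_cases hc c2 hzz.2 with h2 | h2 <;>
    rw [h1, h2] at hz
  · have h3 : f ((1 : W), (1 : W)) = 1 := map_one f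
    rw [h3, conj_eq_one_iff, h.f_eq_one_iff, Prod.mk_eq_one] at hz
    exact b.ne hz.1
  · apply hn
    apply IsConj.symm
    rw [isConj_iff]
    refine ⟨w * g, ?_⟩
    calc w * g * f (u (2 ^ (n - 1)), u (2 ^ (n - 1))) * (w * g)⁻¹
        = w * (g * f (u (2 ^ (n - 1)), u (2 ^ (n - 1))) * g⁻¹) * w⁻¹ := by group
      _ = f (u (2 ^ (n - 1)), 1) := by rw [hz, h.w_conj]
  · apply hn
    apply IsConj.symm
    rw [isConj_iff]
    exact ⟨g, hz⟩
  · exact h.w_ne _ (mul_left_cancel (mul_right_cancel (hz.trans k.eq.symm)))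

omit [Finite G] in
/-- noncentral involutions of `W` are conjugate to `y`. -/
theorem conj_y (hc : IsQDCoord n u y) (x : W) (hx : x * x = 1) (hx1 : x ≠ 1)
    (hx2 : x ≠ u (2 ^ (n - 1))) : ∃ a, a * x * a⁻¹ = y := by
  obtain ⟨a, rfl⟩ := sd_inv_cases hc x hx hx1 hx2
  obtain ⟨c, hc'⟩ := sd_conj_y hc a
  refine ⟨(u c)⁻¹, ?_⟩
  rw [← hc']; group

/-- **(5) for SD**: `w` is conjugate to `t`, and `t` to `(y, y)`. -/
theorem main {S : Sylow 2 G} {f : W × W →* G} {w : G}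
    (h : Wr (S : Subgroup G) f w) (hc : IsQDCoord n u y) (hG : ∀ φ : G →* ℤˣ, ∀ x, φ x = 1) :
    IsConj (f (u (2 ^ (n - 1)), 1)) w ∧ IsConj (f (u (2 ^ (n - 1)), 1)) (f (y, y)) := by
  have b := sd_base hc
  -- it is enough to find an extremal `g` with `w^g = t`
  have key : ∀ g, Ext (S : Subgroup G) f w g (u (2 ^ (n - 1))) 1 →
      IsConj (f (u (2 ^ (n - 1)), 1)) w ∧ IsConj (f (u (2 ^ (n - 1)), 1)) (f (y, y)) := by
    intro g k
    have hyy := hc.y_y
    have hy1 : y ≠ 1 := by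
      intro h1
      have h2 := hc.u_ne 0 0
      rw [h1, mul_one] at h2
      exact h2 rfl
    have hyζ : y ≠ u (2 ^ (n - 1)) := by
      intro h1
      have h2 := hc.u_ne (2 ^ (n - 1)) 0
      rw [hc.u_zero, one_mul] at h2
      exact h2 h1.symm
    obtain ⟨hz, β, α, hβ, hα, hβζ, hαζ, -, c, hc1, -⟩ := k.case_t h b y hyy
    refine ⟨IsConj.symm (isConj_iff.2 ⟨g, k.eq⟩), ?_⟩
    have hx : u (2 ^ (n - 1)) * β y * (u (2 ^ (n - 1)) * β y) = 1 := by
      have h1 : β y * β y = 1 := by rw [← map_mul, hyy, map_one]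
      calc u (2 ^ (n - 1)) * β y * (u (2 ^ (n - 1)) * β y)
          = u (2 ^ (n - 1)) * (β y * u (2 ^ (n - 1))) * β y := by group
        _ = u (2 ^ (n - 1)) * (u (2 ^ (n - 1)) * β y) * β y := by rw [b.central (β y)]
        _ = (u (2 ^ (n - 1)) * u (2 ^ (n - 1))) * (β y * β y) := by group
        _ = 1 := by rw [b.sq, h1, one_mul]
    have hx1 : u (2 ^ (n - 1)) * β y ≠ 1 := by
      intro h1
      apply hyζ
      apply hβ
      rw [hβζ]
      calc β y = u (2 ^ (n - 1)) * u (2 ^ (n - 1)) * β y := by rw [b.sq, one_mul]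
        _ = u (2 ^ (n - 1)) * (u (2 ^ (n - 1)) * β y) := by group
        _ = _ := by rw [h1, mul_one]
    have hx2 : u (2 ^ (n - 1)) * β y ≠ u (2 ^ (n - 1)) := by
      intro h1
      apply hy1
      apply hβ
      rw [map_one]
      exact mul_eq_left.1 h1
    have hv : α y * α y = 1 := by rw [← map_mul, hyy, map_one]
    have hv1 : α y ≠ 1 := by
      intro h1
      apply hy1
      apply hα
      rw [h1, map_one]
    have hv2 : α y ≠ u (2 ^ (n - 1)) := by
      intro h1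
      apply hyζ
      apply hα
      rw [h1, hαζ]
    obtain ⟨a, ha⟩ := conj_y hc _ hx hx1 hx2
    obtain ⟨a', ha'⟩ := conj_y hc _ hv hv1 hv2
    rw [isConj_iff]
    refine ⟨f (a, a') * c, ?_⟩
    calc f (a, a') * c * f (u (2 ^ (n - 1)), 1) * (f (a, a') * c)⁻¹
        = f (a, a') * (c * f (u (2 ^ (n - 1)), 1) * c⁻¹) * (f (a, a'))⁻¹ := by group
      _ = f (y, y) := by rw [hc1, ← map_inv, Prod.inv_mk, h.f_mul_f, h.f_mul_f, ha, ha']
  obtain ⟨g, p, q, k, hp, hq, hpq, -⟩ := exists_ext h hG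
  by_cases hp1 : p = 1
  · subst hp1
    have hq1 : q ≠ 1 := fun hq1 => hpq ⟨rfl, hq1⟩
    by_cases hq2 : q = u (2 ^ (n - 1))
    · subst hq2
      exact key _ (k.swap h)
    · exact ((k.swap h).not_mixed h b hq hq1 hq2 (Or.inl rfl)).elim
  · by_cases hp2 : p = u (2 ^ (n - 1))
    · subst hp2
      by_cases hq1 : q = 1
      · subst hq1
        exact key _ k
      · by_cases hq2 : q = u (2 ^ (n - 1))
        · subst hq2
          exact (not_z h hc k).elim
        · exact ((k.swap h).not_mixed h b hq hq1 hq2 (Or.inr rfl)).elim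
    · by_cases hq1 : q = 1
      · exact (k.not_mixed h b hp hp1 hp2 (Or.inl hq1)).elim
      · by_cases hq2 : q = u (2 ^ (n - 1))
        · exact (k.not_mixed h b hp hp1 hp2 (Or.inr hq2)).elim
        · exact (not_two h hc k hp hp1 hp2 hq hq1 hq2).elim

end Cfsg.Agent.TypeLFive.SDFive
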