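import Mathlib
import Cfsg.Agent.TypeLFive.Facts

/-!
# The wreathed case: `A ≅ (Z_{2^n})^4` is weakly closed in `S`
-/

set_option autoImplicit false

namespace Cfsg.Agent.TypeLFive.WRWeak

open Cfsg.Agent.TypeLFive.Model Cfsg.Agent.TypeLFive.Facts
open Cfsg.Agent.TwoFusion.QDBasic Cfsg.Agent.TwoFusion.WreathedBasic

variable {G W : Type*} [Group G] [Group W] {n : ℕ} {u : ZMod (2 ^ n) → ZMod (2 ^ n) → W} {s : W}

/-- The homocyclic abelian subgroup `A = f '' (A₀ × A₀)`. -/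
def abA (f : W × W →* G) (h : IsWCoord n u s) : Subgroup G := (h.base.prod h.base).map f

theorem mem_abA (f : W × W →* G) (h : IsWCoord n u s) (g : G) :
    g ∈ abA f h ↔ ∃ a b c d, g = f (u a b, u c d) := by
  constructor
  · rintro ⟨⟨x, y⟩, ⟨⟨a, b, hx⟩, ⟨c, d, hy⟩⟩, rfl⟩
    simp only at hx hy
    exact ⟨a, b, c, d, by rw [hx, hy]⟩
  · rintro ⟨a, b, c, d, rfl⟩
    exact ⟨_, ⟨⟨a, b, rfl⟩, ⟨c, d, rfl⟩⟩, rfl⟩

theorem f_mem_abA (f : W × W →* G) (h : IsWCoord n u s) (a b c d : ZMod (2 ^ n)) :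
    f (u a b, u c d) ∈ abA f h := (mem_abA f h _).2 ⟨a, b, c, d, rfl⟩

theorem abA_comm (f : W × W →* G) (h : IsWCoord n u s) (x : G) (hx : x ∈ abA f h) (y : G)
    (hy : y ∈ abA f h) : x * y = y * x := by
  obtain ⟨a, b, c, d, rfl⟩ := (mem_abA f h x).1 hx
  obtain ⟨a', b', c', d', rfl⟩ := (mem_abA f h y).1 hy
  rw [← map_mul, ← map_mul, Prod.mk_mul_mk, Prod.mk_mul_mk, h.u_comm a b, h.u_comm c d]

theorem card_abA (f : W × W →* G) (hf : Function.Injective f) (h : IsWCoord n u s) :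
    Nat.card (abA f h) = 2 ^ (4 * n) := by
  unfold abA
  rw [Subgroup.card_map_of_injective hf]
  have e : Nat.card (h.base.prod h.base) = Nat.card h.base * Nat.card h.base := by
    rw [Nat.card_congr (Subgroup.prodEquiv h.base h.base).toEquiv, Nat.card_prod]
  rw [e, h.card_base, ← pow_add]
  congr 1; ring

theorem abA_le {S : Subgroup G} {f : W × W →* G} {w : G} (hw : Wr S f w) (h : IsWCoord n u s) :
    abA f h ≤ S := by
  rintro _ ⟨p, -, rfl⟩
  exact hw.mem p

/-- covering a subgroup by the values of a function. -/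
theorem card_le_of_cover {α : Type*} [Finite α] {H : Type*} [Group H] (C : Subgroup H)
    (g : α → H) (hg : ∀ x ∈ C, ∃ a, g a = x) : Nat.card C ≤ Nat.card α := by
  choose k hk using fun x : C => hg x x.2
  apply Nat.card_le_card_of_injective k
  intro x y hxy
  apply Subtype.ext
  rw [← hk x, ← hk y, hxy]

/-- abelian subgroups of `W`. -/
theorem abelian_card (h : IsWCoord n u s) (C : Subgroup W)
    (hC : ∀ x ∈ C, ∀ y ∈ C, x * y = y * x) : C ≤ h.base ∨ Nat.card C ≤ 2 ^ (n + 1) := by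
  by_cases hCb : C ≤ h.base
  · exact Or.inl hCb
  · right
    rw [SetLike.not_le_iff_exists] at hCb
    obtain ⟨x, hx, hxb⟩ := hCb
    obtain ⟨a, b, rfl⟩ := (h.not_mem_base x).1 hxb
    have h1 : Nat.card C ≤ Nat.card (ZMod (2 ^ n) ⊕ ZMod (2 ^ n)) := by
      apply card_le_of_cover C
        (Sum.elim (fun c => u c c) (fun c => u c c * (u a b * s)))
      intro v hv
      rcases wr_cent_us h a b v (hC v hv _ hx) with ⟨c, rfl⟩ | ⟨c, rfl⟩
      · exact ⟨Sum.inl c, rfl⟩
      · exact ⟨Sum.inr c, rfl⟩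
    rw [Nat.card_sum, Nat.card_zmod] at h1
    calc Nat.card C ≤ 2 ^ n + 2 ^ n := h1
      _ = 2 ^ (n + 1) := by ring

theorem card_prod_le {A B : Type*} [Group A] [Group B] [Finite A] [Finite B]
    (C : Subgroup (A × B)) :
    Nat.card C ≤ Nat.card (C.map (MonoidHom.fst A B)) * Nat.card (C.map (MonoidHom.snd A B)) := by
  rw [← Nat.card_prod]
  apply Nat.card_le_card_of_injective
    (fun x : C => ((⟨x.1.1, ⟨x.1, x.2, rfl⟩⟩ : C.map (MonoidHom.fst A B)),
      (⟨x.1.2, ⟨x.1, x.2, rfl⟩⟩ : C.map (MonoidHom.snd A B))))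
  intro x y hxy
  rw [Prod.mk.injEq] at hxy
  exact Subtype.ext (Prod.ext (congrArg Subtype.val hxy.1) (congrArg Subtype.val hxy.2))

/-- an abelian subgroup of `S` of the order of `A` is `A`. -/
theorem le_abA {S : Subgroup G} {f : W × W →* G} {w : G} (hw : Wr S f w) (h : IsWCoord n u s)
    (B : Subgroup G) (hBS : B ≤ S) (hB : ∀ x ∈ B, ∀ y ∈ B, x * y = y * x)
    (hcard : Nat.card B = 2 ^ (4 * n)) : B ≤ abA f h := by
  have hn := h.two_le
  have hfin := h.finite
  have hfinB : Finite B := Nat.finite_of_card_ne_zero (by rw [hcard]; positivity)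
  by_cases hBT : B ≤ f.range
  · -- inside `T`
    let C : Subgroup (W × W) := B.comap f
    have hCmap : C.map f = B := Subgroup.map_comap_eq_self hBT
    have hCcard : Nat.card C = 2 ^ (4 * n) := by
      rw [← hcard, ← hCmap, Subgroup.card_map_of_injective hw.inj]
    let C1 : Subgroup W := C.map (MonoidHom.fst W W)
    let C2 : Subgroup W := C.map (MonoidHom.snd W W)
    have hCc : ∀ p ∈ C, ∀ q ∈ C, p * q = q * p := by
      intro p hp q hq
      apply hw.inj
      rw [map_mul, map_mul]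
      exact hB _ hp _ hq
    have hC1 : ∀ x ∈ C1, ∀ y ∈ C1, x * y = y * x := by
      rintro _ ⟨p, hp, rfl⟩ _ ⟨q, hq, rfl⟩
      rw [← map_mul, ← map_mul, hCc p hp q hq]
    have hC2 : ∀ x ∈ C2, ∀ y ∈ C2, x * y = y * x := by
      rintro _ ⟨p, hp, rfl⟩ _ ⟨q, hq, rfl⟩
      rw [← map_mul, ← map_mul, hCc p hp q hq]
    have hle : 2 ^ (4 * n) ≤ Nat.card C1 * Nat.card C2 := by
      rw [← hCcard]; exact card_prod_le C
    have hbd : ∀ D : Subgroup W, (∀ x ∈ D, ∀ y ∈ D, x * y = y * x) →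
        Nat.card D ≤ 2 ^ (2 * n) := by
      intro D hD
      rcases abelian_card h D hD with h1 | h1
      · have h2 : Nat.card D ≤ Nat.card h.base := Nat.le_of_dvd Nat.card_pos
          (Subgroup.card_dvd_of_le h1)
        rwa [h.card_base] at h2
      · exact h1.trans (Nat.pow_le_pow_right (by norm_num) (by omega))
    have hlt : 2 ^ (n + 1) * 2 ^ (2 * n) < 2 ^ (4 * n) := by
      rw [← pow_add]
      exact Nat.pow_lt_pow_right (by norm_num) (by omega)
    have h1 : C1 ≤ h.base := by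
      rcases abelian_card h C1 hC1 with h1 | h1
      · exact h1
      · exfalso
        have h2 := Nat.mul_le_mul h1 (hbd C2 hC2)
        omega
    have h2 : C2 ≤ h.base := by
      rcases abelian_card h C2 hC2 with h2 | h2
      · exact h2
      · exfalso
        have h3 := Nat.mul_le_mul (hbd C1 hC1) h2
        rw [mul_comm (2 ^ (2 * n))] at h3
        omega
    rw [← hCmap]
    rintro _ ⟨p, hp, rfl⟩
    exact ⟨p, ⟨h1 ⟨p, hp, rfl⟩, h2 ⟨p, hp, rfl⟩⟩, rfl⟩
  · -- not inside `T`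
    exfalso
    rw [SetLike.not_le_iff_exists] at hBT
    obtain ⟨x, hx, hxT⟩ := hBT
    obtain ⟨a, b, rfl⟩ : ∃ a b, x = f (a, b) * w := by
      rcases hw.cases x (hBS hx) with ⟨a, b, rfl⟩ | h1
      · exact absurd ⟨_, rfl⟩ hxT
      · exact h1
    have h1 : Nat.card B ≤ Nat.card (W ⊕ W) := by
      apply card_le_of_cover B
        (Sum.elim (fun v => f (v, a⁻¹ * v * a)) (fun v => f (v, a⁻¹ * v * a) * (f (a, b) * w)))
      intro y hy
      have key : ∀ p q, f (p, q) ∈ B → q = a⁻¹ * p * a := by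
        intro p q hpq
        have h2 := ((hw.fw_comm_f_iff a b p q).1 (hB _ hx _ hpq)).1
        calc q = a⁻¹ * (a * q) := by group
          _ = a⁻¹ * (p * a) := by rw [h2]
          _ = _ := by group
      rcases hw.cases y (hBS hy) with ⟨p, q, rfl⟩ | ⟨p, q, rfl⟩
      · refine ⟨Sum.inl p, ?_⟩
        rw [Sum.elim_inl, ← key p q hy]
      · have h3 : f (p, q) * w * (f (a, b) * w)⁻¹ = f (p * a⁻¹, q * b⁻¹) := by
          rw [hw.fw_inv, hw.fw_mul_fw]
        have h4 : f (p * a⁻¹, q * b⁻¹) ∈ B := by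
          rw [← h3]; exact B.mul_mem hy (B.inv_mem hx)
        refine ⟨Sum.inr (p * a⁻¹), ?_⟩
        rw [Sum.elim_inr, ← key _ _ h4, ← h3]
        group
    rw [Nat.card_sum, h.card, hcard] at h1
    have h2 : 2 ^ (2 * n + 1) + 2 ^ (2 * n + 1) = 2 ^ (2 * n + 2) := by ring
    rw [h2] at h1
    have h3 : 2 ^ (2 * n + 2) < 2 ^ (4 * n) := Nat.pow_lt_pow_right (by norm_num) (by omega)
    omega

/-- `A` is weakly closed in `S`. -/
theorem weak {S : Subgroup G} {f : W × W →* G} {w : G} (hw : Wr S f w) (h : IsWCoord n u s)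
    (g : G) (hg : (abA f h).map (MulAut.conj g).toMonoidHom ≤ S) :
    (abA f h).map (MulAut.conj g).toMonoidHom = abA f h := by
  have hcard : Nat.card ((abA f h).map (MulAut.conj g).toMonoidHom) = 2 ^ (4 * n) := by
    rw [Subgroup.card_map_of_injective (MulAut.conj g).injective, card_abA f hw.inj h]
  have hfin : Finite (abA f h) :=
    Nat.finite_of_card_ne_zero (by rw [card_abA f hw.inj h]; positivity)
  apply Subgroup.eq_of_le_of_card_ge
  · apply le_abA hw h _ hg _ hcard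
    rintro _ ⟨x, hx, rfl⟩ _ ⟨y, hy, rfl⟩
    rw [← map_mul, ← map_mul, abA_comm f h x hx y hy]
  · rw [hcard, card_abA f hw.inj h]

end Cfsg.Agent.TypeLFive.WRWeak
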