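import Mathlib
import Cfsg.Agent.TypeLFive.SDFive
import Cfsg.Agent.TypeLFive.WRWeak

/-!
# S0511 (F), `W` semidihedral: the conjugates of `E` inside `S`
-/

set_option autoImplicit false

namespace Cfsg.Agent.TypeLFive.SDE16

open Subgroup Cfsg.Agent.TypeLFive.Model Cfsg.Agent.TypeLFive.Facts Cfsg.Agent.TypeLFive.WRWeak
open Cfsg.Agent.TwoFusion.QDBasic

variable {G W : Type*} [Group G] [Group W] {n : ℕ} {u : ZMod (2 ^ n) → W} {y : W}

theorem y_ne_one (hc : IsQDCoord n u y) : y ≠ 1 := by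
  intro h1
  have h2 := hc.u_ne 0 0
  rw [h1, mul_one] at h2
  exact h2 rfl

theorem y_ne_zeta (hc : IsQDCoord n u y) : y ≠ u (2 ^ (n - 1)) := by
  intro h1
  have h2 := hc.u_ne (2 ^ (n - 1)) 0
  rw [hc.u_zero, one_mul] at h2
  exact h2 h1.symm

/-- `V = C_W(y) = {1, ζ, y, ζ y}`. -/
theorem cent_cases (hc : IsQDCoord n u y) (v : W) (hv : v ∈ centralizer ({y} : Set W)) :
    v = 1 ∨ v = u (2 ^ (n - 1)) ∨ v = y ∨ v = u (2 ^ (n - 1)) * y := by
  have h1 := sd_cent hc 0 v (by
    rw [hc.u_zero, one_mul]; exact mem_centralizer_singleton_iff.1 hv)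
  rwa [hc.u_zero, one_mul] at h1

theorem cent_sq (hc : IsQDCoord n u y) (v : W) (hv : v ∈ centralizer ({y} : Set W)) :
    v * v = 1 := by
  have b := sd_base hc
  rcases cent_cases hc v hv with rfl | rfl | rfl | rfl
  · rw [one_mul]
  · exact b.sq
  · exact hc.y_y
  · calc u (2 ^ (n - 1)) * y * (u (2 ^ (n - 1)) * y)
        = u (2 ^ (n - 1)) * (y * u (2 ^ (n - 1))) * y := by group
      _ = u (2 ^ (n - 1)) * (u (2 ^ (n - 1)) * y) * y := by rw [b.central y]
      _ = (u (2 ^ (n - 1)) * u (2 ^ (n - 1))) * (y * y) := by group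
      _ = 1 := by rw [b.sq, hc.y_y, one_mul]

theorem cent_comm (hc : IsQDCoord n u y) (v : W) (hv : v ∈ centralizer ({y} : Set W)) (v' : W)
    (hv' : v' ∈ centralizer ({y} : Set W)) : v * v' = v' * v :=
  (sd_base hc).cent_abelian y hc.y_y (y_ne_one hc) (y_ne_zeta hc) v v'
    (mem_centralizer_singleton_iff.1 hv) (mem_centralizer_singleton_iff.1 hv')

/-- the order of `V` is larger than 2. -/
theorem two_lt_card (hc : IsQDCoord n u y) : 2 < Nat.card (centralizer ({y} : Set W)) := by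
  have hfin := hc.finite
  have b := sd_base hc
  have : Fintype (centralizer ({y} : Set W)) := Fintype.ofFinite _
  rw [Nat.card_eq_fintype_card]
  have hζ : u (2 ^ (n - 1)) ∈ centralizer ({y} : Set W) :=
    mem_centralizer_singleton_iff.2 (b.central y)
  have hy : y ∈ centralizer ({y} : Set W) := mem_centralizer_singleton_iff.2 rfl
  rw [Fintype.two_lt_card_iff]
  refine ⟨1, ⟨_, hζ⟩, ⟨_, hy⟩, ?_, ?_, ?_⟩
  · intro h; exact b.ne (congrArg Subtype.val h).symm
  · intro h; exact y_ne_one hc (congrArg Subtype.val h).symm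
  · intro h; exact y_ne_zeta hc (congrArg Subtype.val h).symm

/-- elementary abelian subgroups of `W` are conjugate into `V`. -/
theorem elem_conj (hc : IsQDCoord n u y) (P : Subgroup W) (hP : ∀ x ∈ P, x * x = 1) :
    ∃ a, ∀ x ∈ P, a * x * a⁻¹ ∈ centralizer ({y} : Set W) := by
  have hcomm : ∀ x ∈ P, ∀ x' ∈ P, x * x' = x' * x := by
    intro x hx x' hx'
    have h1 := hP x hx
    have h2 := hP x' hx'
    have h3 := hP _ (P.mul_mem hx hx')
    have e1 : x⁻¹ = x := inv_eq_of_mul_eq_one_left h1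
    have e2 : x'⁻¹ = x' := inv_eq_of_mul_eq_one_left h2
    have e3 : (x * x')⁻¹ = x * x' := inv_eq_of_mul_eq_one_left h3
    rw [← e3, mul_inv_rev, e1, e2]
  by_cases hall : ∀ x ∈ P, x = 1 ∨ x = u (2 ^ (n - 1))
  · refine ⟨1, fun x hx => ?_⟩
    rw [one_mul, inv_one, mul_one, mem_centralizer_singleton_iff]
    rcases hall x hx with rfl | rfl
    · rw [one_mul, mul_one]
    · exact (sd_base hc).central y
  · push Not at hall
    obtain ⟨x, hx, hx1, hx2⟩ := hall
    obtain ⟨a, ha⟩ := SDFive.conj_y hc x (hP x hx) hx1 hx2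
    refine ⟨a, fun v hv => ?_⟩
    rw [mem_centralizer_singleton_iff, ← ha]
    have h1 := hcomm v hv x hx
    calc a * v * a⁻¹ * (a * x * a⁻¹) = a * (v * x) * a⁻¹ := by group
      _ = a * (x * v) * a⁻¹ := by rw [h1]
      _ = _ := by group

/-- `E = f '' (V × V)`. -/
def E (f : W × W →* G) (y : W) : Subgroup G :=
  ((centralizer ({y} : Set W)).prod (centralizer ({y} : Set W))).map f

theorem mem_E (f : W × W →* G) (g : G) : g ∈ E f y ↔
    ∃ a ∈ centralizer ({y} : Set W), ∃ b ∈ centralizer ({y} : Set W), g = f (a, b) := by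
  constructor
  · rintro ⟨⟨a, b⟩, ⟨ha, hb⟩, rfl⟩
    exact ⟨a, ha, b, hb, rfl⟩
  · rintro ⟨a, ha, b, hb, rfl⟩
    exact ⟨(a, b), ⟨ha, hb⟩, rfl⟩

theorem E_sq (hc : IsQDCoord n u y) (f : W × W →* G) (x : G) (hx : x ∈ E f y) : x * x = 1 := by
  obtain ⟨a, ha, b, hb, rfl⟩ := (mem_E f x).1 hx
  rw [← map_mul, Prod.mk_mul_mk, cent_sq hc a ha, cent_sq hc b hb]
  exact map_one f

theorem E_comm (hc : IsQDCoord n u y) (f : W × W →* G) (x : G) (hx : x ∈ E f y) (x' : G)
    (hx' : x' ∈ E f y) : x * x' = x' * x := by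
  obtain ⟨a, ha, b, hb, rfl⟩ := (mem_E f x).1 hx
  obtain ⟨a', ha', b', hb', rfl⟩ := (mem_E f x').1 hx'
  rw [← map_mul, ← map_mul, Prod.mk_mul_mk, Prod.mk_mul_mk, cent_comm hc a ha a' ha',
    cent_comm hc b hb b' hb']

theorem card_E {f : W × W →* G} (hf : Function.Injective f) :
    Nat.card (E f y) = Nat.card (centralizer ({y} : Set W)) *
      Nat.card (centralizer ({y} : Set W)) := by
  unfold E
  rw [Subgroup.card_map_of_injective hf, Nat.card_congr (Subgroup.prodEquiv _ _).toEquiv,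
    Nat.card_prod]

/-- every conjugate of `E` in `S` is conjugate to `E` under `T`. -/
theorem conj_E {S : Subgroup G} {f : W × W →* G} {w : G} (h : Wr S f w) (hc : IsQDCoord n u y)
    (g : G) (hg : (E f y).map (MulAut.conj g).toMonoidHom ≤ S) :
    ∃ s ∈ f.range, (E f y).map (MulAut.conj (s * g)).toMonoidHom = E f y := by
  have hfinW := hc.finite
  obtain ⟨B, hB⟩ : ∃ B, B = (E f y).map (MulAut.conj g).toMonoidHom := ⟨_, rfl⟩
  have hBsq : ∀ x ∈ B, x * x = 1 := by
    rw [hB]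
    rintro _ ⟨x, hx, rfl⟩
    rw [← map_mul, E_sq hc f x hx, map_one]
  have hBcard : Nat.card B = Nat.card (centralizer ({y} : Set W)) *
      Nat.card (centralizer ({y} : Set W)) := by
    rw [hB, Subgroup.card_map_of_injective (MulAut.conj g).injective, card_E h.inj]
  have h2 := two_lt_card hc
  -- `B ≤ T`
  have hBT : B ≤ f.range := by
    by_contra hcon
    rw [SetLike.not_le_iff_exists] at hcon
    obtain ⟨x, hx, hxT⟩ := hcon
    obtain ⟨a, b, rfl⟩ : ∃ a b, x = f (a, b) * w := by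
      rcases h.cases x (by rw [hB] at hx; exact hg hx) with ⟨a, b, rfl⟩ | h1
      · exact absurd ⟨_, rfl⟩ hxT
      · exact h1
    have hcomm : ∀ x ∈ B, ∀ x' ∈ B, x * x' = x' * x := by
      rw [hB]
      rintro _ ⟨x, hx, rfl⟩ _ ⟨x', hx', rfl⟩
      rw [← map_mul, ← map_mul, E_comm hc f x hx x' hx']
    let δ : W →* G :=
      { toFun := fun v => f (v, a⁻¹ * v * a)
        map_one' := by
          rw [mul_one, inv_mul_cancel]
          exact map_one f
        map_mul' := by
          intro v v'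
          rw [← map_mul, Prod.mk_mul_mk]
          congr 2
          group }
    let P : Subgroup W := B.comap δ
    have hP : ∀ x ∈ P, x * x = 1 := by
      intro v hv
      have h3 : f (v, a⁻¹ * v * a) * f (v, a⁻¹ * v * a) = 1 := hBsq _ hv
      rw [h.f_mul_f, h.f_eq_one_iff, Prod.mk_eq_one] at h3
      exact h3.1
    obtain ⟨c, hcP⟩ := elem_conj hc P hP
    have hPcard : Nat.card P ≤ Nat.card (centralizer ({y} : Set W)) := by
      have h3 : P.map (MulAut.conj c).toMonoidHom ≤ centralizer ({y} : Set W) := by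
        rintro _ ⟨v, hv, rfl⟩
        exact hcP v hv
      have h3' : Nat.card (P.map (MulAut.conj c).toMonoidHom) = Nat.card P :=
        Subgroup.card_map_of_injective (MulAut.conj c).injective
      rw [← h3']
      exact Nat.le_of_dvd Nat.card_pos (Subgroup.card_dvd_of_le h3)
    have h4 : Nat.card B ≤ Nat.card (P ⊕ P) := by
      apply card_le_of_cover B
        (Sum.elim (fun v : P => δ v) (fun v : P => δ v * (f (a, b) * w)))
      intro x' hx'
      have key : ∀ p q, f (p, q) ∈ B → q = a⁻¹ * p * a := by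
        intro p q hpq
        have h5 := ((h.fw_comm_f_iff a b p q).1 (hcomm _ hx _ hpq)).1
        calc q = a⁻¹ * (a * q) := by group
          _ = a⁻¹ * (p * a) := by rw [h5]
          _ = _ := by group
      have hx'S : x' ∈ S := by rw [hB] at hx'; exact hg hx'
      rcases h.cases x' hx'S with ⟨p, q, rfl⟩ | ⟨p, q, rfl⟩
      · have h6 := key p q hx'
        refine ⟨Sum.inl ⟨p, ?_⟩, ?_⟩
        · change f (p, a⁻¹ * p * a) ∈ B
          rw [← h6]; exact hx'
        · change f (p, a⁻¹ * p * a) = f (p, q)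
          rw [← h6]
      · have h3 : f (p, q) * w * (f (a, b) * w)⁻¹ = f (p * a⁻¹, q * b⁻¹) := by
          rw [h.fw_inv, h.fw_mul_fw]
        have h5 : f (p * a⁻¹, q * b⁻¹) ∈ B := by
          rw [← h3]; exact B.mul_mem hx' (B.inv_mem hx)
        have h6 := key _ _ h5
        refine ⟨Sum.inr ⟨p * a⁻¹, ?_⟩, ?_⟩
        · change f (p * a⁻¹, a⁻¹ * (p * a⁻¹) * a) ∈ B
          rw [← h6]; exact h5
        · change f (p * a⁻¹, a⁻¹ * (p * a⁻¹) * a) * (f (a, b) * w) = _
          rw [← h6, ← h3]; group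
    rw [Nat.card_sum, hBcard] at h4
    have h5 : Nat.card (centralizer ({y} : Set W)) * Nat.card (centralizer ({y} : Set W)) ≤
        2 * Nat.card (centralizer ({y} : Set W)) := by omega
    have h6 := Nat.le_of_mul_le_mul_right h5 (by omega)
    omega
  -- inside `T`
  let C : Subgroup (W × W) := B.comap f
  have hCmap : C.map f = B := Subgroup.map_comap_eq_self hBT
  have hCsq : ∀ p ∈ C, p * p = 1 := by
    intro p hp
    apply h.inj
    rw [map_mul, map_one]
    exact hBsq _ hp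
  obtain ⟨a, ha⟩ := elem_conj hc (C.map (MonoidHom.fst W W)) (by
    rintro _ ⟨p, hp, rfl⟩
    rw [← map_mul, hCsq p hp, map_one])
  obtain ⟨b, hb⟩ := elem_conj hc (C.map (MonoidHom.snd W W)) (by
    rintro _ ⟨p, hp, rfl⟩
    rw [← map_mul, hCsq p hp, map_one])
  refine ⟨f (a, b), ⟨_, rfl⟩, ?_⟩
  have hle : (E f y).map (MulAut.conj (f (a, b) * g)).toMonoidHom ≤ E f y := by
    rw [← Control.map_conj_mul, ← hB, ← hCmap]
    rintro _ ⟨_, ⟨p, hp, rfl⟩, rfl⟩
    obtain ⟨p1, p2⟩ := p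
    refine (mem_E f _).2 ⟨a * p1 * a⁻¹, ha _ ⟨_, hp, rfl⟩, b * p2 * b⁻¹, hb _ ⟨_, hp, rfl⟩, ?_⟩
    change f (a, b) * f (p1, p2) * (f (a, b))⁻¹ = _
    rw [← map_inv, Prod.inv_mk, h.f_mul_f, h.f_mul_f]
  have hfinE : Finite (E f y) := by
    apply Nat.finite_of_card_ne_zero
    rw [card_E h.inj]
    have : 0 < Nat.card (centralizer ({y} : Set W)) := Nat.card_pos
    positivity
  apply Subgroup.eq_of_le_of_card_ge hle
  rw [Subgroup.card_map_of_injective (MulAut.conj _).injective]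

end Cfsg.Agent.TypeLFive.SDE16
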