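import Mathlib

/-!
# Type `PSL(5,q)`: the orbits on `E = 2^4`

`V = (ZMod 2)^4`, `φ : V → G` an embedding, `N` a subgroup of `G` normalising `E = range φ` and
inducing (at least) the dihedral group `⟨(01),(23),(02)(13)⟩` on the basis.

`main`: if `t = 1100` is not fused with `z = 1111` in `N`, `t` is fused with `1010`, and `z` is fused
with another element, then `N` induces `S₅` on `E`.
-/

set_option autoImplicit false

namespace Cfsg.Agent.TypeLFive.EOrbit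

abbrev V : Type := Fin 4 → ZMod 2

/-- `z = 1111` -/
def vz : V := ![1, 1, 1, 1]
/-- `t = 1100` -/
def vt : V := ![1, 1, 0, 0]
/-- `ζ₂ = 0011` -/
def vt2 : V := ![0, 0, 1, 1]
/-- `2' = 1010` -/
def vy : V := ![1, 0, 1, 0]
/-- `e₁ = 1000` -/
def v1 : V := ![1, 0, 0, 0]
/-- `0111` -/
def v3 : V := ![0, 1, 1, 1]

/-- the two possible five element orbits -/
def o1 : Fin 5 → V := ![![1, 0, 0, 0], ![0, 1, 0, 0], ![0, 0, 1, 0], ![0, 0, 0, 1], ![1, 1, 1, 1]]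
def o3 : Fin 5 → V := ![![0, 1, 1, 1], ![1, 0, 1, 1], ![1, 1, 0, 1], ![1, 1, 1, 0], ![1, 1, 1, 1]]

variable {G : Type*} [Group G]

/-- an embedding of `(ZMod 2)^4` -/
structure Emb (φ : V → G) : Prop where
  add : ∀ x y, φ (x + y) = φ x * φ y
  inj : ∀ x, φ x = 1 → x = 0

theorem Emb.zero {φ : V → G} (h : Emb φ) : φ 0 = 1 := by
  have h1 := h.add 0 0
  rw [add_zero] at h1
  exact (left_eq_mul.1 h1)

theorem V.add_self (x : V) : x + x = 0 := by
  funext i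
  have h : ∀ a : ZMod 2, a + a = 0 := by decide
  exact h _

theorem Emb.sq {φ : V → G} (h : Emb φ) (x : V) : φ x * φ x = 1 := by
  rw [← h.add, V.add_self, h.zero]

theorem Emb.injective {φ : V → G} (h : Emb φ) {x y : V} (hxy : φ x = φ y) : x = y := by
  have h1 : φ (x + y) = 1 := by rw [h.add, hxy, h.sq]
  have h2 := h.inj _ h1
  have h3 : x + y + y = y := by rw [h2, zero_add]
  rwa [add_assoc, V.add_self, add_zero] at h3

theorem Emb.comm {φ : V → G} (h : Emb φ) (x y : V) : φ x * φ y = φ y * φ x := by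
  rw [← h.add, ← h.add, add_comm]

/-- fusion inside `N` -/
def Rel (N : Subgroup G) (φ : V → G) (x y : V) : Prop := ∃ g ∈ N, g * φ x * g⁻¹ = φ y

/-- the standing hypotheses -/
structure Hyp (N : Subgroup G) (φ : V → G) : Prop extends Emb φ where
  norm : ∀ g ∈ N, ∀ x, ∃ y, g * φ x * g⁻¹ = φ y
  a : ∃ g ∈ N, ∀ x : V, g * φ x * g⁻¹ = φ (x ∘ (Equiv.swap 0 1 : Equiv.Perm (Fin 4)))
  b : ∃ g ∈ N, ∀ x : V, g * φ x * g⁻¹ = φ (x ∘ (Equiv.swap 2 3 : Equiv.Perm (Fin 4)))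
  c : ∃ g ∈ N, ∀ x : V, g * φ x * g⁻¹ =
    φ (x ∘ (Equiv.swap 0 2 * Equiv.swap 1 3 : Equiv.Perm (Fin 4)))

/-- the dihedral group of order `8` -/
def D : Finset (Equiv.Perm (Fin 4)) :=
  {1, Equiv.swap 0 1, Equiv.swap 2 3, Equiv.swap 0 1 * Equiv.swap 2 3,
    Equiv.swap 0 2 * Equiv.swap 1 3, Equiv.swap 0 1 * (Equiv.swap 0 2 * Equiv.swap 1 3),
    Equiv.swap 2 3 * (Equiv.swap 0 2 * Equiv.swap 1 3),
    Equiv.swap 0 1 * (Equiv.swap 2 3 * (Equiv.swap 0 2 * Equiv.swap 1 3))}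

variable {N : Subgroup G} {φ : V → G}

theorem Rel.refl (x : V) : Rel N φ x x := ⟨1, N.one_mem, by simp⟩

theorem Rel.symm {x y : V} (h : Rel N φ x y) : Rel N φ y x := by
  obtain ⟨g, hg, e⟩ := h
  refine ⟨g⁻¹, N.inv_mem hg, ?_⟩
  rw [← e]; group

theorem Rel.trans {x y w : V} (h : Rel N φ x y) (h' : Rel N φ y w) : Rel N φ x w := by
  obtain ⟨g, hg, e⟩ := h
  obtain ⟨k, hk, e'⟩ := h'
  refine ⟨k * g, N.mul_mem hk hg, ?_⟩
  rw [← e', ← e]; group

namespace Hyp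

theorem perm_mul (p q : Equiv.Perm (Fin 4))
    (hp : ∃ g ∈ N, ∀ x : V, g * φ x * g⁻¹ = φ (x ∘ p))
    (hq : ∃ g ∈ N, ∀ x : V, g * φ x * g⁻¹ = φ (x ∘ q)) :
    ∃ g ∈ N, ∀ x : V, g * φ x * g⁻¹ = φ (x ∘ (p * q : Equiv.Perm (Fin 4))) := by
  obtain ⟨g, hg, e⟩ := hp
  obtain ⟨k, hk, e'⟩ := hq
  refine ⟨k * g, N.mul_mem hk hg, fun x => ?_⟩
  have h1 : k * g * φ x * (k * g)⁻¹ = k * (g * φ x * g⁻¹) * k⁻¹ := by group
  rw [h1, e, e']
  rfl

theorem perm_mem (h : Hyp N φ) (p : Equiv.Perm (Fin 4)) (hp : p ∈ D) :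
    ∃ g ∈ N, ∀ x : V, g * φ x * g⁻¹ = φ (x ∘ p) := by
  have hab := perm_mul _ _ h.a h.b
  have hac := perm_mul _ _ h.a h.c
  have hbc := perm_mul _ _ h.b h.c
  have habc := perm_mul _ _ h.a hbc
  simp only [D, Finset.mem_insert, Finset.mem_singleton] at hp
  rcases hp with rfl | rfl | rfl | rfl | rfl | rfl | rfl | rfl
  · exact ⟨1, N.one_mem, fun x => by simp⟩
  · exact h.a
  · exact h.b
  · exact hab
  · exact h.c
  · exact hac
  · exact hbc
  · exact habc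

theorem rel_perm (h : Hyp N φ) (p : Equiv.Perm (Fin 4)) (hp : p ∈ D) (x : V) :
    Rel N φ x (x ∘ p) := by
  obtain ⟨g, hg, e⟩ := h.perm_mem p hp
  exact ⟨g, hg, e x⟩

theorem cases_aux : ∀ y : V, y = 0 ∨ y = vz ∨ (∃ p ∈ D, y = v1 ∘ p) ∨ (∃ p ∈ D, y = v3 ∘ p) ∨
    (∃ p ∈ D, y = vt ∘ p) ∨ (∃ p ∈ D, y = vy ∘ p) := by
  decide

theorem cases (h : Hyp N φ) (y : V) : y = 0 ∨ y = vz ∨ Rel N φ v1 y ∨ Rel N φ v3 y ∨
    Rel N φ vt y ∨ Rel N φ vy y := by
  rcases cases_aux y with h1 | h1 | ⟨p, hp, rfl⟩ | ⟨p, hp, rfl⟩ | ⟨p, hp, rfl⟩ | ⟨p, hp, rfl⟩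
  · exact Or.inl h1
  · exact Or.inr (Or.inl h1)
  · exact Or.inr (Or.inr (Or.inl (h.rel_perm p hp _)))
  · exact Or.inr (Or.inr (Or.inr (Or.inl (h.rel_perm p hp _))))
  · exact Or.inr (Or.inr (Or.inr (Or.inr (Or.inl (h.rel_perm p hp _)))))
  · exact Or.inr (Or.inr (Or.inr (Or.inr (Or.inr (h.rel_perm p hp _)))))

theorem ne_zero_of_rel (h : Hyp N φ) {x y : V} (hx : x ≠ 0) (hr : Rel N φ x y) : y ≠ 0 := by
  rintro rfl
  obtain ⟨g, _, e⟩ := hr
  rw [h.zero] at e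
  apply hx
  apply h.inj
  have : φ x = g⁻¹ * (g * φ x * g⁻¹) * g := by group
  rw [this, e]; group

end Hyp

/-- parity of the weight -/
def wt (x : V) : ZMod 2 := x 0 + x 1 + x 2 + x 3

theorem wt_add (x y : V) : wt (x + y) = wt x + wt y := by
  simp only [wt, Pi.add_apply]; ring

theorem wt_comp : ∀ p ∈ D, ∀ x : V, wt (x ∘ p) = wt x := by
  decide

theorem even_cases : ∀ y : V, wt y = 0 → y = 0 ∨ y = vz ∨ (∃ p ∈ D, y = vt ∘ p) ∨
    (∃ p ∈ D, y = vy ∘ p) := by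
  decide

theorem odd_cases : ∀ y : V, wt y ≠ 0 → (∃ p ∈ D, y = v1 ∘ p) ∨ (∃ p ∈ D, y = v3 ∘ p) := by
  decide

theorem o1_cases : ∀ y : V, (∃ p ∈ D, y = v1 ∘ p) ∨ y = vz ↔ ∃ i, y = o1 i := by
  decide

theorem o3_cases : ∀ y : V, (∃ p ∈ D, y = v3 ∘ p) ∨ y = vz ↔ ∃ i, y = o3 i := by
  decide

/-- **the orbit of `z`.** -/
theorem orbit (h : Hyp N φ) (ht : ¬ Rel N φ vt vz) (h1 : Rel N φ vt vy)
    (h2 : ∃ y, y ≠ vz ∧ Rel N φ vz y) :
    (∀ y, Rel N φ vz y ↔ ∃ i, y = o1 i) ∨ (∀ y, Rel N φ vz y ↔ ∃ i, y = o3 i) := by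
  -- the elements of even weight in the orbit
  have hz0 : vz ≠ 0 := by decide
  have hev : ∀ y, Rel N φ vz y → wt y = 0 → y = vz := by
    intro y hy hw
    rcases even_cases y hw with h3 | h3 | ⟨p, hp, h3⟩ | ⟨p, hp, h3⟩
    · exact absurd h3 (h.ne_zero_of_rel hz0 hy)
    · exact h3
    · exfalso
      apply ht
      exact (h.rel_perm p hp vt).trans (h3 ▸ hy.symm)
    · exfalso
      apply ht
      exact (h1.trans (h.rel_perm p hp vy)).trans (h3 ▸ hy.symm)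
  -- not both
  have hnot : ¬ (Rel N φ vz v1 ∧ Rel N φ vz v3) := by
    rintro ⟨ha, hb⟩
    obtain ⟨y, hy, g, hg, hgy⟩ := h2
    have hodd : ∀ u : V, wt u ≠ 0 → Rel N φ vz u := by
      intro u hu
      rcases odd_cases u hu with ⟨p, hp, rfl⟩ | ⟨p, hp, rfl⟩
      · exact ha.trans (h.rel_perm p hp _)
      · exact hb.trans (h.rel_perm p hp _)
    obtain ⟨u, hu⟩ := h.norm g hg vt
    obtain ⟨v, hv⟩ := h.norm g hg vt2
    have hadd : vz = vt + vt2 := by decide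
    have huv : y = u + v := by
      apply h.injective
      rw [h.add, ← hu, ← hv, ← hgy, hadd, h.add]; group
    have hu0 : wt u = 0 := by
      by_contra hc
      exact ht (Rel.trans (⟨g, hg, hu⟩ : Rel N φ vt u) (hodd u hc).symm)
    have ht2 : Rel N φ vt vt2 := by
      have := h.rel_perm (Equiv.swap 0 2 * Equiv.swap 1 3) (by decide) vt
      have e : vt ∘ (Equiv.swap 0 2 * Equiv.swap 1 3 : Equiv.Perm (Fin 4)) = vt2 := by decide
      rwa [e] at this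
    have hv0 : wt v = 0 := by
      by_contra hc
      exact ht (Rel.trans (Rel.trans ht2 (⟨g, hg, hv⟩ : Rel N φ vt2 v)) (hodd v hc).symm)
    apply hy
    apply hev y ⟨g, hg, hgy⟩
    rw [huv, wt_add, hu0, hv0, add_zero]
  -- at least one
  obtain ⟨y, hy, hyr⟩ := h2
  have hyw : wt y ≠ 0 := fun hc => hy (hev y hyr hc)
  rcases odd_cases y hyw with ⟨p, hp, rfl⟩ | ⟨p, hp, rfl⟩
  · left
    have ha : Rel N φ vz v1 := hyr.trans (h.rel_perm p hp _).symm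
    intro w
    rw [← o1_cases]
    constructor
    · intro hw
      by_cases hw0 : wt w = 0
      · exact Or.inr (hev w hw hw0)
      · rcases odd_cases w hw0 with h3 | ⟨q, hq, rfl⟩
        · exact Or.inl h3
        · exact absurd ⟨ha, hw.trans (h.rel_perm q hq _).symm⟩ hnot
    · rintro (⟨q, hq, rfl⟩ | rfl)
      · exact ha.trans (h.rel_perm q hq _)
      · exact Rel.refl _
  · right
    have ha : Rel N φ vz v3 := hyr.trans (h.rel_perm p hp _).symm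
    intro w
    rw [← o3_cases]
    constructor
    · intro hw
      by_cases hw0 : wt w = 0
      · exact Or.inr (hev w hw hw0)
      · rcases odd_cases w hw0 with ⟨q, hq, rfl⟩ | h3
        · exact absurd ⟨hw.trans (h.rel_perm q hq _).symm, ha⟩ hnot
        · exact Or.inl h3
    · rintro (⟨q, hq, rfl⟩ | rfl)
      · exact ha.trans (h.rel_perm q hq _)
      · exact Rel.refl _

/-- the permutations of a five element family induced by `N` -/
def perms (N : Subgroup G) (φ : V → G) (o : Fin 5 → V) : Subgroup (Equiv.Perm (Fin 5)) where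
  carrier := {σ | ∃ g ∈ N, ∀ i, g * φ (o i) * g⁻¹ = φ (o (σ i))}
  one_mem' := ⟨1, N.one_mem, fun i => by simp⟩
  mul_mem' := by
    rintro σ τ ⟨g, hg, e⟩ ⟨k, hk, e'⟩
    refine ⟨g * k, N.mul_mem hg hk, fun i => ?_⟩
    have h1 : g * k * φ (o i) * (g * k)⁻¹ = g * (k * φ (o i) * k⁻¹) * g⁻¹ := by group
    rw [h1, e', e]
    rfl
  inv_mem' := by
    rintro σ ⟨g, hg, e⟩
    refine ⟨g⁻¹, N.inv_mem hg, fun i => ?_⟩
    have h1 := e (σ⁻¹ i)
    have h2 : σ (σ⁻¹ i) = i := by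
      rw [← Equiv.Perm.mul_apply, mul_inv_cancel, Equiv.Perm.one_apply]
    rw [h2] at h1
    rw [← h1]; group

theorem exists_perm (h : Hyp N φ) (o : Fin 5 → V) (hinj : Function.Injective o)
    (hor : ∀ y, Rel N φ vz y ↔ ∃ i, y = o i) (g : G) (hg : g ∈ N) :
    ∃ σ : Equiv.Perm (Fin 5), ∀ i, g * φ (o i) * g⁻¹ = φ (o (σ i)) := by
  have h1 : ∀ i, ∃ j, g * φ (o i) * g⁻¹ = φ (o j) := by
    intro i
    obtain ⟨y, hy⟩ := h.norm g hg (o i)
    have h2 : Rel N φ vz y := ((hor _).2 ⟨i, rfl⟩).trans ⟨g, hg, hy⟩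
    obtain ⟨j, rfl⟩ := (hor _).1 h2
    exact ⟨j, hy⟩
  choose f hf using h1
  have hfi : Function.Injective f := by
    intro i j hij
    have h2 := hf i
    rw [hij, ← hf j] at h2
    have h3 : φ (o i) = φ (o j) := by
      have := mul_right_cancel h2
      exact mul_left_cancel this
    exact hinj (h.injective h3)
  exact ⟨Equiv.ofBijective f (Finite.injective_iff_bijective.1 hfi), hf⟩

theorem perms_eq_top (h : Hyp N φ) (o : Fin 5 → V) (hinj : Function.Injective o)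
    (hor : ∀ y, Rel N φ vz y ↔ ∃ i, y = o i) (h4 : o 4 = vz)
    (hsw : ∀ i, (o i) ∘ (Equiv.swap 0 1 : Equiv.Perm (Fin 4)) = o (Equiv.swap (0 : Fin 5) 1 i)) :
    perms N φ o = ⊤ := by
  classical
  have htr : ∀ i : Fin 5, ∃ σ ∈ perms N φ o, σ 4 = i := by
    intro i
    obtain ⟨g, hg, e⟩ := (hor (o i)).2 ⟨i, rfl⟩
    obtain ⟨σ, hσ⟩ := exists_perm h o hinj hor g hg
    refine ⟨σ, ⟨g, hg, hσ⟩, ?_⟩
    apply hinj
    apply h.injective
    rw [← hσ 4, h4, e]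
  have hcard : Fintype.card (Fin 5) ∣ Fintype.card (perms N φ o) := by
    have h1 := MulAction.card_orbit_mul_card_stabilizer_eq_card_group (perms N φ o) (4 : Fin 5)
    have h2 : Fintype.card (MulAction.orbit (perms N φ o) (4 : Fin 5)) = Fintype.card (Fin 5) := by
      have h3 : MulAction.orbit (perms N φ o) (4 : Fin 5) = Set.univ := by
        ext i
        simp only [Set.mem_univ, iff_true]
        obtain ⟨σ, hσ, hi⟩ := htr i
        exact ⟨⟨σ, hσ⟩, hi⟩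
      rw [← Set.toFinset_card, ← Finset.card_univ]
      congr 1
      ext i
      simp [h3]
    rw [← h1, h2]
    exact Dvd.intro _ rfl
  obtain ⟨g, hg, e⟩ := h.a
  refine Equiv.Perm.subgroup_eq_top_of_swap_mem (τ := Equiv.swap 0 1) (by decide) hcard
    ⟨g, hg, fun i => ?_⟩ ⟨0, 1, by decide, rfl⟩
  rw [e, hsw]

/-- **`N` induces `S₅` on `E`.** -/
theorem main (h : Hyp N φ) (ht : ¬ Rel N φ vt vz) (h1 : Rel N φ vt vy)
    (h2 : ∃ y, y ≠ vz ∧ Rel N φ vz y) :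
    ∃ o : Fin 5 → V, (o = o1 ∨ o = o3) ∧ (∀ y, Rel N φ vz y ↔ ∃ i, y = o i) ∧
      ∀ σ : Equiv.Perm (Fin 5), ∃ g ∈ N, ∀ i, g * φ (o i) * g⁻¹ = φ (o (σ i)) := by
  rcases orbit h ht h1 h2 with hor | hor
  · refine ⟨o1, Or.inl rfl, hor, fun σ => ?_⟩
    have h3 := perms_eq_top h o1 (by decide) hor (by decide) (by decide)
    have h4 : σ ∈ perms N φ o1 := by rw [h3]; trivial
    exact h4
  · refine ⟨o3, Or.inr rfl, hor, fun σ => ?_⟩
    have h3 := perms_eq_top h o3 (by decide) hor (by decide) (by decide)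
    have h4 : σ ∈ perms N φ o3 := by rw [h3]; trivial
    exact h4

end Cfsg.Agent.TypeLFive.EOrbit
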