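import Mathlib
import Cfsg.Agent.TypeLFive.EOrbit
import Cfsg.Agent.TypeLFive.Control
import Cfsg.Agent.TypeLFive.Out

/-!
# S0511 (F): the embedding `(ZMod 2)^4 → E` and the frame
-/

set_option autoImplicit false

namespace Cfsg.Agent.TypeLFive.FrameE

open Subgroup Cfsg.Agent.TypeLFive.Model Cfsg.Agent.TypeLFive.Facts Cfsg.Agent.TypeLFive.EOrbit

section W

variable {W : Type*} [Group W] {ζ e : W}

/-- the noncentral involution `e` -/
structure EData (ζ e : W) : Prop where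
  ee : e * e = 1
  e_ne : e ≠ 1
  e_ζ : e ≠ ζ

/-- power of an involution -/
def pw (a : W) (k : ZMod 2) : W := if k = 0 then 1 else a

theorem z2 (k : ZMod 2) : k = 0 ∨ k = 1 := by revert k; decide

theorem pw_zero (a : W) : pw a 0 = 1 := if_pos rfl

theorem pw_one (a : W) : pw a 1 = a := if_neg (by decide)

theorem pw_add (a : W) (ha : a * a = 1) (k l : ZMod 2) : pw a (k + l) = pw a k * pw a l := by
  rcases z2 k with rfl | rfl <;> rcases z2 l with rfl | rfl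
  · rw [add_zero, pw_zero, one_mul]
  · rw [zero_add, pw_zero, one_mul]
  · rw [add_zero, pw_zero, mul_one]
  · rw [show (1 : ZMod 2) + 1 = 0 by decide, pw_zero, pw_one, ha]

theorem pw_comm (a c : W) (hac : a * c = c * a) (k l : ZMod 2) :
    pw a k * pw c l = pw c l * pw a k := by
  rcases z2 k with rfl | rfl <;> rcases z2 l with rfl | rfl
  · rw [pw_zero, pw_zero]
  · rw [pw_zero, one_mul, mul_one]
  · rw [pw_zero, one_mul, mul_one]
  · rw [pw_one, pw_one, hac]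

/-- `ψ k l = e ^ k * (e ζ) ^ l`. -/
def psi (ζ e : W) (k l : ZMod 2) : W := pw e k * pw (e * ζ) l

theorem eζ_sq (b : WBase ζ) (d : EData ζ e) : e * ζ * (e * ζ) = 1 := by
  calc e * ζ * (e * ζ) = e * (ζ * e) * ζ := by group
    _ = e * (e * ζ) * ζ := by rw [b.central e]
    _ = (e * e) * (ζ * ζ) := by group
    _ = 1 := by rw [d.ee, b.sq, one_mul]

theorem e_eζ (b : WBase ζ) : e * (e * ζ) = e * ζ * e := by
  rw [mul_assoc e ζ e, b.central e]

theorem psi_add (b : WBase ζ) (d : EData ζ e) (k l k' l' : ZMod 2) :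
    psi ζ e (k + k') (l + l') = psi ζ e k l * psi ζ e k' l' := by
  unfold psi
  rw [pw_add e d.ee, pw_add _ (eζ_sq b d)]
  have h1 := pw_comm e (e * ζ) (e_eζ b) k' l
  calc pw e k * pw e k' * (pw (e * ζ) l * pw (e * ζ) l')
      = pw e k * (pw e k' * pw (e * ζ) l) * pw (e * ζ) l' := by group
    _ = pw e k * (pw (e * ζ) l * pw e k') * pw (e * ζ) l' := by rw [h1]
    _ = _ := by group

theorem psi_00 : psi ζ e 0 0 = 1 := by
  unfold psi; rw [pw_zero, pw_zero, one_mul]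

theorem psi_10 : psi ζ e 1 0 = e := by
  unfold psi; rw [pw_one, pw_zero, mul_one]

theorem psi_01 : psi ζ e 0 1 = e * ζ := by
  unfold psi; rw [pw_one, pw_zero, one_mul]

theorem psi_11 (d : EData ζ e) : psi ζ e 1 1 = ζ := by
  unfold psi; rw [pw_one, pw_one, ← mul_assoc, d.ee, one_mul]

theorem psi_inj (b : WBase ζ) (d : EData ζ e) (k l : ZMod 2) (h : psi ζ e k l = 1) :
    k = 0 ∧ l = 0 := by
  rcases z2 k with rfl | rfl <;> rcases z2 l with rfl | rfl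
  · exact ⟨rfl, rfl⟩
  · exfalso
    rw [psi_01] at h
    apply d.e_ζ
    rw [eq_inv_of_mul_eq_one_left h, inv_eq_of_mul_eq_one_left b.sq]
  · exfalso
    rw [psi_10] at h
    exact d.e_ne h
  · exfalso
    rw [psi_11 d] at h
    exact b.ne h

theorem psi_swap (b : WBase ζ) (d : EData ζ e) (s1 : W) (hs : s1 * e * s1⁻¹ = e * ζ)
    (k l : ZMod 2) : s1 * psi ζ e k l * s1⁻¹ = psi ζ e l k := by
  have h2 : s1 * ζ * s1⁻¹ = ζ := by rw [← b.central, mul_inv_cancel_right]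
  rcases z2 k with rfl | rfl <;> rcases z2 l with rfl | rfl
  · rw [psi_00]; group
  · rw [psi_01, psi_10]
    calc s1 * (e * ζ) * s1⁻¹ = (s1 * e * s1⁻¹) * (s1 * ζ * s1⁻¹) := by group
      _ = e * ζ * ζ := by rw [hs, h2]
      _ = e := by rw [mul_assoc, b.sq, mul_one]
  · rw [psi_01, psi_10, hs]
  · rw [psi_11 d, h2]

/-- the values of `psi` -/
theorem psi_cases (d : EData ζ e) (v : W) :
    (∃ k l, v = psi ζ e k l) ↔ v = 1 ∨ v = ζ ∨ v = e ∨ v = e * ζ := by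
  constructor
  · rintro ⟨k, l, rfl⟩
    rcases z2 k with rfl | rfl <;> rcases z2 l with rfl | rfl
    · exact Or.inl psi_00
    · exact Or.inr (Or.inr (Or.inr psi_01))
    · exact Or.inr (Or.inr (Or.inl psi_10))
    · exact Or.inr (Or.inl (psi_11 d))
  · rintro (rfl | rfl | rfl | rfl)
    · exact ⟨0, 0, psi_00.symm⟩
    · exact ⟨1, 1, (psi_11 d).symm⟩
    · exact ⟨1, 0, psi_10.symm⟩
    · exact ⟨0, 1, psi_01.symm⟩

end W

variable {G W : Type*} [Group G] [Group W] {S : Subgroup G} {f : W × W →* G} {w : G} {ζ e : W}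

/-- the embedding `(ZMod 2)^4 → G` -/
def phi (f : W × W →* G) (ζ e : W) (x : V) : G := f (psi ζ e (x 0) (x 1), psi ζ e (x 2) (x 3))

theorem emb (h : Wr S f w) (b : WBase ζ) (d : EData ζ e) : Emb (phi f ζ e) where
  add x y := by
    unfold phi
    rw [← map_mul, Prod.mk_mul_mk, ← psi_add b d, ← psi_add b d]
    rfl
  inj x hx := by
    unfold phi at hx
    rw [h.f_eq_one_iff, Prod.mk_eq_one] at hx
    obtain ⟨h0, h1⟩ := psi_inj b d _ _ hx.1
    obtain ⟨h2, h3⟩ := psi_inj b d _ _ hx.2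
    funext i
    fin_cases i
    · exact h0
    · exact h1
    · exact h2
    · exact h3

theorem phi_vt (d : EData ζ e) : phi f ζ e vt = f (ζ, 1) := by
  change f (psi ζ e 1 1, psi ζ e 0 0) = _
  rw [psi_11 d, psi_00]

theorem phi_vz (d : EData ζ e) : phi f ζ e vz = f (ζ, ζ) := by
  change f (psi ζ e 1 1, psi ζ e 1 1) = _
  rw [psi_11 d]

theorem phi_vy : phi f ζ e vy = f (e, e) := by
  change f (psi ζ e 1 0, psi ζ e 1 0) = _
  rw [psi_10]

/-- The standing hypotheses of `EOrbit` for `N`. -/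
theorem hyp (h : Wr S f w) (b : WBase ζ) (d : EData ζ e) (N : Subgroup G)
    (hN : ∀ g ∈ N, ∀ x, ∃ y, g * phi f ζ e x * g⁻¹ = phi f ζ e y)
    (s1 : W) (hs : s1 * e * s1⁻¹ = e * ζ) (hs1 : f (s1, 1) ∈ N) (hs2 : f (1, s1) ∈ N)
    (hw : w ∈ N) : Hyp N (phi f ζ e) where
  toEmb := emb h b d
  norm := hN
  a := by
    refine ⟨_, hs1, fun x => ?_⟩
    have e1 : phi f ζ e (x ∘ (Equiv.swap 0 1 : Equiv.Perm (Fin 4))) =
      f (psi ζ e (x 1) (x 0), psi ζ e (x 2) (x 3)) := rfl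
    rw [e1]
    unfold phi
    rw [← map_inv, Prod.inv_mk, h.f_mul_f, h.f_mul_f, psi_swap b d s1 hs, one_mul, inv_one,
      mul_one]
  b := by
    refine ⟨_, hs2, fun x => ?_⟩
    have e1 : phi f ζ e (x ∘ (Equiv.swap 2 3 : Equiv.Perm (Fin 4))) =
      f (psi ζ e (x 0) (x 1), psi ζ e (x 3) (x 2)) := rfl
    rw [e1]
    unfold phi
    rw [← map_inv, Prod.inv_mk, h.f_mul_f, h.f_mul_f, psi_swap b d s1 hs, one_mul, inv_one,
      mul_one]
  c := by
    refine ⟨_, hw, fun x => ?_⟩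
    have e1 : phi f ζ e (x ∘ (Equiv.swap 0 2 * Equiv.swap 1 3 : Equiv.Perm (Fin 4))) =
      f (psi ζ e (x 2) (x 3), psi ζ e (x 0) (x 1)) := rfl
    rw [e1]
    unfold phi
    rw [h.w_conj]

/-- **The frame**: `N` induces `S₅`. -/
theorem frame (h : Wr S f w) (b : WBase ζ) (d : EData ζ e) (N : Subgroup G)
    (hN : ∀ g ∈ N, ∀ x, ∃ y, g * phi f ζ e x * g⁻¹ = phi f ζ e y)
    (s1 : W) (hs : s1 * e * s1⁻¹ = e * ζ) (hs1 : f (s1, 1) ∈ N) (hs2 : f (1, s1) ∈ N)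
    (hw : w ∈ N) (hnc : ¬ IsConj (f (ζ, 1)) (f (ζ, ζ)))
    (ht : ∃ g ∈ N, g * f (ζ, 1) * g⁻¹ = f (e, e))
    (hz : ∃ g ∈ N, ∃ x, g * f (ζ, ζ) * g⁻¹ = phi f ζ e x ∧ x ≠ vz) :
    (∀ σ : Equiv.Perm (Fin 5), ∃ g ∈ N, ∀ i, g * phi f ζ e (o1 i) * g⁻¹ = phi f ζ e (o1 (σ i))) ∨
    (∀ σ : Equiv.Perm (Fin 5), ∃ g ∈ N, ∀ i,
      g * phi f ζ e (o3 i) * g⁻¹ = phi f ζ e (o3 (σ i))) := by
  have hyp := hyp h b d N hN s1 hs hs1 hs2 hw
  obtain ⟨o, ho, -, hperm⟩ := EOrbit.main hyp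
    (by
      rintro ⟨g, -, hg⟩
      rw [phi_vt d, phi_vz d] at hg
      exact hnc (isConj_iff.2 ⟨g, hg⟩))
    (by
      obtain ⟨g, hg, e1⟩ := ht
      exact ⟨g, hg, by rw [phi_vt d, phi_vy, e1]⟩)
    (by
      obtain ⟨g, hg, x, e1, hx⟩ := hz
      exact ⟨x, hx, g, hg, by rw [phi_vz d, e1]⟩)
  rcases ho with rfl | rfl
  · exact Or.inl hperm
  · exact Or.inr hperm

theorem phi_o3 (d : EData ζ e) (i : Fin 5) : phi f ζ e (o3 i) = f (Out.zv ζ e i) := by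
  fin_cases i
  · change f (psi ζ e 0 1, psi ζ e 1 1) = f (e * ζ, ζ)
    rw [psi_01, psi_11 d]
  · change f (psi ζ e 1 0, psi ζ e 1 1) = f (e, ζ)
    rw [psi_10, psi_11 d]
  · change f (psi ζ e 1 1, psi ζ e 0 1) = f (ζ, e * ζ)
    rw [psi_01, psi_11 d]
  · change f (psi ζ e 1 1, psi ζ e 1 0) = f (ζ, e)
    rw [psi_10, psi_11 d]
  · change f (psi ζ e 1 1, psi ζ e 1 1) = f (ζ, ζ)
    rw [psi_11 d]

theorem phi_o1 (d : EData ζ e) (i : Fin 5) : phi f ζ e (o1 i) =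
    f (![(e, 1), (e * ζ, 1), (1, e), (1, e * ζ), (ζ, ζ)] i) := by
  fin_cases i
  · change f (psi ζ e 1 0, psi ζ e 0 0) = f (e, 1)
    rw [psi_10, psi_00]
  · change f (psi ζ e 0 1, psi ζ e 0 0) = f (e * ζ, 1)
    rw [psi_01, psi_00]
  · change f (psi ζ e 0 0, psi ζ e 1 0) = f (1, e)
    rw [psi_10, psi_00]
  · change f (psi ζ e 0 0, psi ζ e 0 1) = f (1, e * ζ)
    rw [psi_01, psi_00]
  · change f (psi ζ e 1 1, psi ζ e 1 1) = f (ζ, ζ)
    rw [psi_11 d]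

/-- After a twist with `μ e = ζ`, `μ ζ = 1`, the pattern `o1` becomes `zv`. -/
theorem perm_twist (b : WBase ζ) (d : EData ζ e) (μ : W →* W)
    (hμ : ∀ x y, μ x * y = y * μ x) (hμe : μ e = ζ) (hμζ : μ ζ = 1) (P : G → Prop)
    (hperm : ∀ σ : Equiv.Perm (Fin 5), ∃ g, P g ∧
      ∀ i, g * phi f ζ e (o1 i) * g⁻¹ = phi f ζ e (o1 (σ i)))
    (σ : Equiv.Perm (Fin 5)) : ∃ g, P g ∧ ∀ i,
      g * (f.comp (twistHom μ hμ)) (Out.zv ζ e i) * g⁻¹ =
        (f.comp (twistHom μ hμ)) (Out.zv ζ e (σ i)) := by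
  have hμ2 : μ (e * ζ) = ζ := by rw [map_mul, hμe, hμζ, mul_one]
  have key : ∀ i : Fin 5, (f.comp (twistHom μ hμ)) (Out.zv ζ e i) =
      phi f ζ e (o1 ((Equiv.swap 0 1 * Equiv.swap 2 3 : Equiv.Perm (Fin 5)) i)) := by
    intro i
    rw [phi_o1 d, MonoidHom.comp_apply]
    congr 1
    fin_cases i
    · change twistHom μ hμ (e * ζ, ζ) = (e * ζ, 1)
      rw [twistHom_apply, hμζ, hμ2, mul_one, b.sq]
    · change twistHom μ hμ (e, ζ) = (e, 1)
      rw [twistHom_apply, hμζ, hμe, mul_one, b.sq]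
    · change twistHom μ hμ (ζ, e * ζ) = (1, e * ζ)
      rw [twistHom_apply, hμζ, hμ2, mul_one, b.sq]
    · change twistHom μ hμ (ζ, e) = (1, e)
      rw [twistHom_apply, hμζ, hμe, mul_one, b.sq]
    · change twistHom μ hμ (ζ, ζ) = (ζ, ζ)
      rw [twistHom_apply, hμζ, mul_one]
  obtain ⟨g, hg, h1⟩ := hperm ((Equiv.swap 0 1 * Equiv.swap 2 3 : Equiv.Perm (Fin 5)) * σ *
    (Equiv.swap 0 1 * Equiv.swap 2 3 : Equiv.Perm (Fin 5)))
  refine ⟨g, hg, fun i => ?_⟩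
  rw [key, key, h1]
  congr 2
  have h2 : ((Equiv.swap 0 1 * Equiv.swap 2 3 : Equiv.Perm (Fin 5)) *
    (Equiv.swap 0 1 * Equiv.swap 2 3 : Equiv.Perm (Fin 5))) = 1 := by decide
  have h3 := congrArg (fun p : Equiv.Perm (Fin 5) => p i) h2
  simp only [Equiv.Perm.coe_mul, Function.comp_apply, Equiv.Perm.coe_one, id_eq] at h3 ⊢
  rw [h3]

end Cfsg.Agent.TypeLFive.FrameE
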