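import Mathlib
import Cfsg.Agent.S0215
import Cfsg.Agent.TypeLFive.FrameE

/-!
# S0511 (F): use of the simplicity of `G`
-/

set_option autoImplicit false

namespace Cfsg.Agent.TypeLFive.Simple

open Subgroup Cfsg.Agent.TypeLFive.Model Cfsg.Agent.TypeLFive.Facts

variable {G W : Type*} [Group G] [Group W] [Finite G] [IsSimpleGroup G]
  {S : Sylow 2 G} {f : W × W →* G} {w : G} {ζ : W}

omit [Finite G] [IsSimpleGroup G] in
theorem not_comm {S : Subgroup G} (h : Wr S f w) (b : WBase ζ) : ¬ ∀ x y : G, x * y = y * x := by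
  intro hc
  obtain ⟨x1, -, y1, hy1⟩ := b.comm1
  have h1 := hc (f (x1, 1)) (f (y1, 1))
  rw [h.f_comm_f_iff] at h1
  rw [h1.1] at hy1
  exact b.ne (mul_eq_right.1 hy1.symm)

omit [Finite G] in
theorem char_one {S : Subgroup G} (h : Wr S f w) (b : WBase ζ) (φ : G →* ℤˣ) (x : G) :
    φ x = 1 := by
  rcases IsSimpleGroup.eq_bot_or_eq_top_of_normal φ.ker inferInstance with h1 | h1
  · exfalso
    apply not_comm h b
    intro a c
    have hinj : Function.Injective φ := (MonoidHom.ker_eq_bot_iff φ).1 h1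
    apply hinj
    rw [map_mul, map_mul, mul_comm]
  · have : x ∈ φ.ker := by rw [h1]; trivial
    exact MonoidHom.mem_ker.1 this

omit [Finite G] in
theorem index_ne_two {S : Subgroup G} (h : Wr S f w) (b : WBase ζ) (M : Subgroup G) :
    M.index ≠ 2 := by
  intro hM
  obtain ⟨φ, hφ⟩ := SylowSp4.Extremal.exists_char M hM
  have : M = ⊤ := by
    rw [eq_top_iff]
    intro x _
    exact (hφ x).1 (char_one h b φ x)
  rw [this, index_top] at hM
  norm_num at hM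

/-- `z` is not isolated in `S` (Glauberman's `Z*`-theorem). -/
theorem z_fused (h : Wr (S : Subgroup G) f w) (b : WBase ζ) :
    ∃ g : G, g * f (ζ, ζ) * g⁻¹ ∈ (S : Subgroup G) ∧ g * f (ζ, ζ) * g⁻¹ ≠ f (ζ, ζ) := by
  by_contra hcon
  push Not at hcon
  have hz1 : f (ζ, ζ) ≠ 1 := by
    rw [Ne, h.f_eq_one_iff, Prod.mk_eq_one]
    exact fun hh => b.ne hh.1
  have hzz : f (ζ, ζ) * f (ζ, ζ) = 1 := by
    rw [h.f_mul_f, b.sq]; exact map_one f
  have ho : orderOf (f (ζ, ζ)) = 2 := orderOf_eq_prime (by rw [pow_two, hzz]) hz1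
  obtain ⟨N, hN, hodd, hc⟩ := Cfsg.Agent.S0215.result S (f (ζ, ζ)) ho (h.mem _) hcon
  have hNbot : N = ⊥ := by
    rcases IsSimpleGroup.eq_bot_or_eq_top_of_normal N hN with h1 | h1
    · exact h1
    · exfalso
      rw [h1, Subgroup.card_top, ← Nat.not_even_iff_odd, even_iff_two_dvd, ← ho] at hodd
      exact hodd (orderOf_dvd_natCard _)
  have hzc : f (ζ, ζ) ∈ center G := by
    rw [mem_center_iff]
    intro g
    have h1 := hc g
    rw [hNbot, mem_bot] at h1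
    calc g * f (ζ, ζ) = 1 * (g * f (ζ, ζ)) := by rw [one_mul]
      _ = f (ζ, ζ) * g * (f (ζ, ζ))⁻¹ * g⁻¹ * (g * f (ζ, ζ)) := by rw [h1]
      _ = f (ζ, ζ) * g := by group
  rcases IsSimpleGroup.eq_bot_or_eq_top_of_normal (center G) inferInstance with h1 | h1
  · rw [h1, mem_bot] at hzc
    exact hz1 hzc
  · apply not_comm h b
    intro x y
    have hx : x ∈ center G := by rw [h1]; trivial
    exact ((mem_center_iff.1 hx) y).symm

/-- the conjugate of `z` can be taken in `T` when `w` is conjugate to `t`. -/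
theorem z_fused_T (h : Wr (S : Subgroup G) f w) (b : WBase ζ) (hw : IsConj (f (ζ, 1)) w) :
    ∃ g : G, ∃ x y : W, g * f (ζ, ζ) * g⁻¹ = f (x, y) ∧ x * x = 1 ∧ y * y = 1 ∧
      ¬ (x = 1 ∧ y = 1) ∧ ¬ (x = ζ ∧ y = ζ) := by
  obtain ⟨g, hg, hgz⟩ := z_fused h b
  have hsq : g * f (ζ, ζ) * g⁻¹ * (g * f (ζ, ζ) * g⁻¹) = 1 := by
    have hzz : f (ζ, ζ) * f (ζ, ζ) = 1 := by
      rw [h.f_mul_f, b.sq]; exact map_one f
    calc g * f (ζ, ζ) * g⁻¹ * (g * f (ζ, ζ) * g⁻¹) = g * (f (ζ, ζ) * f (ζ, ζ)) * g⁻¹ := by group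
      _ = 1 := by rw [hzz]; group
  have hne : g * f (ζ, ζ) * g⁻¹ ≠ 1 := by
    rw [Ne, conj_eq_one_iff, h.f_eq_one_iff, Prod.mk_eq_one]
    exact fun hh => b.ne hh.1
  rcases h.cases _ hg with ⟨x, y, hxy⟩ | ⟨x, y, hxy⟩
  · rw [hxy] at hsq hne hgz
    refine ⟨g, x, y, hxy, ?_⟩
    rw [h.f_mul_f, h.f_eq_one_iff, Prod.mk_eq_one] at hsq
    refine ⟨hsq.1, hsq.2, ?_, ?_⟩
    · rintro ⟨rfl, rfl⟩
      exact hne (map_one f)
    · rintro ⟨rfl, rfl⟩
      exact hgz rfl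
  · exfalso
    rw [hxy, h.fw_sq_eq_one_iff] at hsq
    subst hsq
    apply TNotZ.not_conj h b
    refine hw.trans ?_
    apply IsConj.symm
    rw [isConj_iff]
    refine ⟨(f (x, 1))⁻¹ * g, ?_⟩
    have h1 := h.f_conj_w x 1
    rw [inv_one, mul_one, one_mul] at h1
    calc (f (x, 1))⁻¹ * g * f (ζ, ζ) * ((f (x, 1))⁻¹ * g)⁻¹
        = (f (x, 1))⁻¹ * (g * f (ζ, ζ) * g⁻¹) * f (x, 1) := by group
      _ = (f (x, 1))⁻¹ * (f (x, 1) * w * (f (x, 1))⁻¹) * f (x, 1) := by rw [hxy, h1]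
      _ = w := by group

end Cfsg.Agent.TypeLFive.Simple
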