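import Mathlib
import Cfsg.Agent.TypeLFive.SDE16
import Cfsg.Agent.TypeLFive.Simple

/-!
# S0511 (F) for `W` semidihedral: the final result
-/

set_option autoImplicit false

namespace Cfsg.Agent.TypeLFive.SDMain

open Subgroup Cfsg.Agent.TypeLFive.Model Cfsg.Agent.TypeLFive.Facts Cfsg.Agent.TypeLFive.FrameE
open Cfsg.Agent.TypeLFive.SDE16 Cfsg.Agent.TypeLFive.EOrbit Cfsg.Agent.TypeLFive.Out
open Cfsg.Agent.TwoFusion.QDBasic

section W

variable {W : Type*} [Group W]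

open Classical in
/-- The endomorphism with kernel `U` (of index two) and value `c` outside. -/
noncomputable def charHom (U : Subgroup W) (hU : U.index = 2) (c : W) (hc : c * c = 1) :
    W →* W where
  toFun x := if x ∈ U then 1 else c
  map_one' := if_pos U.one_mem
  map_mul' x y := by
    have h1 := Subgroup.mul_mem_iff_of_index_two hU (a := x) (b := y)
    by_cases hx : x ∈ U <;> by_cases hy : y ∈ U <;> simp [h1, hx, hy, hc]

theorem charHom_mem (U : Subgroup W) (hU : U.index = 2) (c : W) (hc : c * c = 1) (x : W)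
    (hx : x ∈ U) : charHom U hU c hc x = 1 := if_pos hx

theorem charHom_not_mem (U : Subgroup W) (hU : U.index = 2) (c : W) (hc : c * c = 1) (x : W)
    (hx : x ∉ U) : charHom U hU c hc x = c := if_neg hx

theorem charHom_cases (U : Subgroup W) (hU : U.index = 2) (c : W) (hc : c * c = 1) (x : W) :
    charHom U hU c hc x = 1 ∨ charHom U hU c hc x = c := by
  by_cases hx : x ∈ U
  · exact Or.inl (charHom_mem U hU c hc x hx)
  · exact Or.inr (charHom_not_mem U hU c hc x hx)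

variable {n : ℕ} {u : ZMod (2 ^ n) → W} {y : W}

/-- the cyclic maximal subgroup -/
def rotU (hc : IsQDCoord n u y) : Subgroup W where
  carrier := {x | ∃ a, x = u a}
  one_mem' := ⟨0, hc.u_zero.symm⟩
  mul_mem' := by rintro _ _ ⟨a, rfl⟩ ⟨b, rfl⟩; exact ⟨a + b, hc.u_mul a b⟩
  inv_mem' := by rintro _ ⟨a, rfl⟩; exact ⟨-a, hc.u_inv a⟩

theorem mem_rotU (hc : IsQDCoord n u y) (x : W) : x ∈ rotU hc ↔ ∃ a, x = u a := Iff.rfl

theorem uy_not_mem (hc : IsQDCoord n u y) (a : ZMod (2 ^ n)) : u a * y ∉ rotU hc := by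
  rintro ⟨b, hb⟩
  exact hc.u_ne b a hb.symm

theorem index_rotU (hc : IsQDCoord n u y) : (rotU hc).index = 2 := by
  rw [Subgroup.index_eq_two_iff]
  refine ⟨y, fun b => ?_⟩
  rcases hc.cases b with ⟨a, rfl⟩ | ⟨a, rfl⟩
  · right; exact ⟨⟨a, rfl⟩, uy_not_mem hc a⟩
  · left
    refine ⟨?_, uy_not_mem hc a⟩
    rw [mul_assoc, hc.y_y, mul_one]
    exact ⟨a, rfl⟩

theorem edata (hc : IsQDCoord n u y) : EData (u (2 ^ (n - 1))) y where
  ee := hc.y_y
  e_ne := y_ne_one hc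
  e_ζ := y_ne_zeta hc

theorem s1_conj (hc : IsQDCoord n u y) :
    u (2 ^ (n - 2)) * y * (u (2 ^ (n - 2)))⁻¹ = y * u (2 ^ (n - 1)) := by
  have h3 := hc.three_le
  rw [← (sd_base hc).central y]
  have h1 := hc.u_conj_uy (2 ^ (n - 2)) 0
  rw [hc.u_zero, one_mul] at h1
  rw [h1]
  congr 2
  have e2 : (2 : ZMod (2 ^ n)) ^ (n - 1) = 2 * 2 ^ (n - 2) := by
    rw [← pow_succ']; congr 1; omega
  have e3 : (2 : ZMod (2 ^ n)) ^ (n - 1) * 2 ^ (n - 2) = 0 := by
    rw [← pow_add, show n - 1 + (n - 2) = n + (n - 3) by omega, pow_add, two_pow_eq_zero,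
      zero_mul]
  linear_combination -e3 - e2

theorem mem_cent_iff (hc : IsQDCoord n u y) (v : W) :
    v ∈ centralizer ({y} : Set W) ↔ ∃ k l, v = psi (u (2 ^ (n - 1))) y k l := by
  have b := sd_base hc
  rw [psi_cases (edata hc)]
  constructor
  · intro hv
    have h1 := cent_cases hc v hv
    rwa [b.central y] at h1
  · rintro (rfl | rfl | rfl | rfl) <;> rw [mem_centralizer_singleton_iff]
    · rw [one_mul, mul_one]
    · exact b.central y
    · rw [mul_assoc, b.central y]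

end W

variable {G W : Type*} [Group G] [Group W] {n : ℕ} {u : ZMod (2 ^ n) → W} {y : W}
  {f : W × W →* G} {w : G}

theorem mem_E_iff (hc : IsQDCoord n u y) (g : G) :
    g ∈ E f y ↔ ∃ x, g = phi f (u (2 ^ (n - 1))) y x := by
  rw [mem_E]
  constructor
  · rintro ⟨a, ha, b, hb, rfl⟩
    obtain ⟨k, l, rfl⟩ := (mem_cent_iff hc a).1 ha
    obtain ⟨k', l', rfl⟩ := (mem_cent_iff hc b).1 hb
    exact ⟨![k, l, k', l'], rfl⟩
  · rintro ⟨x, rfl⟩
    exact ⟨_, (mem_cent_iff hc _).2 ⟨_, _, rfl⟩, _, (mem_cent_iff hc _).2 ⟨_, _, rfl⟩, rfl⟩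

theorem mem_normalizer_of_map {A : Subgroup G} {x : G}
    (hx : A.map (MulAut.conj x).toMonoidHom = A) : x ∈ normalizer (A : Set G) := by
  rw [Subgroup.mem_normalizer_iff]
  intro y
  constructor
  · intro hy
    rw [← hx]
    exact ⟨y, hy, rfl⟩
  · intro hy
    have h2 : x * y * x⁻¹ ∈ A.map (MulAut.conj x).toMonoidHom := by rw [hx]; exact hy
    obtain ⟨y', hy', e⟩ := h2
    have e' : x * y' * x⁻¹ = x * y * x⁻¹ := e
    rw [← mul_left_cancel (mul_right_cancel e')]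
    exact hy'

theorem mem_normalizer_of_le [Finite G] {A : Subgroup G} {x : G}
    (hx : ∀ y ∈ A, x * y * x⁻¹ ∈ A) : x ∈ normalizer (A : Set G) := by
  apply mem_normalizer_of_map
  have hle : A.map (MulAut.conj x).toMonoidHom ≤ A := by
    rintro _ ⟨y, hy, rfl⟩
    exact hx y hy
  exact Subgroup.eq_of_le_of_card_ge hle
    (by rw [Subgroup.card_map_of_injective (MulAut.conj x).injective])

/-- the permutations induced on `E` before the twist. -/
theorem frame_sd [Finite G] [IsSimpleGroup G] {S : Sylow 2 G}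
    (h : Wr (S : Subgroup G) f w) (hc : IsQDCoord n u y) :
    (∀ σ : Equiv.Perm (Fin 5), ∃ g : G, ∀ i, g * phi f (u (2 ^ (n - 1))) y (o1 i) * g⁻¹ =
      phi f (u (2 ^ (n - 1))) y (o1 (σ i))) ∨
    (∀ σ : Equiv.Perm (Fin 5), ∃ g : G, ∀ i, g * phi f (u (2 ^ (n - 1))) y (o3 i) * g⁻¹ =
      phi f (u (2 ^ (n - 1))) y (o3 (σ i))) := by
  have b := sd_base hc
  have d := edata hc
  obtain ⟨hw, hyy⟩ := SDFive.main h hc (Simple.char_one h b)
  have hEp : IsPGroup 2 (E f y) := by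
    apply S.isPGroup'.to_le
    rintro _ ⟨p, -, rfl⟩
    exact h.mem p
  let N : Subgroup G := normalizer (E f y : Set G)
  have hyc : y ∈ centralizer ({y} : Set W) := mem_centralizer_singleton_iff.2 rfl
  have hζc : u (2 ^ (n - 1)) ∈ centralizer ({y} : Set W) :=
    mem_centralizer_singleton_iff.2 (b.central y)
  have hswap := psi_swap b d _ (s1_conj hc)
  -- `t ~ (y, y)` in `N`
  have ht : ∃ g ∈ N, g * f (u (2 ^ (n - 1)), 1) * g⁻¹ = f (y, y) := by
    obtain ⟨g, hg⟩ := isConj_iff.1 hyy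
    obtain ⟨m, hm, hm2⟩ := Control.control_of (p := 2) f.range (S.isPGroup'.to_le h.range_le)
      (f (u (2 ^ (n - 1)), 1)) (f (y, y)) (Control.not_dvd_relIndex_t h b)
      (by rintro _ ⟨p, rfl⟩; exact TNotZ.t_comm h b p) (E f y) hEp
      (fun x hx => E_comm hc f x hx _ ((mem_E f _).2 ⟨y, hyc, y, hyc, rfl⟩))
      (fun g hg => conj_E h hc g (hg.trans h.range_le)) g hg
    exact ⟨m, mem_normalizer_of_map hm, hm2⟩
  -- `z` is fused in `N`
  have hz : ∃ g ∈ N, ∃ x, g * f (u (2 ^ (n - 1)), u (2 ^ (n - 1))) * g⁻¹ =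
      phi f (u (2 ^ (n - 1))) y x ∧ x ≠ vz := by
    obtain ⟨g, p, q, hg, hp, hq, hpq, hpq2⟩ := Simple.z_fused_T h b hw
    have hred : ∀ p : W, p * p = 1 → ∃ a, ∃ p' ∈ centralizer ({y} : Set W), a * p * a⁻¹ = p' ∧
        (p' = u (2 ^ (n - 1)) → p = u (2 ^ (n - 1))) := by
      intro p hp
      by_cases hp1 : p = 1
      · refine ⟨1, 1, Subgroup.one_mem _, by rw [hp1]; group, fun h1 => absurd h1.symm b.ne⟩
      · by_cases hp2 : p = u (2 ^ (n - 1))
        · refine ⟨1, _, hζc, by rw [hp2]; group, fun _ => hp2⟩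
        · obtain ⟨a, ha⟩ := SDFive.conj_y hc p hp hp1 hp2
          exact ⟨a, y, hyc, ha, fun h1 => absurd h1 (y_ne_zeta hc)⟩
    obtain ⟨a, p', hp', hap, hap2⟩ := hred p hp
    obtain ⟨a', q', hq', haq, haq2⟩ := hred q hq
    have hv : f (p', q') ∈ E f y := (mem_E f _).2 ⟨p', hp', q', hq', rfl⟩
    have hg' : f (a, a') * g * f (u (2 ^ (n - 1)), u (2 ^ (n - 1))) * (f (a, a') * g)⁻¹ =
        f (p', q') := by
      calc f (a, a') * g * f (u (2 ^ (n - 1)), u (2 ^ (n - 1))) * (f (a, a') * g)⁻¹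
          = f (a, a') * (g * f (u (2 ^ (n - 1)), u (2 ^ (n - 1))) * g⁻¹) * (f (a, a'))⁻¹ := by
            group
        _ = f (p', q') := by
            rw [hg, ← map_inv, Prod.inv_mk, h.f_mul_f, h.f_mul_f, hap, haq]
    obtain ⟨m, hm, hm2⟩ := Control.control_of (p := 2) (S : Subgroup G) S.isPGroup'
      (f (u (2 ^ (n - 1)), u (2 ^ (n - 1)))) (f (p', q'))
      (Control.not_dvd_relIndex_z S _ (fun r hr => TNotZ.z_comm h b r hr))
      (fun r hr => TNotZ.z_comm h b r hr) (E f y) hEp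
      (fun x hx => E_comm hc f x hx _ hv)
      (fun g hg => by
        obtain ⟨s, hs, hs2⟩ := conj_E h hc g hg
        exact ⟨s, h.range_le hs, hs2⟩) _ hg'
    obtain ⟨x, hx⟩ := (mem_E_iff hc _).1 hv
    refine ⟨m, mem_normalizer_of_map hm, x, by rw [hm2, hx], ?_⟩
    rintro rfl
    rw [phi_vz d, h.f_eq_iff, Prod.mk.injEq] at hx
    exact hpq2 ⟨hap2 hx.1, haq2 hx.2⟩
  -- the elements normalising `E`
  have hmemN : ∀ g : G, (∀ x, ∃ x', g * phi f (u (2 ^ (n - 1))) y x * g⁻¹ =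
      phi f (u (2 ^ (n - 1))) y x') → g ∈ N := by
    intro g hg
    apply mem_normalizer_of_le
    intro v hv
    obtain ⟨x, rfl⟩ := (mem_E_iff hc _).1 hv
    exact (mem_E_iff hc _).2 (hg x)
  have hfr := frame h b d N
    (by
      intro g hg x
      exact (mem_E_iff hc _).1 ((Subgroup.mem_normalizer_iff.1 hg _).1
        ((mem_E_iff hc _).2 ⟨x, rfl⟩)))
    (u (2 ^ (n - 2))) (s1_conj hc)
    (by
      apply hmemN
      intro x
      refine ⟨![x 1, x 0, x 2, x 3], ?_⟩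
      unfold phi
      rw [← map_inv, Prod.inv_mk, h.f_mul_f, h.f_mul_f, hswap, one_mul, inv_one, mul_one]
      rfl)
    (by
      apply hmemN
      intro x
      refine ⟨![x 0, x 1, x 3, x 2], ?_⟩
      unfold phi
      rw [← map_inv, Prod.inv_mk, h.f_mul_f, h.f_mul_f, hswap, one_mul, inv_one, mul_one]
      rfl)
    (by
      apply hmemN
      intro x
      refine ⟨![x 2, x 3, x 0, x 1], ?_⟩
      unfold phi
      rw [h.w_conj]
      rfl)
    (TNotZ.not_conj h b) ht hz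
  rcases hfr with hfr | hfr
  · left
    intro σ
    obtain ⟨g, -, hg⟩ := hfr σ
    exact ⟨g, hg⟩
  · right
    intro σ
    obtain ⟨g, -, hg⟩ := hfr σ
    exact ⟨g, hg⟩

theorem exists_perm2 (i j : Fin 5) (hij : i ≠ j) :
    ∃ σ : Equiv.Perm (Fin 5), σ 0 = i ∧ σ 1 = j := by
  have key : ∀ i j : Fin 5, i ≠ j →
      (Equiv.swap 0 i * Equiv.swap 1 (Equiv.swap 0 i j) : Equiv.Perm (Fin 5)) 0 = i ∧
      (Equiv.swap 0 i * Equiv.swap 1 (Equiv.swap 0 i j) : Equiv.Perm (Fin 5)) 1 = j := by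
    decide
  exact ⟨_, key i j hij⟩

/-- `FusOut` from the permutations with the pattern `zv`, `W` semidihedral. -/
theorem out_sd [Finite G] [IsSimpleGroup G] {S : Sylow 2 G}
    (h : Wr (S : Subgroup G) f w) (hc : IsQDCoord n u y)
    (hperm : ∀ σ : Equiv.Perm (Fin 5), ∃ g : G, ∀ i, g * f (zv (u (2 ^ (n - 1))) y i) * g⁻¹ =
      f (zv (u (2 ^ (n - 1))) y (σ i))) :
    FusSD (S : Subgroup G) f w u y := by
  have b := sd_base hc
  have d := edata hc
  obtain ⟨hw, -⟩ := SDFive.main h hc (Simple.char_one h b)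
  set ζ := u (2 ^ (n - 1)) with hζ
  have conjP : ∀ σ : Equiv.Perm (Fin 5), ∀ i, IsConj (f (zv ζ y i)) (f (zv ζ y (σ i))) := by
    intro σ i
    obtain ⟨g, hg⟩ := hperm σ
    exact isConj_iff.2 ⟨g, hg i⟩
  have hzi : ∀ i, IsConj (f (ζ, ζ)) (f (zv ζ y i)) := by
    intro i
    have h1 := conjP (Equiv.swap 4 i) 4
    rw [Equiv.swap_apply_left] at h1
    exact h1
  have htij : ∀ i j : Fin 5, i ≠ j → IsConj (f (ζ, 1)) (f (zv ζ y i * zv ζ y j)) := by
    intro i j hij
    obtain ⟨σ, h0, h1⟩ := exists_perm2 i j hij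
    obtain ⟨g, hg⟩ := hperm σ
    have h2 : f (ζ, 1) = f (zv ζ y 0) * f (zv ζ y 1) := by
      rw [← map_mul]
      change f (ζ, 1) = f (y * ζ * y, ζ * ζ)
      rw [b.sq, mul_assoc, b.central y, ← mul_assoc, hc.y_y, one_mul]
    refine isConj_iff.2 ⟨g, ?_⟩
    rw [h2, map_mul]
    calc g * (f (zv ζ y 0) * f (zv ζ y 1)) * g⁻¹
        = (g * f (zv ζ y 0) * g⁻¹) * (g * f (zv ζ y 1) * g⁻¹) := by group
      _ = _ := by rw [hg, hg, h0, h1]
  -- `T`-conjugation
  have hT : ∀ p q a a' : W, IsConj (f (p, q)) (f (a * p * a⁻¹, a' * q * a'⁻¹)) := by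
    intro p q a a'
    refine isConj_iff.2 ⟨f (a, a'), ?_⟩
    rw [← map_inv, Prod.inv_mk, h.f_mul_f, h.f_mul_f]
  have hW : ∀ p q : W, IsConj (f (p, q)) (f (q, p)) := by
    intro p q
    exact isConj_iff.2 ⟨w, h.w_conj p q⟩
  have hred : ∀ p : W, p * p = 1 → p = 1 ∨ p = ζ ∨ ∃ a, a * p * a⁻¹ = y := by
    intro p hp
    by_cases hp1 : p = 1
    · exact Or.inl hp1
    · by_cases hp2 : p = ζ
      · exact Or.inr (Or.inl hp2)
      · exact Or.inr (Or.inr (SDFive.conj_y hc p hp hp1 hp2))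
  have hy1 : ∀ p : W, (∃ a, a * p * a⁻¹ = y) → p ≠ 1 ∧ p ≠ ζ := by
    rintro p ⟨a, ha⟩
    constructor
    · rintro rfl
      apply y_ne_one hc
      rw [← ha]; group
    · rintro rfl
      apply y_ne_zeta hc
      rw [← ha, ← b.central, mul_inv_cancel_right]
  -- the classes of elements of `E`
  have c_yz : IsConj (f (ζ, ζ)) (f (y, ζ)) := hzi 1
  have c_zy : IsConj (f (ζ, ζ)) (f (ζ, y)) := hzi 3
  have c_y1 : IsConj (f (ζ, 1)) (f (y, 1)) := by
    have h1 := htij 1 4 (by decide)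
    have e : f (zv ζ y 1 * zv ζ y 4) = f (y * ζ, ζ * ζ) := rfl
    rw [e, b.sq] at h1
    -- `yζ` is conjugate to `y`
    obtain ⟨a, ha⟩ := (hred (y * ζ) (eζ_sq b d)).resolve_left (fun h2 => y_ne_zeta hc (by
      rw [eq_inv_of_mul_eq_one_left h2, inv_eq_of_mul_eq_one_left b.sq])) |>.resolve_left
      (fun h2 => y_ne_one hc (mul_eq_right.1 h2))
    have h2 := hT (y * ζ) 1 a 1
    rw [ha] at h2
    simp only [mul_one, inv_one] at h2
    exact h1.trans h2
  have c_1y : IsConj (f (ζ, 1)) (f (1, y)) := c_y1.trans (hW y 1)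
  have c_1z : IsConj (f (ζ, 1)) (f (1, ζ)) := hW ζ 1
  have c_yy : IsConj (f (ζ, 1)) (f (y, y)) := by
    have h1 := htij 1 3 (by decide)
    have e : f (zv ζ y 1 * zv ζ y 3) = f (y * ζ, ζ * y) := rfl
    rw [e] at h1
    obtain ⟨a, ha⟩ := (hred (y * ζ) (eζ_sq b d)).resolve_left (fun h2 => y_ne_zeta hc (by
      rw [eq_inv_of_mul_eq_one_left h2, inv_eq_of_mul_eq_one_left b.sq])) |>.resolve_left
      (fun h2 => y_ne_one hc (mul_eq_right.1 h2))
    have h2 := hT (y * ζ) (ζ * y) a a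
    rw [b.central y, ha] at h2
    rw [b.central y] at h1
    exact h1.trans h2
  refine ⟨hc, h, TNotZ.not_conj h b, hperm, hw, ?_, ?_, ?_⟩
  · -- conj_z
    rintro x x' hx hx' hx1 hx'1 hor
    rcases hred x hx with rfl | rfl | ⟨a, ha⟩
    · exact absurd rfl hx1
    · rcases hred x' hx' with rfl | rfl | ⟨a', ha'⟩
      · exact absurd rfl hx'1
      · exact IsConj.refl _
      · have h2 := hT ζ x' 1 a'
        rw [ha'] at h2
        simp only [one_mul, inv_one, mul_one] at h2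
        exact c_zy.trans h2.symm
    · rcases hor with rfl | rfl
      · exact absurd rfl (hy1 _ ⟨a, ha⟩).2
      · have h2 := hT x ζ a 1
        rw [ha] at h2
        simp only [one_mul, inv_one, mul_one] at h2
        exact c_yz.trans h2.symm
  · -- conj_t
    rintro x x' hx hx' hxx hor
    rcases hred x hx with rfl | rfl | ⟨a, ha⟩ <;> rcases hred x' hx' with rfl | rfl | ⟨a', ha'⟩
    · exact absurd ⟨rfl, rfl⟩ hxx
    · exact c_1z
    · have h2 := hT 1 x' 1 a'
      rw [ha'] at h2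
      simp only [one_mul, inv_one] at h2
      exact c_1y.trans h2.symm
    · exact IsConj.refl _
    · exact absurd ⟨b.ne, b.ne, Or.inl rfl⟩ hor
    · exact absurd ⟨b.ne, (hy1 _ ⟨a', ha'⟩).1, Or.inl rfl⟩ hor
    · have h2 := hT x 1 a 1
      rw [ha] at h2
      simp only [one_mul, inv_one] at h2
      exact c_y1.trans h2.symm
    · exact absurd ⟨(hy1 _ ⟨a, ha⟩).1, b.ne, Or.inr rfl⟩ hor
    · have h2 := hT x x' a a'
      rw [ha, ha'] at h2
      exact c_yy.trans h2.symm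
  · exact fun R hR hTR hRt => TNotZ.sylow_t h b R hR hTR hRt

/-- **(F) for `W` semidihedral.** -/
theorem exists_fusSD [Finite G] [IsSimpleGroup G] {S : Sylow 2 G}
    (h : Wr (S : Subgroup G) f w) (hc : IsQDCoord n u y) :
    ∃ f' : W × W →* G, FusSD (S : Subgroup G) f' w u y ∧ f'.range = f.range := by
  have b := sd_base hc
  have d := edata hc
  have hfinW := hc.finite
  rcases frame_sd h hc with hfr | hfr
  · let μ : W →* W := charHom (rotU hc) (index_rotU hc) (u (2 ^ (n - 1))) b.sq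
    have hμ : ∀ x y, μ x * y = y * μ x := by
      intro x v
      rcases charHom_cases (rotU hc) (index_rotU hc) (u (2 ^ (n - 1))) b.sq x with h1 | h1
      · change charHom _ _ _ _ x * v = v * charHom _ _ _ _ x
        rw [h1, one_mul, mul_one]
      · change charHom _ _ _ _ x * v = v * charHom _ _ _ _ x
        rw [h1]; exact b.central v
    have hμy : μ y = u (2 ^ (n - 1)) := by
      apply charHom_not_mem
      have := uy_not_mem hc 0
      rwa [hc.u_zero, one_mul] at this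
    have hμζ : μ (u (2 ^ (n - 1))) = 1 := charHom_mem _ _ _ _ _ ⟨_, rfl⟩
    have hinj : ∀ x, μ (μ x) = x → x = 1 := by
      intro x hx
      rcases charHom_cases (rotU hc) (index_rotU hc) (u (2 ^ (n - 1))) b.sq x with h1 | h1
      · have h2 : μ x = 1 := h1
        rw [h2, map_one] at hx
        exact hx.symm
      · have h2 : μ x = u (2 ^ (n - 1)) := h1
        rw [h2, hμζ] at hx
        exact hx.symm
    refine ⟨f.comp (twistHom μ hμ), out_sd (h.twist μ hμ hinj) hc (fun σ => ?_),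
      Wr.comp_range (twistEquiv μ hμ hinj)⟩
    obtain ⟨g, -, hg⟩ := perm_twist b d μ hμ hμy hμζ (fun _ => True)
      (fun σ => by
        obtain ⟨g, hg⟩ := hfr σ
        exact ⟨g, trivial, hg⟩) σ
    exact ⟨g, hg⟩
  · refine ⟨f, out_sd h hc (fun σ => ?_), rfl⟩
    obtain ⟨g, hg⟩ := hfr σ
    refine ⟨g, fun i => ?_⟩
    rw [← phi_o3 d, ← phi_o3 d, hg]

end Cfsg.Agent.TypeLFive.SDMain
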