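import Mathlib
import Cfsg.Agent.TypeLFive.FrameE

/-!
# S0511 (F): `FusOut` from the permutations (common form)
-/

set_option autoImplicit false

namespace Cfsg.Agent.TypeLFive.OutCommon

open Subgroup Cfsg.Agent.TypeLFive.Model Cfsg.Agent.TypeLFive.Facts Cfsg.Agent.TypeLFive.FrameE
open Cfsg.Agent.TypeLFive.Out

variable {G W : Type*} [Group G] [Group W] {f : W × W →* G} {w : G} {ζ e : W}

theorem exists_perm2 (i j : Fin 5) (hij : i ≠ j) :
    ∃ σ : Equiv.Perm (Fin 5), σ 0 = i ∧ σ 1 = j := by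
  have key : ∀ i j : Fin 5, i ≠ j →
      (Equiv.swap 0 i * Equiv.swap 1 (Equiv.swap 0 i j) : Equiv.Perm (Fin 5)) 0 = i ∧
      (Equiv.swap 0 i * Equiv.swap 1 (Equiv.swap 0 i j) : Equiv.Perm (Fin 5)) 1 = j := by
    decide
  exact ⟨_, key i j hij⟩

/-- `FusOut` from: `S₅` on the five vectors, `w ~ t`, and: noncentral involutions in the first
coordinate can be moved to `e` without changing the second coordinate. -/
theorem fusOut [Finite G] {S : Sylow 2 G} (h : Wr (S : Subgroup G) f w) (b : WBase ζ)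
    (d : EData ζ e) (hw : IsConj (f (ζ, 1)) w)
    (mv : ∀ p : W, p * p = 1 → p ≠ 1 → p ≠ ζ → ∃ m : G, ∀ q, m * f (p, q) * m⁻¹ = f (e, q))
    (hperm : ∀ σ : Equiv.Perm (Fin 5), ∃ g : G, ∀ i,
      g * f (zv ζ e i) * g⁻¹ = f (zv ζ e (σ i))) :
    FusOut (S : Subgroup G) f w ζ e := by
  have hsw : ∀ p q : W, IsConj (f (p, q)) (f (q, p)) := fun p q =>
    isConj_iff.2 ⟨w, h.w_conj p q⟩
  have h1 : ∀ p q : W, p * p = 1 → p ≠ 1 → p ≠ ζ → IsConj (f (p, q)) (f (e, q)) := by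
    intro p q hp hp1 hp2
    obtain ⟨m, hm⟩ := mv p hp hp1 hp2
    exact isConj_iff.2 ⟨m, hm q⟩
  have h2 : ∀ p q : W, q * q = 1 → q ≠ 1 → q ≠ ζ → IsConj (f (p, q)) (f (p, e)) := by
    intro p q hq hq1 hq2
    exact ((hsw p q).trans (h1 q p hq hq1 hq2)).trans (hsw e p)
  have he0 : e * ζ ≠ 1 := by
    intro h3
    apply d.e_ζ
    rw [eq_inv_of_mul_eq_one_left h3, inv_eq_of_mul_eq_one_left b.sq]
  have heζ : e * ζ ≠ ζ := fun h3 => d.e_ne (mul_eq_right.1 h3)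
  have hee := eζ_sq b d
  -- conjugacy of the `z_i`, `t_ij`
  have hzi : ∀ i, IsConj (f (ζ, ζ)) (f (zv ζ e i)) := by
    intro i
    obtain ⟨g, hg⟩ := hperm (Equiv.swap 4 i)
    have h3 := hg 4
    rw [Equiv.swap_apply_left] at h3
    exact isConj_iff.2 ⟨g, h3⟩
  have htij : ∀ i j : Fin 5, i ≠ j → IsConj (f (ζ, 1)) (f (zv ζ e i * zv ζ e j)) := by
    intro i j hij
    obtain ⟨σ, h0, h1⟩ := exists_perm2 i j hij
    obtain ⟨g, hg⟩ := hperm σ
    have h2 : f (ζ, 1) = f (zv ζ e 0) * f (zv ζ e 1) := by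
      rw [← map_mul]
      change f (ζ, 1) = f (e * ζ * e, ζ * ζ)
      rw [b.sq, mul_assoc, b.central e, ← mul_assoc, d.ee, one_mul]
    refine isConj_iff.2 ⟨g, ?_⟩
    rw [h2, map_mul]
    calc g * (f (zv ζ e 0) * f (zv ζ e 1)) * g⁻¹
        = (g * f (zv ζ e 0) * g⁻¹) * (g * f (zv ζ e 1) * g⁻¹) := by group
      _ = _ := by rw [hg, hg, h0, h1]
  have c_ez : IsConj (f (ζ, ζ)) (f (e, ζ)) := hzi 1
  have c_ze : IsConj (f (ζ, ζ)) (f (ζ, e)) := hzi 3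
  have c_e1 : IsConj (f (ζ, 1)) (f (e, 1)) := by
    have h3 := htij 1 4 (by decide)
    have e1 : f (zv ζ e 1 * zv ζ e 4) = f (e * ζ, ζ * ζ) := rfl
    rw [e1, b.sq] at h3
    exact h3.trans (h1 _ _ hee he0 heζ)
  have c_1e : IsConj (f (ζ, 1)) (f (1, e)) := c_e1.trans (hsw e 1)
  have c_1z : IsConj (f (ζ, 1)) (f (1, ζ)) := hsw ζ 1
  have c_ee : IsConj (f (ζ, 1)) (f (e, e)) := by
    have h3 := htij 1 3 (by decide)
    have e1 : f (zv ζ e 1 * zv ζ e 3) = f (e * ζ, ζ * e) := rfl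
    rw [e1, b.central e] at h3
    exact (h3.trans (h1 _ _ hee he0 heζ)).trans (h2 _ _ hee he0 heζ)
  have hcase : ∀ p : W, p = 1 ∨ p = ζ ∨ (p ≠ 1 ∧ p ≠ ζ) := by
    intro p
    by_cases hp1 : p = 1
    · exact Or.inl hp1
    · by_cases hp2 : p = ζ
      · exact Or.inr (Or.inl hp2)
      · exact Or.inr (Or.inr ⟨hp1, hp2⟩)
  refine ⟨h, TNotZ.not_conj h b, hperm, hw, ?_, ?_, ?_⟩
  · rintro x y hx hy hx1 hy1 hor
    rcases hcase x with rfl | rfl | ⟨-, hx2⟩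
    · exact absurd rfl hx1
    · rcases hcase y with rfl | rfl | ⟨-, hy2⟩
      · exact absurd rfl hy1
      · exact IsConj.refl _
      · exact c_ze.trans (h2 _ _ hy hy1 hy2).symm
    · rcases hor with rfl | rfl
      · exact absurd rfl hx2
      · exact c_ez.trans (h1 _ _ hx hx1 hx2).symm
  · rintro x y hx hy hxy hor
    rcases hcase x with rfl | rfl | ⟨hx1, hx2⟩ <;> rcases hcase y with rfl | rfl | ⟨hy1, hy2⟩
    · exact absurd ⟨rfl, rfl⟩ hxy
    · exact c_1z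
    · exact c_1e.trans (h2 _ _ hy hy1 hy2).symm
    · exact IsConj.refl _
    · exact absurd ⟨b.ne, b.ne, Or.inl rfl⟩ hor
    · exact absurd ⟨b.ne, hy1, Or.inl rfl⟩ hor
    · exact c_e1.trans (h1 _ _ hx hx1 hx2).symm
    · exact absurd ⟨hx1, b.ne, Or.inr rfl⟩ hor
    · exact (c_ee.trans (h2 _ _ hy hy1 hy2).symm).trans (h1 _ _ hx hx1 hx2).symm
  · exact fun R hR hTR hRt => TNotZ.sylow_t h b R hR hTR hRt

end Cfsg.Agent.TypeLFive.OutCommon
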