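import Mathlib
import Cfsg.Agent.TypeLFive.Facts
import Cfsg.Agent.TypeLFive.Out
import Cfsg.Agent.TwoFusion.OneClass

/-!
# S0511 (F), wreathed case: `N_G(A) / C_G(A)` acts faithfully on `Ω₁(A)`

`general`: `S` Sylow 2-subgroup of `G`, `A ≤ S` abelian, normalised by `S`, elements of `S`
centralising the involutions of `A` centralise `A`; then the same holds for the elements of `N_G(A)`.
-/

set_option autoImplicit false

namespace Cfsg.Agent.TypeLFive.WRFaith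

open Cfsg.Agent.TypeLFive.Model Cfsg.Agent.TypeLFive.Facts Cfsg.Agent.TypeLFive.Out
open Cfsg.Agent.TwoFusion.QDBasic Cfsg.Agent.TwoFusion.WreathedBasic Cfsg.Agent.TwoFusion

theorem general {G : Type*} [Group G] [Finite G] (S : Sylow 2 G) (A : Subgroup G)
    (hAS : A ≤ (S : Subgroup G)) (hcomm : ∀ a ∈ A, ∀ b ∈ A, a * b = b * a)
    (hSA : ∀ s ∈ (S : Subgroup G), ∀ v ∈ A, s * v * s⁻¹ ∈ A)
    (hfaith : ∀ s ∈ (S : Subgroup G), (∀ v ∈ A, v * v = 1 → s * v * s⁻¹ = v) →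
      ∀ v ∈ A, s * v * s⁻¹ = v)
    (k : G) (hk : ∀ v ∈ A, k * v * k⁻¹ ∈ A) (h1 : ∀ v ∈ A, v * v = 1 → k * v * k⁻¹ = v) :
    ∀ v ∈ A, k * v * k⁻¹ = v := by
  intro v hv
  set N : Subgroup G := Subgroup.normalizer (A : Set G) with hN
  have hNfin : ∀ x : G, (∀ v ∈ A, x * v * x⁻¹ ∈ A) → x ∈ N := by
    intro x hx
    have hle : A.map (MulAut.conj x).toMonoidHom ≤ A := by
      rintro _ ⟨v, hv, rfl⟩
      exact hx v hv
    have heq : A.map (MulAut.conj x).toMonoidHom = A := by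
      apply Subgroup.eq_of_le_of_card_ge hle
      exact (Subgroup.card_map_of_injective (K := A) (f := (MulAut.conj x).toMonoidHom)
        (MulAut.conj x).injective).ge
    rw [hN, Subgroup.mem_normalizer_iff]
    intro v
    refine ⟨hx v, fun hv => ?_⟩
    rw [← heq] at hv
    obtain ⟨w, hw, hw'⟩ := hv
    have : w = v := by
      have : x * w * x⁻¹ = x * v * x⁻¹ := hw'
      simpa using this
    rwa [← this]
  have hkN : k ∈ N := hNfin k hk
  -- the centralizer of the involutions in `N`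
  let C : Subgroup G := N ⊓ Subgroup.centralizer {v | v ∈ A ∧ v * v = 1}
  have hkC : k ∈ C := by
    refine ⟨hkN, Subgroup.mem_centralizer_iff.2 ?_⟩
    rintro v ⟨hv, hv2⟩
    have := h1 v hv hv2
    calc v * k = (k * v * k⁻¹) * k := by rw [this]
      _ = k * v := by group
  have hC2 : ∀ x ∈ C, ∀ v ∈ A, v * v = 1 → x * v * x⁻¹ = v := by
    rintro x ⟨-, hx⟩ v hv hv2
    rw [← Subgroup.mem_centralizer_iff.1 hx v ⟨hv, hv2⟩]; group
  have hC1 : ∀ x ∈ C, ∀ v ∈ A, x * v * x⁻¹ ∈ A := by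
    rintro x ⟨hx, -⟩ v hv
    exact (Subgroup.mem_normalizer_iff.1 hx v).1 hv
  have hSN : (S : Subgroup G) ≤ N := fun x hx => hNfin x (hSA x hx)
  obtain ⟨a, b, hab, ⟨j, hj⟩, hodd⟩ := PResidual.exists_pPart_mul_pPrimePart 2 k
  have haC : k ^ a ∈ C := C.zpow_mem hkC a
  have hbC : k ^ b ∈ C := C.zpow_mem hkC b
  -- the odd part
  have hb1 : k ^ b * v * (k ^ b)⁻¹ = v := by
    obtain ⟨l, hl⟩ := (IsPGroup.iff_orderOf.1 S.isPGroup') ⟨v, hAS hv⟩
    rw [Subgroup.orderOf_mk] at hl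
    refine OneClass.conj_eq_of_odd A hcomm (k ^ b) ?_ (hC1 _ hbC) (hC2 _ hbC) l v hv ?_
    · rw [← Nat.not_even_iff_odd, even_iff_two_dvd]
      intro h3
      have h4 := Nat.dvd_gcd h3 (dvd_refl 2)
      rw [hodd] at h4
      omega
    · rw [← hl, pow_orderOf_eq_one]
  -- the 2-part
  have ha2 : k ^ a * v * (k ^ a)⁻¹ = v := by
    have h3 : IsPGroup 2 (Subgroup.zpowers (k ^ a)) :=
      IsPGroup.of_card (by rw [Nat.card_zpowers, hj])
    obtain ⟨P, hP⟩ := (h3.comap_subtype (K := N)).exists_le_sylow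
    obtain ⟨m, hm⟩ := MulAction.exists_smul_eq N P (S.subtype hSN)
    have h4 : m * ⟨k ^ a, haC.1⟩ * m⁻¹ ∈ (S.subtype hSN : Subgroup N) := by
      rw [← hm]
      exact ⟨_, hP (Subgroup.mem_zpowers (k ^ a)), rfl⟩
    have h5 : (m : G) * k ^ a * (m : G)⁻¹ ∈ (S : Subgroup G) := h4
    have hmU : ∀ v ∈ A, (m : G) * v * (m : G)⁻¹ ∈ A := fun v hv =>
      (Subgroup.mem_normalizer_iff.1 m.2 v).1 hv
    have hmU' : ∀ v ∈ A, (m : G)⁻¹ * v * (m : G) ∈ A := fun v hv => by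
      have := (Subgroup.mem_normalizer_iff.1 (N.inv_mem m.2) v).1 hv
      simpa using this
    have h6 := hfaith _ h5 (by
      intro x hx hxx
      have h7 := hC2 (k ^ a) haC ((m : G)⁻¹ * x * (m : G)) (hmU' _ hx) (by
        calc (m : G)⁻¹ * x * (m : G) * ((m : G)⁻¹ * x * (m : G))
            = (m : G)⁻¹ * (x * x) * (m : G) := by group
          _ = 1 := by rw [hxx]; group)
      calc (m : G) * k ^ a * (m : G)⁻¹ * x * ((m : G) * k ^ a * (m : G)⁻¹)⁻¹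
          = (m : G) * (k ^ a * ((m : G)⁻¹ * x * (m : G)) * (k ^ a)⁻¹) * (m : G)⁻¹ := by group
        _ = x := by rw [h7]; group) ((m : G) * v * (m : G)⁻¹) (hmU v hv)
    have h7 : (m : G) * (k ^ a * v * (k ^ a)⁻¹) * (m : G)⁻¹ = (m : G) * v * (m : G)⁻¹ := by
      rw [← h6]
      group
    exact mul_left_cancel (mul_right_cancel h7)
  calc k * v * k⁻¹ = (k ^ a * k ^ b) * v * (k ^ a * k ^ b)⁻¹ := by rw [← hab]
    _ = k ^ a * (k ^ b * v * (k ^ b)⁻¹) * (k ^ a)⁻¹ := by group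
    _ = v := by rw [hb1, ha2]

variable {G W : Type*} [Group G] [Group W] {n : ℕ} {u : ZMod (2 ^ n) → ZMod (2 ^ n) → W} {s : W}

/-- The homocyclic group `A = f '' {(u a b, u c d)}`. -/
def AA (f : W × W →* G) (hu : IsWCoord n u s) : Subgroup G := (hu.base.prod hu.base).map f

theorem mem_AA (f : W × W →* G) (hu : IsWCoord n u s) (g : G) :
    g ∈ AA f hu ↔ ∃ a b c d, g = f (u a b, u c d) := by
  constructor
  · rintro ⟨⟨x, y⟩, ⟨hx, hy⟩, rfl⟩
    obtain ⟨a, b, hab⟩ := hx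
    obtain ⟨c, d, hcd⟩ := hy
    dsimp only at hab hcd
    subst hab hcd
    exact ⟨a, b, c, d, rfl⟩
  · rintro ⟨a, b, c, d, rfl⟩
    exact ⟨_, ⟨hu.u_mem_base a b, hu.u_mem_base c d⟩, rfl⟩

theorem AA_mem (f : W × W →* G) (hu : IsWCoord n u s) (a b c d : ZMod (2 ^ n)) :
    f (u a b, u c d) ∈ AA f hu := (mem_AA f hu _).2 ⟨a, b, c, d, rfl⟩

theorem AA_comm (f : W × W →* G) (hu : IsWCoord n u s) (x : G) (hx : x ∈ AA f hu) (y : G)
    (hy : y ∈ AA f hu) : x * y = y * x := by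
  obtain ⟨a, b, c, d, rfl⟩ := (mem_AA f hu _).1 hx
  obtain ⟨a', b', c', d', rfl⟩ := (mem_AA f hu _).1 hy
  rw [← map_mul, ← map_mul, Prod.mk_mul_mk, Prod.mk_mul_mk, hu.u_comm a, hu.u_comm c]

theorem AA_le {S : Subgroup G} {f : W × W →* G} {w : G} (h : Wr S f w) (hu : IsWCoord n u s) :
    AA f hu ≤ S := by
  intro x hx
  obtain ⟨a, b, c, d, rfl⟩ := (mem_AA f hu _).1 hx
  exact h.mem _

theorem AA_norm {S : Subgroup G} {f : W × W →* G} {w : G} (h : Wr S f w) (hu : IsWCoord n u s)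
    (r : G) (hr : r ∈ S) (x : G) (hx : x ∈ AA f hu) : r * x * r⁻¹ ∈ AA f hu := by
  have hn := hu.base_normal
  obtain ⟨⟨a, b⟩, ⟨ha, hb⟩, rfl⟩ := hx
  have ha : a ∈ hu.base := ha
  have hb : b ∈ hu.base := hb
  rcases h.cases r hr with ⟨y, v, rfl⟩ | ⟨y, v, rfl⟩
  · refine ⟨(y * a * y⁻¹, v * b * v⁻¹), ⟨hn.conj_mem _ ha _, hn.conj_mem _ hb _⟩, ?_⟩
    rw [← map_inv, ← map_mul, ← map_mul]; rfl
  · refine ⟨(y * b * y⁻¹, v * a * v⁻¹), ⟨hn.conj_mem _ hb _, hn.conj_mem _ ha _⟩, ?_⟩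
    rw [h.fw_inv, h.fw_mul_f, h.fw_mul_fw]

/-- An element of `S` centralising the involutions of `A` centralises `A`. -/
theorem AA_faithful {S : Subgroup G} {f : W × W →* G} {w : G} (h : Wr S f w)
    (hu : IsWCoord n u s) (r : G) (hr : r ∈ S)
    (h1 : ∀ v ∈ AA f hu, v * v = 1 → r * v * r⁻¹ = v) : r ∈ AA f hu := by
  have h0 := half_ne_zero n hu.one_le
  have hh := two_mul_half n hu.one_le
  have hsq : u (2 ^ (n - 1)) 0 * u (2 ^ (n - 1)) 0 = 1 := by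
    rw [hu.u_mul, ← two_mul, hh, add_zero, hu.u_zero]
  have e1 := h1 (f (u (2 ^ (n - 1)) 0, u 0 0)) (AA_mem f hu _ _ _ _) (by
    rw [h.f_mul_f, hsq, hu.u_zero, one_mul]; exact map_one f)
  have e2 := h1 (f (u 0 0, u (2 ^ (n - 1)) 0)) (AA_mem f hu _ _ _ _) (by
    rw [h.f_mul_f, hsq, hu.u_zero, one_mul]; exact map_one f)
  rw [mul_inv_eq_iff_eq_mul] at e1 e2
  rcases h.cases r hr with ⟨x, y, rfl⟩ | ⟨x, y, rfl⟩
  · have e3 := ((h.f_comm_f_iff _ _ _ _).1 e1).1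
    have e4 := ((h.f_comm_f_iff _ _ _ _).1 e2).2
    obtain ⟨a, b, rfl⟩ := wr_cent_u hu _ _ h0 _ e3
    obtain ⟨c, d, rfl⟩ := wr_cent_u hu _ _ h0 _ e4
    exact AA_mem f hu _ _ _ _
  · exfalso
    have e3 := ((h.fw_comm_f_iff _ _ _ _).1 e1).1
    rw [hu.u_zero, mul_one] at e3
    have e4 : u (2 ^ (n - 1)) 0 = 1 := mul_eq_right.1 e3.symm
    rw [hu.u_eq_one_iff] at e4
    exact h0 e4.1

/-- `N_G(A) / C_G(A)` is faithful on the involutions of `A`. -/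
theorem faithful_AA [Finite G] {S : Sylow 2 G} {f : W × W →* G} {w : G}
    (h : Wr (S : Subgroup G) f w) (hu : IsWCoord n u s) (g : G)
    (hg : ∀ v ∈ AA f hu, g * v * g⁻¹ ∈ AA f hu)
    (h1 : ∀ v ∈ AA f hu, v * v = 1 → g * v * g⁻¹ = v) : ∀ v ∈ AA f hu, g * v * g⁻¹ = v :=
  general S (AA f hu) (AA_le h hu) (AA_comm f hu) (AA_norm h hu) (fun r hr hr1 v hv => by
    rw [AA_comm f hu r (AA_faithful h hu r hr hr1) v hv]; group) g hg h1

/-- The involutions of `A`. -/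
theorem inv_AA {S : Subgroup G} {f : W × W →* G} {w : G} (h : Wr S f w)
    (hu : IsWCoord n u s) (a b c d : ZMod (2 ^ n))
    (hv : f (u a b, u c d) * f (u a b, u c d) = 1) :
    ((a = 0 ∨ a = 2 ^ (n - 1)) ∧ (b = 0 ∨ b = 2 ^ (n - 1))) ∧
      ((c = 0 ∨ c = 2 ^ (n - 1)) ∧ (d = 0 ∨ d = 2 ^ (n - 1))) := by
  rw [h.f_mul_f, h.f_eq_one_iff, Prod.mk_eq_one, wr_u_sq_iff hu, wr_u_sq_iff hu] at hv
  exact hv

/-- **(F)** the field `faithful` of `Out.FusWR`. -/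
theorem faithful [Finite G] {S : Sylow 2 G} {f : W × W →* G} {w : G}
    (h : Wr (S : Subgroup G) f w) (hu : IsWCoord n u s) (g : G)
    (hg : ∀ a b c d, ∃ a' b' c' d', g * f (u a b, u c d) * g⁻¹ = f (u a' b', u c' d'))
    (h1 : ∀ i, g * f (zv (u (2 ^ (n - 1)) (2 ^ (n - 1))) (u (2 ^ (n - 1)) 0) i) * g⁻¹ =
      f (zv (u (2 ^ (n - 1)) (2 ^ (n - 1))) (u (2 ^ (n - 1)) 0) i)) (a b c d : ZMod (2 ^ n)) :
    g * f (u a b, u c d) = f (u a b, u c d) * g := by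
  have hh := two_mul_half n hu.one_le
  -- the subgroup of elements of `A` fixed by `g`
  let F : Subgroup G := Subgroup.centralizer {g}
  have hF : ∀ x, x ∈ F ↔ g * x * g⁻¹ = x := by
    intro x
    rw [Subgroup.mem_centralizer_singleton_iff, mul_inv_eq_iff_eq_mul]
    exact ⟨fun e => e.symm, fun e => e.symm⟩
  set ζ : W := u (2 ^ (n - 1)) (2 ^ (n - 1)) with hζ
  set e : W := u (2 ^ (n - 1)) 0 with he
  have z0 : f (e * ζ, ζ) ∈ F := (hF _).2 (h1 0)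
  have z1 : f (e, ζ) ∈ F := (hF _).2 (h1 1)
  have z2 : f (ζ, e * ζ) ∈ F := (hF _).2 (h1 2)
  have z3 : f (ζ, e) ∈ F := (hF _).2 (h1 3)
  have z4 : f (ζ, ζ) ∈ F := (hF _).2 (h1 4)
  have hζζ : ζ * ζ = 1 := wr_zeta_sq hu
  have hee : e * e = 1 := by
    rw [he, hu.u_mul, ← two_mul, hh, add_zero, hu.u_zero]
  have heζ : e * ζ = ζ * e := by rw [he, hζ, hu.u_comm]
  -- generators
  have g1 : f (ζ, 1) ∈ F := by
    have := F.mul_mem z0 z1
    rw [← map_mul, Prod.mk_mul_mk, hζζ, heζ, mul_assoc, hee, mul_one] at this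
    exact this
  have g2 : f (1, ζ) ∈ F := by
    have := F.mul_mem z4 g1
    rw [← map_mul, Prod.mk_mul_mk, hζζ, mul_one] at this
    exact this
  have g3 : f (e, 1) ∈ F := by
    have := F.mul_mem z1 g2
    rw [← map_mul, Prod.mk_mul_mk, hζζ, mul_one] at this
    exact this
  have g4 : f (1, e) ∈ F := by
    have := F.mul_mem z3 g1
    rw [← map_mul, Prod.mk_mul_mk, hζζ, mul_one] at this
    exact this
  have p1 : ∀ a b : ZMod (2 ^ n), (a = 0 ∨ a = 2 ^ (n - 1)) → (b = 0 ∨ b = 2 ^ (n - 1)) →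
      u a b = 1 ∨ u a b = ζ ∨ u a b = e ∨ u a b = ζ * e := by
    rintro a b (rfl | rfl) (rfl | rfl)
    · exact Or.inl hu.u_zero
    · right; right; right
      rw [hζ, he, hu.u_mul, ← two_mul, hh, add_zero]
    · exact Or.inr (Or.inr (Or.inl rfl))
    · exact Or.inr (Or.inl rfl)
  have q1 : ∀ x : W, x = 1 ∨ x = ζ ∨ x = e ∨ x = ζ * e → f (x, 1) ∈ F := by
    rintro x (rfl | rfl | rfl | rfl)
    · have : f ((1 : W), (1 : W)) = 1 := map_one f
      rw [this]; exact F.one_mem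
    · exact g1
    · exact g3
    · have := F.mul_mem g1 g3
      rwa [← map_mul, Prod.mk_mul_mk, mul_one] at this
  have q2 : ∀ x : W, x = 1 ∨ x = ζ ∨ x = e ∨ x = ζ * e → f (1, x) ∈ F := by
    rintro x (rfl | rfl | rfl | rfl)
    · have : f ((1 : W), (1 : W)) = 1 := map_one f
      rw [this]; exact F.one_mem
    · exact g2
    · exact g4
    · have := F.mul_mem g2 g4
      rwa [← map_mul, Prod.mk_mul_mk, mul_one] at this
  have key := faithful_AA h hu g (by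
    intro v hv
    obtain ⟨a, b, c, d, rfl⟩ := (mem_AA f hu _).1 hv
    exact (mem_AA f hu _).2 (hg a b c d)) (by
    intro v hv hvv
    obtain ⟨a, b, c, d, rfl⟩ := (mem_AA f hu _).1 hv
    obtain ⟨⟨h2, h3⟩, h4, h5⟩ := inv_AA h hu a b c d hvv
    have h6 := F.mul_mem (q1 _ (p1 a b h2 h3)) (q2 _ (p1 c d h4 h5))
    rw [← map_mul, Prod.mk_mul_mk, mul_one, one_mul] at h6
    exact (hF _).1 h6) _ (AA_mem f hu a b c d)
  rw [mul_inv_eq_iff_eq_mul] at key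
  exact key

end Cfsg.Agent.TypeLFive.WRFaith
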