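import Mathlib
import Cfsg.Agent.StdL3.OneParity
import Cfsg.Agent.SylowSp4.Extremal

/-!
# Refined Thompson transfer

`G` without subgroups of index two, `P` a Sylow 2-subgroup, `M` of index two in `P`, `x` an involution: then
some conjugate `v = g x g⁻¹ ∈ M` satisfies `g C_P(x) g⁻¹ ≤ P` and `C_P(v)` is Sylow in `C_G(v)`.
-/

set_option autoImplicit false

namespace Cfsg.Agent.TypeLFive.ExtTransfer

open Subgroup Cfsg.Agent.Lib.GoldschmidtFusion

variable {G : Type*} [Group G]

/-- `g` maps `x` to an element of `P` fully centralised in `P`, and `C_P(x)` into `P`. -/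
structure Ext (P : Subgroup G) (x g : G) : Prop where
  mem : g * x * g⁻¹ ∈ P
  cen : ∀ y ∈ P, y * x = x * y → g * y * g⁻¹ ∈ P
  syl : ∀ R : Subgroup G, IsPGroup 2 R → (∀ r ∈ R, r * (g * x * g⁻¹) = g * x * g⁻¹ * r) →
    ∃ c, c * (g * x * g⁻¹) = g * x * g⁻¹ * c ∧ ∀ r ∈ R, c * r * c⁻¹ ∈ P

/-- followed by an element of `P` -/
theorem Ext.mul {P : Subgroup G} {x g : G} (h : Ext P x g) {r : G} (hr : r ∈ P) :
    Ext P x (r * g) where
  mem := by
    have e : r * g * x * (r * g)⁻¹ = r * (g * x * g⁻¹) * r⁻¹ := by group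
    rw [e]
    exact P.mul_mem (P.mul_mem hr h.mem) (P.inv_mem hr)
  cen y hy hyx := by
    have e : r * g * y * (r * g)⁻¹ = r * (g * y * g⁻¹) * r⁻¹ := by group
    rw [e]
    exact P.mul_mem (P.mul_mem hr (h.cen y hy hyx)) (P.inv_mem hr)
  syl R hR hRc := by
    obtain ⟨c, hc, hcR⟩ := h.syl (R.map (MulAut.conj r⁻¹).toMonoidHom) (hR.map _) (by
      rintro _ ⟨y, hy, rfl⟩
      have h1 := hRc y hy
      simp only [MulEquiv.coe_toMonoidHom, MulAut.conj_apply, inv_inv]
      calc r⁻¹ * y * r * (g * x * g⁻¹) = r⁻¹ * (y * (r * g * x * (r * g)⁻¹)) * r := by group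
        _ = r⁻¹ * (r * g * x * (r * g)⁻¹ * y) * r := by rw [h1]
        _ = _ := by group)
    refine ⟨r * c * r⁻¹, ?_, ?_⟩
    · calc r * c * r⁻¹ * (r * g * x * (r * g)⁻¹) = r * (c * (g * x * g⁻¹)) * r⁻¹ := by group
        _ = r * (g * x * g⁻¹ * c) * r⁻¹ := by rw [hc]
        _ = _ := by group
    · intro y hy
      have h1 := hcR (r⁻¹ * y * r) ⟨y, hy, by simp⟩
      have e : r * c * r⁻¹ * y * (r * c * r⁻¹)⁻¹ = r * (c * (r⁻¹ * y * r) * c⁻¹) * r⁻¹ := by group
      rw [e]
      exact P.mul_mem (P.mul_mem hr h1) (P.inv_mem hr)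

/-- **Refined Thompson transfer** (every involution of `G` has a fully centralised conjugate in `M`). -/
theorem exists_ext [Finite G] (P : Sylow 2 G) (hG : ∀ M : Subgroup G, M.index ≠ 2)
    (M : Subgroup G) (hM : M.relIndex (P : Subgroup G) = 2) {x : G} (hxx : x * x = 1) :
    ∃ g : G, g * x * g⁻¹ ∈ M ∧ Ext (P : Subgroup G) x g := by
  classical
  obtain ⟨φ, hφ⟩ := SylowSp4.Extremal.exists_char (M.subgroupOf (P : Subgroup G)) hM
  have hPG : IsPGroup 2 (P : Subgroup G) := P.isPGroup'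
  have := Fintype.ofFinite (G ⧸ (P : Subgroup G))
  obtain ⟨f, hf, hprod⟩ := StdL3.OneParity.transfer_eq_prod_fixed (P : Subgroup G) φ x hxx
  rw [SylowSp4.Extremal.char_trivial hG] at hprod
  have hxi : x⁻¹ = x := inv_eq_of_mul_eq_one_right hxx
  -- membership in the fixed set
  have hfix : ∀ g : G, x • (g : G ⧸ (P : Subgroup G)) = (g : G ⧸ (P : Subgroup G)) ↔
      g⁻¹ * x * g ∈ (P : Subgroup G) := by
    intro g
    rw [MulAction.Quotient.smul_mk, smul_eq_mul, QuotientGroup.eq]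
    have : (x * g)⁻¹ * g = g⁻¹ * x * g := by rw [mul_inv_rev, hxi]
    rw [this]
  -- the Sylow subgroup `R` of `C(x)`
  obtain ⟨R, hxR, hRN, hR, hRi⟩ := exists_sylow_in (p := 2) (N := centralizer ({x} : Set G))
    (D := (P : Subgroup G) ⊓ centralizer ({x} : Set G)) inf_le_right (hPG.to_le inf_le_left)
  have hRx : ∀ r ∈ R, r * x = x * r := fun r hr => mem_centralizer_singleton_iff.1 (hRN hr)
  set F := Finset.univ.filter (fun q : G ⧸ (P : Subgroup G) => x • q = q) with hF
  set F1 := F.filter (fun q => f q = 1) with hF1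
  have hxq : ∀ q : G ⧸ (P : Subgroup G), x • (x • q) = q := by
    intro q; rw [← mul_smul, hxx, one_smul]
  have hP3 : Odd (Fintype.card (G ⧸ (P : Subgroup G))) := by
    have h3 : ¬ 2 ∣ (P : Subgroup G).index := P.not_dvd_index
    rw [← Nat.not_even_iff_odd, even_iff_two_dvd, ← Nat.card_eq_fintype_card]
    exact h3
  -- the number of fixed points with value `1` is odd
  have hF1odd : (-1 : ℤˣ) ^ F1.card = -1 := by
    have h1 : ∏ _q : G ⧸ (P : Subgroup G), (-1 : ℤˣ) = -1 := by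
      rw [Finset.prod_const, Finset.card_univ, hP3.neg_one_pow]
    have h2 : ∏ _q ∈ Finset.univ.filter (fun q : G ⧸ (P : Subgroup G) => ¬ x • q = q),
        (-1 : ℤˣ) = 1 := by
      apply Finset.prod_involution (fun q _ => x • q)
      · intro q _; decide
      · intro q hq _ h
        simp only [Finset.mem_filter, Finset.mem_univ, true_and] at hq
        exact hq h
      · intro q _; exact hxq q
      · intro q hq
        simp only [Finset.mem_filter, Finset.mem_univ, true_and] at hq ⊢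
        intro h
        exact hq (MulAction.injective x h)
    have h3 : ∏ _q ∈ F, (-1 : ℤˣ) = -1 := by
      rw [← Finset.prod_filter_mul_prod_filter_not Finset.univ
        (fun q : G ⧸ (P : Subgroup G) => x • q = q), h2, mul_one] at h1
      exact h1
    have h4 : ∏ q ∈ F, (-1 * f q) = -1 := by
      rw [Finset.prod_mul_distrib, h3, ← hprod, mul_one]
    rw [← Finset.prod_filter_mul_prod_filter_not F (fun q => f q = 1)] at h4
    have h5 : ∏ q ∈ F.filter (fun q => f q = 1), (-1 * f q) = (-1) ^ F1.card := by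
      rw [← Finset.prod_const]
      apply Finset.prod_congr rfl
      intro q hq
      rw [(Finset.mem_filter.1 hq).2, mul_one]
    have h6 : ∏ q ∈ F.filter (fun q => ¬ f q = 1), (-1 * f q) = 1 := by
      apply Finset.prod_eq_one
      intro q hq
      have h7 := (Finset.mem_filter.1 hq).2
      rw [(Int.units_eq_one_or (f q)).resolve_left h7]
      decide
    rw [h5, h6, mul_one] at h4
    exact h4
  -- `R` acts on `F1`
  have hinv : ∀ r ∈ R, ∀ q : G ⧸ (P : Subgroup G), (x • q = q ∧ f q = 1) →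
      (x • (r • q) = r • q ∧ f (r • q) = 1) := by
    rintro r hr q ⟨h1, h2⟩
    obtain ⟨g, rfl⟩ := QuotientGroup.mk_surjective q
    have h3 := (hfix g).1 h1
    have h4 : (r * g)⁻¹ * x * (r * g) = g⁻¹ * x * g := by
      calc (r * g)⁻¹ * x * (r * g) = g⁻¹ * r⁻¹ * (x * r) * g := by group
        _ = g⁻¹ * r⁻¹ * (r * x) * g := by rw [hRx r hr]
        _ = _ := by group
    have h5 : (r * g)⁻¹ * x * (r * g) ∈ (P : Subgroup G) := by rw [h4]; exact h3
    have h6 : r • ((g : G) : G ⧸ (P : Subgroup G)) = ((r * g : G) : G ⧸ (P : Subgroup G)) := by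
      rw [MulAction.Quotient.smul_mk, smul_eq_mul]
    constructor
    · rw [h6]; exact (hfix _).2 h5
    · rw [hf _ (r * g) h6.symm h5, ← h2, hf _ g rfl h3]
      congr 1
      exact Subtype.ext h4
  let α := {q : G ⧸ (P : Subgroup G) // x • q = q ∧ f q = 1}
  let _ : MulAction R α :=
    { smul := fun r q => ⟨(r : G) • q.1, hinv r r.2 q.1 q.2⟩
      one_smul := fun q => Subtype.ext (one_smul G q.1)
      mul_smul := fun r r' q => Subtype.ext (mul_smul (r : G) (r' : G) q.1) }
  have hα : ¬ 2 ∣ Nat.card α := by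
    intro h2
    have h3 : Nat.card α = F1.card := by
      rw [Nat.card_eq_fintype_card, Fintype.card_subtype]
      congr 1
      ext q
      simp [hF1, hF]
    rw [h3] at h2
    rw [(even_iff_two_dvd.2 h2).neg_one_pow] at hF1odd
    exact absurd hF1odd (by decide)
  obtain ⟨⟨q, hq1, hq2⟩, hq⟩ := hR.nonempty_fixed_point_of_prime_not_dvd_card α hα
  obtain ⟨g, rfl⟩ := QuotientGroup.mk_surjective q
  have hgx := (hfix g).1 hq1
  have hRg : ∀ r ∈ R, g⁻¹ * r * g ∈ (P : Subgroup G) := by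
    intro r hr
    have h1 := hq ⟨r, hr⟩
    have h2 : r • ((g : G) : G ⧸ (P : Subgroup G)) = (g : G ⧸ (P : Subgroup G)) :=
      congrArg Subtype.val h1
    rw [MulAction.Quotient.smul_mk, smul_eq_mul, eq_comm, QuotientGroup.eq] at h2
    rwa [mul_assoc]
  refine ⟨g⁻¹, ?_, ?_, ?_, ?_⟩
  · rw [inv_inv]
    have h1 := hf _ g rfl hgx
    rw [hq2] at h1
    exact (hφ _).1 h1.symm
  · rw [inv_inv]; exact hgx
  · intro y hy hyx
    rw [inv_inv]
    exact hRg y (hxR ⟨hy, mem_centralizer_singleton_iff.2 hyx⟩)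
  · intro R' hR' hR'c
    rw [inv_inv] at hR'c ⊢
    obtain ⟨m, hm, hmD⟩ := exists_conj_le_in hR hRi (D := R'.map (MulAut.conj g).toMonoidHom) (by
      rintro _ ⟨y, hy, rfl⟩
      rw [mem_centralizer_singleton_iff]
      have h1 := hR'c y hy
      change g * y * g⁻¹ * x = x * (g * y * g⁻¹)
      calc g * y * g⁻¹ * x = g * (y * (g⁻¹ * x * g)) * g⁻¹ := by group
        _ = g * (g⁻¹ * x * g * y) * g⁻¹ := by rw [h1]
        _ = _ := by group) (hR'.map _)
    have hmx := mem_centralizer_singleton_iff.1 hm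
    refine ⟨g⁻¹ * m * g, ?_, ?_⟩
    · calc g⁻¹ * m * g * (g⁻¹ * x * g) = g⁻¹ * (m * x) * g := by group
        _ = g⁻¹ * (x * m) * g := by rw [hmx]
        _ = _ := by group
    · intro y hy
      have h1 := hRg _ (hmD (mem_map_of_mem _ ⟨y, hy, rfl⟩))
      have e : g⁻¹ * m * g * y * (g⁻¹ * m * g)⁻¹ = g⁻¹ * (m * (g * y * g⁻¹) * m⁻¹) * g := by group
      rw [e]
      simpa using h1

end Cfsg.Agent.TypeLFive.ExtTransfer
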