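import Mathlib
import Cfsg.Agent.TypeLFive.EOrbit

/-!
# S0511 (F): the two counting lemmas on `E = 2^4` for the fusion of `w`
-/

set_option autoImplicit false

namespace Cfsg.Agent.TypeLFive.WRComb

open Cfsg.Agent.TypeLFive.EOrbit

set_option maxRecDepth 100000 in
set_option maxHeartbeats 4000000 in
theorem pick_c : ∀ a b : V,
    (∀ x ∈ [b, vy + b, vy + a, a + b, vy + a + b, a], x ≠ 0 ∧ x ≠ vt ∧ x ≠ vt2) →
    ∃ x ∈ [b, vy + b, vy + a, a + b, vy + a + b], ∃ p ∈ D, x = v1 ∘ p := by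
  decide

set_option maxRecDepth 100000 in
set_option maxHeartbeats 4000000 in
theorem pick_a : ∀ a b : V,
    (∀ x ∈ [a, b, vz + a, vz + b, a + b, vz + a + b], x ≠ 0 ∧ x ≠ vt ∧ x ≠ vt2) →
    (∃ x ∈ [a, b, vz + a, vz + b, a + b, vz + a + b], ∃ p ∈ D, x = v1 ∘ p) ∧
    ∃ x ∈ [a, b, vz + a, vz + b, a + b, vz + a + b], ∃ p ∈ D, x = v3 ∘ p := by
  decide

theorem vt_orb : ∀ x : V, (∃ p ∈ D, x = vt ∘ p) → x = vt ∨ x = vt2 := by
  decide

end Cfsg.Agent.TypeLFive.WRComb
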