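import Mathlib
import Cfsg.Agent.TypeLFive.Out
import Cfsg.Agent.TypeLFive.WRComb
import Cfsg.Agent.TypeLFive.TNotZ
import Cfsg.Agent.TypeLFive.ExtTransfer

/-!
# S0511 (F), step (5) in the wreathed case: `w` is conjugate to `t` and `t` to `(d, d)`

`ζ = u h h`, `d = u h 0`, `h = 2 ^ (n - 1)`.
-/

set_option autoImplicit false

namespace Cfsg.Agent.TypeLFive.WRFive

open Cfsg.Agent.TypeLFive.Model Cfsg.Agent.TypeLFive.Facts Cfsg.Agent.TypeLFive.ExtTransfer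
open Cfsg.Agent.TwoFusion.QDBasic Cfsg.Agent.TwoFusion.WreathedBasic
open Cfsg.Agent.TypeLFive.EOrbit Cfsg.Agent.TypeLFive.WRComb
open scoped commutatorElement

variable {G W : Type*} [Group G] [Group W] {n : ℕ}

/-- The standing hypotheses. -/
structure Ctx (S : Subgroup G) (f : W × W →* G) (w : G)
    (u : ZMod (2 ^ n) → ZMod (2 ^ n) → W) (s : W) : Prop where
  wr : Wr S f w
  co : IsWCoord n u s
  weak : ∀ g : G, (∀ a b c d, g * f (u a b, u c d) * g⁻¹ ∈ S) →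
    ∀ a b c d, ∃ a' b' c' d', g * f (u a b, u c d) * g⁻¹ = f (u a' b', u c' d')
  not_conj : ¬ IsConj (f (u (2 ^ (n - 1)) (2 ^ (n - 1)), 1))
    (f (u (2 ^ (n - 1)) (2 ^ (n - 1)), u (2 ^ (n - 1)) (2 ^ (n - 1))))
  rho : ∃ (ρ : G) (v : W), (v = 1 ∨ v = u (2 ^ (n - 1)) (2 ^ (n - 1))) ∧
    (∀ a y, ρ * f (u a a, y) = f (u a a, y) * ρ) ∧
    ρ * f (s, 1) * ρ⁻¹ = f (u (2 ^ (n - 1)) 0, v)

/-- noncentral involution of `W` -/
structure NC (ζ x : W) : Prop where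
  sq : x * x = 1
  ne_one : x ≠ 1
  ne : x ≠ ζ

section

variable {S : Subgroup G} {f : W × W →* G} {w : G} {u : ZMod (2 ^ n) → ZMod (2 ^ n) → W} {s : W}

theorem diag_of {h : IsWCoord n u s} {v : W} (hv : v = 1 ∨ v = u (2 ^ (n - 1)) (2 ^ (n - 1))) :
    ∃ a, v = u a a := by
  rcases hv with rfl | rfl
  · exact ⟨0, h.u_zero.symm⟩
  · exact ⟨_, rfl⟩

namespace Ctx

theorem base (c : Ctx S f w u s) : WBase (u (2 ^ (n - 1)) (2 ^ (n - 1))) := wr_base c.co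

/-- moving the first coordinate to `d`. -/
theorem move1 (c : Ctx S f w u s) {x : W} (hx : NC (u (2 ^ (n - 1)) (2 ^ (n - 1))) x) :
    ∃ (m : G) (v : W), (v = 1 ∨ v = u (2 ^ (n - 1)) (2 ^ (n - 1))) ∧
      (∀ a y, m * f (u a a, y) = f (u a a, y) * m) ∧
      m * f (x, 1) * m⁻¹ = f (u (2 ^ (n - 1)) 0, v) := by
  have h := c.co
  rcases wr_inv_cases h x hx.sq hx.ne_one hx.ne with rfl | rfl | ⟨a, rfl⟩
  · exact ⟨1, 1, Or.inl rfl, fun a y => by group, by group⟩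
  · refine ⟨f (s, 1), 1, Or.inl rfl, fun a y => ?_, ?_⟩
    · rw [c.wr.f_comm_f_iff]
      exact ⟨(wr_diag_central h a s).symm, by group⟩
    · rw [← map_inv, ← map_mul, ← map_mul]
      congr 1
      ext
      · exact h.z_conj_u _ _
      · simp
  · obtain ⟨ρ, v, hv, h1, h2⟩ := c.rho
    refine ⟨ρ * f (u (-a) 0, 1), v, hv, fun b y => ?_, ?_⟩
    · have h3 : f (u (-a) 0, 1) * f (u b b, y) = f (u b b, y) * f (u (-a) 0, 1) := by
        rw [c.wr.f_comm_f_iff]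
        exact ⟨h.u_comm _ _ _ _, by group⟩
      rw [mul_assoc, h3, ← mul_assoc, h1, mul_assoc]
    · rw [← h2]
      have h3 : f (u (-a) 0, 1) * f (u a (-a) * s, 1) * (f (u (-a) 0, 1))⁻¹ = f (s, 1) := by
        rw [← map_inv, ← map_mul, ← map_mul]
        congr 1
        ext
        · change u (-a) 0 * (u a (-a) * s) * (u (-a) 0)⁻¹ = s
          rw [h.u_conj_uz]
          have e1 : (-a - 0 + a : ZMod (2 ^ n)) = 0 := by ring
          have e2 : (0 - -a + -a : ZMod (2 ^ n)) = 0 := by ring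
          simp [h.u_zero]
        · simp
      calc ρ * f (u (-a) 0, 1) * f (u a (-a) * s, 1) * (ρ * f (u (-a) 0, 1))⁻¹ =
          ρ * (f (u (-a) 0, 1) * f (u a (-a) * s, 1) * (f (u (-a) 0, 1))⁻¹) * ρ⁻¹ := by group
        _ = _ := by rw [h3]

/-- moving the second coordinate to `d`. -/
theorem move2 (c : Ctx S f w u s) {x : W} (hx : NC (u (2 ^ (n - 1)) (2 ^ (n - 1))) x) :
    ∃ (m : G) (v : W), (v = 1 ∨ v = u (2 ^ (n - 1)) (2 ^ (n - 1))) ∧
      (∀ a y, m * f (y, u a a) = f (y, u a a) * m) ∧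
      m * f (1, x) * m⁻¹ = f (v, u (2 ^ (n - 1)) 0) := by
  obtain ⟨m, v, hv, h1, h2⟩ := c.move1 hx
  have hw := c.wr.w_inv
  refine ⟨w * m * w⁻¹, v, hv, fun a y => ?_, ?_⟩
  · have h3 := h1 a y
    calc w * m * w⁻¹ * f (y, u a a) = w * m * (w⁻¹ * f (y, u a a) * w) * w⁻¹ := by group
      _ = w * m * f (u a a, y) * w⁻¹ := by rw [hw, c.wr.w_conj' y (u a a)]
      _ = w * (m * f (u a a, y)) * w⁻¹ := by group
      _ = w * (f (u a a, y) * m) * w⁻¹ := by rw [h3]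
      _ = w * f (u a a, y) * w⁻¹ * (w * m * w⁻¹) := by group
      _ = _ := by rw [c.wr.w_conj]
  · calc w * m * w⁻¹ * f (1, x) * (w * m * w⁻¹)⁻¹ =
        w * (m * (w⁻¹ * f (1, x) * w) * m⁻¹) * w⁻¹ := by group
      _ = w * (m * f (x, 1) * m⁻¹) * w⁻¹ := by rw [hw, c.wr.w_conj']
      _ = _ := by rw [h2, c.wr.w_conj]

/-- moving both coordinates. -/
theorem move (c : Ctx S f w u s) {x y : W} (hx : NC (u (2 ^ (n - 1)) (2 ^ (n - 1))) x)
    (hy : NC (u (2 ^ (n - 1)) (2 ^ (n - 1))) y) :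
    ∃ (m : G) (v1 v2 : W), (v1 = 1 ∨ v1 = u (2 ^ (n - 1)) (2 ^ (n - 1))) ∧
      (v2 = 1 ∨ v2 = u (2 ^ (n - 1)) (2 ^ (n - 1))) ∧
      (∀ a b, m * f (u a a, u b b) = f (u a a, u b b) * m) ∧
      m * f (x, 1) * m⁻¹ = f (u (2 ^ (n - 1)) 0, v1) ∧
      m * f (1, y) * m⁻¹ = f (v2, u (2 ^ (n - 1)) 0) := by
  obtain ⟨m1, v1, hv1, h1, h1'⟩ := c.move1 hx
  obtain ⟨m2, v2, hv2, h2, h2'⟩ := c.move2 hy
  refine ⟨m2 * m1, v1, v2, hv1, hv2, fun a b => ?_, ?_, ?_⟩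
  · rw [mul_assoc, h1, ← mul_assoc, h2, mul_assoc]
  · obtain ⟨a, ha⟩ := diag_of (h := c.co) hv1
    have h3 := h2 a (u (2 ^ (n - 1)) 0)
    calc m2 * m1 * f (x, 1) * (m2 * m1)⁻¹ = m2 * (m1 * f (x, 1) * m1⁻¹) * m2⁻¹ := by group
      _ = m2 * f (u (2 ^ (n - 1)) 0, v1) * m2⁻¹ := by rw [h1']
      _ = f (u (2 ^ (n - 1)) 0, v1) := by rw [ha, h3]; group
  · have h3 := h1 0 y
    rw [c.co.u_zero] at h3
    calc m2 * m1 * f (1, y) * (m2 * m1)⁻¹ = m2 * (m1 * f (1, y) * m1⁻¹) * m2⁻¹ := by group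
      _ = m2 * f (1, y) * m2⁻¹ := by rw [h3]; group
      _ = _ := h2'

/-- `f (d v, d v')` is `S`-conjugate to `f (d, d)`. -/
theorem conj_dd (c : Ctx S f w u s) (a b : W)
    (ha : a = u (2 ^ (n - 1)) 0 ∨ a = u 0 (2 ^ (n - 1)))
    (hb : b = u (2 ^ (n - 1)) 0 ∨ b = u 0 (2 ^ (n - 1))) :
    ∃ p : W × W, f p * f (a, b) * (f p)⁻¹ = f (u (2 ^ (n - 1)) 0, u (2 ^ (n - 1)) 0) := by
  have key : ∀ a : W, (a = u (2 ^ (n - 1)) 0 ∨ a = u 0 (2 ^ (n - 1))) →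
      ∃ x : W, x * a * x⁻¹ = u (2 ^ (n - 1)) 0 := by
    rintro a (rfl | rfl)
    · exact ⟨1, by group⟩
    · exact ⟨s, c.co.z_conj_u _ _⟩
  obtain ⟨x, hx⟩ := key a ha
  obtain ⟨y, hy⟩ := key b hb
  refine ⟨(x, y), ?_⟩
  rw [← map_inv, ← map_mul, ← map_mul]
  congr 1
  ext
  · exact hx
  · exact hy

theorem d_mul (c : Ctx S f w u s) {v : W} (hv : v = 1 ∨ v = u (2 ^ (n - 1)) (2 ^ (n - 1))) :
    u (2 ^ (n - 1)) 0 * v = u (2 ^ (n - 1)) 0 ∨ u (2 ^ (n - 1)) 0 * v = u 0 (2 ^ (n - 1)) := by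
  have h := c.co
  rcases hv with rfl | rfl
  · left; rw [mul_one]
  · right
    rw [h.u_mul, zero_add]
    congr 1
    rw [← two_mul, two_mul_half n h.one_le]

theorem mul_d (c : Ctx S f w u s) {v : W} (hv : v = 1 ∨ v = u (2 ^ (n - 1)) (2 ^ (n - 1))) :
    v * u (2 ^ (n - 1)) 0 = u (2 ^ (n - 1)) 0 ∨ v * u (2 ^ (n - 1)) 0 = u 0 (2 ^ (n - 1)) := by
  have h := c.co
  rcases hv with rfl | rfl
  · left; rw [one_mul]
  · right
    rw [h.u_mul, add_zero]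
    congr 1
    rw [← two_mul, two_mul_half n h.one_le]

/-- `f (x, y)` with `x`, `y` noncentral involutions is conjugate to `f (d, d)`. -/
theorem conj_nc (c : Ctx S f w u s) {x y : W} (hx : NC (u (2 ^ (n - 1)) (2 ^ (n - 1))) x)
    (hy : NC (u (2 ^ (n - 1)) (2 ^ (n - 1))) y) :
    IsConj (f (x, y)) (f (u (2 ^ (n - 1)) 0, u (2 ^ (n - 1)) 0)) := by
  obtain ⟨m, v1, v2, hv1, hv2, hm, h1, h2⟩ := c.move hx hy
  obtain ⟨p, hp⟩ := c.conj_dd (u (2 ^ (n - 1)) 0 * v2) (v1 * u (2 ^ (n - 1)) 0) (c.d_mul hv2)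
    (c.mul_d hv1)
  rw [isConj_iff]
  refine ⟨f p * m, ?_⟩
  rw [← hp]
  have e1 : f (x, y) = f (x, 1) * f (1, y) := by rw [← map_mul]; simp
  have e2 : f (u (2 ^ (n - 1)) 0 * v2, v1 * u (2 ^ (n - 1)) 0) =
      f (u (2 ^ (n - 1)) 0, v1) * f (v2, u (2 ^ (n - 1)) 0) := by rw [← map_mul]; rfl
  rw [e1, e2, ← h1, ← h2]
  group

end Ctx

/-! ### the elementary abelian group `E` -/

/-- the embedding of `ZMod 2` in `ZMod (2 ^ n)` -/
def cz (n : ℕ) (a : ZMod 2) : ZMod (2 ^ n) := if a = 0 then 0 else 2 ^ (n - 1)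

theorem cz_add (n : ℕ) (hn : 1 ≤ n) (a b : ZMod 2) : cz n (a + b) = cz n a + cz n b := by
  have h := two_mul_half n hn
  have h2 : (2 : ZMod (2 ^ n)) ^ (n - 1) + 2 ^ (n - 1) = 0 := by rw [← two_mul, h]
  have key : ∀ a b : ZMod 2, (a = 0 ∨ a = 1) ∧ (b = 0 ∨ b = 1) := by decide
  have h10 : (1 : ZMod 2) ≠ 0 := by decide
  have h11 : (1 + 1 : ZMod 2) = 0 := by decide
  rcases key a b with ⟨rfl | rfl, rfl | rfl⟩ <;> simp [cz, h11, h2]

theorem cz_ne (n : ℕ) (hn : 1 ≤ n) (a : ZMod 2) (h : cz n a = 0) : a = 0 := by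
  by_contra ha
  rw [cz, if_neg ha] at h
  exact half_ne_zero n hn h

theorem cz_cases (n : ℕ) (a : ZMod (2 ^ n)) (ha : a = 0 ∨ a = 2 ^ (n - 1)) : ∃ b, a = cz n b := by
  rcases ha with rfl | rfl
  · exact ⟨0, by simp [cz]⟩
  · exact ⟨1, by simp [cz]⟩

/-- `E` in coordinates. -/
def ph (f : W × W →* G) (u : ZMod (2 ^ n) → ZMod (2 ^ n) → W) (x : V) : G :=
  f (u (cz n (x 0)) (cz n (x 1)), u (cz n (x 2)) (cz n (x 3)))

namespace Ctx

theorem ph_emb (c : Ctx S f w u s) : Emb (ph f u) where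
  add x y := by
    unfold ph
    rw [← map_mul, Prod.mk_mul_mk, c.co.u_mul, c.co.u_mul]
    simp only [Pi.add_apply, cz_add n c.co.one_le]
  inj x hx := by
    unfold ph at hx
    rw [c.wr.f_eq_one_iff, Prod.mk_eq_one, c.co.u_eq_one_iff, c.co.u_eq_one_iff] at hx
    obtain ⟨⟨h0, h1⟩, h2, h3⟩ := hx
    have g := cz_ne n c.co.one_le
    funext i
    fin_cases i
    · exact g _ h0
    · exact g _ h1
    · exact g _ h2
    · exact g _ h3

theorem ph_vz (c : Ctx S f w u s) : ph f u vz =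
    f (u (2 ^ (n - 1)) (2 ^ (n - 1)), u (2 ^ (n - 1)) (2 ^ (n - 1))) := by
  have := c.co
  simp [ph, vz, cz]

theorem ph_vt (c : Ctx S f w u s) : ph f u vt = f (u (2 ^ (n - 1)) (2 ^ (n - 1)), 1) := by
  have h := c.co.u_zero
  simp [ph, vt, cz, h]

theorem ph_vt2 (c : Ctx S f w u s) : ph f u vt2 = f (1, u (2 ^ (n - 1)) (2 ^ (n - 1))) := by
  have h := c.co.u_zero
  simp [ph, vt2, cz, h]

theorem ph_vy (c : Ctx S f w u s) : ph f u vy = f (u (2 ^ (n - 1)) 0, u (2 ^ (n - 1)) 0) := by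
  have h := c.co.u_zero
  simp [ph, vy, cz]

theorem ph_v1 (c : Ctx S f w u s) : ph f u v1 = f (u (2 ^ (n - 1)) 0, 1) := by
  have h := c.co.u_zero
  simp [ph, v1, cz, h]

/-- involutions of `A` are in `E` -/
theorem exists_ph (c : Ctx S f w u s) (a b a' b' : ZMod (2 ^ n))
    (h : f (u a b, u a' b') * f (u a b, u a' b') = 1) : ∃ x, f (u a b, u a' b') = ph f u x := by
  rw [← map_mul, Prod.mk_mul_mk, c.wr.f_eq_one_iff, Prod.mk_eq_one, wr_u_sq_iff c.co,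
    wr_u_sq_iff c.co] at h
  obtain ⟨⟨h0, h1⟩, h2, h3⟩ := h
  obtain ⟨x0, rfl⟩ := cz_cases n a h0
  obtain ⟨x1, rfl⟩ := cz_cases n b h1
  obtain ⟨x2, rfl⟩ := cz_cases n a' h2
  obtain ⟨x3, rfl⟩ := cz_cases n b' h3
  exact ⟨![x0, x1, x2, x3], by simp [ph]⟩

theorem conj_u (c : Ctx S f w u s) (x : W) (a b : ZMod (2 ^ n)) :
    x * u a b * x⁻¹ = u a b ∨ x * u a b * x⁻¹ = u b a := by
  rcases c.co.cases x with ⟨p, q, rfl⟩ | ⟨p, q, rfl⟩
  · left; exact c.co.u_conj_u _ _ _ _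
  · right; exact c.co.uz_conj_u _ _ _ _

theorem ph_hyp (c : Ctx S f w u s) : Hyp S (ph f u) where
  toEmb := c.ph_emb
  norm g hg x := by
    have key : ∀ p q : W, ∀ a b a' b' : ZMod 2, ∃ y,
        f (p, q) * f (u (cz n a) (cz n b), u (cz n a') (cz n b')) * (f (p, q))⁻¹ = ph f u y := by
      intro p q a b a' b'
      have e : f (p, q) * f (u (cz n a) (cz n b), u (cz n a') (cz n b')) * (f (p, q))⁻¹ =
        f (p * u (cz n a) (cz n b) * p⁻¹, q * u (cz n a') (cz n b') * q⁻¹) := by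
        rw [← map_inv, ← map_mul, ← map_mul]; rfl
      rw [e]
      rcases c.conj_u p (cz n a) (cz n b) with h1 | h1 <;>
        rcases c.conj_u q (cz n a') (cz n b') with h2 | h2 <;> rw [h1, h2]
      · exact ⟨![a, b, a', b'], by simp [ph]⟩
      · exact ⟨![a, b, b', a'], by simp [ph]⟩
      · exact ⟨![b, a, a', b'], by simp [ph]⟩
      · exact ⟨![b, a, b', a'], by simp [ph]⟩
    rcases c.wr.cases g hg with ⟨p, q, rfl⟩ | ⟨p, q, rfl⟩
    · exact key _ _ _ _ _ _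
    · have e : f (p, q) * w * ph f u x * (f (p, q) * w)⁻¹ =
        f (p, q) * (w * ph f u x * w⁻¹) * (f (p, q))⁻¹ := by group
      rw [e, ph, c.wr.w_conj]
      exact key _ _ _ _ _ _
  a := by
    refine ⟨f (s, 1), c.wr.mem _, fun x => ?_⟩
    rw [ph, ← map_inv, ← map_mul, ← map_mul]
    simp only [Prod.mk_mul_mk, Prod.inv_mk, c.co.z_conj_u, one_mul, inv_one, mul_one]
    simp [ph, Equiv.swap_apply_def]
  b := by
    refine ⟨f (1, s), c.wr.mem _, fun x => ?_⟩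
    rw [ph, ← map_inv, ← map_mul, ← map_mul]
    simp only [Prod.mk_mul_mk, Prod.inv_mk, c.co.z_conj_u, one_mul, inv_one, mul_one]
    simp [ph, Equiv.swap_apply_def]
  c := by
    refine ⟨w, c.wr.w_mem, fun x => ?_⟩
    rw [ph, c.wr.w_conj]
    simp [ph, Equiv.swap_apply_def]

/-- an involution commuting with a noncentral involution `x` is in `⟨ζ, x⟩`. -/
theorem inv_comm (c : Ctx S f w u s) {x : W} (hx : NC (u (2 ^ (n - 1)) (2 ^ (n - 1))) x) (y : W)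
    (hy : y * y = 1) (hyx : y * x = x * y) :
    y = 1 ∨ y = u (2 ^ (n - 1)) (2 ^ (n - 1)) ∨ y = x ∨ y = u (2 ^ (n - 1)) (2 ^ (n - 1)) * x := by
  have h := c.co
  have h2 : (2 : ZMod (2 ^ n)) ^ (n - 1) + 2 ^ (n - 1) = 0 := by
    rw [← two_mul, two_mul_half n h.one_le]
  have hd : ∀ x : W, (x = u (2 ^ (n - 1)) 0 ∨ x = u 0 (2 ^ (n - 1))) → (∃ p q, y = u p q) →
      y = 1 ∨ y = u (2 ^ (n - 1)) (2 ^ (n - 1)) ∨ y = x ∨
        y = u (2 ^ (n - 1)) (2 ^ (n - 1)) * x := by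
    rintro x hx ⟨p, q, rfl⟩
    rcases (wr_u_sq_iff h p q).1 hy with ⟨rfl | rfl, rfl | rfl⟩
    · left; exact h.u_zero
    · right; right
      rcases hx with rfl | rfl
      · right; rw [h.u_mul, h2, add_zero]
      · left; rfl
    · right; right
      rcases hx with rfl | rfl
      · left; rfl
      · right; rw [h.u_mul, h2, add_zero]
    · right; left; rfl
  rcases wr_inv_cases h x hx.sq hx.ne_one hx.ne with rfl | rfl | ⟨a, rfl⟩
  · exact hd _ (Or.inl rfl) (wr_cent_u h _ _ (half_ne_zero n h.one_le) y hyx)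
  · exact hd _ (Or.inr rfl) (wr_cent_u h _ _ (half_ne_zero n h.one_le).symm y hyx)
  · rcases wr_cent_us h _ _ y hyx with ⟨b, rfl⟩ | ⟨b, rfl⟩
    · rcases (wr_u_sq_iff h b b).1 hy with ⟨rfl | rfl, -⟩
      · left; exact h.u_zero
      · right; left; rfl
    · right; right
      have h3 : u b b * u b b = 1 := by
        calc u b b * u b b = u b b * (u a (-a) * s * (u a (-a) * s)) * u b b := by
              rw [hx.sq, mul_one]
          _ = u b b * (u a (-a) * s) * ((u a (-a) * s) * u b b) := by group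
          _ = u b b * (u a (-a) * s) * (u b b * (u a (-a) * s)) := by
              rw [wr_diag_central h b (u a (-a) * s)]
          _ = 1 := hy
      rcases (wr_u_sq_iff h b b).1 h3 with ⟨rfl | rfl, -⟩
      · left; rw [h.u_zero, one_mul]
      · right; rfl

theorem central_or (x : W) (hx : x * x = 1) :
    (x = 1 ∨ x = u (2 ^ (n - 1)) (2 ^ (n - 1))) ∨ NC (u (2 ^ (n - 1)) (2 ^ (n - 1))) x := by
  by_cases h1 : x = 1
  · exact Or.inl (Or.inl h1)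
  by_cases h2 : x = u (2 ^ (n - 1)) (2 ^ (n - 1))
  · exact Or.inl (Or.inr h2)
  exact Or.inr ⟨hx, h1, h2⟩

theorem zt2 (c : Ctx S f w u s) : ¬ IsConj (f (1, u (2 ^ (n - 1)) (2 ^ (n - 1))))
    (f (u (2 ^ (n - 1)) (2 ^ (n - 1)), u (2 ^ (n - 1)) (2 ^ (n - 1)))) := by
  intro h
  apply c.not_conj
  refine IsConj.trans ?_ h
  rw [isConj_iff]
  exact ⟨w, c.wr.w_conj _ _⟩

theorem comm_sd (c : Ctx S f w u s) : s * u (2 ^ (n - 1)) 0 =
    u (2 ^ (n - 1)) (2 ^ (n - 1)) * u (2 ^ (n - 1)) 0 * s := by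
  have h := c.co
  rw [h.z_u, h.u_mul, ← two_mul, two_mul_half n h.one_le, add_zero]

theorem sq_mem (c : Ctx S f w u s) {x : G} (hx : x ∈ S) : ∃ a b, x * x = f (a, b) := by
  rcases c.wr.cases x hx with ⟨a, b, rfl⟩ | ⟨a, b, rfl⟩
  · exact ⟨_, _, c.wr.f_mul_f _ _ _ _⟩
  · exact ⟨_, _, c.wr.fw_sq _ _⟩

/-- the images of `(s, s)`, `(d, d)`, `z` under `g`. -/
theorem images (c : Ctx S f w u s) {g : G} (hE : Ext S w g) :
    ∃ (X : G) (x2 y2 z1 z2 : W), X ∈ S ∧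
      X * (g * w * g⁻¹) = g * w * g⁻¹ * X ∧
      g * f (u (2 ^ (n - 1)) 0, u (2 ^ (n - 1)) 0) * g⁻¹ = f (x2, y2) ∧
      g * f (u (2 ^ (n - 1)) (2 ^ (n - 1)), u (2 ^ (n - 1)) (2 ^ (n - 1))) * g⁻¹ = f (z1, z2) ∧
      X * f (x2, y2) = f (z1, z2) * f (x2, y2) * X ∧
      f (x2, y2) * (g * w * g⁻¹) = g * w * g⁻¹ * f (x2, y2) ∧
      f (z1, z2) * (g * w * g⁻¹) = g * w * g⁻¹ * f (z1, z2) ∧
      f (z1, z2) * f (x2, y2) = f (x2, y2) * f (z1, z2) ∧
      x2 * x2 = 1 ∧ y2 * y2 = 1 ∧ z1 * z1 = 1 ∧ z2 * z2 = 1 ∧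
      f (z1, z2) ≠ 1 ∧ f (z1, z2) ≠ g * w * g⁻¹ := by
  have h := c.co
  have hh := wr_half h
  have hz := wr_zeta_sq h
  have hcomm : ∀ x : W, f (x, x) * w = w * f (x, x) := fun x => (c.wr.f_comm_w_iff x x).2 rfl
  have hconj : ∀ x : W, g * f (x, x) * g⁻¹ * (g * w * g⁻¹) = g * w * g⁻¹ * (g * f (x, x) * g⁻¹) := by
    intro x
    calc g * f (x, x) * g⁻¹ * (g * w * g⁻¹) = g * (f (x, x) * w) * g⁻¹ := by group
      _ = g * (w * f (x, x)) * g⁻¹ := by rw [hcomm]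
      _ = _ := by group
  have hmem : ∀ x : W, g * f (x, x) * g⁻¹ ∈ S := fun x => hE.cen _ (c.wr.mem _) (hcomm x)
  have hsq : ∀ x : W, ∃ a b, g * f (x * x, x * x) * g⁻¹ = f (a, b) := by
    intro x
    obtain ⟨a, b, e⟩ := c.sq_mem (hmem x)
    refine ⟨a, b, ?_⟩
    rw [← e, ← c.wr.f_mul_f]; group
  have hdd : u (2 ^ (n - 1)) 0 = u (2 ^ (n - 2)) 0 * u (2 ^ (n - 2)) 0 := by
    rw [h.u_mul, hh, add_zero]; congr 1; ring
  have hzz : u (2 ^ (n - 1)) (2 ^ (n - 1)) =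
      u (2 ^ (n - 2)) (2 ^ (n - 2)) * u (2 ^ (n - 2)) (2 ^ (n - 2)) := by
    rw [h.u_mul, hh]; congr 1 <;> ring
  obtain ⟨x2, y2, hY⟩ := hsq (u (2 ^ (n - 2)) 0)
  obtain ⟨z1, z2, hZ⟩ := hsq (u (2 ^ (n - 2)) (2 ^ (n - 2)))
  rw [← hdd] at hY
  rw [← hzz] at hZ
  have hd2 : u (2 ^ (n - 1)) 0 * u (2 ^ (n - 1)) 0 = 1 := by
    rw [wr_u_sq_iff h]; exact ⟨Or.inr rfl, Or.inl rfl⟩
  have hY2 : f (x2, y2) * f (x2, y2) = 1 := by
    rw [← hY]
    have : f (u (2 ^ (n - 1)) 0, u (2 ^ (n - 1)) 0) * f (u (2 ^ (n - 1)) 0, u (2 ^ (n - 1)) 0) = 1 := by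
      rw [c.wr.f_mul_f, hd2]; exact map_one f
    calc g * f (u (2 ^ (n - 1)) 0, u (2 ^ (n - 1)) 0) * g⁻¹ *
        (g * f (u (2 ^ (n - 1)) 0, u (2 ^ (n - 1)) 0) * g⁻¹) =
        g * (f (u (2 ^ (n - 1)) 0, u (2 ^ (n - 1)) 0) * f (u (2 ^ (n - 1)) 0, u (2 ^ (n - 1)) 0)) *
          g⁻¹ := by group
      _ = 1 := by rw [this]; group
  have hZ2 : f (z1, z2) * f (z1, z2) = 1 := by
    rw [← hZ]
    have : f (u (2 ^ (n - 1)) (2 ^ (n - 1)), u (2 ^ (n - 1)) (2 ^ (n - 1))) *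
        f (u (2 ^ (n - 1)) (2 ^ (n - 1)), u (2 ^ (n - 1)) (2 ^ (n - 1))) = 1 := by
      rw [c.wr.f_mul_f, hz]; exact map_one f
    calc g * f (u (2 ^ (n - 1)) (2 ^ (n - 1)), u (2 ^ (n - 1)) (2 ^ (n - 1))) * g⁻¹ *
        (g * f (u (2 ^ (n - 1)) (2 ^ (n - 1)), u (2 ^ (n - 1)) (2 ^ (n - 1))) * g⁻¹) =
        g * (f (u (2 ^ (n - 1)) (2 ^ (n - 1)), u (2 ^ (n - 1)) (2 ^ (n - 1))) *
          f (u (2 ^ (n - 1)) (2 ^ (n - 1)), u (2 ^ (n - 1)) (2 ^ (n - 1)))) * g⁻¹ := by group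
      _ = 1 := by rw [this]; group
  rw [c.wr.f_mul_f, c.wr.f_eq_one_iff, Prod.mk_eq_one] at hY2 hZ2
  refine ⟨g * f (s, s) * g⁻¹, x2, y2, z1, z2, hmem s, hconj s, hY, hZ, ?_, ?_, ?_, ?_, hY2.1, hY2.2,
    hZ2.1, hZ2.2, ?_, ?_⟩
  · rw [← hY, ← hZ]
    have e : f (s, s) * f (u (2 ^ (n - 1)) 0, u (2 ^ (n - 1)) 0) =
        f (u (2 ^ (n - 1)) (2 ^ (n - 1)), u (2 ^ (n - 1)) (2 ^ (n - 1))) *
          f (u (2 ^ (n - 1)) 0, u (2 ^ (n - 1)) 0) * f (s, s) := by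
      rw [c.wr.f_mul_f, c.wr.f_mul_f, c.wr.f_mul_f, c.comm_sd]
    calc g * f (s, s) * g⁻¹ * (g * f (u (2 ^ (n - 1)) 0, u (2 ^ (n - 1)) 0) * g⁻¹) =
        g * (f (s, s) * f (u (2 ^ (n - 1)) 0, u (2 ^ (n - 1)) 0)) * g⁻¹ := by group
      _ = _ := by rw [e]; group
  · rw [← hY]; exact hconj _
  · rw [← hZ]; exact hconj _
  · rw [← hY, ← hZ]
    have e : f (u (2 ^ (n - 1)) (2 ^ (n - 1)), u (2 ^ (n - 1)) (2 ^ (n - 1))) *
          f (u (2 ^ (n - 1)) 0, u (2 ^ (n - 1)) 0) =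
          f (u (2 ^ (n - 1)) 0, u (2 ^ (n - 1)) 0) *
          f (u (2 ^ (n - 1)) (2 ^ (n - 1)), u (2 ^ (n - 1)) (2 ^ (n - 1))) := by
      rw [c.wr.f_mul_f, c.wr.f_mul_f, wr_zeta_central h]
    calc g * f (u (2 ^ (n - 1)) (2 ^ (n - 1)), u (2 ^ (n - 1)) (2 ^ (n - 1))) * g⁻¹ *
        (g * f (u (2 ^ (n - 1)) 0, u (2 ^ (n - 1)) 0) * g⁻¹) =
        g * (f (u (2 ^ (n - 1)) (2 ^ (n - 1)), u (2 ^ (n - 1)) (2 ^ (n - 1))) *
          f (u (2 ^ (n - 1)) 0, u (2 ^ (n - 1)) 0)) * g⁻¹ := by group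
      _ = _ := by rw [e]; group
  · rw [← hZ, Ne, conj_eq_one_iff, c.wr.f_eq_one_iff, Prod.mk_eq_one]
    exact fun hh => wr_zeta_ne h hh.1
  · rw [← hZ]
    intro e
    exact c.wr.w_ne _ (mul_left_cancel (mul_right_cancel e))

/-- `f (b, b) w` is conjugate to `w` for `b * b = 1`. -/
theorem conj_bw (c : Ctx S f w u s) (b : W) (hb : b * b = 1) : IsConj w (f (b, b) * w) := by
  rw [isConj_iff]
  refine ⟨f (b, 1), ?_⟩
  rw [c.wr.f_conj_w]
  have : b⁻¹ = b := inv_eq_of_mul_eq_one_right hb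
  simp [this]

theorem d_sq (c : Ctx S f w u s) : u (2 ^ (n - 1)) 0 * u (2 ^ (n - 1)) 0 = 1 := by
  rw [wr_u_sq_iff c.co]; exact ⟨Or.inr rfl, Or.inl rfl⟩

theorem nc_d (c : Ctx S f w u s) : NC (u (2 ^ (n - 1)) (2 ^ (n - 1))) (u (2 ^ (n - 1)) 0) where
  sq := c.d_sq
  ne_one := by
    rw [Ne, c.co.u_eq_one_iff]
    exact fun hh => half_ne_zero n c.co.one_le hh.1
  ne := by
    rw [Ne, c.co.u_eq_iff]
    exact fun hh => half_ne_zero n c.co.one_le hh.2.symm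

theorem nc_zeta_mul (c : Ctx S f w u s) {x : W} (hx : NC (u (2 ^ (n - 1)) (2 ^ (n - 1))) x) :
    NC (u (2 ^ (n - 1)) (2 ^ (n - 1))) (u (2 ^ (n - 1)) (2 ^ (n - 1)) * x) where
  sq := by
    have h1 := wr_zeta_central c.co x
    calc u (2 ^ (n - 1)) (2 ^ (n - 1)) * x * (u (2 ^ (n - 1)) (2 ^ (n - 1)) * x) =
        u (2 ^ (n - 1)) (2 ^ (n - 1)) * x * (x * u (2 ^ (n - 1)) (2 ^ (n - 1))) := by rw [h1]
      _ = u (2 ^ (n - 1)) (2 ^ (n - 1)) * (x * x) * u (2 ^ (n - 1)) (2 ^ (n - 1)) := by group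
      _ = 1 := by rw [hx.sq, mul_one, wr_zeta_sq c.co]
  ne_one := by
    intro h1
    apply hx.ne
    have h2 := wr_zeta_sq c.co
    have h3 : u (2 ^ (n - 1)) (2 ^ (n - 1)) * x =
      u (2 ^ (n - 1)) (2 ^ (n - 1)) * u (2 ^ (n - 1)) (2 ^ (n - 1)) := by rw [h1, h2]
    exact mul_left_cancel h3
  ne := by
    intro h1
    exact hx.ne_one (mul_eq_left.1 h1)

/-- the classes of the seven involutions of `k ⟨w, z, (d, d)⟩ k⁻¹`. -/
theorem seven (c : Ctx S f w u s) {k : G} {a1 a2 a3 : V} (h1 : k * w * k⁻¹ = ph f u a1)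
    (h2 : k * ph f u vz * k⁻¹ = ph f u a2) (h3 : k * ph f u vy * k⁻¹ = ph f u a3) :
    IsConj w (ph f u a1) ∧ IsConj (ph f u vz) (ph f u a2) ∧ IsConj (ph f u vy) (ph f u a3) ∧
    IsConj w (ph f u (a1 + a2)) ∧ IsConj w (ph f u (a1 + a3)) ∧
    IsConj (ph f u vy) (ph f u (a2 + a3)) ∧ IsConj w (ph f u (a1 + a2 + a3)) := by
  have hE := c.ph_emb
  have hz := wr_zeta_sq c.co
  have hcw : ∀ x y : G, IsConj x y → IsConj x (k * y * k⁻¹) := by
    intro x y hxy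
    exact hxy.trans (isConj_iff.2 ⟨k, rfl⟩)
  have e23 : ph f u (vz + vy) = f (u (2 ^ (n - 1)) (2 ^ (n - 1)) * u (2 ^ (n - 1)) 0,
      u (2 ^ (n - 1)) (2 ^ (n - 1)) * u (2 ^ (n - 1)) 0) := by
    rw [hE.add, c.ph_vz, c.ph_vy, c.wr.f_mul_f]
  have key : ∀ x y : G, k * (x * y) * k⁻¹ = (k * x * k⁻¹) * (k * y * k⁻¹) := by
    intro x y; group
  refine ⟨isConj_iff.2 ⟨k, h1⟩, isConj_iff.2 ⟨k, h2⟩, isConj_iff.2 ⟨k, h3⟩, ?_, ?_, ?_, ?_⟩
  · have h4 := hcw _ _ (c.conj_bw _ hz)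
    rw [← c.ph_vz, key, h1, h2, ← hE.add, add_comm] at h4
    exact h4
  · have h4 := hcw _ _ (c.conj_bw _ c.d_sq)
    rw [← c.ph_vy, key, h1, h3, ← hE.add, add_comm] at h4
    exact h4
  · have h4 : IsConj (ph f u vy) (ph f u (vz + vy)) := by
      have h5 := c.conj_nc (c.nc_zeta_mul c.nc_d) (c.nc_zeta_mul c.nc_d)
      rw [e23, c.ph_vy]
      exact h5.symm
    have h5 := hcw _ _ h4
    rw [hE.add, key, h2, h3, ← hE.add] at h5
    exact h5
  · have h4 := hcw _ _ (c.conj_bw _ (c.nc_zeta_mul c.nc_d).sq)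
    rw [← e23, hE.add, key, key, h1, h2, h3, ← hE.add, ← hE.add] at h4
    have e : a1 + a2 + a3 = a2 + a3 + a1 := by abel
    rw [e]; exact h4

theorem ne_one_of_conj {x y : G} (h : IsConj x y) (hx : x ≠ 1) : y ≠ 1 := by
  rintro rfl
  exact hx (isConj_one_right.1 h.symm)

theorem w_ne (c : Ctx S f w u s) : w ≠ 1 := c.wr.w_ne_one

theorem ph_ne_one (c : Ctx S f w u s) {x : V} (hx : x ≠ 0) : ph f u x ≠ 1 :=
  fun h => hx (c.ph_emb.inj x h)

theorem conj_t_t2 (c : Ctx S f w u s) : IsConj (ph f u vt) (ph f u vt2) := by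
  rw [c.ph_vt, c.ph_vt2, isConj_iff]
  exact ⟨w, c.wr.w_conj _ _⟩

theorem rel_conj {N : Subgroup G} {φ : V → G} {x y : V} (h : Rel N φ x y) :
    IsConj (φ x) (φ y) := by
  obtain ⟨g, -, e⟩ := h
  exact isConj_iff.2 ⟨g, e⟩

/-- **case (c)**: `w` is conjugate to `(d, d)`. -/
theorem case_c (c : Ctx S f w u s) {k : G} {a2 a3 : V} (h1 : k * w * k⁻¹ = ph f u vy)
    (h2 : k * ph f u vz * k⁻¹ = ph f u a2) (h3 : k * ph f u vy * k⁻¹ = ph f u a3)
    (hs : IsPGroup 2 S)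
    (syl : ∀ R : Subgroup G, IsPGroup 2 R → (∀ r ∈ R, r * ph f u vy = ph f u vy * r) →
      ∃ l, l * ph f u vy = ph f u vy * l ∧ ∀ r ∈ R, l * r * l⁻¹ ∈ S) :
    IsConj (ph f u vt) (ph f u vy) := by
  by_contra hcon
  have hE := c.ph_emb
  have hH := c.ph_hyp
  obtain ⟨q1, q2, q3, q4, q5, q6, q7⟩ := c.seven h1 h2 h3
  have hzt : ¬ IsConj (ph f u vt) (ph f u vz) := by
    rw [c.ph_vt, c.ph_vz]; exact c.not_conj
  have hy0 : ph f u vy ≠ 1 := c.ph_ne_one (by decide)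
  have hz0 : ph f u vz ≠ 1 := c.ph_ne_one (by decide)
  have good1 : ∀ x, IsConj (ph f u vy) (ph f u x) → x ≠ 0 ∧ x ≠ vt ∧ x ≠ vt2 := by
    intro x hx
    refine ⟨?_, ?_, ?_⟩
    · rintro rfl
      exact ne_one_of_conj hx hy0 hE.zero
    · rintro rfl; exact hcon hx.symm
    · rintro rfl; exact hcon (c.conj_t_t2.trans hx.symm)
  have good2 : ∀ x, IsConj (ph f u vz) (ph f u x) → x ≠ 0 ∧ x ≠ vt ∧ x ≠ vt2 := by
    intro x hx
    refine ⟨?_, ?_, ?_⟩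
    · rintro rfl
      exact ne_one_of_conj hx hz0 hE.zero
    · rintro rfl; exact hzt hx.symm
    · rintro rfl; exact hzt (c.conj_t_t2.trans hx.symm)
  have q1' := q1.symm
  obtain ⟨x, hx, p, hp, rfl⟩ := pick_c a2 a3 (by
    intro x hx
    simp only [List.mem_cons, List.not_mem_nil, or_false] at hx
    rcases hx with rfl | rfl | rfl | rfl | rfl | rfl
    · exact good1 _ q3
    · exact good1 _ (q1'.trans q5)
    · exact good1 _ (q1'.trans q4)
    · exact good1 _ q6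
    · exact good1 _ (q1'.trans q7)
    · exact good2 _ q2)
  have hyx : IsConj (ph f u vy) (ph f u (v1 ∘ p)) := by
    simp only [List.mem_cons, List.not_mem_nil, or_false] at hx
    rcases hx with hx | hx | hx | hx | hx
    · rw [hx]; exact q3
    · rw [hx]; exact q1'.trans q5
    · rw [hx]; exact q1'.trans q4
    · rw [hx]; exact q6
    · rw [hx]; exact q1'.trans q7
  have hy1 : IsConj (ph f u v1) (ph f u vy) :=
    (rel_conj (hH.rel_perm p hp v1)).trans hyx.symm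
  rw [c.ph_v1] at hy1
  obtain ⟨m, hm⟩ := isConj_iff.1 hy1
  -- `R = f (A₀ × W)`
  have hR0 : IsPGroup 2 f.range := hs.to_le c.wr.range_le
  let R : Subgroup G := ((c.co.base).prod (⊤ : Subgroup W)).map f
  have hRle : R ≤ f.range := by
    rintro _ ⟨p, -, rfl⟩; exact ⟨p, rfl⟩
  have hRp : IsPGroup 2 R := hR0.to_le hRle
  obtain ⟨l, hl, hlR⟩ := syl (R.map (MulAut.conj m).toMonoidHom) (hRp.map _) (by
    rintro _ ⟨_, ⟨⟨x, y⟩, ⟨⟨a, b, hx⟩, -⟩, rfl⟩, rfl⟩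
    change x = u a b at hx
    subst hx
    have e : f (u a b, y) * f (u (2 ^ (n - 1)) 0, 1) = f (u (2 ^ (n - 1)) 0, 1) * f (u a b, y) := by
      rw [c.wr.f_comm_f_iff]
      exact ⟨c.co.u_comm _ _ _ _, by group⟩
    change m * f (u a b, y) * m⁻¹ * ph f u vy = ph f u vy * (m * f (u a b, y) * m⁻¹)
    rw [← hm]
    calc m * f (u a b, y) * m⁻¹ * (m * f (u (2 ^ (n - 1)) 0, 1) * m⁻¹) =
        m * (f (u a b, y) * f (u (2 ^ (n - 1)) 0, 1)) * m⁻¹ := by group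
      _ = _ := by rw [e]; group)
  have hlm : ∀ a b y, l * m * f (u a b, y) * (l * m)⁻¹ ∈ S := by
    intro a b y
    have h4 := hlR _ ⟨f (u a b, y), ⟨(u a b, y), ⟨⟨a, b, rfl⟩, trivial⟩, rfl⟩, rfl⟩
    have e : l * m * f (u a b, y) * (l * m)⁻¹ = l * (m * f (u a b, y) * m⁻¹) * l⁻¹ := by group
    rw [e]; exact h4
  have hvy : ∀ a b y, l * m * f (u a b, y) * (l * m)⁻¹ * ph f u vy =
      ph f u vy * (l * m * f (u a b, y) * (l * m)⁻¹) := by
    intro a b y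
    have e : f (u a b, y) * f (u (2 ^ (n - 1)) 0, 1) = f (u (2 ^ (n - 1)) 0, 1) * f (u a b, y) := by
      rw [c.wr.f_comm_f_iff]
      exact ⟨c.co.u_comm _ _ _ _, by group⟩
    have e2 : ph f u vy = l * m * f (u (2 ^ (n - 1)) 0, 1) * (l * m)⁻¹ := by
      calc ph f u vy = l * ph f u vy * l⁻¹ := by rw [hl]; group
        _ = _ := by rw [← hm]; group
    rw [e2]
    calc l * m * f (u a b, y) * (l * m)⁻¹ * (l * m * f (u (2 ^ (n - 1)) 0, 1) * (l * m)⁻¹) =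
        l * m * (f (u a b, y) * f (u (2 ^ (n - 1)) 0, 1)) * (l * m)⁻¹ := by group
      _ = _ := by rw [e]; group
  have hweak := c.weak (l * m) (fun a b c' d => hlm a b (u c' d))
  -- the image of `(1, s)` is not in `A`
  have hfin : Finite W := c.co.finite
  have hsA : ∀ a b a' b', l * m * f (1, s) * (l * m)⁻¹ ≠ f (u a b, u a' b') := by
    intro a b a' b' hc
    -- `A` is mapped onto `A`
    let A : Set (W × W) := {p | ∃ a b c d, p = (u a b, u c d)}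
    have hmap : ∀ p : A, ∃ q : A, l * m * f p * (l * m)⁻¹ = f q := by
      rintro ⟨_, a, b, c', d, rfl⟩
      obtain ⟨a1, b1, c1, d1, e⟩ := hweak a b c' d
      exact ⟨⟨_, a1, b1, c1, d1, rfl⟩, e⟩
    choose F hF using hmap
    have hFi : Function.Injective F := by
      intro p q hpq
      have h5 := hF p
      rw [hpq, ← hF q] at h5
      exact Subtype.ext (c.wr.inj (mul_left_cancel (mul_right_cancel h5)))
    have hFs : Function.Surjective F := Finite.surjective_of_injective hFi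
    obtain ⟨⟨_, a1, b1, c1, d1, rfl⟩, hq⟩ := hFs ⟨(u a b, u a' b'), a, b, a', b', rfl⟩
    have h5 := hF ⟨_, a1, b1, c1, d1, rfl⟩
    rw [hq, ← hc] at h5
    have h6 := c.wr.inj (mul_left_cancel (mul_right_cancel h5))
    have h7 := congrArg Prod.snd h6
    exact c.co.z_not_mem_base ⟨c1, d1, h7.symm⟩
  -- the image of `(1, s)` is `f (a, b) w`
  have hs1 := hlm 0 0 s
  have hs2 := hvy 0 0 s
  rw [c.co.u_zero] at hs1 hs2
  have hd0 : (2 : ZMod (2 ^ n)) ^ (n - 1) ≠ 0 := half_ne_zero n c.co.one_le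
  rcases c.wr.cases _ hs1 with ⟨x, y, hxy⟩ | ⟨x, y, hxy⟩
  · rw [hxy, c.ph_vy, c.wr.f_comm_f_iff] at hs2
    obtain ⟨a, b, rfl⟩ := wr_cent_u c.co _ _ hd0 x hs2.1
    obtain ⟨a', b', rfl⟩ := wr_cent_u c.co _ _ hd0 y hs2.2
    exact hsA _ _ _ _ hxy
  · rw [hxy, c.ph_vy, c.wr.fw_comm_f_iff] at hs2
    obtain ⟨a, b, rfl⟩ := wr_cent_u c.co _ _ hd0 x hs2.1
    obtain ⟨a', b', rfl⟩ := wr_cent_u c.co _ _ hd0 y hs2.2
    -- the image of `t`
    obtain ⟨p1, p2, p3, p4, ht⟩ := hweak (2 ^ (n - 1)) (2 ^ (n - 1)) 0 0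
    rw [c.co.u_zero] at ht
    have htt : l * m * f (u (2 ^ (n - 1)) (2 ^ (n - 1)), 1) * (l * m)⁻¹ *
        (l * m * f (u (2 ^ (n - 1)) (2 ^ (n - 1)), 1) * (l * m)⁻¹) = 1 := by
      have e : f (u (2 ^ (n - 1)) (2 ^ (n - 1)), 1) * f (u (2 ^ (n - 1)) (2 ^ (n - 1)), 1) = 1 := by
        rw [c.wr.f_mul_f, wr_zeta_sq c.co, one_mul]; exact map_one f
      calc _ = l * m * (f (u (2 ^ (n - 1)) (2 ^ (n - 1)), 1) *
            f (u (2 ^ (n - 1)) (2 ^ (n - 1)), 1)) * (l * m)⁻¹ := by group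
        _ = 1 := by rw [e]; group
    have hcm : f (u a b, u a' b') * w * f (u p1 p2, u p3 p4) =
        f (u p1 p2, u p3 p4) * (f (u a b, u a' b') * w) := by
      rw [← hxy, ← ht]
      have e : f (1, s) * f (u (2 ^ (n - 1)) (2 ^ (n - 1)), 1) =
          f (u (2 ^ (n - 1)) (2 ^ (n - 1)), 1) * f (1, s) := by
        rw [c.wr.f_comm_f_iff]; exact ⟨by group, by group⟩
      calc l * m * f (1, s) * (l * m)⁻¹ *
          (l * m * f (u (2 ^ (n - 1)) (2 ^ (n - 1)), 1) * (l * m)⁻¹) =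
          l * m * (f (1, s) * f (u (2 ^ (n - 1)) (2 ^ (n - 1)), 1)) * (l * m)⁻¹ := by group
        _ = _ := by rw [e]; group
    rw [c.wr.fw_comm_f_iff] at hcm
    have e34 : u p3 p4 = u p1 p2 := by
      have := hcm.1
      rw [c.co.u_comm] at this
      exact mul_right_cancel this
    rw [e34] at ht
    have htc : IsConj (ph f u vt) (f (u p1 p2, u p1 p2)) := by
      rw [c.ph_vt]; exact isConj_iff.2 ⟨l * m, ht⟩
    have hne : f (u p1 p2, u p1 p2) ≠ 1 := ne_one_of_conj htc (c.ph_ne_one (by decide))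
    have hpp : u p1 p2 * u p1 p2 = 1 := by
      rw [ht, c.wr.f_mul_f, c.wr.f_eq_one_iff, Prod.mk_eq_one] at htt
      exact htt.1
    rcases central_or (u := u) (u p1 p2) hpp with (h5 | h5) | h5
    · rw [h5] at hne; exact hne (map_one f)
    · rw [h5, ← c.ph_vz] at htc
      exact hzt htc
    · apply hcon
      rw [c.ph_vy]
      exact htc.trans (c.conj_nc h5 h5)

/-- **case (a)**: `w` is not conjugate to `z` in the way `w ↦ z`, `z ↦ E`, `(d, d) ↦ E`. -/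
theorem case_a (c : Ctx S f w u s) {k : G} {a2 a3 : V} (h1 : k * w * k⁻¹ = ph f u vz)
    (h2 : k * ph f u vz * k⁻¹ = ph f u a2) (h3 : k * ph f u vy * k⁻¹ = ph f u a3)
    (hzy : IsConj (ph f u vz) (ph f u vy))
    (hcen : ∀ y : G, IsConj y (ph f u vz) → ∃ l : G, l * y * l⁻¹ = ph f u vz ∧
      ∀ r ∈ S, r * y = y * r → l * r * l⁻¹ ∈ S) : False := by
  have hE := c.ph_emb
  have hH := c.ph_hyp
  obtain ⟨q1, q2, q3, q4, q5, q6, q7⟩ := c.seven h1 h2 h3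
  have hzt : ¬ IsConj (ph f u vt) (ph f u vz) := by
    rw [c.ph_vt, c.ph_vz]; exact c.not_conj
  have hz0 : ph f u vz ≠ 1 := c.ph_ne_one (by decide)
  have good2 : ∀ x, IsConj (ph f u vz) (ph f u x) → x ≠ 0 ∧ x ≠ vt ∧ x ≠ vt2 := by
    intro x hx
    refine ⟨?_, ?_, ?_⟩
    · rintro rfl
      exact ne_one_of_conj hx hz0 hE.zero
    · rintro rfl; exact hzt hx.symm
    · rintro rfl; exact hzt (c.conj_t_t2.trans hx.symm)
  have q1' := q1.symm
  have hall : ∀ x ∈ [a2, a3, vz + a2, vz + a3, a2 + a3, vz + a2 + a3],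
      IsConj (ph f u vz) (ph f u x) := by
    intro x hx
    simp only [List.mem_cons, List.not_mem_nil, or_false] at hx
    rcases hx with rfl | rfl | rfl | rfl | rfl | rfl
    · exact q2
    · exact hzy.trans q3
    · exact q1'.trans q4
    · exact q1'.trans q5
    · exact hzy.trans q6
    · exact q1'.trans q7
  obtain ⟨⟨x, hx, p, hp, rfl⟩, ⟨y, hy, q, hq, rfl⟩⟩ := pick_a a2 a3 (fun x hx => good2 _ (hall x hx))
  have c1 : IsConj (ph f u vz) (ph f u v1) :=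
    (hall _ hx).trans (rel_conj (hH.rel_perm p hp v1)).symm
  have c3 : IsConj (ph f u vz) (ph f u v3) :=
    (hall _ hy).trans (rel_conj (hH.rel_perm q hq v3)).symm
  -- every element of `E` not conjugate to `z` is `1`, `t` or `t'`
  have hex : ∀ x, x ≠ 0 → ¬ IsConj (ph f u vz) (ph f u x) → x = vt ∨ x = vt2 := by
    intro x hx0 hx
    rcases Hyp.cases_aux x with h5 | h5 | ⟨p, hp, h5⟩ | ⟨p, hp, h5⟩ | ⟨p, hp, h5⟩ | ⟨p, hp, h5⟩
    · exact absurd h5 hx0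
    · exact absurd (by rw [h5]) hx
    · subst h5; exact absurd (c1.trans (rel_conj (hH.rel_perm p hp v1))) hx
    · subst h5; exact absurd (c3.trans (rel_conj (hH.rel_perm p hp v3))) hx
    · exact vt_orb x ⟨p, hp, h5⟩
    · subst h5; exact absurd (hzy.trans (rel_conj (hH.rel_perm p hp vy))) hx
  -- an element normalising `A` and mapping `(d, d)` to `z`
  obtain ⟨l, hl, hlS⟩ := hcen _ hzy.symm
  have hweak := c.weak l (fun a b a' b' => hlS _ (c.wr.mem _) (by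
    rw [c.ph_vy, c.wr.f_comm_f_iff]
    exact ⟨c.co.u_comm _ _ _ _, c.co.u_comm _ _ _ _⟩))
  have hEl : ∀ x, ∃ x', l * ph f u x * l⁻¹ = ph f u x' := by
    intro x
    obtain ⟨a, b, a', b', e⟩ := hweak (cz n (x 0)) (cz n (x 1)) (cz n (x 2)) (cz n (x 3))
    have e' : l * ph f u x * l⁻¹ = f (u a b, u a' b') := e
    rw [e']
    apply c.exists_ph
    rw [← e']
    calc l * ph f u x * l⁻¹ * (l * ph f u x * l⁻¹) = l * (ph f u x * ph f u x) * l⁻¹ := by group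
      _ = 1 := by rw [hE.sq]; group
  obtain ⟨x1, hx1⟩ := hEl vt
  obtain ⟨x2, hx2⟩ := hEl vt2
  have hx10 : x1 ≠ 0 := by
    rintro rfl
    rw [hE.zero, conj_eq_one_iff] at hx1
    exact c.ph_ne_one (by decide) hx1
  have hx20 : x2 ≠ 0 := by
    rintro rfl
    rw [hE.zero, conj_eq_one_iff] at hx2
    exact c.ph_ne_one (by decide) hx2
  have hx1z : ¬ IsConj (ph f u vz) (ph f u x1) := by
    intro h5
    exact hzt ((isConj_iff.2 ⟨l, hx1⟩).trans h5.symm)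
  have hx2z : ¬ IsConj (ph f u vz) (ph f u x2) := by
    intro h5
    exact hzt ((c.conj_t_t2.trans (isConj_iff.2 ⟨l, hx2⟩)).trans h5.symm)
  have hne : x1 ≠ x2 := by
    rintro rfl
    rw [← hx2] at hx1
    have h5 := hE.injective (mul_left_cancel (mul_right_cancel hx1))
    exact absurd h5 (by decide)
  have hsum : x1 + x2 = vz := by
    rcases hex x1 hx10 hx1z with rfl | rfl <;> rcases hex x2 hx20 hx2z with rfl | rfl
    · exact absurd rfl hne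
    · decide
    · decide
    · exact absurd rfl hne
  have hz : l * ph f u vz * l⁻¹ = ph f u vz := by
    have e : vz = vt + vt2 := by decide
    calc l * ph f u vz * l⁻¹ = (l * ph f u vt * l⁻¹) * (l * ph f u vt2 * l⁻¹) := by
          rw [e, hE.add]; group
      _ = ph f u vz := by rw [hx1, hx2, ← hE.add, hsum]
  have h5 := hE.injective (mul_left_cancel (mul_right_cancel (hz.trans hl.symm)))
  exact absurd h5 (by decide)

theorem nc_u (c : Ctx S f w u s) {a b : ZMod (2 ^ n)}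
    (h : NC (u (2 ^ (n - 1)) (2 ^ (n - 1))) (u a b)) :
    u a b = u (2 ^ (n - 1)) 0 ∨ u a b = u 0 (2 ^ (n - 1)) := by
  rcases wr_inv_cases c.co _ h.sq h.ne_one h.ne with h1 | h1 | ⟨p, h1⟩
  · exact Or.inl h1
  · exact Or.inr h1
  · exact absurd h1 (c.co.u_ne _ _ _ _)

/-- the fully centralised conjugate `f (a, b)` of `w` lies in `A`. -/
theorem mem_A (c : Ctx S f w u s) (hs : IsPGroup 2 S) {g : G} (hE : Ext S w g) {a b : W}
    (hv : g * w * g⁻¹ = f (a, b)) (ha : NC (u (2 ^ (n - 1)) (2 ^ (n - 1))) a)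
    (hb : NC (u (2 ^ (n - 1)) (2 ^ (n - 1))) b) :
    (a = u (2 ^ (n - 1)) 0 ∨ a = u 0 (2 ^ (n - 1))) ∧
      (b = u (2 ^ (n - 1)) 0 ∨ b = u 0 (2 ^ (n - 1))) := by
  obtain ⟨m, hm⟩ := isConj_iff.1 (c.conj_nc ha hb)
  have hR0 : IsPGroup 2 f.range := hs.to_le c.wr.range_le
  let R : Subgroup G := ((c.co.base).prod c.co.base).map f
  have hRle : R ≤ f.range := by
    rintro _ ⟨p, -, rfl⟩; exact ⟨p, rfl⟩
  obtain ⟨l, hl, hlR⟩ := hE.syl (R.map (MulAut.conj m⁻¹).toMonoidHom) ((hR0.to_le hRle).map _) (by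
    rintro _ ⟨_, ⟨⟨x, y⟩, ⟨⟨p, q, hx⟩, ⟨p', q', hy⟩⟩, rfl⟩, rfl⟩
    change x = u p q at hx
    change y = u p' q' at hy
    subst hx hy
    have e : f (u p q, u p' q') * f (u (2 ^ (n - 1)) 0, u (2 ^ (n - 1)) 0) =
        f (u (2 ^ (n - 1)) 0, u (2 ^ (n - 1)) 0) * f (u p q, u p' q') := by
      rw [c.wr.f_comm_f_iff]
      exact ⟨c.co.u_comm _ _ _ _, c.co.u_comm _ _ _ _⟩
    change m⁻¹ * f (u p q, u p' q') * m⁻¹⁻¹ * (g * w * g⁻¹) =
      g * w * g⁻¹ * (m⁻¹ * f (u p q, u p' q') * m⁻¹⁻¹)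
    have e2 : g * w * g⁻¹ = m⁻¹ * f (u (2 ^ (n - 1)) 0, u (2 ^ (n - 1)) 0) * m := by
      rw [hv, ← hm]; group
    rw [e2]
    calc m⁻¹ * f (u p q, u p' q') * m⁻¹⁻¹ * (m⁻¹ * f (u (2 ^ (n - 1)) 0, u (2 ^ (n - 1)) 0) * m) =
        m⁻¹ * (f (u p q, u p' q') * f (u (2 ^ (n - 1)) 0, u (2 ^ (n - 1)) 0)) * m := by group
      _ = _ := by rw [e]; group)
  obtain ⟨a', b', c', d', e⟩ := c.weak (l * m⁻¹) (fun p q p' q' => by
    have h4 := hlR _ ⟨f (u p q, u p' q'), ⟨(u p q, u p' q'), ⟨⟨p, q, rfl⟩, ⟨p', q', rfl⟩⟩, rfl⟩,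
      rfl⟩
    have e : l * m⁻¹ * f (u p q, u p' q') * (l * m⁻¹)⁻¹ =
      l * (m⁻¹ * f (u p q, u p' q') * m⁻¹⁻¹) * l⁻¹ := by group
    rw [e]; exact h4) (2 ^ (n - 1)) 0 (2 ^ (n - 1)) 0
  have e2 : l * m⁻¹ * f (u (2 ^ (n - 1)) 0, u (2 ^ (n - 1)) 0) * (l * m⁻¹)⁻¹ = f (a, b) := by
    rw [← hv, ← hm]
    calc l * m⁻¹ * (m * f (a, b) * m⁻¹) * (l * m⁻¹)⁻¹ = l * (g * w * g⁻¹) * l⁻¹ := by
          rw [hv]; group
      _ = g * w * g⁻¹ := by rw [hl]; group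
  rw [e2, c.wr.f_eq_iff, Prod.mk.injEq] at e
  obtain ⟨rfl, rfl⟩ := e
  exact ⟨c.nc_u ha, c.nc_u hb⟩

/-- case (c), from the transfer lemma. -/
theorem case_c' (c : Ctx S f w u s) (hs : IsPGroup 2 S) {g : G} (hE : Ext S w g) {a b : W}
    (hv : g * w * g⁻¹ = f (a, b)) (ha : NC (u (2 ^ (n - 1)) (2 ^ (n - 1))) a)
    (hb : NC (u (2 ^ (n - 1)) (2 ^ (n - 1))) b) :
    IsConj (ph f u vt) (ph f u vy) ∧ IsConj w (ph f u vy) := by
  obtain ⟨ha', hb'⟩ := c.mem_A hs hE hv ha hb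
  obtain ⟨p, hp⟩ := c.conj_dd a b ha' hb'
  have hE' : Ext S w (f p * g) := hE.mul (c.wr.mem p)
  have hv' : f p * g * w * (f p * g)⁻¹ = ph f u vy := by
    rw [c.ph_vy, ← hp, ← hv]; group
  obtain ⟨X, x2, y2, z1, z2, -, -, hY, hZ, -, hYv, hZv, -, hx2, hy2, hz1, hz2, -, -⟩ := c.images hE'
  rw [hv', c.ph_vy, c.wr.f_comm_f_iff] at hYv hZv
  have hd0 : (2 : ZMod (2 ^ n)) ^ (n - 1) ≠ 0 := half_ne_zero n c.co.one_le
  obtain ⟨p1, p2, rfl⟩ := wr_cent_u c.co _ _ hd0 x2 hYv.1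
  obtain ⟨p3, p4, rfl⟩ := wr_cent_u c.co _ _ hd0 y2 hYv.2
  obtain ⟨p5, p6, rfl⟩ := wr_cent_u c.co _ _ hd0 z1 hZv.1
  obtain ⟨p7, p8, rfl⟩ := wr_cent_u c.co _ _ hd0 z2 hZv.2
  obtain ⟨a3, ha3⟩ := c.exists_ph p1 p2 p3 p4 (by rw [c.wr.f_mul_f, hx2, hy2]; exact map_one f)
  obtain ⟨a2, ha2⟩ := c.exists_ph p5 p6 p7 p8 (by rw [c.wr.f_mul_f, hz1, hz2]; exact map_one f)
  refine ⟨c.case_c (a2 := a2) (a3 := a3) hv' (by rw [c.ph_vz, hZ, ha2])
    (by rw [← ha3, ← hY, c.ph_vy]) hs ?_,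
    isConj_iff.2 ⟨_, hv'⟩⟩
  intro R hR hRc
  rw [← hv'] at hRc ⊢
  exact hE'.syl R hR hRc

/-- **(F)(5), wreathed case.** -/
theorem main [Finite G] {S : Sylow 2 G} {f : W × W →* G} {w : G}
    {u : ZMod (2 ^ n) → ZMod (2 ^ n) → W} {s : W} (c : Ctx (S : Subgroup G) f w u s)
    (hG : ∀ M : Subgroup G, M.index ≠ 2) :
    IsConj (f (u (2 ^ (n - 1)) (2 ^ (n - 1)), 1)) w ∧
      IsConj (f (u (2 ^ (n - 1)) (2 ^ (n - 1)), 1))
        (f (u (2 ^ (n - 1)) 0, u (2 ^ (n - 1)) 0)) := by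
  have hs : IsPGroup 2 (S : Subgroup G) := S.isPGroup'
  have hb := c.base
  obtain ⟨g, ⟨⟨a, b⟩, hv⟩, hE⟩ := exists_ext S hG f.range (TNotZ.relIndex_range c.wr) c.wr.w_w
  obtain ⟨X, x2, y2, z1, z2, hXS, hXv, hY, hZ, hXY, hYv, hZv, hZY, hx2, hy2, hz1, hz2, hZ1, hZne⟩ :=
    c.images hE
  have hv0 := hv
  rw [← hv] at hXv hYv hZv hZne
  have hab : a * a = 1 ∧ b * b = 1 := by
    have e : f (a, b) * f (a, b) = 1 := by
      rw [hv]
      calc g * w * g⁻¹ * (g * w * g⁻¹) = g * (w * w) * g⁻¹ := by group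
        _ = 1 := by rw [c.wr.w_w]; group
    rw [c.wr.f_mul_f, c.wr.f_eq_one_iff, Prod.mk_eq_one] at e
    exact e
  have hv1 : f (a, b) ≠ 1 := by
    rw [hv, Ne, conj_eq_one_iff]; exact c.w_ne
  have hZz : IsConj (f (u (2 ^ (n - 1)) (2 ^ (n - 1)), u (2 ^ (n - 1)) (2 ^ (n - 1))))
      (f (z1, z2)) := isConj_iff.2 ⟨g, hZ⟩
  -- `Z` is neither `t` nor `t'`
  have hZt : ¬ (z1 = u (2 ^ (n - 1)) (2 ^ (n - 1)) ∧ z2 = 1) := by
    rintro ⟨rfl, rfl⟩; exact c.not_conj hZz.symm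
  have hZt2 : ¬ (z1 = 1 ∧ z2 = u (2 ^ (n - 1)) (2 ^ (n - 1))) := by
    rintro ⟨rfl, rfl⟩; exact c.zt2 hZz.symm
  have hZ11 : ¬ (z1 = 1 ∧ z2 = 1) := by
    rintro ⟨rfl, rfl⟩; exact hZ1 (map_one f)
  have hwz : IsConj w (f (a, b)) := isConj_iff.2 ⟨g, hv.symm⟩
  rcases c.wr.cases X hXS with ⟨x1, y1, rfl⟩ | ⟨x1, y1, rfl⟩
  · -- case (b)
    rw [c.wr.f_mul_f, c.wr.f_mul_f, c.wr.f_mul_f, c.wr.f_eq_iff, Prod.mk.injEq] at hXY
    obtain ⟨hA, hB⟩ := hXY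
    have hcm : ∀ x y z : W, x * y = z * y * x → z * z = 1 →
        z = 1 ∨ z = u (2 ^ (n - 1)) (2 ^ (n - 1)) := by
      intro x y z h1 h2
      apply hb.derived_inv z _ h2
      have e : z = ⁅x, y⁆ := by
        rw [commutatorElement_def, h1]; group
      rw [e, commutator_def]
      exact Subgroup.commutator_mem_commutator (Subgroup.mem_top _) (Subgroup.mem_top _)
    have hzz : z1 = u (2 ^ (n - 1)) (2 ^ (n - 1)) ∧ z2 = u (2 ^ (n - 1)) (2 ^ (n - 1)) := by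
      rcases hcm _ _ _ hA hz1 with h1 | h1 <;> rcases hcm _ _ _ hB hz2 with h2 | h2
      · exact absurd ⟨h1, h2⟩ hZ11
      · exact absurd ⟨h1, h2⟩ hZt2
      · exact absurd ⟨h1, h2⟩ hZt
      · exact ⟨h1, h2⟩
    obtain ⟨rfl, rfl⟩ := hzz
    have hne : u (2 ^ (n - 1)) (2 ^ (n - 1)) ≠ 1 := hb.ne
    have hx12 : x1 * x2 ≠ x2 * x1 := by
      intro h1
      rw [h1, mul_assoc] at hA
      exact hne (mul_eq_right.1 hA.symm)
    have hy12 : y1 * y2 ≠ y2 * y1 := by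
      intro h1
      rw [h1, mul_assoc] at hB
      exact hne (mul_eq_right.1 hB.symm)
    have hncx : NC (u (2 ^ (n - 1)) (2 ^ (n - 1))) x2 := by
      refine ⟨hx2, ?_, ?_⟩
      · rintro rfl; exact hx12 (by group)
      · rintro rfl; exact hx12 (hb.central _).symm
    have hncy : NC (u (2 ^ (n - 1)) (2 ^ (n - 1))) y2 := by
      refine ⟨hy2, ?_, ?_⟩
      · rintro rfl; exact hy12 (by group)
      · rintro rfl; exact hy12 (hb.central _).symm
    rw [c.wr.f_comm_f_iff] at hXv hYv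
    have ha : a = 1 ∨ a = u (2 ^ (n - 1)) (2 ^ (n - 1)) := by
      rcases central_or (u := u) a hab.1 with h1 | h1
      · exact h1
      · exact absurd (hb.cent_abelian a h1.sq h1.ne_one h1.ne x1 x2 hXv.1 hYv.1) hx12
    have hbb : b = 1 ∨ b = u (2 ^ (n - 1)) (2 ^ (n - 1)) := by
      rcases central_or (u := u) b hab.2 with h1 | h1
      · exact h1
      · exact absurd (hb.cent_abelian b h1.sq h1.ne_one h1.ne y1 y2 hXv.2 hYv.2) hy12
    -- `w ~ (d, d) w ~ (x2, y2) v`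
    have hww : IsConj w (f (x2, y2) * f (a, b)) := by
      refine (c.conj_bw _ c.d_sq).trans (isConj_iff.2 ⟨g, ?_⟩)
      rw [hv, ← hY]; group
    have hnz : ∀ x, NC (u (2 ^ (n - 1)) (2 ^ (n - 1))) x → ∀ v : W,
        (v = 1 ∨ v = u (2 ^ (n - 1)) (2 ^ (n - 1))) →
        NC (u (2 ^ (n - 1)) (2 ^ (n - 1))) (x * v) := by
      rintro x hx v (rfl | rfl)
      · rwa [mul_one]
      · rw [← hb.central]; exact c.nc_zeta_mul hx
    have hwd : IsConj w (f (u (2 ^ (n - 1)) 0, u (2 ^ (n - 1)) 0)) := by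
      rw [c.wr.f_mul_f] at hww
      exact hww.trans (c.conj_nc (hnz _ hncx a ha) (hnz _ hncy b hbb))
    have hwt : IsConj (f (u (2 ^ (n - 1)) (2 ^ (n - 1)), 1)) w := by
      refine IsConj.trans ?_ hwz.symm
      rcases ha with rfl | rfl <;> rcases hbb with rfl | rfl
      · exact absurd (map_one f) hv1
      · exact isConj_iff.2 ⟨w, c.wr.w_conj _ _⟩
      · exact IsConj.refl _
      · exact absurd rfl hZne
    exact ⟨hwt, hwt.trans hwd⟩
  · rw [c.wr.fw_comm_f_iff] at hXv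
    have hXY' : x1 * y2 = z1 * x2 * x1 ∧ y1 * x2 = z2 * y2 * y1 := by
      rw [c.wr.fw_mul_f, c.wr.f_mul_f, c.wr.f_mul_fw, c.wr.fw_eq_iff, Prod.mk.injEq] at hXY
      exact hXY
    rcases central_or (u := u) a hab.1 with ha | ha
    · -- case (a)
      exfalso
      have hvz : f (a, b) = ph f u vz := by
        rw [c.ph_vz]
        rcases ha with rfl | rfl
        · exfalso
          have h1 := hXv.1
          rw [one_mul] at h1
          have h2 := mul_eq_left.1 h1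
          subst h2
          exact hv1 (map_one f)
        · have h1 := hXv.1
          rw [hb.central] at h1
          rw [mul_left_cancel h1]
      -- `z1`, `z2` are noncentral
      have hzc : ∀ x y p q z z' : W, x * q = z * p * x → y * p = z' * q * y → z' * z' = 1 →
          (z = 1 ∨ z = u (2 ^ (n - 1)) (2 ^ (n - 1))) →
          z' = 1 ∨ z' = u (2 ^ (n - 1)) (2 ^ (n - 1)) := by
        intro x y p q z z' h1 h2 h3 h4
        have hzcen : ∀ r, z * r = r * z := by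
          rcases h4 with rfl | rfl
          · intro r; group
          · exact hb.central
        have e1 : q = z * (x⁻¹ * p * x) := by
          calc q = x⁻¹ * (x * q) := by group
            _ = x⁻¹ * (z * p * x) := by rw [h1]
            _ = x⁻¹ * z * p * x := by group
            _ = z * x⁻¹ * p * x := by rw [← hzcen]
            _ = _ := by group
        have e2 : z' = z⁻¹ * (y * p * y⁻¹ * (x⁻¹ * p * x)⁻¹) := by
          calc z' = z' * q * y * y⁻¹ * q⁻¹ := by group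
            _ = y * p * y⁻¹ * q⁻¹ := by rw [h2]
            _ = y * p * y⁻¹ * (x⁻¹ * p * x)⁻¹ * z⁻¹ := by rw [e1]; group
            _ = _ := by
              have : z⁻¹ * (y * p * y⁻¹ * (x⁻¹ * p * x)⁻¹) =
                y * p * y⁻¹ * (x⁻¹ * p * x)⁻¹ * z⁻¹ := by
                have h5 := hzcen (y * p * y⁻¹ * (x⁻¹ * p * x)⁻¹)
                rw [inv_mul_eq_iff_eq_mul, ← mul_assoc, h5, mul_inv_cancel_right]
              exact this.symm
        have h5 : y * p * y⁻¹ * (x⁻¹ * p * x)⁻¹ ∈ commutator W := by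
          have e3 : y * p * y⁻¹ * (x⁻¹ * p * x)⁻¹ = ⁅y, p⁆ * ⁅p, x⁻¹⁆ := by
            rw [commutatorElement_def, commutatorElement_def]; group
          rw [e3, commutator_def]
          exact mul_mem (Subgroup.commutator_mem_commutator (Subgroup.mem_top _) (Subgroup.mem_top _))
            (Subgroup.commutator_mem_commutator (Subgroup.mem_top _) (Subgroup.mem_top _))
        have hzd : z⁻¹ ∈ commutator W := by
          apply inv_mem
          rcases h4 with rfl | rfl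
          · exact one_mem _
          · obtain ⟨c0, hc0, hcc⟩ := hb.derived_four
            rw [← hcc]; exact mul_mem hc0 hc0
        apply hb.derived_inv _ _ h3
        rw [e2]
        exact mul_mem hzd h5
      have hZz' : ¬ (z1 = u (2 ^ (n - 1)) (2 ^ (n - 1)) ∧ z2 = u (2 ^ (n - 1)) (2 ^ (n - 1))) := by
        rintro ⟨rfl, rfl⟩
        apply hZne
        rw [hvz, c.ph_vz]
      have hnot : ¬ ((z1 = 1 ∨ z1 = u (2 ^ (n - 1)) (2 ^ (n - 1))) ∧
          (z2 = 1 ∨ z2 = u (2 ^ (n - 1)) (2 ^ (n - 1)))) := by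
        rintro ⟨h1 | h1, h2 | h2⟩
        · exact hZ11 ⟨h1, h2⟩
        · exact hZt2 ⟨h1, h2⟩
        · exact hZt ⟨h1, h2⟩
        · exact hZz' ⟨h1, h2⟩
      have hn1 : NC (u (2 ^ (n - 1)) (2 ^ (n - 1))) z1 := by
        rcases central_or (u := u) z1 hz1 with h1 | h1
        · exact absurd ⟨h1, hzc _ _ _ _ _ _ hXY'.1 hXY'.2 hz2 h1⟩ hnot
        · exact h1
      have hn2 : NC (u (2 ^ (n - 1)) (2 ^ (n - 1))) z2 := by
        rcases central_or (u := u) z2 hz2 with h1 | h1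
        · exact absurd ⟨hzc _ _ _ _ _ _ hXY'.2 hXY'.1 hz1 h1, h1⟩ hnot
        · exact h1
      rw [c.wr.f_comm_f_iff] at hZY
      have hx2' := c.inv_comm hn1 x2 hx2 hZY.1.symm
      have hy2' := c.inv_comm hn2 y2 hy2 hZY.2.symm
      obtain ⟨m, v1, v2, hv1', hv2', hm, hm1, hm2⟩ := c.move hn1 hn2
      -- images in `A`
      have hdiag : ∀ v : W, (v = 1 ∨ v = u (2 ^ (n - 1)) (2 ^ (n - 1))) → ∃ p, v = u p p :=
        fun v hv => diag_of (h := c.co) hv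
      obtain ⟨p1, hp1⟩ := hdiag v1 hv1'
      obtain ⟨p2, hp2⟩ := hdiag v2 hv2'
      have hinA : ∀ x y : G, (∃ p q r t, x = f (u p q, u r t)) → (∃ p q r t, y = f (u p q, u r t)) →
          ∃ p q r t, x * y = f (u p q, u r t) := by
        rintro _ _ ⟨p, q, r, t, rfl⟩ ⟨p', q', r', t', rfl⟩
        exact ⟨p + p', q + q', r + r', t + t', by rw [c.wr.f_mul_f, c.co.u_mul, c.co.u_mul]⟩
      have hone : ∃ p q r t, m * f (1, 1) * m⁻¹ = f (u p q, u r t) := by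
        refine ⟨0, 0, 0, 0, ?_⟩
        rw [c.co.u_zero]
        have : f (1, 1) = 1 := map_one f
        rw [this]; group
      have hzeta1 : ∃ p q r t, m * f (u (2 ^ (n - 1)) (2 ^ (n - 1)), 1) * m⁻¹ =
          f (u p q, u r t) := by
        refine ⟨2 ^ (n - 1), 2 ^ (n - 1), 0, 0, ?_⟩
        have := hm (2 ^ (n - 1)) 0
        rw [c.co.u_zero] at this ⊢
        rw [this]; group
      have hzeta2 : ∃ p q r t, m * f (1, u (2 ^ (n - 1)) (2 ^ (n - 1))) * m⁻¹ =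
          f (u p q, u r t) := by
        refine ⟨0, 0, 2 ^ (n - 1), 2 ^ (n - 1), ?_⟩
        have := hm 0 (2 ^ (n - 1))
        rw [c.co.u_zero] at this ⊢
        rw [this]; group
      have hz1A : ∃ p q r t, m * f (z1, 1) * m⁻¹ = f (u p q, u r t) :=
        ⟨_, _, _, _, by rw [hm1, hp1]⟩
      have hz2A : ∃ p q r t, m * f (1, z2) * m⁻¹ = f (u p q, u r t) :=
        ⟨_, _, _, _, by rw [hm2, hp2]⟩
      have hconjmul : ∀ x y : G, m * (x * y) * m⁻¹ = (m * x * m⁻¹) * (m * y * m⁻¹) := by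
        intro x y; group
      have hsplit : ∀ x y : W, f (x, y) = f (x, 1) * f (1, y) := by
        intro x y; rw [← map_mul]; simp
      have hx2A : ∃ p q r t, m * f (x2, 1) * m⁻¹ = f (u p q, u r t) := by
        rcases hx2' with rfl | rfl | rfl | rfl
        · exact hone
        · exact hzeta1
        · exact hz1A
        · have e : f (u (2 ^ (n - 1)) (2 ^ (n - 1)) * z1, 1) =
              f (u (2 ^ (n - 1)) (2 ^ (n - 1)), 1) * f (z1, 1) := by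
            rw [c.wr.f_mul_f, one_mul]
          rw [e, hconjmul]
          exact hinA _ _ hzeta1 hz1A
      have hy2A : ∃ p q r t, m * f (1, y2) * m⁻¹ = f (u p q, u r t) := by
        rcases hy2' with rfl | rfl | rfl | rfl
        · exact hone
        · exact hzeta2
        · exact hz2A
        · have e : f (1, u (2 ^ (n - 1)) (2 ^ (n - 1)) * z2) =
              f (1, u (2 ^ (n - 1)) (2 ^ (n - 1))) * f (1, z2) := by
            rw [c.wr.f_mul_f, one_mul]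
          rw [e, hconjmul]
          exact hinA _ _ hzeta2 hz2A
      have hYA : ∃ x, m * f (x2, y2) * m⁻¹ = ph f u x := by
        obtain ⟨p, q, r, t, e⟩ := hinA _ _ hx2A hy2A
        rw [← hconjmul, ← hsplit] at e
        rw [e]
        apply c.exists_ph
        rw [← e]
        calc m * f (x2, y2) * m⁻¹ * (m * f (x2, y2) * m⁻¹) =
            m * (f (x2, y2) * f (x2, y2)) * m⁻¹ := by group
          _ = 1 := by
            rw [c.wr.f_mul_f, hx2, hy2]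
            have : f (1, 1) = 1 := map_one f
            rw [this]; group
      have hZA : ∃ x, m * f (z1, z2) * m⁻¹ = ph f u x := by
        obtain ⟨p, q, r, t, e⟩ := hinA _ _ hz1A hz2A
        rw [← hconjmul, ← hsplit] at e
        rw [e]
        apply c.exists_ph
        rw [← e]
        calc m * f (z1, z2) * m⁻¹ * (m * f (z1, z2) * m⁻¹) =
            m * (f (z1, z2) * f (z1, z2)) * m⁻¹ := by group
          _ = 1 := by
            rw [c.wr.f_mul_f, hz1, hz2]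
            have : f (1, 1) = 1 := map_one f
            rw [this]; group
      obtain ⟨a3, ha3⟩ := hYA
      obtain ⟨a2, ha2⟩ := hZA
      have hmz : m * ph f u vz * m⁻¹ = ph f u vz := by
        rw [c.ph_vz, hm]; group
      refine c.case_a (k := m * g) (a2 := a2) (a3 := a3) ?_ ?_ ?_ ?_ ?_
      · rw [← hmz, ← hvz, hv]; group
      · rw [← ha2, ← hZ, c.ph_vz]; group
      · rw [← ha3, ← hY, c.ph_vy]; group
      · rw [c.ph_vz, c.ph_vy]
        exact hZz.trans (c.conj_nc hn1 hn2)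
      · intro y hy
        obtain ⟨l, hl⟩ := isConj_iff.1 hy
        exact SylowSp4.Extremal.exists_conj_of_central S
          (fun r hr => by rw [c.ph_vz]; exact TNotZ.z_comm c.wr hb r hr) ⟨l, hl⟩
    · -- case (c)
      have hbnc : NC (u (2 ^ (n - 1)) (2 ^ (n - 1))) b := by
        refine ⟨hab.2, ?_, ?_⟩
        · rintro rfl
          have h1 := hXv.1
          rw [mul_one] at h1
          exact ha.ne_one (mul_eq_right.1 h1.symm)
        · rintro rfl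
          have h1 := hXv.1
          rw [← hb.central] at h1
          exact ha.ne (mul_right_cancel h1).symm
      have h1 := c.case_c' hs hE hv.symm ha hbnc
      rw [c.ph_vt, c.ph_vy] at h1
      exact ⟨h1.1.trans h1.2.symm, h1.1⟩

end Ctx

end

end Cfsg.Agent.TypeLFive.WRFive
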