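import Mathlib
import Cfsg.Agent.TypeLFive.Out
import Cfsg.Agent.SylowSp4.ExtTransfer

/-!
# S0511, wreathed case: the base of the fusion analysis

`Ctx`: `S` a Sylow 2-subgroup `W ≀ 2`, `W = Z_{2^n} ≀ 2`, with `A = A₀ × A₀` weakly closed in `S`.
`control`: `N_G(A)` controls the fusion of subsets of `A`.
-/

set_option autoImplicit false

namespace Cfsg.Agent.TypeLFive.WRho

open Cfsg.Agent.TypeLFive.Model Cfsg.Agent.TwoFusion.QDBasic Cfsg.Agent.TwoFusion.WreathedBasic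
open scoped Pointwise

variable {G W : Type*} [Group G] [Group W]

structure Ctx (S : Sylow 2 G) (f : W × W →* G) (w : G) {n : ℕ}
    (u : ZMod (2 ^ n) → ZMod (2 ^ n) → W) (s : W) : Prop where
  wr : Wr (S : Subgroup G) f w
  co : IsWCoord n u s
  /-- `A` is weakly closed in `S`. -/
  weak : ∀ g : G, (∀ a b c d, g * f (u a b, u c d) * g⁻¹ ∈ (S : Subgroup G)) →
    ∀ a b c d, ∃ a' b' c' d', g * f (u a b, u c d) * g⁻¹ = f (u a' b', u c' d')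

variable {S : Sylow 2 G} {f : W × W →* G} {w : G} {n : ℕ}
  {u : ZMod (2 ^ n) → ZMod (2 ^ n) → W} {s : W}

namespace Ctx

/-- `A = A₀ × A₀` -/
def A (h : Ctx S f w u s) : Subgroup G := (h.co.base.prod h.co.base).map f

theorem mem_A (h : Ctx S f w u s) {g : G} : g ∈ h.A ↔ ∃ a b c d, g = f (u a b, u c d) := by
  constructor
  · rintro ⟨⟨x, y⟩, hxy, rfl⟩
    rw [SetLike.mem_coe, Subgroup.mem_prod] at hxy
    obtain ⟨⟨a, b, hx⟩, ⟨c, d, hy⟩⟩ := hxy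
    refine ⟨a, b, c, d, ?_⟩
    show f (x, y) = _
    have hx' : x = u a b := hx
    have hy' : y = u c d := hy
    rw [hx', hy']
  · rintro ⟨a, b, c, d, rfl⟩
    exact ⟨(u a b, u c d), Subgroup.mem_prod.2 ⟨h.co.u_mem_base a b, h.co.u_mem_base c d⟩, rfl⟩

theorem f_mem_A (h : Ctx S f w u s) (a b c d : ZMod (2 ^ n)) : f (u a b, u c d) ∈ h.A :=
  h.mem_A.2 ⟨a, b, c, d, rfl⟩

theorem A_comm (h : Ctx S f w u s) {x y : G} (hx : x ∈ h.A) (hy : y ∈ h.A) : x * y = y * x := by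
  obtain ⟨a, b, c, d, rfl⟩ := h.mem_A.1 hx
  obtain ⟨a', b', c', d', rfl⟩ := h.mem_A.1 hy
  rw [h.wr.f_comm_f_iff]
  exact ⟨h.co.u_comm _ _ _ _, h.co.u_comm _ _ _ _⟩

theorem A_le (h : Ctx S f w u s) : h.A ≤ (S : Subgroup G) := by
  intro x hx
  obtain ⟨a, b, c, d, rfl⟩ := h.mem_A.1 hx
  exact h.wr.mem _

theorem A_isPGroup (h : Ctx S f w u s) : IsPGroup 2 h.A := S.isPGroup'.to_le h.A_le

theorem weak' (h : Ctx S f w u s) {g : G} (hg : ∀ x ∈ h.A, g * x * g⁻¹ ∈ (S : Subgroup G)) :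
    ∀ x ∈ h.A, g * x * g⁻¹ ∈ h.A := by
  intro x hx
  obtain ⟨a, b, c, d, rfl⟩ := h.mem_A.1 hx
  exact h.mem_A.2 (h.weak g (fun a b c d => hg _ (h.f_mem_A a b c d)) a b c d)

variable [Finite G]

/-- conjugation by `g` mapping `K` into `K` maps `K` onto `K`. -/
theorem conj_inv_mem {K : Subgroup G} {g : G} (hg : ∀ x ∈ K, g * x * g⁻¹ ∈ K) :
    ∀ x ∈ K, g⁻¹ * x * g ∈ K := by
  let φ : K → K := fun x => ⟨g * x * g⁻¹, hg x x.2⟩
  have hφ : Function.Injective φ := by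
    intro x y hxy
    have h1 : g * (x : G) * g⁻¹ = g * y * g⁻¹ := congrArg Subtype.val hxy
    exact Subtype.ext (mul_left_cancel (mul_right_cancel h1))
  have hφ' : Function.Surjective φ := Finite.surjective_of_injective hφ
  intro x hx
  obtain ⟨y, hy⟩ := hφ' ⟨x, hx⟩
  have h1 : g * (y : G) * g⁻¹ = x := congrArg Subtype.val hy
  have h2 : g⁻¹ * x * g = y := by
    rw [← h1]
    group
  rw [h2]
  exact y.2

/-- A 2-subgroup containing `A` lies in a conjugate of `S` by an element of `N(A)`. -/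
theorem exists_norm (h : Ctx S f w u s) {P : Subgroup G} (hP : IsPGroup 2 P) (hAP : h.A ≤ P) :
    ∃ x : G, (∀ a ∈ h.A, x * a * x⁻¹ ∈ h.A) ∧ (∀ a ∈ h.A, x⁻¹ * a * x ∈ h.A) ∧
      ∀ p ∈ P, x⁻¹ * p * x ∈ (S : Subgroup G) := by
  have : Fact (Nat.Prime 2) := ⟨Nat.prime_two⟩
  obtain ⟨Q, hQ⟩ := hP.exists_le_sylow
  obtain ⟨x, hx⟩ := MulAction.exists_smul_eq G S Q
  have h1 : ∀ p ∈ P, x⁻¹ * p * x ∈ (S : Subgroup G) := by
    intro p hp
    have h2 := hQ hp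
    rw [← hx, Sylow.coe_subgroup_smul, Subgroup.mem_pointwise_smul_iff_inv_smul_mem] at h2
    rwa [← map_inv, MulAut.smul_def, MulAut.conj_apply, inv_inv] at h2
  have h2 : ∀ a ∈ h.A, x⁻¹ * a * x ∈ h.A := by
    intro a ha
    have h3 := h.weak' (g := x⁻¹) (fun y hy => by
      rw [inv_inv]
      exact h1 y (hAP hy)) a ha
    rwa [inv_inv] at h3
  refine ⟨x, ?_, h2, h1⟩
  have h3 := conj_inv_mem (K := h.A) (g := x⁻¹) (fun y hy => by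
    rw [inv_inv]
    exact h2 y hy)
  intro a ha
  have h4 := h3 a ha
  rwa [inv_inv] at h4

/-- `N_G(A)` controls fusion in `A`. -/
theorem control (h : Ctx S f w u s) {X : Set G} (hX : ∀ x ∈ X, x ∈ h.A) {g : G}
    (hg : ∀ x ∈ X, g * x * g⁻¹ ∈ h.A) :
    ∃ η : G, (∀ a ∈ h.A, η * a * η⁻¹ ∈ h.A) ∧ ∀ x ∈ X, η * x * η⁻¹ = g * x * g⁻¹ := by
  have : Fact (Nat.Prime 2) := ⟨Nat.prime_two⟩
  let C : Subgroup G := Subgroup.centralizer ((fun x => g * x * g⁻¹) '' X)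
  have hAC : h.A ≤ C := by
    intro a ha
    rw [Subgroup.mem_centralizer_iff]
    rintro _ ⟨x, hx, rfl⟩
    exact h.A_comm (hg x hx) ha
  let A' : Subgroup G := h.A.map (MulAut.conj g).toMonoidHom
  have hA'C : A' ≤ C := by
    rintro _ ⟨a, ha, rfl⟩
    rw [Subgroup.mem_centralizer_iff]
    rintro _ ⟨x, hx, rfl⟩
    show g * x * g⁻¹ * (g * a * g⁻¹) = g * a * g⁻¹ * (g * x * g⁻¹)
    have h1 := h.A_comm (hX x hx) ha
    calc g * x * g⁻¹ * (g * a * g⁻¹) = g * (x * a) * g⁻¹ := by group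
      _ = g * (a * x) * g⁻¹ := by rw [h1]
      _ = g * a * g⁻¹ * (g * x * g⁻¹) := by group
  have hA1 : IsPGroup 2 (h.A.subgroupOf C) :=
    h.A_isPGroup.comap_of_injective C.subtype C.subtype_injective
  have hA2 : IsPGroup 2 (A'.subgroupOf C) :=
    (h.A_isPGroup.map _).comap_of_injective C.subtype C.subtype_injective
  obtain ⟨R₁, hR₁⟩ := hA1.exists_le_sylow
  obtain ⟨R₂, hR₂⟩ := hA2.exists_le_sylow
  obtain ⟨c, hc⟩ := MulAction.exists_smul_eq C R₁ R₂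
  -- `c⁻¹ A' c ≤ R₁`
  have h1 : ∀ a ∈ h.A, (c : G)⁻¹ * (g * a * g⁻¹) * c ∈ (R₁ : Subgroup C).map C.subtype := by
    intro a ha
    have h2 : (⟨g * a * g⁻¹, hA'C ⟨a, ha, rfl⟩⟩ : C) ∈ (R₂ : Subgroup C) :=
      hR₂ (show (g * a * g⁻¹) ∈ A' from ⟨a, ha, rfl⟩)
    rw [← hc, Sylow.coe_subgroup_smul, Subgroup.mem_pointwise_smul_iff_inv_smul_mem] at h2
    rw [← map_inv, MulAut.smul_def, MulAut.conj_apply, inv_inv] at h2
    exact ⟨_, h2, rfl⟩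
  have hR₁p : IsPGroup 2 ((R₁ : Subgroup C).map C.subtype) := R₁.isPGroup'.map _
  have hAR₁ : h.A ≤ (R₁ : Subgroup C).map C.subtype := by
    intro a ha
    exact ⟨⟨a, hAC ha⟩, hR₁ (show a ∈ h.A from ha), rfl⟩
  obtain ⟨x, hx1, hx2, hx3⟩ := h.exists_norm hR₁p hAR₁
  have h3 : ∀ a ∈ h.A, (x⁻¹ * (c : G)⁻¹ * g) * a * (x⁻¹ * (c : G)⁻¹ * g)⁻¹ ∈ h.A := by
    apply h.weak'
    intro a ha
    have h4 := hx3 _ (h1 a ha)
    have h5 : (x⁻¹ * (c : G)⁻¹ * g) * a * (x⁻¹ * (c : G)⁻¹ * g)⁻¹ =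
        x⁻¹ * ((c : G)⁻¹ * (g * a * g⁻¹) * c) * x := by group
    rwa [h5]
  refine ⟨(c : G)⁻¹ * g, ?_, ?_⟩
  · intro a ha
    have h4 := hx1 _ (h3 a ha)
    have h5 : x * ((x⁻¹ * (c : G)⁻¹ * g) * a * (x⁻¹ * (c : G)⁻¹ * g)⁻¹) * x⁻¹ =
        ((c : G)⁻¹ * g) * a * ((c : G)⁻¹ * g)⁻¹ := by group
    rwa [h5] at h4
  · intro y hy
    have h4 := c.2
    rw [Subgroup.mem_centralizer_iff] at h4
    have h5 := h4 (g * y * g⁻¹) ⟨y, hy, rfl⟩
    calc (c : G)⁻¹ * g * y * ((c : G)⁻¹ * g)⁻¹ = (c : G)⁻¹ * (g * y * g⁻¹ * c) := by group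
      _ = (c : G)⁻¹ * (c * (g * y * g⁻¹)) := by rw [h5]
      _ = g * y * g⁻¹ := by group

end Ctx

end Cfsg.Agent.TypeLFive.WRho
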