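import Mathlib
import Cfsg.Agent.TypeLFive.WRhoBase

/-!
# S0511, wreathed case: `T = W₁ × W₂` is a Sylow 2-subgroup of `C_G(D)⟨s₂⟩`, `D = Z(W₁) × A₀(2)`
-/

set_option autoImplicit false

namespace Cfsg.Agent.TypeLFive.WRho

open Cfsg.Agent.TypeLFive.Model Cfsg.Agent.TwoFusion.QDBasic Cfsg.Agent.TwoFusion.WreathedBasic
open scoped Pointwise

variable {G W : Type*} [Group G] [Group W] {S : Sylow 2 G} {f : W × W →* G} {w : G} {n : ℕ}
  {u : ZMod (2 ^ n) → ZMod (2 ^ n) → W} {s : W}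

/-- `g` centralises `D = Z(W₁) × A₀(2)`. -/
def Cen (f : W × W →* G) (u : ZMod (2 ^ n) → ZMod (2 ^ n) → W) (g : G) : Prop :=
  ∀ a c e, SemiconjBy g (f (u a a, u c e)) (f (u a a, u c e))

/-- `g` acts on `D` as `s₂`. -/
def Sw (f : W × W →* G) (u : ZMod (2 ^ n) → ZMod (2 ^ n) → W) (g : G) : Prop :=
  ∀ a c e, SemiconjBy g (f (u a a, u c e)) (f (u a a, u e c))

theorem Cen.mul {g k : G} (hg : Cen f u g) (hk : Cen f u k) : Cen f u (g * k) :=
  fun a c e => (hg a c e).mul_left (hk a c e)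

theorem Sw.mul {g k : G} (hg : Sw f u g) (hk : Sw f u k) : Cen f u (g * k) :=
  fun a c e => (hg a e c).mul_left (hk a c e)

theorem Cen.mul_sw {g k : G} (hg : Cen f u g) (hk : Sw f u k) : Sw f u (g * k) :=
  fun a c e => (hg a e c).mul_left (hk a c e)

theorem Sw.mul_cen {g k : G} (hg : Sw f u g) (hk : Cen f u k) : Sw f u (g * k) :=
  fun a c e => (hg a c e).mul_left (hk a c e)

theorem Cen.inv {g : G} (hg : Cen f u g) : Cen f u g⁻¹ := fun a c e => (hg a c e).inv_symm_left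

theorem Sw.inv {g : G} (hg : Sw f u g) : Sw f u g⁻¹ := fun a c e => (hg a e c).inv_symm_left

theorem Cen.one : Cen f u (1 : G) := fun a c e => SemiconjBy.one_left _

/-- `Y⁺ = C_G(D)⟨s₂⟩` -/
def Yp (f : W × W →* G) (u : ZMod (2 ^ n) → ZMod (2 ^ n) → W) : Subgroup G where
  carrier := {g | Cen f u g ∨ Sw f u g}
  one_mem' := Or.inl Cen.one
  mul_mem' := by
    rintro a b (ha | ha) (hb | hb)
    · exact Or.inl (ha.mul hb)
    · exact Or.inr (ha.mul_sw hb)
    · exact Or.inr (ha.mul_cen hb)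
    · exact Or.inl (ha.mul hb)
  inv_mem' := by
    rintro a (ha | ha)
    · exact Or.inl ha.inv
    · exact Or.inr ha.inv

theorem mem_Yp {g : G} : g ∈ Yp f u ↔ Cen f u g ∨ Sw f u g := Iff.rfl

theorem cen_sq {g : G} (hg : g ∈ Yp f u) : Cen f u (g * g) := by
  rcases hg with h | h
  · exact h.mul h
  · exact h.mul h

namespace Ctx

variable (h : Ctx S f w u s)
include h

theorem semi_iff (x y a b a' b' : W) :
    SemiconjBy (f (x, y)) (f (a, b)) (f (a', b')) ↔ x * a = a' * x ∧ y * b = b' * y := by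
  rw [SemiconjBy, h.wr.f_mul_f, h.wr.f_mul_f, h.wr.f_eq_iff, Prod.mk.injEq]

theorem cen_f {x y : W} (hy : y ∈ h.co.base) : Cen f u (f (x, y)) := by
  intro a c e
  obtain ⟨p, q, rfl⟩ := hy
  rw [h.semi_iff]
  refine ⟨?_, h.co.u_comm _ _ _ _⟩
  rcases h.co.cases x with ⟨a', b', rfl⟩ | ⟨a', b', rfl⟩
  · exact h.co.u_comm _ _ _ _
  · rw [h.co.uz_mul_u, h.co.u_mul_uz, add_comm a', add_comm b']

theorem sw_f {x y : W} (hy : y ∉ h.co.base) : Sw f u (f (x, y)) := by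
  intro a c e
  obtain ⟨p, q, rfl⟩ := (h.co.not_mem_base y).1 hy
  rw [h.semi_iff]
  refine ⟨?_, ?_⟩
  · rcases h.co.cases x with ⟨a', b', rfl⟩ | ⟨a', b', rfl⟩
    · exact h.co.u_comm _ _ _ _
    · rw [h.co.uz_mul_u, h.co.u_mul_uz, add_comm a', add_comm b']
  · rw [h.co.uz_mul_u, h.co.u_mul_uz, add_comm p, add_comm q]

theorem range_le_Yp : f.range ≤ Yp f u := by
  rintro _ ⟨⟨x, y⟩, rfl⟩
  by_cases hy : y ∈ h.co.base
  · exact Or.inl (h.cen_f hy)
  · exact Or.inr (h.sw_f hy)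

theorem A_le_range : h.A ≤ f.range := by
  intro g hg
  obtain ⟨a, b, c, d, rfl⟩ := h.mem_A.1 hg
  exact ⟨_, rfl⟩

theorem range_isPGroup : IsPGroup 2 f.range := S.isPGroup'.to_le h.wr.range_le

theorem card_le [Finite G] : Nat.card (S : Subgroup G) ≤ 2 * Nat.card f.range := by
  let φ : f.range × Bool → (S : Subgroup G) := fun p =>
    ⟨p.1 * (if p.2 then w else 1), (S : Subgroup G).mul_mem (h.wr.range_le p.1.2) (by
      split_ifs
      · exact h.wr.w_mem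
      · exact (S : Subgroup G).one_mem)⟩
  have hφ : Function.Surjective φ := by
    rintro ⟨g, hg⟩
    rcases h.wr.cases g hg with ⟨x, y, rfl⟩ | ⟨x, y, rfl⟩
    · exact ⟨(⟨f (x, y), _, rfl⟩, false), Subtype.ext (by simp [φ])⟩
    · exact ⟨(⟨f (x, y), _, rfl⟩, true), Subtype.ext (by simp [φ])⟩
  have h1 := Nat.card_le_card_of_surjective φ hφ
  rw [Nat.card_prod] at h1
  have h2 : Nat.card Bool = 2 := by simp
  rw [h2, mul_comm] at h1
  exact h1

/-- an element of `A` commuting with `f (s, s)`. -/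
theorem of_comm_ss {y : G} (hy : y ∈ h.A) (hc : f (s, s) * y = y * f (s, s)) :
    ∃ a c, y = f (u a a, u c c) := by
  obtain ⟨a, b, c, d, rfl⟩ := h.mem_A.1 hy
  rw [h.wr.f_comm_f_iff, h.co.z_u, h.co.z_u] at hc
  have h1 := h.co.u_inj _ _ _ _ (mul_right_cancel hc.1)
  have h2 := h.co.u_inj _ _ _ _ (mul_right_cancel hc.2)
  exact ⟨a, c, by rw [h1.1, h2.1]⟩

variable [Finite G]

/-- `T` is a Sylow 2-subgroup of `Y⁺`. -/
theorem le_range {P : Subgroup G} (hP : IsPGroup 2 P) (hTP : f.range ≤ P) (hPY : P ≤ Yp f u) :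
    P ≤ f.range := by
  by_contra hcon
  obtain ⟨x, hx1, hx2, hx3⟩ := h.exists_norm hP (h.A_le_range.trans hTP)
  -- `x⁻¹ P x = S`
  have hlt : Nat.card f.range < Nat.card P := by
    rcases (Subgroup.card_le_of_le hTP).lt_or_eq with h1 | h1
    · exact h1
    · exact absurd (Subgroup.eq_of_le_of_card_ge hTP h1.ge).ge hcon
  have h2 : 2 * Nat.card f.range ≤ Nat.card P := by
    obtain ⟨k, hk⟩ := Subgroup.card_dvd_of_le hTP
    rcases k with _ | _ | k
    · omega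
    · omega
    · rw [hk]
      nlinarith [Nat.card_pos (α := f.range)]
  let P' : Subgroup G := P.map (MulAut.conj x⁻¹).toMonoidHom
  have hP'S : P' ≤ (S : Subgroup G) := by
    rintro _ ⟨p, hp, rfl⟩
    have h3 := hx3 p hp
    show x⁻¹ * p * x⁻¹⁻¹ ∈ (S : Subgroup G)
    rwa [inv_inv]
  have hP'c : Nat.card P' = Nat.card P :=
    Nat.card_congr (P.equivMapOfInjective _ (MulAut.conj x⁻¹).injective).symm.toEquiv
  have hP'eq : P' = (S : Subgroup G) := by
    apply Subgroup.eq_of_le_of_card_ge hP'S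
    rw [hP'c]
    exact h.card_le.trans h2
  -- the element `f (1, s) w`
  have h3 : f (1, s) * w ∈ P' := by
    rw [hP'eq]
    exact h.wr.fw_mem _
  obtain ⟨p, hp, hpe⟩ := h3
  have hpe' : x⁻¹ * p * x = f (1, s) * w := by
    have : x⁻¹ * p * x⁻¹⁻¹ = f (1, s) * w := hpe
    rwa [inv_inv] at this
  have hp2 : p * p = x * f (s, s) * x⁻¹ := by
    have h4 : f (1, s) * w * (f (1, s) * w) = f (s, s) := by
      rw [h.wr.fw_mul_fw, one_mul, mul_one]
    rw [← h4, ← hpe']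
    group
  have hcen : Cen f u (x * f (s, s) * x⁻¹) := by
    rw [← hp2]
    exact cen_sq (hPY hp)
  have h5 : ∀ a c e, ∃ a' c', x⁻¹ * f (u a a, u c e) * x = f (u a' a', u c' c') := by
    intro a c e
    apply h.of_comm_ss (hx2 _ (h.f_mem_A _ _ _ _))
    have h6 : x * f (s, s) * x⁻¹ * f (u a a, u c e) = f (u a a, u c e) * (x * f (s, s) * x⁻¹) :=
      hcen a c e
    calc f (s, s) * (x⁻¹ * f (u a a, u c e) * x) =
        x⁻¹ * (x * f (s, s) * x⁻¹ * f (u a a, u c e)) * x := by group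
      _ = x⁻¹ * (f (u a a, u c e) * (x * f (s, s) * x⁻¹)) * x := by rw [h6]
      _ = x⁻¹ * f (u a a, u c e) * x * f (s, s) := by group
  choose α β hαβ using h5
  let ψ : ZMod (2 ^ n) × ZMod (2 ^ n) × ZMod (2 ^ n) → ZMod (2 ^ n) × ZMod (2 ^ n) :=
    fun p => (α p.1 p.2.1 p.2.2, β p.1 p.2.1 p.2.2)
  have hψ : Function.Injective ψ := by
    rintro ⟨a, c, e⟩ ⟨a', c', e'⟩ hp
    have h6 : α a c e = α a' c' e' := congrArg Prod.fst hp
    have h7 : β a c e = β a' c' e' := congrArg Prod.snd hp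
    have h8 : x⁻¹ * f (u a a, u c e) * x = x⁻¹ * f (u a' a', u c' e') * x := by
      rw [hαβ, hαβ, h6, h7]
    have h9 := mul_left_cancel (mul_right_cancel h8)
    rw [h.wr.f_eq_iff, Prod.mk.injEq, h.co.u_eq_iff, h.co.u_eq_iff] at h9
    rw [h9.1.1, h9.2.1, h9.2.2]
  have hcard := Nat.card_le_card_of_injective ψ hψ
  rw [Nat.card_prod, Nat.card_prod, Nat.card_zmod] at hcard
  have h10 : 2 ≤ 2 ^ n := by
    calc 2 = 2 ^ 1 := rfl
      _ ≤ 2 ^ n := Nat.pow_le_pow_right (by norm_num) h.co.one_le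
  nlinarith [Nat.mul_le_mul h10 (le_refl (2 ^ n * 2 ^ n)), Nat.mul_pos (Nat.pos_of_ne_zero (by positivity : (2:ℕ) ^ n ≠ 0)) (Nat.pos_of_ne_zero (by positivity : (2:ℕ) ^ n ≠ 0))]

end Ctx

end Cfsg.Agent.TypeLFive.WRho
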