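import Mathlib
import Cfsg.Agent.TypeLFive.WRhoSylow

/-!
# S0511, wreathed case: moving `y (P₁ × W₂) y⁻¹` into `T`
-/

set_option autoImplicit false

namespace Cfsg.Agent.TypeLFive.WRho

open Cfsg.Agent.TypeLFive.Model Cfsg.Agent.TwoFusion.QDBasic Cfsg.Agent.TwoFusion.WreathedBasic
open scoped Pointwise

variable {G W : Type*} [Group G] [Group W] {S : Sylow 2 G} {f : W × W →* G} {w : G} {n : ℕ}
  {u : ZMod (2 ^ n) → ZMod (2 ^ n) → W} {s : W}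

namespace Ctx

/-- `Ω₁(Z(T))` -/
def Z0 (h : Ctx S f w u s) : Subgroup G where
  carrier := {g | ∃ i j, i + i = 0 ∧ j + j = 0 ∧ g = f (u i i, u j j)}
  one_mem' := ⟨0, 0, add_zero 0, add_zero 0, by rw [h.co.u_zero]; exact (map_one f).symm⟩
  mul_mem' := by
    rintro _ _ ⟨i, j, hi, hj, rfl⟩ ⟨i', j', hi', hj', rfl⟩
    refine ⟨i + i', j + j', ?_, ?_, ?_⟩
    · rw [add_add_add_comm, hi, hi', add_zero]
    · rw [add_add_add_comm, hj, hj', add_zero]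
    · rw [h.wr.f_mul_f, h.co.u_mul, h.co.u_mul]
  inv_mem' := by
    rintro _ ⟨i, j, hi, hj, rfl⟩
    refine ⟨-i, -j, ?_, ?_, ?_⟩
    · rw [← neg_add, hi, neg_zero]
    · rw [← neg_add, hj, neg_zero]
    · rw [← map_inv, Prod.inv_mk, h.co.u_inv, h.co.u_inv]

theorem comm_Z0 (h : Ctx S f w u s) {g z : G} (hg : g ∈ Yp f u) (hz : z ∈ h.Z0) : g * z * g⁻¹ = z := by
  obtain ⟨i, j, hi, hj, rfl⟩ := hz
  rcases hg with hg | hg
  · rw [(hg i j j).eq, mul_inv_cancel_right]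
  · rw [(hg i j j).eq, mul_inv_cancel_right]

/-- `M⁺`: the elements of `Y⁺` centralising `v` modulo `Z0`. -/
def Mp (h : Ctx S f w u s) (v : G) : Subgroup G where
  carrier := {g | g ∈ Yp f u ∧ g * v * g⁻¹ * v⁻¹ ∈ h.Z0}
  one_mem' := ⟨Subgroup.one_mem _, by
    have : (1 : G) * v * 1⁻¹ * v⁻¹ = 1 := by group
    rw [this]
    exact h.Z0.one_mem⟩
  mul_mem' := by
    rintro a b ⟨ha, ha'⟩ ⟨hb, hb'⟩
    refine ⟨(Yp f u).mul_mem ha hb, ?_⟩
    have h1 : a * b * v * (a * b)⁻¹ * v⁻¹ = a * (b * v * b⁻¹ * v⁻¹) * a⁻¹ * (a * v * a⁻¹ * v⁻¹) := by group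
    rw [h1, h.comm_Z0 ha hb']
    exact h.Z0.mul_mem hb' ha'
  inv_mem' := by
    rintro a ⟨ha, ha'⟩
    refine ⟨(Yp f u).inv_mem ha, ?_⟩
    have h1 : a⁻¹ * v * a⁻¹⁻¹ * v⁻¹ = a⁻¹ * (a * v * a⁻¹ * v⁻¹)⁻¹ * a⁻¹⁻¹ := by group
    rw [h1, h.comm_Z0 ((Yp f u).inv_mem ha) (h.Z0.inv_mem ha')]
    exact h.Z0.inv_mem ha'

variable (h : Ctx S f w u s)
include h

omit [Group G] [Group W] h in
theorem neg_self' {a : ZMod (2 ^ n)} (ha : a + a = 0) : -a = a := by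
  exact neg_eq_of_add_eq_zero_left ha

/-- commutator of an element of `W` with an involution of the base -/
theorem comm_base (x : W) {a b : ZMod (2 ^ n)} (ha : a + a = 0) (hb : b + b = 0) :
    ∃ i, i + i = 0 ∧ x * u a b * x⁻¹ * (u a b)⁻¹ = u i i := by
  rcases h.co.cases x with ⟨c, d, rfl⟩ | ⟨c, d, rfl⟩
  · refine ⟨0, add_zero 0, ?_⟩
    rw [h.co.u_conj_u, mul_inv_cancel, h.co.u_zero]
  · refine ⟨a + b, ?_, ?_⟩
    · rw [add_add_add_comm, ha, hb, add_zero]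
    · rw [h.co.uz_conj_u, h.co.u_inv, h.co.u_mul, neg_self' ha, neg_self' hb, add_comm b a]

theorem range_le_Mp {a b c d : ZMod (2 ^ n)} (ha : a + a = 0) (hb : b + b = 0) (hc : c + c = 0)
    (hd : d + d = 0) : f.range ≤ h.Mp (f (u a b, u c d)) := by
  rintro _ ⟨⟨x, y⟩, rfl⟩
  refine ⟨h.range_le_Yp ⟨_, rfl⟩, ?_⟩
  obtain ⟨i, hi, hi'⟩ := h.comm_base x ha hb
  obtain ⟨j, hj, hj'⟩ := h.comm_base y hc hd
  refine ⟨i, j, hi, hj, ?_⟩
  rw [← hi', ← hj', ← map_inv, ← map_inv, ← map_mul, ← map_mul, ← map_mul]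
  rfl

variable [Finite G]

/-- Sylow's theorem in `M⁺`. -/
theorem exists_into_range {a b c d : ZMod (2 ^ n)} (ha : a + a = 0) (hb : b + b = 0) (hc : c + c = 0)
    (hd : d + d = 0) {V : Subgroup G} (hV : IsPGroup 2 V) (hVM : V ≤ h.Mp (f (u a b, u c d))) :
    ∃ m ∈ h.Mp (f (u a b, u c d)), ∀ x ∈ V, m * x * m⁻¹ ∈ f.range := by
  have : Fact (Nat.Prime 2) := ⟨Nat.prime_two⟩
  set M := h.Mp (f (u a b, u c d)) with hM
  have hTM : f.range ≤ M := h.range_le_Mp ha hb hc hd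
  have h1 : IsPGroup 2 (f.range.subgroupOf M) :=
    h.range_isPGroup.comap_of_injective M.subtype M.subtype_injective
  have h2 : IsPGroup 2 (V.subgroupOf M) := hV.comap_of_injective M.subtype M.subtype_injective
  obtain ⟨R₁, hR₁⟩ := h1.exists_le_sylow
  obtain ⟨R₂, hR₂⟩ := h2.exists_le_sylow
  obtain ⟨m, hm⟩ := MulAction.exists_smul_eq M R₁ R₂
  -- `R₁ = T`
  have h3 : (R₁ : Subgroup M).map M.subtype ≤ f.range := by
    apply h.le_range (R₁.isPGroup'.map _)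
    · intro x hx
      exact ⟨⟨x, hTM hx⟩, hR₁ (show x ∈ f.range from hx), rfl⟩
    · rintro _ ⟨x, _, rfl⟩
      exact x.2.1
  refine ⟨(m : G)⁻¹, M.inv_mem m.2, ?_⟩
  intro x hx
  have h4 : (⟨x, hVM hx⟩ : M) ∈ (R₂ : Subgroup M) := hR₂ (show x ∈ V from hx)
  rw [← hm, Sylow.coe_subgroup_smul, Subgroup.mem_pointwise_smul_iff_inv_smul_mem] at h4
  rw [← map_inv, MulAut.smul_def, MulAut.conj_apply, inv_inv] at h4
  have h5 := h3 ⟨_, h4, rfl⟩
  rw [inv_inv]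
  exact h5

/-- First form: `y` maps `(s,1)`, `(d,1)`, `(1,s)` into `T`. -/
theorem exists_y_aux {y₀ : G} (hy : Cen f u y₀) {a b c d : ZMod (2 ^ n)} (ha : a + a = 0) (hb : b + b = 0)
    (hc : c + c = 0) (hd : d + d = 0) (hs : SemiconjBy y₀ (f (s, 1)) (f (u a b, u c d)))
    (hab : a = b + 2 ^ (n - 1)) :
    ∃ y : G, Cen f u y ∧ (∃ c' d', c' + c' = 0 ∧ d' + d' = 0 ∧
      SemiconjBy y (f (s, 1)) (f (u (2 ^ (n - 1)) 0, u c' d'))) ∧
      y * f (u (2 ^ (n - 1)) 0, 1) * y⁻¹ ∈ f.range ∧ y * f (1, s) * y⁻¹ ∈ f.range := by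
  have hh : (2 : ZMod (2 ^ n)) ^ (n - 1) + 2 ^ (n - 1) = 0 := by
    rw [← two_mul]
    exact two_mul_half n h.co.one_le
  set hf : ZMod (2 ^ n) := 2 ^ (n - 1) with hhf
  set v : G := f (u a b, u c d) with hv
  let V : Subgroup G := (f.range).map (MulAut.conj y₀).toMonoidHom ⊓ h.Mp v
  have hVp : IsPGroup 2 V := (h.range_isPGroup.map _).to_le inf_le_left
  obtain ⟨m, hm, hmV⟩ := h.exists_into_range ha hb hc hd hVp inf_le_right
  have hsv : y₀ * f (s, 1) * y₀⁻¹ = v := by rw [hs.eq, mul_inv_cancel_right]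
  have hyY : y₀ ∈ Yp f u := Or.inl hy
  -- the elements
  have key : ∀ x : W × W, f x * f (s, 1) * (f x)⁻¹ * (f (s, 1))⁻¹ ∈ h.Z0 → y₀ * f x * y₀⁻¹ ∈ V := by
    intro x hx
    refine ⟨⟨f x, ⟨x, rfl⟩, rfl⟩, ?_, ?_⟩
    · exact (Yp f u).mul_mem ((Yp f u).mul_mem hyY (h.range_le_Yp ⟨x, rfl⟩)) ((Yp f u).inv_mem hyY)
    · rw [← hsv]
      have h1 : y₀ * f x * y₀⁻¹ * (y₀ * f (s, 1) * y₀⁻¹) * (y₀ * f x * y₀⁻¹)⁻¹ * (y₀ * f (s, 1) * y₀⁻¹)⁻¹ =
          y₀ * (f x * f (s, 1) * (f x)⁻¹ * (f (s, 1))⁻¹) * y₀⁻¹ := by group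
      rw [h1, h.comm_Z0 hyY hx]
      exact hx
  have k1 : y₀ * f (s, 1) * y₀⁻¹ ∈ V := key _ (by
    rw [mul_inv_cancel_right, mul_inv_cancel]
    exact h.Z0.one_mem)
  have k2 : y₀ * f (u hf 0, 1) * y₀⁻¹ ∈ V := key _ (by
    refine ⟨hf, 0, hh, add_zero 0, ?_⟩
    rw [← map_inv, ← map_inv, ← map_mul, ← map_mul, ← map_mul, h.wr.f_eq_iff]
    apply Prod.ext
    · show u hf 0 * s * (u hf 0)⁻¹ * s⁻¹ = u hf hf
      rw [h.co.z_inv, h.co.u_inv, mul_assoc (u hf 0), h.co.z_u, ← mul_assoc, h.co.u_mul, mul_assoc, h.co.z_z,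
        mul_one, neg_zero, add_zero, zero_add, neg_self' hh]
    · show (1 : W) * 1 * 1⁻¹ * 1⁻¹ = u 0 0
      rw [h.co.u_zero]
      simp)
  have k3 : y₀ * f (1, s) * y₀⁻¹ ∈ V := key _ (by
    refine ⟨0, 0, add_zero 0, add_zero 0, ?_⟩
    rw [← map_inv, ← map_inv, ← map_mul, ← map_mul, ← map_mul, h.wr.f_eq_iff]
    apply Prod.ext
    · show (1 : W) * s * 1⁻¹ * s⁻¹ = u 0 0
      rw [h.co.u_zero]
      simp
    · show s * 1 * s⁻¹ * 1⁻¹ = u 0 0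
      rw [h.co.u_zero]
      simp)
  -- WLOG `m` centralises `D`
  obtain ⟨m', hm'c, hm'M, hm'V⟩ : ∃ m', Cen f u m' ∧ m' ∈ h.Mp v ∧ ∀ x ∈ V, m' * x * m'⁻¹ ∈ f.range := by
    rcases hm.1 with h1 | h1
    · exact ⟨m, h1, hm, hmV⟩
    · refine ⟨f (1, s) * m, (h.sw_f h.co.z_not_mem_base).mul h1, (h.Mp v).mul_mem
        (h.range_le_Mp ha hb hc hd ⟨_, rfl⟩) hm, ?_⟩
      intro x hx
      have h2 : f (1, s) * m * x * (f (1, s) * m)⁻¹ = f (1, s) * (m * x * m⁻¹) * (f (1, s))⁻¹ := by group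
      rw [h2]
      exact f.range.mul_mem (f.range.mul_mem ⟨_, rfl⟩ (hmV x hx)) (f.range.inv_mem ⟨_, rfl⟩)
  -- the image of `(s,1)`
  obtain ⟨i, j, hi, hj, hij⟩ := hm'M.2
  have hmv : m' * v * m'⁻¹ = f (u (i + a) (i + b), u (j + c) (j + d)) := by
    have h1 : m' * v * m'⁻¹ = (m' * v * m'⁻¹ * v⁻¹) * v := by group
    rw [h1, hij, hv, h.wr.f_mul_f, h.co.u_mul, h.co.u_mul]
  have h0 : i + b + (i + b) = 0 := by rw [add_add_add_comm, hi, hb, add_zero]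
  have h0c : j + c + (j + c) = 0 := by rw [add_add_add_comm, hj, hc, add_zero]
  have h0d : j + d + (j + d) = 0 := by rw [add_add_add_comm, hj, hd, add_zero]
  have hib : i + b = 0 ∨ i + b = hf := (two_mul_eq_zero_iff n h.co.one_le _).1 (by rw [two_mul]; exact h0)
  have hia : i + a = (i + b) + hf := by rw [hab]; ring
  have hgen : ∀ x : G, m' * y₀ * x * (m' * y₀)⁻¹ = m' * (y₀ * x * y₀⁻¹) * m'⁻¹ := by
    intro x
    group
  rcases hib with h1 | h1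
  · refine ⟨m' * y₀, hm'c.mul hy, ⟨j + c, j + d, h0c, h0d, ?_⟩, ?_, ?_⟩
    · apply SemiconjBy.mul_left _ hs
      rw [hia, h1, zero_add] at hmv
      show m' * v = _ * m'
      rw [← hmv]
      group
    · rw [hgen]
      exact hm'V _ k2
    · rw [hgen]
      exact hm'V _ k3
  · have hc1 : Cen f u (f (s, 1)) := h.cen_f (h.co.base.one_mem)
    have hgen' : ∀ x : G, f (s, 1) * (m' * y₀) * x * (f (s, 1) * (m' * y₀))⁻¹ =
        f (s, 1) * (m' * (y₀ * x * y₀⁻¹) * m'⁻¹) * (f (s, 1))⁻¹ := by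
      intro x
      group
    refine ⟨f (s, 1) * (m' * y₀), hc1.mul (hm'c.mul hy), ⟨j + c, j + d, h0c, h0d, ?_⟩, ?_, ?_⟩
    · have h2 : SemiconjBy (m' * y₀) (f (s, 1)) (f (u 0 hf, u (j + c) (j + d))) := by
        apply SemiconjBy.mul_left _ hs
        rw [hia, h1, hh] at hmv
        show m' * v = _ * m'
        rw [← hmv]
        group
      refine SemiconjBy.mul_left ?_ h2
      rw [h.semi_iff]
      exact ⟨h.co.z_u _ _, by rw [one_mul, mul_one]⟩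
    · rw [hgen']
      exact f.range.mul_mem (f.range.mul_mem ⟨_, rfl⟩ (hm'V _ k2)) (f.range.inv_mem ⟨_, rfl⟩)
    · rw [hgen']
      exact f.range.mul_mem (f.range.mul_mem ⟨_, rfl⟩ (hm'V _ k3)) (f.range.inv_mem ⟨_, rfl⟩)

/-- Final form of `y`. -/
theorem exists_y {y₀ : G} (hy : Cen f u y₀) {a b c d : ZMod (2 ^ n)} (ha : a + a = 0) (hb : b + b = 0)
    (hc : c + c = 0) (hd : d + d = 0) (hs : SemiconjBy y₀ (f (s, 1)) (f (u a b, u c d)))
    (hab : a = b + 2 ^ (n - 1)) :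
    ∃ (y : G) (i j k : ZMod (2 ^ n)), Cen f u y ∧ i + i = 0 ∧ j + j = 0 ∧ k + k = 0 ∧
      SemiconjBy y (f (s, 1)) (f (u (2 ^ (n - 1)) 0, u i i)) ∧
      SemiconjBy y (f (u (2 ^ (n - 1)) 0, 1)) (f (s, u j j)) ∧
      SemiconjBy y (f (1, s)) (f (u k k, s)) := by
  have hh : (2 : ZMod (2 ^ n)) ^ (n - 1) + 2 ^ (n - 1) = 0 := by
    rw [← two_mul]
    exact two_mul_half n h.co.one_le
  have hh0 : (2 : ZMod (2 ^ n)) ^ (n - 1) ≠ 0 := half_ne_zero n h.co.one_le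
  obtain ⟨y, hyc, ⟨c', d', hc', hd', hys⟩, ⟨⟨x5, x6⟩, hyd⟩, ⟨⟨x3, x4⟩, hyt⟩⟩ :=
    h.exists_y_aux hy ha hb hc hd hs hab
  generalize hf_eq : (2 : ZMod (2 ^ n)) ^ (n - 1) = e at *
  have syd : SemiconjBy y (f (u e 0, 1)) (f (x5, x6)) := by
    show y * _ = _ * y
    rw [hyd]
    group
  have syt : SemiconjBy y (f (1, s)) (f (x3, x4)) := by
    show y * _ = _ * y
    rw [hyt]
    group
  -- transport of relations
  have trans : ∀ {a₁ a₂ b₁ b₂ : G}, SemiconjBy y a₁ b₁ → SemiconjBy y a₂ b₂ → a₁ = a₂ → b₁ = b₂ := by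
    intro a₁ a₂ b₁ b₂ h1 h2 h3
    have h4 : b₁ * y = b₂ * y := by rw [← h1.eq, ← h2.eq, h3]
    exact mul_right_cancel h4
  -- `x6 ∈ base`, from commuting with `D`
  have hx6c : ∀ p q, x6 * u p q = u p q * x6 := by
    intro p q
    have h1 := trans (syd.mul_right (hyc 0 p q)) ((hyc 0 p q).mul_right syd) (by
      rw [h.wr.f_mul_f, h.wr.f_mul_f, h.co.u_mul, h.co.u_mul, one_mul, mul_one]
      congr 3 <;> ring)
    rw [h.wr.f_mul_f, h.wr.f_mul_f, h.wr.f_eq_iff, Prod.mk.injEq] at h1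
    exact h1.2
  have hx6b : ∃ p q, x6 = u p q := by
    rcases h.co.cases x6 with h1 | ⟨p, q, rfl⟩
    · exact h1
    · exfalso
      have h2 := hx6c e 0
      rw [h.co.uz_mul_u, h.co.u_mul_uz] at h2
      have h3 := (h.co.u_inj _ _ _ _ (mul_right_cancel h2)).1
      apply hh0
      have : p + 0 = e + p := h3
      linear_combination -this
  obtain ⟨p6, q6, rfl⟩ := hx6b
  -- `x4` acts as `s`
  have hx4c : ∀ p q, x4 * u p q = u q p * x4 := by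
    intro p q
    have h1 := trans (syt.mul_right (hyc 0 p q)) ((hyc 0 q p).mul_right syt) (by
      rw [h.wr.f_mul_f, h.wr.f_mul_f, h.co.z_u, h.co.u_zero])
    rw [h.wr.f_mul_f, h.wr.f_mul_f, h.wr.f_eq_iff, Prod.mk.injEq] at h1
    exact h1.2
  have hx4b : ∃ p q, x4 = u p q * s := by
    rcases h.co.cases x4 with ⟨p, q, rfl⟩ | h1
    · exfalso
      have h2 := hx4c e 0
      rw [h.co.u_mul, h.co.u_mul] at h2
      have h3 := (h.co.u_inj _ _ _ _ h2).1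
      apply hh0
      linear_combination h3
    · exact h1
  obtain ⟨p4, q4, rfl⟩ := hx4b
  -- `(s,1)` commutes with `(1,s)`
  have r1 := trans (hys.mul_right syt) (syt.mul_right hys) (by
    rw [h.wr.f_mul_f, h.wr.f_mul_f]
    simp only [one_mul, mul_one])
  rw [h.wr.f_mul_f, h.wr.f_mul_f, h.wr.f_eq_iff, Prod.mk.injEq] at r1
  -- `c' = d'`
  have hcd : d' = c' := by
    have h2 := r1.2
    rw [h.co.u_mul_uz, h.co.uz_mul_u] at h2
    have h3 := (h.co.u_inj _ _ _ _ (mul_right_cancel h2)).1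
    linear_combination -h3
  subst hcd
  -- `x3 ∈ base`
  have hx3b : ∃ p q, x3 = u p q := by
    rcases h.co.cases x3 with h1 | ⟨p, q, rfl⟩
    · exact h1
    · exfalso
      have h2 := r1.1
      rw [h.co.u_mul_uz, h.co.uz_mul_u] at h2
      have h3 := (h.co.u_inj _ _ _ _ (mul_right_cancel h2)).1
      apply hh0
      linear_combination h3
  obtain ⟨p3, q3, rfl⟩ := hx3b
  -- `(d,1)(s,1) = (s,1)(d,1)(ζ,1)`
  have r2 := trans (syd.mul_right hys) ((hys.mul_right syd).mul_right (hyc e 0 0)) (by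
    rw [h.wr.f_mul_f, h.wr.f_mul_f, h.wr.f_mul_f, h.co.z_u, mul_assoc, h.co.z_u, ← mul_assoc, h.co.u_mul,
      h.co.u_zero, mul_one, mul_one, zero_add, hh])
  rw [h.wr.f_mul_f, h.wr.f_mul_f, h.wr.f_mul_f, h.wr.f_eq_iff, Prod.mk.injEq] at r2
  have hx5b : ∃ p q, x5 = u p q * s := by
    rcases h.co.cases x5 with ⟨p, q, rfl⟩ | h1
    · exfalso
      have h2 := r2.1
      rw [h.co.u_mul, h.co.u_mul, h.co.u_mul] at h2
      have h3 := (h.co.u_inj _ _ _ _ h2).1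
      apply hh0
      linear_combination -h3
    · exact h1
  obtain ⟨p5, q5, rfl⟩ := hx5b
  -- involutions
  have r3 := trans (syd.mul_right syd) (hyc 0 0 0) (by
    rw [h.wr.f_mul_f, h.co.u_mul, h.co.u_zero, hh, mul_one, add_zero, h.co.u_zero])
  rw [h.wr.f_mul_f, h.wr.f_eq_iff, Prod.mk.injEq, h.co.uz_mul_uz, h.co.u_mul] at r3
  have r4 := trans (syt.mul_right syt) (hyc 0 0 0) (by
    rw [h.wr.f_mul_f, h.co.z_z, mul_one, h.co.u_zero])
  rw [h.wr.f_mul_f, h.wr.f_eq_iff, Prod.mk.injEq, h.co.uz_mul_uz, h.co.u_mul] at r4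
  have h56 : q5 = -p5 := by
    have := (h.co.u_inj _ _ _ _ r3.1).1
    linear_combination this
  have h44 : q4 = -p4 := by
    have := (h.co.u_inj _ _ _ _ r4.2).1
    linear_combination this
  subst h56 h44
  -- `(d,1)` commutes with `(1,s)`
  have r5 := trans (syd.mul_right syt) (syt.mul_right syd) (by
    rw [h.wr.f_mul_f, h.wr.f_mul_f]
    simp only [one_mul, mul_one])
  rw [h.wr.f_mul_f, h.wr.f_mul_f, h.wr.f_eq_iff, Prod.mk.injEq, h.co.u_mul_uz, h.co.uz_mul_u, h.co.u_mul_uz,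
    h.co.uz_mul_u] at r5
  have h33 : q3 = p3 := by
    have := (h.co.u_inj _ _ _ _ (mul_right_cancel r5.1)).1
    linear_combination this
  have h66 : q6 = p6 := by
    have := (h.co.u_inj _ _ _ _ (mul_right_cancel r5.2)).1
    linear_combination -this
  subst h33 h66
  have h3z : q3 + q3 = 0 := (h.co.u_inj _ _ _ _ r4.1).1
  have h6z : q6 + q6 = 0 := (h.co.u_inj _ _ _ _ r3.2).1
  -- adjust by an element of `A`
  have ha1 : Cen f u (f (u (-p5) 0, u (-p4) 0)) := h.cen_f (h.co.u_mem_base _ _)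
  refine ⟨f (u (-p5) 0, u (-p4) 0) * y, d', q6, q3, ha1.mul hyc, hc', h6z, h3z, ?_, ?_, ?_⟩
  · refine SemiconjBy.mul_left ?_ hys
    rw [h.semi_iff]
    exact ⟨h.co.u_comm _ _ _ _, h.co.u_comm _ _ _ _⟩
  · refine SemiconjBy.mul_left ?_ syd
    rw [h.semi_iff]
    refine ⟨?_, h.co.u_comm _ _ _ _⟩
    rw [h.co.u_mul_uz, h.co.z_u]
    congr 2 <;> ring
  · refine SemiconjBy.mul_left ?_ syt
    rw [h.semi_iff]
    refine ⟨h.co.u_comm _ _ _ _, ?_⟩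
    rw [h.co.u_mul_uz, h.co.z_u]
    congr 2 <;> ring

end Ctx

end Cfsg.Agent.TypeLFive.WRho
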