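import Mathlib
import Cfsg.Agent.TypeLFive.WRhoMove

/-!
# S0511, wreathed case: construction of `ρ` from `y`
-/

set_option autoImplicit false

namespace Cfsg.Agent.TypeLFive.WRho

open Cfsg.Agent.TypeLFive.Model Cfsg.Agent.TwoFusion.QDBasic Cfsg.Agent.TwoFusion.WreathedBasic

variable {G W : Type*} [Group G] [Group W] {S : Sylow 2 G} {f : W × W →* G} {w : G} {n : ℕ}
  {u : ZMod (2 ^ n) → ZMod (2 ^ n) → W} {s : W}

theorem quarter_add (hn : 2 ≤ n) : (2 : ZMod (2 ^ n)) ^ (n - 2) + 2 ^ (n - 2) = 2 ^ (n - 1) := by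
  obtain ⟨m, rfl⟩ : ∃ m, n = m + 2 := ⟨n - 2, by omega⟩
  have h1 : m + 2 - 2 = m := by omega
  have h2 : m + 2 - 1 = m + 1 := by omega
  rw [h1, h2, pow_succ]
  ring

namespace Ctx

/-- The conjugating element `ρ` with the unknown `v = u j j`. -/
theorem exists_rho_of_y (h : Ctx S f w u s) {y : G} {i j k : ZMod (2 ^ n)} (hy : Cen f u y)
    (h1 : SemiconjBy y (f (s, 1)) (f (u (2 ^ (n - 1)) 0, u i i)))
    (h2 : SemiconjBy y (f (u (2 ^ (n - 1)) 0, 1)) (f (s, u j j)))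
    (h3 : SemiconjBy y (f (1, s)) (f (u k k, s))) :
    ∃ ρ : G, (∀ a x, SemiconjBy ρ (f (u a a, x)) (f (u a a, x))) ∧
      SemiconjBy ρ (f (u (-(2 ^ (n - 2))) (2 ^ (n - 2)), 1)) (f (u (2 ^ (n - 2)) (2 ^ (n - 2)) * s, u j j)) ∧
      SemiconjBy ρ (f (u (2 ^ (n - 2)) (2 ^ (n - 2)) * s, u j j))
        (f (u (-(2 ^ (n - 2))) (2 ^ (n - 2)) * (u (2 ^ (n - 2)) (2 ^ (n - 2)) * s), u j j)) := by
  have hq := quarter_add (n := n) h.co.two_le
  have he : (2 : ZMod (2 ^ n)) ^ (n - 1) + 2 ^ (n - 1) = 0 := by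
    rw [← two_mul]
    exact two_mul_half n h.co.one_le
  generalize (2 : ZMod (2 ^ n)) ^ (n - 1) = e at *
  generalize (2 : ZMod (2 ^ n)) ^ (n - 2) = q at *
  have r : ∀ x a b : W, x * a * x⁻¹ = b → SemiconjBy (f (x, 1)) (f (a, 1)) (f (b, 1)) := by
    intro x a b hx
    rw [h.semi_iff]
    exact ⟨by rw [← hx]; group, rfl⟩
  set r₀ : G := f (u q 0, 1) with hr₀
  -- `r₀`
  have r₀c : Cen f u r₀ := h.cen_f h.co.base.one_mem
  have r₀d : SemiconjBy r₀ (f (u e 0, 1)) (f (u e 0, 1)) := by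
    rw [h.semi_iff]
    exact ⟨h.co.u_comm _ _ _ _, rfl⟩
  have r₀t : SemiconjBy r₀ (f (1, s)) (f (1, s)) := by
    rw [h.semi_iff]
    simp only [one_mul, mul_one, and_self]
  have r₀s : SemiconjBy r₀ (f (s, 1)) (f (u q (-q) * s, 1)) := by
    rw [h.semi_iff, h.co.uz_mul_u]
    refine ⟨?_, rfl⟩
    congr 2 <;> ring
  -- `y⁻¹`
  have y1 := h1.inv_symm_left
  have y2 := h2.inv_symm_left
  have y3 := h3.inv_symm_left
  have yc := hy.inv
  set X : G := y * r₀ * y⁻¹ with hX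
  have Xc : Cen f u X := (hy.mul r₀c).mul yc
  have e1 : (1 : W) = u 0 0 := h.co.u_zero.symm
  -- `X` centralises `(1, s)`
  have Xt : SemiconjBy X (f (1, s)) (f (1, s)) := by
    have a1 : f (1, s) = f (u (-k) (-k), u 0 0) * f (u k k, s) := by
      rw [h.wr.f_mul_f, h.co.u_mul, h.co.u_zero, neg_add_cancel, h.co.u_zero, one_mul]
    have b1 : SemiconjBy y⁻¹ (f (1, s)) (f (u (-k) (-k), u 0 0) * f (1, s)) := by
      have := (yc (-k) 0 0).mul_right y3
      rwa [← a1] at this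
    have b2 : SemiconjBy r₀ (f (u (-k) (-k), u 0 0) * f (1, s)) (f (u (-k) (-k), u 0 0) * f (1, s)) :=
      (r₀c (-k) 0 0).mul_right r₀t
    have b3 : SemiconjBy y (f (u (-k) (-k), u 0 0) * f (1, s)) (f (1, s)) := by
      have := (hy (-k) 0 0).mul_right h3
      rwa [← a1] at this
    exact (b3.mul_left b2).mul_left b1
  -- `X` centralises `(s, 1)`
  have Xs : SemiconjBy X (f (s, 1)) (f (s, 1)) := by
    have a1 : f (s, 1) = f (s, u j j) * f (u 0 0, u (-j) (-j)) := by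
      rw [h.wr.f_mul_f, h.co.u_mul, h.co.u_zero, mul_one, add_neg_cancel, h.co.u_zero]
    have b1 : SemiconjBy y⁻¹ (f (s, 1)) (f (u e 0, 1) * f (u 0 0, u (-j) (-j))) := by
      have := y2.mul_right (yc 0 (-j) (-j))
      rwa [← a1] at this
    have b2 : SemiconjBy r₀ (f (u e 0, 1) * f (u 0 0, u (-j) (-j))) (f (u e 0, 1) * f (u 0 0, u (-j) (-j))) :=
      r₀d.mul_right (r₀c 0 (-j) (-j))
    have b3 : SemiconjBy y (f (u e 0, 1) * f (u 0 0, u (-j) (-j))) (f (s, 1)) := by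
      have := h2.mul_right (hy 0 (-j) (-j))
      rwa [← a1] at this
    exact (b3.mul_left b2).mul_left b1
  -- the image of `(d, 1)`
  have Xd : SemiconjBy X (f (u e 0, 1)) (f (u (-q) q * s, u j j)) := by
    have a1 : f (u e 0, 1) = f (u e 0, u i i) * f (u 0 0, u (-i) (-i)) := by
      rw [h.wr.f_mul_f, h.co.u_mul, h.co.u_mul, add_neg_cancel, h.co.u_zero, add_zero, add_zero]
    have b1 : SemiconjBy y⁻¹ (f (u e 0, 1)) (f (s, 1) * f (u 0 0, u (-i) (-i))) := by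
      have := y1.mul_right (yc 0 (-i) (-i))
      rwa [← a1] at this
    have b2 : SemiconjBy r₀ (f (s, 1) * f (u 0 0, u (-i) (-i)))
        (f (u q (-q) * s, 1) * f (u 0 0, u (-i) (-i))) := r₀s.mul_right (r₀c 0 (-i) (-i))
    have a2 : f (u q (-q) * s, 1) * f (u 0 0, u (-i) (-i)) =
        f (u e 0, 1) * (f (u (-q) (-q), u 0 0) * (f (s, 1) * f (u 0 0, u (-i) (-i)))) := by
      rw [h.wr.f_mul_f, h.wr.f_mul_f, h.wr.f_mul_f, h.wr.f_mul_f, h.co.u_zero, mul_one, mul_one, one_mul,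
        one_mul, one_mul, ← mul_assoc, h.co.u_mul]
      congr 3
      congr 1
      · linear_combination hq
      · ring
    have b3 : SemiconjBy y (f (u q (-q) * s, 1) * f (u 0 0, u (-i) (-i)))
        (f (s, u j j) * (f (u (-q) (-q), u 0 0) * (f (u e 0, u i i) * f (u 0 0, u (-i) (-i))))) := by
      rw [a2]
      exact h2.mul_right ((hy (-q) 0 0).mul_right (h1.mul_right (hy 0 (-i) (-i))))
    have a3 : f (s, u j j) * (f (u (-q) (-q), u 0 0) * (f (u e 0, u i i) * f (u 0 0, u (-i) (-i)))) =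
        f (u (-q) q * s, u j j) := by
      rw [← a1, h.wr.f_mul_f, h.wr.f_mul_f, h.co.u_mul, h.co.z_u, h.co.u_zero, mul_one, mul_one]
      congr 3
      congr 1
      · ring
      · linear_combination -hq
    rw [a3] at b3
    exact (b3.mul_left b2).mul_left b1
  -- `ρ₀`
  set ρ₀ : G := r₀ * X with hρ₀
  have ρc : Cen f u ρ₀ := r₀c.mul Xc
  have ρt : SemiconjBy ρ₀ (f (1, s)) (f (1, s)) := r₀t.mul_left Xt
  have ρs : SemiconjBy ρ₀ (f (s, 1)) (f (u q (-q) * s, 1)) := r₀s.mul_left Xs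
  have ρd : SemiconjBy ρ₀ (f (u e 0, 1)) (f (s, u j j)) := by
    refine SemiconjBy.mul_left ?_ Xd
    rw [h.semi_iff]
    constructor
    · rw [h.co.u_mul_uz, h.co.z_u, add_neg_cancel, zero_add]
    · rw [one_mul, mul_one]
  -- the element `j`
  have jc : Cen f u (f (u q q * s, 1)) := h.cen_f h.co.base.one_mem
  have jt : SemiconjBy (f (u q q * s, 1)) (f (1, s)) (f (1, s)) := by
    rw [h.semi_iff]
    simp only [one_mul, mul_one, and_self]
  refine ⟨f (u q q * s, 1) * ρ₀, ?_, ?_, ?_⟩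
  · -- centralises `Z(W₁) × W₂`
    have c1 := jc.mul ρc
    have c2 : SemiconjBy (f (u q q * s, 1) * ρ₀) (f (1, s)) (f (1, s)) := jt.mul_left ρt
    intro a x
    rcases h.co.cases x with ⟨b, c, rfl⟩ | ⟨b, c, rfl⟩
    · exact c1 a b c
    · have a1 : f (u a a, u b c * s) = f (u a a, u b c) * f (1, s) := by
        rw [h.wr.f_mul_f, mul_one]
      rw [a1]
      exact (c1 a b c).mul_right c2
  · -- `i ↦ j`
    have a1 : f (u (-q) q, 1) = f (u e 0, 1) * f (u q q, u 0 0) := by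
      rw [h.wr.f_mul_f, h.co.u_mul, h.co.u_zero, mul_one, zero_add]
      congr 3
      linear_combination -hq - he
    rw [a1]
    have b1 : SemiconjBy ρ₀ (f (u e 0, 1) * f (u q q, u 0 0)) (f (s, u j j) * f (u q q, u 0 0)) :=
      ρd.mul_right (ρc q 0 0)
    refine SemiconjBy.mul_left ?_ b1
    rw [h.wr.f_mul_f, h.co.z_u, h.co.u_zero, mul_one, h.semi_iff]
    refine ⟨rfl, ?_⟩
    rw [one_mul, mul_one]
  · have a1 : f (u q q * s, u j j) = f (u q q, u j j) * f (s, 1) := by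
      rw [h.wr.f_mul_f, mul_one]
    have b1 : SemiconjBy ρ₀ (f (u q q * s, u j j)) (f (u q q, u j j) * f (u q (-q) * s, 1)) := by
      rw [a1]
      exact (ρc q j j).mul_right ρs
    refine SemiconjBy.mul_left ?_ b1
    rw [h.wr.f_mul_f, mul_one, h.semi_iff, one_mul, mul_one, h.co.u_mul_uz, h.co.u_mul_uz, h.co.uz_mul_uz,
      h.co.uz_mul_uz]
    refine ⟨?_, rfl⟩
    congr 1
    · ring
    · ring

end Ctx

end Cfsg.Agent.TypeLFive.WRho
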