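import Mathlib
import Cfsg.Agent.TypeLFive.WRhoMake

/-!
# S0511, wreathed case: transfer of `(s, 1)` into `A`, with `⟨(s,1)⟩ × D` moved into `A`
-/

set_option autoImplicit false

namespace Cfsg.Agent.TypeLFive.WRho

open Cfsg.Agent.TypeLFive.Model Cfsg.Agent.TwoFusion.QDBasic Cfsg.Agent.TwoFusion.WreathedBasic

/-- counting in a subgroup meeting `T` in index at most two -/
theorem card_le_two_mul {G : Type*} [Group G] [Finite G] {K T : Subgroup G}
    (hT : ∀ a ∈ K, ∀ b ∈ K, a ∉ T → b ∉ T → a * b⁻¹ ∈ T) :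
    Nat.card K ≤ 2 * Nat.card (K ⊓ T : Subgroup G) := by
  by_cases hK : K ≤ T
  · rw [inf_eq_left.2 hK]
    omega
  · obtain ⟨r, hrK, hrT⟩ := SetLike.not_le_iff_exists.1 hK
    let φ : (K ⊓ T : Subgroup G) × Bool → K := fun p =>
      ⟨p.1 * (if p.2 then r else 1), K.mul_mem p.1.2.1 (by
        split_ifs
        · exact hrK
        · exact K.one_mem)⟩
    have hφ : Function.Surjective φ := by
      rintro ⟨g, hg⟩
      by_cases hgT : g ∈ T
      · exact ⟨(⟨g, hg, hgT⟩, false), Subtype.ext (by simp [φ])⟩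
      · exact ⟨(⟨g * r⁻¹, K.mul_mem hg (K.inv_mem hrK), hT g hg r hrK hgT hrT⟩, true),
          Subtype.ext (by simp [φ])⟩
    have h1 := Nat.card_le_card_of_surjective φ hφ
    rw [Nat.card_prod] at h1
    have h2 : Nat.card Bool = 2 := by simp
    rw [h2, mul_comm] at h1
    exact h1

section coord

variable {W : Type*} [Group W] {n : ℕ} {u : ZMod (2 ^ n) → ZMod (2 ^ n) → W} {s : W}

/-- centralisers of elements outside the base -/
theorem cent_forms (hc : IsWCoord n u s) {x : W} (hx : x ∉ hc.base) {y : W} (hy : y * x = x * y) :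
    (∃ c, y = u c c) ∨ ∃ c, y = u c c * x := by
  obtain ⟨a, b, rfl⟩ := (hc.not_mem_base x).1 hx
  rcases hc.cases y with ⟨c, d, rfl⟩ | ⟨c, d, rfl⟩
  · left
    rw [hc.u_mul_uz, hc.uz_mul_u] at hy
    have h1 := (hc.u_inj _ _ _ _ (mul_right_cancel hy)).1
    refine ⟨c, ?_⟩
    congr 1
    linear_combination -h1
  · right
    rw [hc.uz_mul_uz, hc.uz_mul_uz] at hy
    have h1 := (hc.u_inj _ _ _ _ hy).1
    refine ⟨c - a, ?_⟩
    rw [hc.u_mul_uz]
    congr 1
    congr 1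
    · ring
    · linear_combination -h1

theorem card_cent_le (hc : IsWCoord n u s) {x : W} (hx : x ∉ hc.base) :
    Nat.card (Subgroup.centralizer ({x} : Set W)) ≤ 2 ^ (n + 1) := by
  have hfin : Finite W := hc.finite
  let φ : ZMod (2 ^ n) × Bool → Subgroup.centralizer ({x} : Set W) := fun p =>
    ⟨u p.1 p.1 * (if p.2 then x else 1), by
      rw [Subgroup.mem_centralizer_singleton_iff]
      obtain ⟨a, b, rfl⟩ := (hc.not_mem_base x).1 hx
      split_ifs
      · rw [hc.u_mul_uz, hc.uz_mul_uz, hc.uz_mul_uz]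
        congr 1 <;> ring
      · rw [mul_one, hc.u_mul_uz, hc.uz_mul_u]
        congr 2 <;> ring⟩
  have hφ : Function.Surjective φ := by
    rintro ⟨y, hy⟩
    rw [Subgroup.mem_centralizer_singleton_iff] at hy
    rcases cent_forms hc hx hy with ⟨c, rfl⟩ | ⟨c, rfl⟩
    · exact ⟨(c, false), Subtype.ext (by simp [φ])⟩
    · exact ⟨(c, true), Subtype.ext (by simp [φ])⟩
  have h1 := Nat.card_le_card_of_surjective φ hφ
  rw [Nat.card_prod, Nat.card_zmod] at h1
  have h2 : Nat.card Bool = 2 := by simp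
  rw [h2] at h1
  rw [pow_succ]
  exact h1

theorem le_card_cent_s (hc : IsWCoord n u s) :
    2 ^ (n + 1) ≤ Nat.card (Subgroup.centralizer ({s} : Set W)) := by
  have hfin : Finite W := hc.finite
  let φ : ZMod (2 ^ n) × Bool → Subgroup.centralizer ({s} : Set W) := fun p =>
    ⟨u p.1 p.1 * (if p.2 then s else 1), by
      rw [Subgroup.mem_centralizer_singleton_iff]
      split_ifs
      · rw [mul_assoc, hc.z_z, ← mul_assoc, hc.z_u, mul_assoc, hc.z_z]
      · rw [mul_one, hc.z_u]⟩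
  have hφ : Function.Injective φ := by
    rintro ⟨a, i⟩ ⟨b, j⟩ hp
    have h1 : u a a * (if i then s else 1) = u b b * (if j then s else 1) := congrArg Subtype.val hp
    cases i <;> cases j
    · simp only [Bool.false_eq_true, if_false, mul_one] at h1
      rw [(hc.u_inj _ _ _ _ h1).1]
    · simp only [Bool.false_eq_true, if_false, if_true, mul_one] at h1
      exact absurd h1 (hc.u_ne _ _ _ _)
    · simp only [Bool.false_eq_true, if_false, if_true, mul_one] at h1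
      exact absurd h1.symm (hc.u_ne _ _ _ _)
    · simp only [if_true] at h1
      rw [(hc.u_inj _ _ _ _ (mul_right_cancel h1)).1]
  have h1 := Nat.card_le_card_of_injective φ hφ
  rw [Nat.card_prod, Nat.card_zmod] at h1
  have h2 : Nat.card Bool = 2 := by simp
  rw [h2] at h1
  rw [pow_succ]
  exact h1

end coord

variable {G W : Type*} [Group G] [Group W] {S : Sylow 2 G} {f : W × W →* G} {w : G} {n : ℕ}
  {u : ZMod (2 ^ n) → ZMod (2 ^ n) → W} {s : W}

namespace Ctx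

variable (h : Ctx S f w u s)
include h

theorem base_iff {x y : W} : x * y ∈ h.co.base ↔ (x ∈ h.co.base ↔ y ∈ h.co.base) :=
  Subgroup.mul_mem_iff_of_index_two h.co.index_base

omit h in
/-- the maximal subgroup `M` -/
def M (h : Ctx S f w u s) : Subgroup G where
  carrier := {g | (∃ x y, g = f (x, y) ∧ (x ∈ h.co.base ↔ y ∈ h.co.base)) ∨
    ∃ x y, g = f (x, y) * w ∧ ¬ (x ∈ h.co.base ↔ y ∈ h.co.base)}
  one_mem' := Or.inl ⟨1, 1, (map_one f).symm, Iff.rfl⟩
  mul_mem' := by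
    rintro _ _ (⟨x, y, rfl, hxy⟩ | ⟨x, y, rfl, hxy⟩) (⟨x', y', rfl, hxy'⟩ | ⟨x', y', rfl, hxy'⟩)
    · refine Or.inl ⟨x * x', y * y', h.wr.f_mul_f _ _ _ _, ?_⟩
      rw [h.base_iff, h.base_iff]
      tauto
    · refine Or.inr ⟨x * x', y * y', h.wr.f_mul_fw _ _ _ _, ?_⟩
      rw [h.base_iff, h.base_iff]
      tauto
    · refine Or.inr ⟨x * y', y * x', h.wr.fw_mul_f _ _ _ _, ?_⟩
      rw [h.base_iff, h.base_iff]
      tauto
    · refine Or.inl ⟨x * y', y * x', h.wr.fw_mul_fw _ _ _ _, ?_⟩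
      rw [h.base_iff, h.base_iff]
      tauto
  inv_mem' := by
    rintro _ (⟨x, y, rfl, hxy⟩ | ⟨x, y, rfl, hxy⟩)
    · refine Or.inl ⟨x⁻¹, y⁻¹, by rw [← map_inv]; rfl, ?_⟩
      rw [inv_mem_iff, inv_mem_iff]
      exact hxy
    · refine Or.inr ⟨y⁻¹, x⁻¹, h.wr.fw_inv _ _, ?_⟩
      rw [inv_mem_iff, inv_mem_iff]
      tauto

theorem M_le : h.M ≤ (S : Subgroup G) := by
  rintro _ (⟨x, y, rfl, -⟩ | ⟨x, y, rfl, -⟩)
  · exact h.wr.mem _
  · exact h.wr.fw_mem _

theorem s1_not_mem_M : f (s, 1) ∉ h.M := by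
  rintro (⟨x, y, h1, h2⟩ | ⟨x, y, h1, h2⟩)
  · rw [h.wr.f_eq_iff, Prod.mk.injEq] at h1
    rw [← h1.1, ← h1.2] at h2
    exact h.co.z_not_mem_base (h2.2 h.co.base.one_mem)
  · exact h.wr.f_ne_fw _ _ h1

theorem M_cases {g : G} (hg : g ∈ (S : Subgroup G)) (hgM : g ∉ h.M) : g * f (s, 1) ∈ h.M := by
  rcases h.wr.cases g hg with ⟨x, y, rfl⟩ | ⟨x, y, rfl⟩
  · have h1 : ¬ (x ∈ h.co.base ↔ y ∈ h.co.base) := fun h1 => hgM (Or.inl ⟨x, y, rfl, h1⟩)
    refine Or.inl ⟨x * s, y, by rw [h.wr.f_mul_f, mul_one], ?_⟩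
    rw [h.base_iff]
    have := h.co.z_not_mem_base
    tauto
  · have h1 : (x ∈ h.co.base ↔ y ∈ h.co.base) := by
      by_contra h1
      exact hgM (Or.inr ⟨x, y, rfl, h1⟩)
    refine Or.inr ⟨x, y * s, by rw [h.wr.fw_mul_f, mul_one], ?_⟩
    rw [h.base_iff]
    have := h.co.z_not_mem_base
    tauto

theorem M_relIndex : h.M.relIndex (S : Subgroup G) = 2 := by
  rw [Subgroup.relIndex, Subgroup.index_eq_two_iff]
  refine ⟨⟨f (s, 1), h.wr.mem _⟩, ?_⟩
  rintro ⟨g, hg⟩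
  by_cases hgM : g ∈ h.M
  · right
    refine ⟨hgM, ?_⟩
    intro h1
    have h2 : g * f (s, 1) ∈ h.M := h1
    exact h.s1_not_mem_M ((h.M.mul_mem_cancel_left hgM).1 h2)
  · left
    exact ⟨h.M_cases hg hgM, hgM⟩

/-- `C_S((s,1))` -/
theorem R_isPGroup : IsPGroup 2 (((Subgroup.centralizer ({s} : Set W)).prod ⊤).map f) :=
  S.isPGroup'.to_le (by
    rintro _ ⟨x, -, rfl⟩
    exact h.wr.mem x)

theorem card_map_prod (K L : Subgroup W) : Nat.card ((K.prod L).map f) = Nat.card K * Nat.card L := by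
  rw [← Nat.card_prod, Nat.card_congr (K.prodEquiv L).toEquiv.symm]
  exact Nat.card_congr ((K.prod L).equivMapOfInjective f h.wr.inj).symm.toEquiv

theorem mul_inv_mem_range {K : Subgroup G} (hK : K ≤ (S : Subgroup G)) :
    ∀ a ∈ K, ∀ b ∈ K, a ∉ f.range → b ∉ f.range → a * b⁻¹ ∈ f.range := by
  intro a ha b hb ha' hb'
  rcases h.wr.cases a (hK ha) with ⟨x, y, rfl⟩ | ⟨x, y, rfl⟩
  · exact absurd ⟨_, rfl⟩ ha'
  rcases h.wr.cases b (hK hb) with ⟨x', y', rfl⟩ | ⟨x', y', rfl⟩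
  · exact absurd ⟨_, rfl⟩ hb'
  rw [mul_inv_rev, ← mul_assoc, mul_inv_cancel_right, ← map_inv, ← map_mul]
  exact ⟨_, rfl⟩

variable [Finite G]

theorem card_bound {K : Subgroup G} (hK : K ≤ (S : Subgroup G)) :
    Nat.card K ≤ 2 * Nat.card (K ⊓ f.range : Subgroup G) :=
  card_le_two_mul (h.mul_inv_mem_range hK)

/-- transfer -/
theorem exists_g (hG : ∀ φ : G →* ℤˣ, ∀ x, φ x = 1) :
    ∃ g : G, g * f (s, 1) * g⁻¹ ∈ h.A ∧
      ∀ x y, x * s = s * x → g * f (x, y) * g⁻¹ ∈ (S : Subgroup G) := by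
  have hfin : Finite W := h.co.finite
  obtain ⟨g, hg1, hg2⟩ := SylowSp4.ExtTransfer.exists_extremal S h.M h.M_le h.M_relIndex (f (s, 1)) (by
    rw [h.wr.f_mul_f, h.co.z_z, one_mul]
    exact map_one f) (fun φ => hG φ _) _ h.R_isPGroup (by
    rintro _ ⟨⟨x, y⟩, hxy, rfl⟩
    rw [SetLike.mem_coe, Subgroup.mem_prod, Subgroup.mem_centralizer_singleton_iff] at hxy
    rw [h.wr.f_mul_f, h.wr.f_mul_f, hxy.1, one_mul, mul_one])
  have hg3 : ∀ x y, x * s = s * x → g * f (x, y) * g⁻¹ ∈ (S : Subgroup G) := by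
    intro x y hx
    exact hg2 _ ⟨(x, y), Subgroup.mem_prod.2 ⟨Subgroup.mem_centralizer_singleton_iff.2 hx, trivial⟩, rfl⟩
  refine ⟨g, ?_, hg3⟩
  have hvv : g * f (s, 1) * g⁻¹ * (g * f (s, 1) * g⁻¹) = 1 := by
    have h1 : g * f (s, 1) * g⁻¹ * (g * f (s, 1) * g⁻¹) = g * (f (s, 1) * f (s, 1)) * g⁻¹ := by group
    have h2 : f ((1 : W), (1 : W)) = 1 := map_one f
    rw [h1, h.wr.f_mul_f, h.co.z_z, one_mul, h2]
    group
  rcases hg1 with ⟨x, y, hxy, hxy'⟩ | ⟨x, y, hxy, hxy'⟩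
  · by_cases hx : x ∈ h.co.base
    · have hy := hxy'.1 hx
      obtain ⟨a, b, rfl⟩ := hx
      obtain ⟨c, d, rfl⟩ := hy
      rw [hxy]
      exact h.f_mem_A _ _ _ _
    · exfalso
      have hy : y ∉ h.co.base := fun hy => hx (hxy'.2 hy)
      set R : Subgroup G := ((Subgroup.centralizer ({s} : Set W)).prod ⊤).map f with hR
      let R' : Subgroup G := R.map (MulAut.conj g).toMonoidHom
      have hR'S : R' ≤ (S : Subgroup G) := by
        rintro _ ⟨r, hr, rfl⟩
        exact hg2 r hr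
      have hR'c : Nat.card R' = Nat.card R :=
        Nat.card_congr (R.equivMapOfInjective _ (MulAut.conj g).injective).symm.toEquiv
      have h1 := h.card_bound hR'S
      have h2 : R' ⊓ f.range ≤ ((Subgroup.centralizer ({x} : Set W)).prod (Subgroup.centralizer ({y} : Set W))).map f := by
        rintro r ⟨⟨r', hr', hrr⟩, ⟨⟨p, q⟩, hpq⟩⟩
        obtain ⟨⟨x', y'⟩, hx'y', rfl⟩ := hr'
        rw [SetLike.mem_coe, Subgroup.mem_prod, Subgroup.mem_centralizer_singleton_iff] at hx'y'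
        have hc : r * f (x, y) = f (x, y) * r := by
          rw [← hxy, ← hrr]
          show g * f (x', y') * g⁻¹ * (g * f (s, 1) * g⁻¹) = g * f (s, 1) * g⁻¹ * (g * f (x', y') * g⁻¹)
          have h3 : f (x', y') * f (s, 1) = f (s, 1) * f (x', y') := by
            rw [h.wr.f_mul_f, h.wr.f_mul_f, hx'y'.1, one_mul, mul_one]
          calc g * f (x', y') * g⁻¹ * (g * f (s, 1) * g⁻¹) = g * (f (x', y') * f (s, 1)) * g⁻¹ := by group
            _ = g * (f (s, 1) * f (x', y')) * g⁻¹ := by rw [h3]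
            _ = _ := by group
        rw [← hpq, h.wr.f_comm_f_iff] at hc
        exact ⟨(p, q), Subgroup.mem_prod.2 ⟨Subgroup.mem_centralizer_singleton_iff.2 hc.1,
          Subgroup.mem_centralizer_singleton_iff.2 hc.2⟩, hpq⟩
      have h3 := Subgroup.card_le_of_le h2
      rw [h.card_map_prod] at h3
      have h4 := card_cent_le h.co hx
      have h5 := card_cent_le h.co hy
      have h6 := le_card_cent_s h.co
      have h7 : Nat.card R = Nat.card (Subgroup.centralizer ({s} : Set W)) * Nat.card W := by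
        rw [hR, h.card_map_prod, Subgroup.card_top]
      rw [h.co.card] at h7
      have h8 : Nat.card R ≤ 2 * (2 ^ (n + 1) * 2 ^ (n + 1)) := by
        rw [← hR'c]
        exact h1.trans (Nat.mul_le_mul_left 2 (h3.trans (Nat.mul_le_mul h4 h5)))
      have h9 : 2 ^ (n + 1) * 2 ^ (2 * n + 1) ≤ 2 * (2 ^ (n + 1) * 2 ^ (n + 1)) := by
        refine le_trans ?_ h8
        rw [h7]
        exact Nat.mul_le_mul_right _ h6
      have h10 : 2 ^ (n + 1 + (2 * n + 1)) ≤ 2 ^ (1 + (n + 1 + (n + 1))) := by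
        calc 2 ^ (n + 1 + (2 * n + 1)) = 2 ^ (n + 1) * 2 ^ (2 * n + 1) := pow_add _ _ _
          _ ≤ 2 * (2 ^ (n + 1) * 2 ^ (n + 1)) := h9
          _ = 2 ^ (1 + (n + 1 + (n + 1))) := by ring
      have h11 := (Nat.pow_le_pow_iff_right (by norm_num : 1 < 2)).1 h10
      have := h.co.two_le
      omega
  · exfalso
    apply hxy'
    rw [hxy, h.wr.fw_sq_eq_one_iff] at hvv
    rw [hvv, inv_mem_iff]

end Ctx

end Cfsg.Agent.TypeLFive.WRho
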