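import Mathlib
import Cfsg.Agent.TypeLFive.WRhoTransfer

/-!
# S0511, wreathed case: the 3-element `ρ`

`exists_rho`: there are `ρ` and `v ∈ Ω₁(Z(W))` such that `ρ` centralises `Z(W₁) × W₂` and maps
`(i, 1) ↦ (j, v) ↦ (i j, v)`.
`exists_isRho`: after a twist of `f` this is `IsRho`.
-/

set_option autoImplicit false

namespace Cfsg.Agent.TypeLFive.WRho

open Cfsg.Agent.TypeLFive.Model Cfsg.Agent.TwoFusion.QDBasic Cfsg.Agent.TwoFusion.WreathedBasic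
open Cfsg.Agent.TypeLFive.Out

variable {G W : Type*} [Group G] [Group W] {S : Sylow 2 G} {f : W × W →* G} {w : G} {n : ℕ}
  {u : ZMod (2 ^ n) → ZMod (2 ^ n) → W} {s : W}

namespace Ctx

/-- `B = (⟨s⟩ × Z(W₁)) × A₀(2)` -/
def B (h : Ctx S f w u s) : Subgroup G := ((Subgroup.centralizer ({s} : Set W)).prod h.co.base).map f

variable (h : Ctx S f w u s)
include h

theorem mem_B {g : G} : g ∈ h.B ↔ ∃ x y, g = f (x, y) ∧ x * s = s * x ∧ y ∈ h.co.base := by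
  constructor
  · rintro ⟨⟨x, y⟩, hxy, rfl⟩
    rw [SetLike.mem_coe, Subgroup.mem_prod, Subgroup.mem_centralizer_singleton_iff] at hxy
    exact ⟨x, y, rfl, hxy.1, hxy.2⟩
  · rintro ⟨x, y, rfl, hx, hy⟩
    exact ⟨(x, y), Subgroup.mem_prod.2 ⟨Subgroup.mem_centralizer_singleton_iff.2 hx, hy⟩, rfl⟩

theorem B_comm {a b : G} (ha : a ∈ h.B) (hb : b ∈ h.B) : a * b = b * a := by
  obtain ⟨x, y, rfl, hx, hy⟩ := h.mem_B.1 ha
  obtain ⟨x', y', rfl, hx', hy'⟩ := h.mem_B.1 hb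
  rw [h.wr.f_comm_f_iff]
  constructor
  · have hs := h.co.z_not_mem_base
    rcases cent_forms h.co hs hx with ⟨c, rfl⟩ | ⟨c, rfl⟩ <;>
      rcases cent_forms h.co hs hx' with ⟨c', rfl⟩ | ⟨c', rfl⟩
    · exact h.co.u_comm _ _ _ _
    · rw [h.co.u_mul_uz, h.co.uz_mul_u]
      congr 2 <;> ring
    · rw [h.co.u_mul_uz, h.co.uz_mul_u]
      congr 2 <;> ring
    · rw [h.co.uz_mul_uz, h.co.uz_mul_uz]
      congr 1 <;> ring
  · obtain ⟨a, b, rfl⟩ := hy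
    obtain ⟨a', b', rfl⟩ := hy'
    exact h.co.u_comm _ _ _ _

theorem le_card_B : 2 ^ (3 * n + 1) ≤ Nat.card h.B := by
  rw [B, h.card_map_prod, h.co.card_base]
  calc 2 ^ (3 * n + 1) = 2 ^ (n + 1) * 2 ^ (2 * n) := by rw [← pow_add]; congr 1; ring
    _ ≤ _ := Nat.mul_le_mul_right _ (le_card_cent_s h.co)

variable [Finite G]

/-- the essential case: all second coordinates lie in the base. -/
theorem caseX {g : G} (hgT : ∀ b ∈ h.B, g * b * g⁻¹ ∈ f.range) (hv : g * f (s, 1) * g⁻¹ ∈ h.A)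
    (hq : ∀ b ∈ h.B, ∀ x y, g * b * g⁻¹ = f (x, y) → y ∈ h.co.base) :
    ∀ b ∈ h.B, g * b * g⁻¹ ∈ h.A := by
  classical
  have hfin : Finite W := h.co.finite
  intro b hb
  obtain ⟨⟨p, q⟩, hpq⟩ := hgT b hb
  have hqb := hq b hb p q hpq.symm
  by_cases hp : p ∈ h.co.base
  · obtain ⟨a, c, rfl⟩ := hp
    obtain ⟨a', c', rfl⟩ := hqb
    rw [← hpq]
    exact h.f_mem_A _ _ _ _
  exfalso
  -- `B' ≤ C_W(p) × A₀`
  let B' : Subgroup G := h.B.map (MulAut.conj g).toMonoidHom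
  have hB'c : Nat.card B' = Nat.card h.B :=
    Nat.card_congr (h.B.equivMapOfInjective _ (MulAut.conj g).injective).symm.toEquiv
  have h1 : B' ≤ ((Subgroup.centralizer ({p} : Set W)).prod h.co.base).map f := by
    rintro _ ⟨b', hb', rfl⟩
    obtain ⟨⟨p', q'⟩, hpq'⟩ := hgT b' hb'
    refine ⟨(p', q'), Subgroup.mem_prod.2 ⟨?_, hq b' hb' p' q' hpq'.symm⟩, hpq'⟩
    rw [Subgroup.mem_centralizer_singleton_iff]
    have h2 : f (p', q') * f (p, q) = f (p, q) * f (p', q') := by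
      rw [hpq, hpq']
      calc g * b' * g⁻¹ * (g * b * g⁻¹) = g * (b' * b) * g⁻¹ := by group
        _ = g * (b * b') * g⁻¹ := by rw [h.B_comm hb' hb]
        _ = _ := by group
    rw [h.wr.f_comm_f_iff] at h2
    exact h2.1
  have h2 : B' = ((Subgroup.centralizer ({p} : Set W)).prod h.co.base).map f := by
    apply Subgroup.eq_of_le_of_card_ge h1
    rw [h.card_map_prod, h.co.card_base, hB'c]
    refine le_trans ?_ h.le_card_B
    calc Nat.card (Subgroup.centralizer ({p} : Set W)) * 2 ^ (2 * n) ≤ 2 ^ (n + 1) * 2 ^ (2 * n) :=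
          Nat.mul_le_mul_right _ (card_cent_le h.co hp)
      _ = 2 ^ (3 * n + 1) := by rw [← pow_add]; congr 1; ring
  -- the involution `v`
  have hs1B : f (s, 1) ∈ h.B := h.mem_B.2 ⟨s, 1, rfl, rfl, h.co.base.one_mem⟩
  obtain ⟨v₁, v₁', v₂, v₂', hv'⟩ := h.mem_A.1 hv
  have hvB : f (u v₁ v₁', u v₂ v₂') ∈ B' := by
    rw [← hv']
    exact ⟨_, hs1B, rfl⟩
  rw [h2] at hvB
  obtain ⟨⟨z₁, z₂⟩, hz, hz'⟩ := hvB
  rw [SetLike.mem_coe, Subgroup.mem_prod, Subgroup.mem_centralizer_singleton_iff] at hz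
  rw [h.wr.f_eq_iff, Prod.mk.injEq] at hz'
  obtain ⟨hz1, hz2⟩ := hz'
  have hzp : u v₁ v₁' * p = p * u v₁ v₁' := by
    rw [← hz1]
    exact hz.1
  have hv11 : v₁' = v₁ := by
    obtain ⟨a, c, rfl⟩ := (h.co.not_mem_base p).1 hp
    rw [h.co.u_mul_uz, h.co.uz_mul_u] at hzp
    have := (h.co.u_inj _ _ _ _ (mul_right_cancel hzp)).1
    linear_combination -this
  subst hv11
  have hss : g * f (s, 1) * g⁻¹ * (g * f (s, 1) * g⁻¹) = 1 := by
    have h3 : g * f (s, 1) * g⁻¹ * (g * f (s, 1) * g⁻¹) = g * (f (s, 1) * f (s, 1)) * g⁻¹ := by group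
    have h4 : f ((1 : W), (1 : W)) = 1 := map_one f
    rw [h3, h.wr.f_mul_f, h.co.z_z, one_mul, h4]
    group
  rw [hv', h.wr.f_mul_f, h.co.u_mul, h.co.u_mul, h.wr.f_eq_one_iff, Prod.mk_eq_one, h.co.u_eq_one_iff,
    h.co.u_eq_one_iff] at hss
  obtain ⟨⟨hs1, -⟩, hs2, hs3⟩ := hss
  have half : ∀ c : ZMod (2 ^ n), c + c = 0 → ∃ c', ((2 ^ (n - 1) : ℕ) : ZMod (2 ^ n)) * c' = c := by
    intro c hc
    rcases (two_mul_eq_zero_iff n h.co.one_le c).1 (by rw [two_mul]; exact hc) with h3 | h3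
    · exact ⟨0, by rw [h3, mul_zero]⟩
    · exact ⟨1, by rw [h3, mul_one]; push_cast; rfl⟩
  obtain ⟨c₁, hc₁⟩ := half _ hs1
  obtain ⟨c₂, hc₂⟩ := half _ hs2
  obtain ⟨c₃, hc₃⟩ := half _ hs3
  -- the root
  have hroot : f (u c₁ c₁, u c₂ c₃) ∈ B' := by
    rw [h2]
    refine ⟨(u c₁ c₁, u c₂ c₃), Subgroup.mem_prod.2 ⟨?_, h.co.u_mem_base _ _⟩, rfl⟩
    rw [Subgroup.mem_centralizer_singleton_iff]
    obtain ⟨a, c, rfl⟩ := (h.co.not_mem_base p).1 hp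
    rw [h.co.u_mul_uz, h.co.uz_mul_u]
    congr 2 <;> ring
  obtain ⟨b', hb', hbe⟩ := hroot
  have hbe' : g * b' * g⁻¹ = f (u c₁ c₁, u c₂ c₃) := hbe
  have h3 : (g * b' * g⁻¹) ^ (2 ^ (n - 1)) = g * f (s, 1) * g⁻¹ := by
    rw [hbe', hv', ← map_pow, Prod.pow_mk, h.co.u_pow, h.co.u_pow, hc₁, hc₂, hc₃]
  rw [conj_pow] at h3
  have h4 : b' ^ (2 ^ (n - 1)) = f (s, 1) := mul_left_cancel (mul_right_cancel h3)
  obtain ⟨x, y, rfl, hx, hy⟩ := h.mem_B.1 hb'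
  rw [← map_pow, Prod.pow_mk, h.wr.f_eq_iff, Prod.mk.injEq] at h4
  -- squares of `W` lie in the base
  have h5 : x ^ (2 ^ (n - 1)) ∈ h.co.base := by
    have h6 : 2 ^ (n - 1) = 2 * 2 ^ (n - 2) := by
      rw [← pow_succ']
      congr 1
      have := h.co.two_le
      omega
    rw [h6, pow_mul]
    apply Subgroup.pow_mem
    rw [pow_two, h.base_iff]
  rw [h4.1] at h5
  exact h.co.z_not_mem_base h5

/-- `B` is moved into `A`. -/
theorem B_into_A {g : G} (hgS : ∀ b ∈ h.B, g * b * g⁻¹ ∈ (S : Subgroup G)) (hv : g * f (s, 1) * g⁻¹ ∈ h.A) :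
    ∃ g' : G, g' * f (s, 1) * g'⁻¹ ∈ h.A ∧ ∀ b ∈ h.B, g' * b * g'⁻¹ ∈ h.A := by
  have hfin : Finite W := h.co.finite
  let B' : Subgroup G := h.B.map (MulAut.conj g).toMonoidHom
  have hB'c : Nat.card B' = Nat.card h.B :=
    Nat.card_congr (h.B.equivMapOfInjective _ (MulAut.conj g).injective).symm.toEquiv
  have hB'S : B' ≤ (S : Subgroup G) := by
    rintro _ ⟨b, hb, rfl⟩
    exact hgS b hb
  have hB'comm : ∀ a ∈ B', ∀ b ∈ B', a * b = b * a := by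
    rintro _ ⟨a, ha, rfl⟩ _ ⟨b, hb, rfl⟩
    show g * a * g⁻¹ * (g * b * g⁻¹) = g * b * g⁻¹ * (g * a * g⁻¹)
    calc g * a * g⁻¹ * (g * b * g⁻¹) = g * (a * b) * g⁻¹ := by group
      _ = g * (b * a) * g⁻¹ := by rw [h.B_comm ha hb]
      _ = _ := by group
  have hbig : 2 ^ (3 * n + 1) ≤ Nat.card B' := hB'c ▸ h.le_card_B
  have hn := h.co.two_le
  -- `B' ≤ T`
  have hT : B' ≤ f.range := by
    by_contra hcon
    obtain ⟨r, hr, hrT⟩ := SetLike.not_le_iff_exists.1 hcon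
    rcases h.wr.cases r (hB'S hr) with ⟨p, q, rfl⟩ | ⟨p, q, rfl⟩
    · exact hrT ⟨_, rfl⟩
    have h1 := h.card_bound hB'S
    have h2 : Nat.card (B' ⊓ f.range : Subgroup G) ≤ Nat.card W := by
      have hch : ∀ b : (B' ⊓ f.range : Subgroup G), ∃ x : W, ∃ y : W, f (x, y) = b := by
        rintro ⟨b, -, ⟨⟨x, y⟩, hxy⟩⟩
        exact ⟨x, y, hxy⟩
      choose α β hαβ using hch
      apply Nat.card_le_card_of_injective α
      intro b b' hbb
      apply Subtype.ext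
      have h3 : ∀ b : (B' ⊓ f.range : Subgroup G), p * β b = α b * p := by
        intro b
        have h4 := hB'comm _ hr _ b.2.1
        rw [← hαβ b, h.wr.fw_comm_f_iff] at h4
        exact h4.1
      rw [← hαβ b, ← hαβ b', hbb]
      have h4 : β b = β b' := by
        have h5 := h3 b
        rw [hbb, ← h3 b'] at h5
        exact mul_left_cancel h5
      rw [h4]
    rw [h.co.card] at h2
    have h3 : 2 ^ (3 * n + 1) ≤ 2 ^ (1 + (2 * n + 1)) := by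
      calc 2 ^ (3 * n + 1) ≤ Nat.card B' := hbig
        _ ≤ 2 * Nat.card (B' ⊓ f.range : Subgroup G) := h1
        _ ≤ 2 * 2 ^ (2 * n + 1) := Nat.mul_le_mul_left _ h2
        _ = 2 ^ (1 + (2 * n + 1)) := by ring
    have h4 := (Nat.pow_le_pow_iff_right (by norm_num : 1 < 2)).1 h3
    omega
  -- not both coordinates leave the base
  have hnot : (∀ x y, f (x, y) ∈ B' → y ∈ h.co.base) ∨ (∀ x y, f (x, y) ∈ B' → x ∈ h.co.base) := by
    by_contra hcon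
    push Not at hcon
    obtain ⟨⟨x, y, hxy, hy⟩, ⟨x', y', hxy', hx'⟩⟩ := hcon
    have h1 : B' ≤ ((Subgroup.centralizer ({x'} : Set W)).prod (Subgroup.centralizer ({y} : Set W))).map f := by
      intro b hb
      obtain ⟨⟨p, q⟩, rfl⟩ := hT hb
      refine ⟨(p, q), Subgroup.mem_prod.2 ⟨?_, ?_⟩, rfl⟩
      · have h2 := hB'comm _ hb _ hxy'
        rw [h.wr.f_comm_f_iff] at h2
        exact Subgroup.mem_centralizer_singleton_iff.2 h2.1
      · have h2 := hB'comm _ hb _ hxy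
        rw [h.wr.f_comm_f_iff] at h2
        exact Subgroup.mem_centralizer_singleton_iff.2 h2.2
    have h2 := Subgroup.card_le_of_le h1
    rw [h.card_map_prod] at h2
    have h3 : 2 ^ (3 * n + 1) ≤ 2 ^ (n + 1 + (n + 1)) := by
      calc 2 ^ (3 * n + 1) ≤ Nat.card B' := hbig
        _ ≤ _ := h2
        _ ≤ 2 ^ (n + 1) * 2 ^ (n + 1) := Nat.mul_le_mul (card_cent_le h.co hx') (card_cent_le h.co hy)
        _ = 2 ^ (n + 1 + (n + 1)) := (pow_add _ _ _).symm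
    have h4 := (Nat.pow_le_pow_iff_right (by norm_num : 1 < 2)).1 h3
    omega
  rcases hnot with hq | hp
  · refine ⟨g, hv, h.caseX (fun b hb => hT ⟨b, hb, rfl⟩) hv ?_⟩
    intro b hb x y hxy
    exact hq x y (hxy ▸ ⟨b, hb, rfl⟩)
  · -- replace `g` by `w g`
    have hwf : ∀ x y, w * f (x, y) * w⁻¹ = f (y, x) := h.wr.w_conj
    have hg' : ∀ b, (w * g) * b * (w * g)⁻¹ = w * (g * b * g⁻¹) * w⁻¹ := by
      intro b
      group
    have hA' : ∀ a ∈ h.A, w * a * w⁻¹ ∈ h.A := by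
      intro a ha
      obtain ⟨a, b, c, d, rfl⟩ := h.mem_A.1 ha
      rw [hwf]
      exact h.f_mem_A _ _ _ _
    have hv' : (w * g) * f (s, 1) * (w * g)⁻¹ ∈ h.A := by
      rw [hg']
      exact hA' _ hv
    refine ⟨w * g, hv', h.caseX ?_ hv' ?_⟩
    · intro b hb
      rw [hg']
      obtain ⟨⟨x, y⟩, hxy⟩ := hT (⟨b, hb, rfl⟩ : g * b * g⁻¹ ∈ B')
      rw [← hxy, hwf]
      exact ⟨_, rfl⟩
    · intro b hb x y hxy
      rw [hg'] at hxy
      apply hp y x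
      have h1 : f (y, x) = g * b * g⁻¹ := by
        have h2 : w * (w * (g * b * g⁻¹) * w⁻¹) * w⁻¹ = w * f (x, y) * w⁻¹ := by rw [hxy]
        rw [hwf] at h2
        rw [← h2]
        have hww := h.wr.w_w
        calc w * (w * (g * b * g⁻¹) * w⁻¹) * w⁻¹ = (w * w) * (g * b * g⁻¹) * (w * w)⁻¹ := by group
          _ = g * b * g⁻¹ := by rw [hww]; group
      rw [h1]
      exact ⟨b, hb, rfl⟩

/-- the element `y₀ ∈ C_G(D)` moving `(s, 1)` into `A`. -/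
theorem exists_y₀ (hG : ∀ φ : G →* ℤˣ, ∀ x, φ x = 1) :
    ∃ (y₀ : G) (a b c d : ZMod (2 ^ n)), Cen f u y₀ ∧ a + a = 0 ∧ b + b = 0 ∧ c + c = 0 ∧ d + d = 0 ∧
      SemiconjBy y₀ (f (s, 1)) (f (u a b, u c d)) ∧ a = b + 2 ^ (n - 1) := by
  obtain ⟨g₀, hg₀, hg₀S⟩ := h.exists_g hG
  obtain ⟨g, hgv, hgB⟩ := h.B_into_A (g := g₀) (by
    intro b hb
    obtain ⟨x, y, rfl, hx, -⟩ := h.mem_B.1 hb
    exact hg₀S x y hx) hg₀
  have hD : ∀ a c e, f (u a a, u c e) ∈ h.B := by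
    intro a c e
    exact h.mem_B.2 ⟨_, _, rfl, by rw [h.co.z_u], h.co.u_mem_base _ _⟩
  let X : Set G := {x | ∃ a c e, x = f (u a a, u c e)}
  obtain ⟨η, hη, hηX⟩ := h.control (X := X) (by
    rintro _ ⟨a, c, e, rfl⟩
    exact h.f_mem_A _ _ _ _) (g := g) (by
    rintro _ ⟨a, c, e, rfl⟩
    exact hgB _ (hD a c e))
  have hy : Cen f u (η⁻¹ * g) := by
    intro a c e
    have h1 := hηX (f (u a a, u c e)) ⟨a, c, e, rfl⟩
    show η⁻¹ * g * f (u a a, u c e) = f (u a a, u c e) * (η⁻¹ * g)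
    calc η⁻¹ * g * f (u a a, u c e) = η⁻¹ * (g * f (u a a, u c e) * g⁻¹) * g := by group
      _ = η⁻¹ * (η * f (u a a, u c e) * η⁻¹) * g := by rw [h1]
      _ = _ := by group
  have hv : (η⁻¹ * g) * f (s, 1) * (η⁻¹ * g)⁻¹ ∈ h.A := by
    have h1 := conj_inv_mem hη _ hgv
    have h2 : (η⁻¹ * g) * f (s, 1) * (η⁻¹ * g)⁻¹ = η⁻¹ * (g * f (s, 1) * g⁻¹) * η := by group
    rwa [h2]
  obtain ⟨a, b, c, d, hab⟩ := h.mem_A.1 hv
  have hsemi : SemiconjBy (η⁻¹ * g) (f (s, 1)) (f (u a b, u c d)) := by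
    show _ = _
    rw [← hab]
    group
  have hss : f (u a b, u c d) * f (u a b, u c d) = 1 := by
    have h1 := hsemi.mul_right hsemi
    have h2 : f (s, 1) * f (s, 1) = 1 := by
      rw [h.wr.f_mul_f, h.co.z_z, one_mul]
      exact map_one f
    rw [h2] at h1
    have h3 : (η⁻¹ * g) * 1 = (f (u a b, u c d) * f (u a b, u c d)) * (η⁻¹ * g) := h1
    rw [mul_one] at h3
    exact (right_eq_mul.1 h3)
  rw [h.wr.f_mul_f, h.co.u_mul, h.co.u_mul, h.wr.f_eq_one_iff, Prod.mk_eq_one, h.co.u_eq_one_iff,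
    h.co.u_eq_one_iff] at hss
  obtain ⟨⟨ha, hb⟩, hc, hd⟩ := hss
  refine ⟨η⁻¹ * g, a, b, c, d, hy, ha, hb, hc, hd, hsemi, ?_⟩
  have h1 : 2 * (a - b) = 0 := by linear_combination ha - hb
  rcases (two_mul_eq_zero_iff n h.co.one_le _).1 h1 with h2 | h2
  · exfalso
    have h3 : a = b := sub_eq_zero.1 h2
    subst h3
    -- then `(s,1) ∈ D`
    have h4 := hy a c d
    have h5 : (η⁻¹ * g) * f (s, 1) = (η⁻¹ * g) * f (u a a, u c d) := by
      rw [hsemi.eq, h4.eq]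
    have h6 := mul_left_cancel h5
    rw [h.wr.f_eq_iff, Prod.mk.injEq] at h6
    exact h.co.z_not_mem_base ⟨a, a, h6.1⟩
  · linear_combination h2

/-- **The element `ρ`**, general form: `ρ` centralises `Z(W₁) × W₂` and `(i,1) ↦ (j,v) ↦ (ij,v)` with
`v = u j j ∈ Ω₁(Z(W))`. -/
theorem exists_rho (hG : ∀ φ : G →* ℤˣ, ∀ x, φ x = 1) :
    ∃ (ρ : G) (j : ZMod (2 ^ n)), j + j = 0 ∧ (∀ a x, SemiconjBy ρ (f (u a a, x)) (f (u a a, x))) ∧
      SemiconjBy ρ (f (u (-(2 ^ (n - 2))) (2 ^ (n - 2)), 1)) (f (u (2 ^ (n - 2)) (2 ^ (n - 2)) * s, u j j)) ∧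
      SemiconjBy ρ (f (u (2 ^ (n - 2)) (2 ^ (n - 2)) * s, u j j))
        (f (u (-(2 ^ (n - 2))) (2 ^ (n - 2)) * (u (2 ^ (n - 2)) (2 ^ (n - 2)) * s), u j j)) := by
  obtain ⟨y₀, a, b, c, d, hy₀, ha, hb, hc, hd, hs, hab⟩ := h.exists_y₀ hG
  obtain ⟨y, i, j, k, hy, -, hj, -, h1, h2, h3⟩ := h.exists_y hy₀ ha hb hc hd hs hab
  obtain ⟨ρ, hρ1, hρ2, hρ3⟩ := h.exists_rho_of_y hy h1 h2 h3
  exact ⟨ρ, j, hj, hρ1, hρ2, hρ3⟩

omit [Finite G] in
/-- the hom `W → ⟨v⟩` with kernel the base, `v = u j j`, `j + j = 0` -/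
theorem exists_mu {j : ZMod (2 ^ n)} (hj : j + j = 0) : ∃ μ : W →* W, (∀ x ∈ h.co.base, μ x = 1) ∧
    (∀ x, x ∉ h.co.base → μ x = u j j) ∧ (∀ x y, μ x * y = y * μ x) ∧ ∀ x, μ (μ x) = x → x = 1 := by
  classical
  have hvv : u j j * u j j = 1 := by rw [h.co.u_mul, hj, h.co.u_zero]
  let μ : W →* W :=
    { toFun := fun x => if x ∈ h.co.base then 1 else u j j
      map_one' := if_pos h.co.base.one_mem
      map_mul' := by
        intro x y
        have h1 := h.base_iff (x := x) (y := y)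
        by_cases hx : x ∈ h.co.base <;> by_cases hy : y ∈ h.co.base <;> simp [h1, hx, hy, hvv] }
  have hμ1 : ∀ x ∈ h.co.base, μ x = 1 := fun x hx => if_pos hx
  have hμ2 : ∀ x, x ∉ h.co.base → μ x = u j j := fun x hx => if_neg hx
  refine ⟨μ, hμ1, hμ2, ?_, ?_⟩
  · intro x y
    by_cases hx : x ∈ h.co.base
    · rw [hμ1 x hx, one_mul, mul_one]
    · rw [hμ2 x hx]
      rcases h.co.cases y with ⟨a, b, rfl⟩ | ⟨a, b, rfl⟩
      · exact h.co.u_comm _ _ _ _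
      · rw [h.co.u_mul_uz, h.co.uz_mul_u]
        congr 2 <;> ring
  · intro x hx
    have h1 : μ x ∈ h.co.base := by
      by_cases hx : x ∈ h.co.base
      · rw [hμ1 x hx]
        exact h.co.base.one_mem
      · rw [hμ2 x hx]
        exact h.co.u_mem_base _ _
    rw [hμ1 _ h1] at hx
    exact hx.symm

/-- **`IsRho`** after a twist of `f` which does not change `f` on `A₀ × A₀`. -/
theorem exists_isRho (hG : ∀ φ : G →* ℤˣ, ∀ x, φ x = 1) :
    ∃ (μ : W →* W) (hμ : ∀ x y, μ x * y = y * μ x), (∀ x, μ (μ x) = x → x = 1) ∧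
      (∀ a b, μ (u a b) = 1) ∧ Ctx S (f.comp (twistHom μ hμ)) w u s ∧
      (∀ a b c d, f.comp (twistHom μ hμ) (u a b, u c d) = f (u a b, u c d)) ∧
      ∃ ρ : G, IsRho (f.comp (twistHom μ hμ)) u s ρ := by
  have hfin : Finite W := h.co.finite
  obtain ⟨ρ, j, hj, h1, h2, h3⟩ := h.exists_rho hG
  obtain ⟨μ, hμ1, hμ2, hμ, hinj⟩ := h.exists_mu hj
  have hA : ∀ a b c d, f.comp (twistHom μ hμ) (u a b, u c d) = f (u a b, u c d) := by
    intro a b c d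
    show f (u a b * μ (u c d), u c d * μ (u a b)) = _
    rw [hμ1 _ (h.co.u_mem_base c d), hμ1 _ (h.co.u_mem_base a b), mul_one, mul_one]
  refine ⟨μ, hμ, hinj, fun a b => hμ1 _ (h.co.u_mem_base a b), ⟨h.wr.twist μ hμ hinj, h.co, ?_⟩, hA, ρ, ?_⟩
  · intro g hg a b c d
    obtain ⟨a', b', c', d', h4⟩ := h.weak g (fun a b c d => by
      rw [← hA]
      exact hg a b c d) a b c d
    exact ⟨a', b', c', d', by rw [hA, hA, h4]⟩
  · have e1 : ∀ x y, f.comp (twistHom μ hμ) (x, y) = f (x * μ y, y * μ x) := fun x y => rfl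
    refine ⟨?_, ?_, ?_⟩
    · intro a y
      rw [e1, hμ1 _ (h.co.u_mem_base a a), mul_one]
      by_cases hy : y ∈ h.co.base
      · rw [hμ1 y hy, mul_one]
        exact h1 a y
      · rw [hμ2 y hy, h.co.u_mul]
        exact h1 (a + j) y
    · rw [e1, e1, hμ1 1 h.co.base.one_mem, hμ1 _ (h.co.u_mem_base _ _), hμ2 _ (h.co.uz_not_mem_base _ _), mul_one,
        mul_one, one_mul, mul_one, h2.eq, mul_inv_cancel_right]
    · rw [e1, e1, hμ1 1 h.co.base.one_mem, hμ2 _ (h.co.uz_not_mem_base _ _), mul_one, one_mul]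
      have h4 : u (-(2 ^ (n - 2))) (2 ^ (n - 2)) * (u (2 ^ (n - 2)) (2 ^ (n - 2)) * s) ∉ h.co.base := by
        rw [h.co.u_mul_uz]
        exact h.co.uz_not_mem_base _ _
      rw [hμ2 _ h4, mul_one, one_mul, h3.eq, mul_inv_cancel_right]

end Ctx

/-- groups without subgroups of index two -/
theorem hom_trivial {G : Type*} [Group G] (hG : ∀ M : Subgroup G, M.index ≠ 2) :
    ∀ φ : G →* ℤˣ, ∀ x, φ x = 1 := by
  intro φ x
  by_contra hx
  have hx' : φ x = -1 := (Int.units_eq_one_or (φ x)).resolve_left hx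
  obtain ⟨M, -, hM, -⟩ := Transfer.ThompsonTransfer.exists_normal_index_two φ x hx'
  exact hG M hM

end Cfsg.Agent.TypeLFive.WRho
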