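import Mathlib
import Cfsg.Agent.TypeLFive.Simple
import Cfsg.Agent.TypeLFive.OutCommon
import Cfsg.Agent.TypeLFive.WRWeak
import Cfsg.Agent.TypeLFive.WRFaith
import Cfsg.Agent.TypeLFive.WRho
import Cfsg.Agent.TypeLFive.WRFive
import Cfsg.Agent.TypeLFive.CentWRTwist

/-!
# S0511 (F) for `W` wreathed: the final result
-/

set_option autoImplicit false

namespace Cfsg.Agent.TypeLFive.WRMain

open Subgroup Cfsg.Agent.TypeLFive.Model Cfsg.Agent.TypeLFive.Facts Cfsg.Agent.TypeLFive.FrameE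
open Cfsg.Agent.TypeLFive.WRWeak Cfsg.Agent.TypeLFive.EOrbit Cfsg.Agent.TypeLFive.Out
open Cfsg.Agent.TwoFusion.QDBasic Cfsg.Agent.TwoFusion.WreathedBasic

section W

variable {W : Type*} [Group W] {n : ℕ} {u : ZMod (2 ^ n) → ZMod (2 ^ n) → W} {s : W}

theorem edata (hc : IsWCoord n u s) :
    EData (u (2 ^ (n - 1)) (2 ^ (n - 1))) (u (2 ^ (n - 1)) 0) where
  ee := (wr_u_sq_iff hc _ _).2 ⟨Or.inr rfl, Or.inl rfl⟩
  e_ne := by
    rw [Ne, hc.u_eq_one_iff]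
    exact fun h => half_ne_zero n hc.one_le h.1
  e_ζ := by
    rw [Ne, hc.u_eq_iff]
    exact fun h => half_ne_zero n hc.one_le h.2.symm

theorem e_mul_zeta (hc : IsWCoord n u s) :
    u (2 ^ (n - 1)) 0 * u (2 ^ (n - 1)) (2 ^ (n - 1)) = u 0 (2 ^ (n - 1)) := by
  rw [hc.u_mul, zero_add, ← two_mul, two_mul_half n hc.one_le]

theorem s_conj (hc : IsWCoord n u s) : s * u (2 ^ (n - 1)) 0 * s⁻¹ =
    u (2 ^ (n - 1)) 0 * u (2 ^ (n - 1)) (2 ^ (n - 1)) := by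
  rw [hc.z_conj_u, e_mul_zeta hc]

theorem psi_eq (hc : IsWCoord n u s) (a b : ZMod (2 ^ n)) (h : u a b * u a b = 1) :
    ∃ k l, u a b = psi (u (2 ^ (n - 1)) (2 ^ (n - 1))) (u (2 ^ (n - 1)) 0) k l := by
  rw [psi_cases (edata hc), e_mul_zeta hc]
  rcases (wr_u_sq_iff hc a b).1 h with ⟨rfl | rfl, rfl | rfl⟩
  · exact Or.inl hc.u_zero
  · exact Or.inr (Or.inr (Or.inr rfl))
  · exact Or.inr (Or.inr (Or.inl rfl))
  · exact Or.inr (Or.inl rfl)

theorem psi_base (hc : IsWCoord n u s) (k l : ZMod 2) :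
    ∃ a b, psi (u (2 ^ (n - 1)) (2 ^ (n - 1))) (u (2 ^ (n - 1)) 0) k l = u a b := by
  rcases (psi_cases (edata hc) _).1 ⟨k, l, rfl⟩ with h | h | h | h <;> rw [h]
  · exact ⟨0, 0, hc.u_zero.symm⟩
  · exact ⟨_, _, rfl⟩
  · exact ⟨_, _, rfl⟩
  · exact ⟨_, _, e_mul_zeta hc⟩

/-- noncentral involutions are conjugate in `W` to `d` or `s`. -/
theorem conj_d_or_s (hc : IsWCoord n u s) (p : W) (hp : p * p = 1) (hp1 : p ≠ 1)
    (hp2 : p ≠ u (2 ^ (n - 1)) (2 ^ (n - 1))) :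
    (∃ a, a * p * a⁻¹ = u (2 ^ (n - 1)) 0) ∨ ∃ a, a * p * a⁻¹ = s := by
  rcases wr_inv_cases hc p hp hp1 hp2 with rfl | rfl | ⟨a, rfl⟩
  · left; exact ⟨1, by group⟩
  · left; exact ⟨s, hc.z_conj_u _ _⟩
  · right
    refine ⟨u 0 a, ?_⟩
    rw [hc.u_conj_uz]
    rw [show a + (0 - a) = (0 : ZMod (2 ^ n)) by ring, show -a - (0 - a) = (0 : ZMod (2 ^ n)) by ring,
      hc.u_zero, one_mul]

end W

variable {G W : Type*} [Group G] [Group W] {n : ℕ} {u : ZMod (2 ^ n) → ZMod (2 ^ n) → W} {s : W}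
  {f : W × W →* G} {w : G}

/-- `ρ` moves `(d, y)` to `(s, y)`. -/
theorem rho_d_s (h : IsWCoord n u s) {ρ : G} (hρ : IsRho f u s ρ) (y : W) :
    ρ * f (u (2 ^ (n - 1)) 0, y) * ρ⁻¹ = f (s, y) := by
  have e1 := wr_half h
  have e0 := two_mul_half n h.one_le
  have h1 : f (u (2 ^ (n - 1)) 0, y) = f (u (-(2 ^ (n - 2))) (2 ^ (n - 2)), 1) *
      f (u (-(2 ^ (n - 2))) (-(2 ^ (n - 2))), y) := by
    rw [← map_mul, Prod.mk_mul_mk, one_mul, h.u_mul]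
    congr 3
    · linear_combination e0 - e1
    · ring
  have h2 : f (s, y) = f (u (2 ^ (n - 2)) (2 ^ (n - 2)) * s, 1) *
      f (u (-(2 ^ (n - 2))) (-(2 ^ (n - 2))), y) := by
    rw [← map_mul, Prod.mk_mul_mk, one_mul, h.uz_mul_u]
    congr 2
    rw [add_neg_cancel, h.u_zero, one_mul]
  rw [h1, h2]
  have h3 := hρ.comm (-(2 ^ (n - 2))) y
  calc ρ * (f (u (-(2 ^ (n - 2))) (2 ^ (n - 2)), 1) *
        f (u (-(2 ^ (n - 2))) (-(2 ^ (n - 2))), y)) * ρ⁻¹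
      = (ρ * f (u (-(2 ^ (n - 2))) (2 ^ (n - 2)), 1) * ρ⁻¹) *
        (ρ * f (u (-(2 ^ (n - 2))) (-(2 ^ (n - 2))), y)) * ρ⁻¹ := by group
    _ = f (u (2 ^ (n - 2)) (2 ^ (n - 2)) * s, 1) *
        (f (u (-(2 ^ (n - 2))) (-(2 ^ (n - 2))), y) * ρ) * ρ⁻¹ := by rw [hρ.i_j, h3]
    _ = _ := by group

/-- moving noncentral involutions of the first coordinate to `d`. -/
theorem mv {S : Subgroup G} (h : Wr S f w) (hc : IsWCoord n u s) {ρ : G} (hρ : IsRho f u s ρ)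
    (p : W) (hp : p * p = 1) (hp1 : p ≠ 1) (hp2 : p ≠ u (2 ^ (n - 1)) (2 ^ (n - 1))) :
    ∃ m : G, ∀ q, m * f (p, q) * m⁻¹ = f (u (2 ^ (n - 1)) 0, q) := by
  have key : ∀ a q, f (a, 1) * f (p, q) * (f (a, 1))⁻¹ = f (a * p * a⁻¹, q) := by
    intro a q
    rw [← map_inv, Prod.inv_mk, h.f_mul_f, h.f_mul_f, inv_one, one_mul, mul_one]
  rcases conj_d_or_s hc p hp hp1 hp2 with ⟨a, ha⟩ | ⟨a, ha⟩
  · exact ⟨f (a, 1), fun q => by rw [key, ha]⟩
  · refine ⟨ρ⁻¹ * f (a, 1), fun q => ?_⟩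
    calc ρ⁻¹ * f (a, 1) * f (p, q) * (ρ⁻¹ * f (a, 1))⁻¹
        = ρ⁻¹ * (f (a, 1) * f (p, q) * (f (a, 1))⁻¹) * ρ := by group
      _ = ρ⁻¹ * f (s, q) * ρ := by rw [key, ha]
      _ = ρ⁻¹ * (ρ * f (u (2 ^ (n - 1)) 0, q) * ρ⁻¹) * ρ := by rw [rho_d_s hc hρ]
      _ = _ := by group

/-- moving noncentral involutions of the second coordinate to `d`. -/
theorem mv2 {S : Subgroup G} (h : Wr S f w) (hc : IsWCoord n u s) {ρ : G} (hρ : IsRho f u s ρ)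
    (q : W) (hq : q * q = 1) (hq1 : q ≠ 1) (hq2 : q ≠ u (2 ^ (n - 1)) (2 ^ (n - 1))) :
    ∃ m : G, ∀ p, m * f (p, q) * m⁻¹ = f (p, u (2 ^ (n - 1)) 0) := by
  obtain ⟨m, hm⟩ := mv h hc hρ q hq hq1 hq2
  refine ⟨w * m * w, fun p => ?_⟩
  have hw := h.w_inv
  calc w * m * w * f (p, q) * (w * m * w)⁻¹
      = w * (m * (w * f (p, q) * w⁻¹) * m⁻¹) * w⁻¹ := by group
    _ = _ := by rw [h.w_conj, hm, h.w_conj]

/-- weak closure in the elementwise form -/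
theorem weak' [Finite G] {S : Sylow 2 G} (h : Wr (S : Subgroup G) f w) (hc : IsWCoord n u s)
    (g : G) (hg : ∀ a b c d, g * f (u a b, u c d) * g⁻¹ ∈ (S : Subgroup G))
    (a b c d : ZMod (2 ^ n)) :
    ∃ a' b' c' d', g * f (u a b, u c d) * g⁻¹ = f (u a' b', u c' d') := by
  have h1 : (abA f hc).map (MulAut.conj g).toMonoidHom ≤ (S : Subgroup G) := by
    rintro _ ⟨x, hx, rfl⟩
    obtain ⟨a, b, c, d, rfl⟩ := (mem_abA f hc x).1 hx
    exact hg a b c d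
  have h2 := weak h hc g h1
  apply (mem_abA f hc _).1
  rw [← h2]
  exact ⟨_, f_mem_abA f hc a b c d, rfl⟩

theorem mem_normalizer_iff' [Finite G] (hc : IsWCoord n u s) (g : G) :
    g ∈ normalizer (abA f hc : Set G) ↔
      ∀ a b c d, ∃ a' b' c' d', g * f (u a b, u c d) * g⁻¹ = f (u a' b', u c' d') := by
  constructor
  · intro hg a b c d
    exact (mem_abA f hc _).1 ((Subgroup.mem_normalizer_iff.1 hg _).1 (f_mem_abA f hc a b c d))
  · intro hg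
    have hle : (abA f hc).map (MulAut.conj g).toMonoidHom ≤ abA f hc := by
      rintro _ ⟨y, hy, rfl⟩
      obtain ⟨a, b, c, d, rfl⟩ := (mem_abA f hc y).1 hy
      exact (mem_abA f hc _).2 (hg a b c d)
    have heq : (abA f hc).map (MulAut.conj g).toMonoidHom = abA f hc :=
      Subgroup.eq_of_le_of_card_ge hle
        (by rw [Subgroup.card_map_of_injective (MulAut.conj g).injective])
    rw [Subgroup.mem_normalizer_iff]
    intro y
    constructor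
    · intro hy
      rw [← heq]
      exact ⟨y, hy, rfl⟩
    · intro hy
      have h2 : g * y * g⁻¹ ∈ (abA f hc).map (MulAut.conj g).toMonoidHom := by rw [heq]; exact hy
      obtain ⟨y', hy', e⟩ := h2
      have e' : g * y' * g⁻¹ = g * y * g⁻¹ := e
      rw [← mul_left_cancel (mul_right_cancel e')]
      exact hy'

theorem S_le_normalizer [Finite G] {S : Sylow 2 G} (h : Wr (S : Subgroup G) f w)
    (hc : IsWCoord n u s) : (S : Subgroup G) ≤ normalizer (abA f hc : Set G) := by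
  intro x hx
  rw [mem_normalizer_iff' hc]
  apply weak' h hc
  intro a b c d
  exact (S : Subgroup G).mul_mem ((S : Subgroup G).mul_mem hx (h.mem _))
    ((S : Subgroup G).inv_mem hx)

/-- control of fusion in `A` -/
theorem control [Finite G] {S : Sylow 2 G} (h : Wr (S : Subgroup G) f w) (hc : IsWCoord n u s)
    (g x : G) (hx : x ∈ abA f hc) (hgx : g * x * g⁻¹ ∈ abA f hc) :
    ∃ m ∈ normalizer (abA f hc : Set G), m * x * m⁻¹ = g * x * g⁻¹ := by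
  obtain ⟨m, -, hm, hm2⟩ := Control.control_weak S (abA f hc)
    (S.isPGroup'.to_le (abA_le h hc)) (abA_comm f hc) (fun g hg => weak h hc g hg) ⊤ le_top g
    (mem_top _) x hx hgx (fun y hy => abA_comm f hc x hx y hy)
  refine ⟨m, ?_, hm2⟩
  rw [mem_normalizer_iff' hc]
  intro a b c d
  apply (mem_abA f hc _).1
  rw [← hm]
  exact ⟨_, f_mem_abA f hc a b c d, rfl⟩

/-- involutions of `A` are values of `phi`. -/
theorem phi_of_mem {S : Subgroup G} (h : Wr S f w) (hc : IsWCoord n u s) (x : G)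
    (hx : x ∈ abA f hc) (hxx : x * x = 1) :
    ∃ v, x = phi f (u (2 ^ (n - 1)) (2 ^ (n - 1))) (u (2 ^ (n - 1)) 0) v := by
  obtain ⟨a, b, c, d, rfl⟩ := (mem_abA f hc x).1 hx
  rw [h.f_mul_f, h.f_eq_one_iff, Prod.mk_eq_one] at hxx
  obtain ⟨k, l, h1⟩ := psi_eq hc a b hxx.1
  obtain ⟨k', l', h2⟩ := psi_eq hc c d hxx.2
  refine ⟨![k, l, k', l'], ?_⟩
  rw [h1, h2]
  rfl

theorem phi_mem (hc : IsWCoord n u s) (v : V) :
    phi f (u (2 ^ (n - 1)) (2 ^ (n - 1))) (u (2 ^ (n - 1)) 0) v ∈ abA f hc := by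
  unfold phi
  obtain ⟨a, b, h1⟩ := psi_base hc (v 0) (v 1)
  obtain ⟨c, d, h2⟩ := psi_base hc (v 2) (v 3)
  rw [h1, h2]
  exact f_mem_abA f hc _ _ _ _

/-- the fusion of `w` -/
theorem five [Finite G] [IsSimpleGroup G] {S : Sylow 2 G} (h : Wr (S : Subgroup G) f w)
    (hc : IsWCoord n u s) {ρ : G} (hρ : IsRho f u s ρ) :
    IsConj (f (u (2 ^ (n - 1)) (2 ^ (n - 1)), 1)) w ∧
      IsConj (f (u (2 ^ (n - 1)) (2 ^ (n - 1)), 1))
        (f (u (2 ^ (n - 1)) 0, u (2 ^ (n - 1)) 0)) := by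
  have b := wr_base hc
  refine WRFive.Ctx.main ⟨h, hc, weak' h hc, TNotZ.not_conj h b, ρ⁻¹, 1, Or.inl rfl, ?_, ?_⟩
    (Simple.index_ne_two h b)
  · intro a y
    have h1 := hρ.comm a y
    calc ρ⁻¹ * f (u a a, y) = ρ⁻¹ * (f (u a a, y) * ρ) * ρ⁻¹ := by group
      _ = ρ⁻¹ * (ρ * f (u a a, y)) * ρ⁻¹ := by rw [h1]
      _ = _ := by group
  · rw [← rho_d_s hc hρ 1]
    group

/-- the permutations induced on `E` before the pattern twist. -/
theorem frame_wr [Finite G] [IsSimpleGroup G] {S : Sylow 2 G}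
    (h : Wr (S : Subgroup G) f w) (hc : IsWCoord n u s) {ρ : G} (hρ : IsRho f u s ρ) :
    (∀ σ : Equiv.Perm (Fin 5), ∃ g ∈ normalizer (abA f hc : Set G), ∀ i,
      g * phi f (u (2 ^ (n - 1)) (2 ^ (n - 1))) (u (2 ^ (n - 1)) 0) (o1 i) * g⁻¹ =
      phi f (u (2 ^ (n - 1)) (2 ^ (n - 1))) (u (2 ^ (n - 1)) 0) (o1 (σ i))) ∨
    (∀ σ : Equiv.Perm (Fin 5), ∃ g ∈ normalizer (abA f hc : Set G), ∀ i,
      g * phi f (u (2 ^ (n - 1)) (2 ^ (n - 1))) (u (2 ^ (n - 1)) 0) (o3 i) * g⁻¹ =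
      phi f (u (2 ^ (n - 1)) (2 ^ (n - 1))) (u (2 ^ (n - 1)) 0) (o3 (σ i))) := by
  have b := wr_base hc
  have d := edata hc
  obtain ⟨hw, hdd⟩ := five h hc hρ
  have hsq : ∀ v : V, phi f (u (2 ^ (n - 1)) (2 ^ (n - 1))) (u (2 ^ (n - 1)) 0) v *
      phi f (u (2 ^ (n - 1)) (2 ^ (n - 1))) (u (2 ^ (n - 1)) 0) v = 1 := (emb h b d).sq
  have hSN := S_le_normalizer h hc
  have htA : f (u (2 ^ (n - 1)) (2 ^ (n - 1)), 1) ∈ abA f hc := by
    have := f_mem_abA f hc (2 ^ (n - 1)) (2 ^ (n - 1)) 0 0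
    rwa [hc.u_zero] at this
  apply frame h b d (normalizer (abA f hc : Set G))
  · intro g hg x
    apply phi_of_mem h hc
    · exact (Subgroup.mem_normalizer_iff.1 hg _).1 (phi_mem hc x)
    · have h1 := hsq x
      generalize phi f (u (2 ^ (n - 1)) (2 ^ (n - 1))) (u (2 ^ (n - 1)) 0) x = v at h1 ⊢
      calc g * v * g⁻¹ * (g * v * g⁻¹) = g * (v * v) * g⁻¹ := by group
        _ = 1 := by rw [h1]; group
  · exact s_conj hc
  · exact hSN (h.mem _)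
  · exact hSN (h.mem _)
  · exact hSN h.w_mem
  · exact TNotZ.not_conj h b
  · obtain ⟨g, hg⟩ := isConj_iff.1 hdd
    obtain ⟨m, hm, hm2⟩ := control h hc g _ htA (by rw [hg]; exact f_mem_abA f hc _ _ _ _)
    exact ⟨m, hm, by rw [hm2, hg]⟩
  · obtain ⟨g, p, q, hg, hp, hq, hpq, hpq2⟩ := Simple.z_fused_T h b hw
    -- move to `A`
    have h1 : ∃ m : G, ∃ p' : W, (∀ q, m * f (p, q) * m⁻¹ = f (p', q)) ∧ p' * p' = 1 ∧
        (∃ a c, p' = u a c) ∧ (p' = u (2 ^ (n - 1)) (2 ^ (n - 1)) →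
          p = u (2 ^ (n - 1)) (2 ^ (n - 1))) := by
      by_cases hp1 : p = 1
      · refine ⟨1, p, fun q => by group, hp, ⟨0, 0, by rw [hp1, hc.u_zero]⟩, fun h => h⟩
      · by_cases hp2 : p = u (2 ^ (n - 1)) (2 ^ (n - 1))
        · exact ⟨1, p, fun q => by group, hp, ⟨_, _, hp2⟩, fun h => h⟩
        · obtain ⟨m, hm⟩ := mv h hc hρ p hp hp1 hp2
          exact ⟨m, _, hm, d.ee, ⟨_, _, rfl⟩, fun h => absurd h d.e_ζ⟩
    obtain ⟨m, p', hm, hp', ⟨a, c, rfl⟩, hpz⟩ := h1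
    have h2 : ∃ m : G, ∃ q' : W, (∀ p, m * f (p, q) * m⁻¹ = f (p, q')) ∧ q' * q' = 1 ∧
        (∃ a c, q' = u a c) ∧ (q' = u (2 ^ (n - 1)) (2 ^ (n - 1)) →
          q = u (2 ^ (n - 1)) (2 ^ (n - 1))) := by
      by_cases hq1 : q = 1
      · refine ⟨1, q, fun p => by group, hq, ⟨0, 0, by rw [hq1, hc.u_zero]⟩, fun h => h⟩
      · by_cases hq2 : q = u (2 ^ (n - 1)) (2 ^ (n - 1))
        · exact ⟨1, q, fun p => by group, hq, ⟨_, _, hq2⟩, fun h => h⟩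
        · obtain ⟨m, hm⟩ := mv2 h hc hρ q hq hq1 hq2
          exact ⟨m, _, hm, d.ee, ⟨_, _, rfl⟩, fun h => absurd h d.e_ζ⟩
    obtain ⟨m', q', hm', hq', ⟨a', c', rfl⟩, hqz⟩ := h2
    have hg' : m' * m * g * f (u (2 ^ (n - 1)) (2 ^ (n - 1)), u (2 ^ (n - 1)) (2 ^ (n - 1))) *
        (m' * m * g)⁻¹ = f (u a c, u a' c') := by
      calc m' * m * g * f (u (2 ^ (n - 1)) (2 ^ (n - 1)), u (2 ^ (n - 1)) (2 ^ (n - 1))) *
            (m' * m * g)⁻¹ = m' * (m * (g * f (u (2 ^ (n - 1)) (2 ^ (n - 1)),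
              u (2 ^ (n - 1)) (2 ^ (n - 1))) * g⁻¹) * m⁻¹) * m'⁻¹ := by group
        _ = _ := by rw [hg, hm, hm']
    obtain ⟨k, hk, hk2⟩ := control h hc _ _
      (f_mem_abA f hc (2 ^ (n - 1)) (2 ^ (n - 1)) (2 ^ (n - 1)) (2 ^ (n - 1)))
      (by rw [hg']; exact f_mem_abA f hc _ _ _ _)
    rw [hg'] at hk2
    obtain ⟨x, hx⟩ := phi_of_mem h hc (f (u a c, u a' c')) (f_mem_abA f hc _ _ _ _)
      (by rw [h.f_mul_f, hp', hq']; exact map_one f)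
    refine ⟨k, hk, x, by rw [hk2, hx], ?_⟩
    rintro rfl
    rw [phi_vz d, h.f_eq_iff, Prod.mk.injEq] at hx
    exact hpq2 ⟨hpz hx.1, hqz hx.2⟩

/-- `FusWR` from the permutations. -/
theorem out_wr [Finite G] [IsSimpleGroup G] {S : Sylow 2 G}
    (h : Wr (S : Subgroup G) f w) (hc : IsWCoord n u s) {ρ : G} (hρ : IsRho f u s ρ)
    (hperm : ∀ σ : Equiv.Perm (Fin 5), ∃ g ∈ normalizer (abA f hc : Set G), ∀ i,
      g * f (zv (u (2 ^ (n - 1)) (2 ^ (n - 1))) (u (2 ^ (n - 1)) 0) i) * g⁻¹ =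
      f (zv (u (2 ^ (n - 1)) (2 ^ (n - 1))) (u (2 ^ (n - 1)) 0) (σ i))) :
    FusWR (S : Subgroup G) f w u s where
  coord := hc
  out := OutCommon.fusOut h (wr_base hc) (edata hc) (five h hc hρ).1 (mv h hc hρ)
    (fun σ => by
      obtain ⟨g, -, hg⟩ := hperm σ
      exact ⟨g, hg⟩)
  weak := weak' h hc
  permA σ := by
    obtain ⟨g, hgN, hg⟩ := hperm σ
    exact ⟨g, (mem_normalizer_iff' hc g).1 hgN, hg⟩
  faithful := WRFaith.faithful h hc
  rho := ⟨ρ, hρ⟩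

/-- **(F) for `W` wreathed.** -/
theorem exists_fusWR [Finite G] [IsSimpleGroup G] {S : Sylow 2 G}
    (h : Wr (S : Subgroup G) f w) (hc : IsWCoord n u s) :
    ∃ f' : W × W →* G, FusWR (S : Subgroup G) f' w u s ∧ f'.range = f.range := by
  have b := wr_base hc
  have d := edata hc
  have hfinW := hc.finite
  have ctx : WRho.Ctx S f w u s := ⟨h, hc, weak' h hc⟩
  obtain ⟨μ₁, hμ₁, hinj₁, -, ctx₁, -, ρ, hρ⟩ := ctx.exists_isRho (Simple.char_one h b)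
  obtain ⟨f₁, hf₁⟩ : ∃ f₁, f₁ = f.comp (twistHom μ₁ hμ₁) := ⟨_, rfl⟩
  have hr₁ : f₁.range = f.range := by
    rw [hf₁]; exact Wr.comp_range (twistEquiv μ₁ hμ₁ hinj₁)
  rw [← hf₁] at hρ ctx₁
  have h₁ := ctx₁.wr
  rcases frame_wr h₁ hc hρ with hfr | hfr
  · obtain ⟨D, hD1, hD2, hD3⟩ := CentWR.exists_det hc
    obtain ⟨μ, hμ1, hμ, hinj⟩ := CentWR.exists_mu hc 1 D hD1 hD3
    have e0 := two_mul_half n hc.one_le
    have e1 := wr_half hc
    have hD0 : D 1 = 0 := by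
      have := hD1 0 0
      rwa [hc.u_zero, add_zero] at this
    have hμe : μ (u (2 ^ (n - 1)) 0) = u (2 ^ (n - 1)) (2 ^ (n - 1)) := by
      rw [hμ1, hD1, add_zero, one_mul]
    have hμζ : μ (u (2 ^ (n - 1)) (2 ^ (n - 1))) = 1 := by
      rw [hμ1, hD1, ← two_mul, e0, mul_zero, hc.u_zero]
    have hμ0 : ∀ x, D x = 0 → μ x = 1 := by
      intro x hx
      rw [hμ1, hx, mul_zero, hc.u_zero]
    have h₂ := h₁.twist μ hμ hinj
    have hval : ∀ x, D x = 0 → (f₁.comp (twistHom μ hμ)) (x, 1) = f₁ (x, 1) := by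
      intro x hx
      rw [MonoidHom.comp_apply, twistHom_apply, hμ0 x hx, map_one, mul_one, mul_one]
    have hDi : D (u (-(2 ^ (n - 2))) (2 ^ (n - 2))) = 0 := by rw [hD1]; ring
    have hDj : D (u (2 ^ (n - 2)) (2 ^ (n - 2)) * s) = 0 := by
      rw [hD2]; linear_combination e0 - e1
    have hρ₂ : IsRho (f₁.comp (twistHom μ hμ)) u s ρ := by
      refine ⟨fun a y => ?_, ?_, ?_⟩
      · rw [MonoidHom.comp_apply, twistHom_apply, hμ1 y, hc.u_mul]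
        exact hρ.comm _ _
      · rw [hval _ hDi, hval _ hDj]
        exact hρ.i_j
      · rw [hval _ hDj, hval _ (by rw [hD3, hDi, hDj, add_zero])]
        exact hρ.j_k
    refine ⟨f₁.comp (twistHom μ hμ), out_wr h₂ hc hρ₂ (fun σ => ?_), ?_⟩
    · obtain ⟨g, hg, hg2⟩ := perm_twist b d μ hμ hμe hμζ
        (fun g => g ∈ normalizer (abA f₁ hc : Set G)) (fun σ => hfr σ) σ
      refine ⟨g, ?_, hg2⟩
      rw [mem_normalizer_iff' hc] at hg ⊢
      -- the two subgroups `A` coincide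
      have hA : ∀ a b c d, ∃ a' b' c' d', (f₁.comp (twistHom μ hμ)) (u a b, u c d) =
          f₁ (u a' b', u c' d') := by
        intro a b c d
        refine ⟨a + (c + d), b + (c + d), c + (a + b), d + (a + b), ?_⟩
        rw [MonoidHom.comp_apply, twistHom_apply, hμ1, hμ1, hD1, hD1, hc.u_mul, hc.u_mul, one_mul,
          one_mul]
      have hA' : abA (f₁.comp (twistHom μ hμ)) hc = abA f₁ hc := by
        have hle : abA (f₁.comp (twistHom μ hμ)) hc ≤ abA f₁ hc := by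
          intro x hx
          obtain ⟨a, b, c, d, rfl⟩ := (mem_abA _ hc x).1 hx
          exact (mem_abA _ hc _).2 (hA a b c d)
        apply Subgroup.eq_of_le_of_card_ge hle
        rw [card_abA _ h₂.inj hc, card_abA _ h₁.inj hc]
      intro a b c d
      apply (mem_abA _ hc _).1
      rw [hA']
      have hx : (f₁.comp (twistHom μ hμ)) (u a b, u c d) ∈ abA f₁ hc := by
        rw [← hA']; exact f_mem_abA _ hc a b c d
      obtain ⟨a', b', c', d', e⟩ := (mem_abA _ hc _).1 hx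
      rw [e]
      exact (mem_abA _ hc _).2 (hg a' b' c' d')
    · rw [← hr₁]; exact Wr.comp_range (twistEquiv μ hμ hinj)
  · refine ⟨f₁, out_wr h₁ hc hρ (fun σ => ?_), hr₁⟩
    obtain ⟨g, hg, hg2⟩ := hfr σ
    refine ⟨g, hg, fun i => ?_⟩
    rw [← phi_o3 d, ← phi_o3 d, hg2]

end Cfsg.Agent.TypeLFive.WRMain
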