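import Mathlib
import Cfsg.Agent.TypeLFive.SDMain
import Cfsg.Agent.TypeLFive.WRMain
import Cfsg.Agent.SylowLFive.Frame

/-!
# S0511: from the fusion output (F) to the frame `Fr` and the fusion fields of `Fr5`
-/

set_option autoImplicit false

namespace Cfsg.Agent.TypeLFive.FusGlue

open Subgroup Cfsg.Agent.TypeLFive.Model Cfsg.Agent.TypeLFive.Facts Cfsg.Agent.TypeLFive.FrameE
open Cfsg.Agent.TypeLFive.Out Cfsg.Agent.TypeLFive.Five Cfsg.Agent.SylowLFive.Frame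
open Cfsg.Agent.Lib.GoldschmidtFusion

variable {G W : Type*} [Group G] [Group W] {f : W × W →* G} {w : G} {ζ e : W}

section zv

theorem zv_sq (b : WBase ζ) (d : EData ζ e) (i : Fin 5) : zv ζ e i * zv ζ e i = 1 := by
  have h1 := eζ_sq b d
  fin_cases i
  · change (e * ζ, ζ) * (e * ζ, ζ) = 1
    rw [Prod.mk_mul_mk, h1, b.sq]; rfl
  · change (e, ζ) * (e, ζ) = 1
    rw [Prod.mk_mul_mk, d.ee, b.sq]; rfl
  · change (ζ, e * ζ) * (ζ, e * ζ) = 1
    rw [Prod.mk_mul_mk, h1, b.sq]; rfl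
  · change (ζ, e) * (ζ, e) = 1
    rw [Prod.mk_mul_mk, d.ee, b.sq]; rfl
  · change (ζ, ζ) * (ζ, ζ) = 1
    rw [Prod.mk_mul_mk, b.sq]; rfl

/-- every `zv i` has components among the values of `psi`. -/
theorem zv_psi (d : EData ζ e) (i : Fin 5) :
    ∃ k l k' l', zv ζ e i = (psi ζ e k l, psi ζ e k' l') := by
  fin_cases i
  · exact ⟨0, 1, 1, 1, by rw [psi_01, psi_11 d]; rfl⟩
  · exact ⟨1, 0, 1, 1, by rw [psi_10, psi_11 d]; rfl⟩
  · exact ⟨1, 1, 0, 1, by rw [psi_01, psi_11 d]; rfl⟩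
  · exact ⟨1, 1, 1, 0, by rw [psi_10, psi_11 d]; rfl⟩
  · exact ⟨1, 1, 1, 1, by rw [psi_11 d]; rfl⟩

theorem zv_comm (b : WBase ζ) (d : EData ζ e) (i j : Fin 5) :
    zv ζ e i * zv ζ e j = zv ζ e j * zv ζ e i := by
  obtain ⟨k, l, k', l', h1⟩ := zv_psi (ζ := ζ) (e := e) d i
  obtain ⟨m, p, m', p', h2⟩ := zv_psi (ζ := ζ) (e := e) d j
  rw [h1, h2, Prod.mk_mul_mk, Prod.mk_mul_mk, ← psi_add b d, ← psi_add b d, ← psi_add b d,
    ← psi_add b d, add_comm k, add_comm l, add_comm k', add_comm l']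

theorem zv_01 (b : WBase ζ) (d : EData ζ e) : zv ζ e 0 * zv ζ e 1 = (ζ, 1) := by
  change (e * ζ * e, ζ * ζ) = (ζ, 1)
  rw [b.sq, mul_assoc, b.central e, ← mul_assoc, d.ee, one_mul]

theorem zv_23 (b : WBase ζ) (d : EData ζ e) : zv ζ e 2 * zv ζ e 3 = (1, ζ) := by
  change (ζ * ζ, e * ζ * e) = (1, ζ)
  rw [b.sq, mul_assoc, b.central e, ← mul_assoc, d.ee, one_mul]

theorem zv_02 (b : WBase ζ) : zv ζ e 0 * zv ζ e 2 = (e, e) := by
  change (e * ζ * ζ, ζ * (e * ζ)) = (e, e)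
  rw [mul_assoc, b.sq, mul_one, b.central (e * ζ), mul_assoc, b.sq, mul_one]

theorem zv_04 (b : WBase ζ) : zv ζ e 0 * zv ζ e 4 = (e, 1) := by
  change (e * ζ * ζ, ζ * ζ) = (e, 1)
  rw [mul_assoc, b.sq, mul_one]

theorem zv_24 (b : WBase ζ) : zv ζ e 2 * zv ζ e 4 = (1, e) := by
  change (ζ * ζ, e * ζ * ζ) = (1, e)
  rw [mul_assoc, b.sq, mul_one]

/-- the swap permutes the `zv i` by `(0 2)(1 3)`. -/
theorem zv_swap (i : Fin 5) : ((zv ζ e i).2, (zv ζ e i).1) =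
    zv ζ e ((Equiv.swap 0 2 * Equiv.swap 1 3 : Equiv.Perm (Fin 5)) i) := by
  fin_cases i <;> rfl

end zv

/-- The frame. -/
def toFr (S : Subgroup G) (h : FusOut S f w ζ e) (b : WBase ζ) (d : EData ζ e) : Fr G where
  T i j := f (zv ζ e i * zv ζ e j)
  T_self i := by rw [zv_sq b d, map_one]
  T_symm i j := by rw [zv_comm b d]
  T_mul i j k := by
    rw [← map_mul]
    congr 1
    calc zv ζ e i * zv ζ e j * (zv ζ e j * zv ζ e k)
        = zv ζ e i * (zv ζ e j * zv ζ e j) * zv ζ e k := by group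
      _ = _ := by rw [zv_sq b d, mul_one]
  T_ne := by
    rw [zv_01 b d, Ne, h.wr.f_eq_one_iff, Prod.mk_eq_one]
    exact fun hh => b.ne hh.1
  perm σ := by
    obtain ⟨g, hg⟩ := h.perm σ
    refine ⟨g, fun i j => ?_⟩
    rw [map_mul, map_mul]
    calc g * (f (zv ζ e i) * f (zv ζ e j)) * g⁻¹
        = (g * f (zv ζ e i) * g⁻¹) * (g * f (zv ζ e j) * g⁻¹) := by group
      _ = _ := by rw [hg, hg]

theorem toFr_T {S : Subgroup G} (h : FusOut S f w ζ e) (b : WBase ζ) (d : EData ζ e)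
    (i j : Fin 5) : (toFr S h b d).T i j = f (zv ζ e i * zv ζ e j) := rfl

theorem T_01 {S : Subgroup G} (h : FusOut S f w ζ e) (b : WBase ζ) (d : EData ζ e) :
    (toFr S h b d).T 0 1 = f (ζ, 1) := by rw [toFr_T, zv_01 b d]

theorem T_23 {S : Subgroup G} (h : FusOut S f w ζ e) (b : WBase ζ) (d : EData ζ e) :
    (toFr S h b d).T 2 3 = f (1, ζ) := by rw [toFr_T, zv_23 b d]

/-- the moves -/
def Moves (f : W × W →* G) (ζ e : W) : Prop :=
  ∀ p : W, p * p = 1 → p ≠ 1 → p ≠ ζ → ∃ m : G, m * f (ζ, 1) = f (ζ, 1) * m ∧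
    m * f (1, ζ) = f (1, ζ) * m ∧ ∀ q, m * f (p, q) * m⁻¹ = f (e, q)

theorem Moves.swap {S : Subgroup G} (h : Wr S f w) (hm : Moves f ζ e) (q : W) (hq : q * q = 1)
    (hq1 : q ≠ 1) (hqζ : q ≠ ζ) : ∃ m : G, m * f (ζ, 1) = f (ζ, 1) * m ∧
    m * f (1, ζ) = f (1, ζ) * m ∧ ∀ p, m * f (p, q) * m⁻¹ = f (p, e) := by
  obtain ⟨m, h1, h2, h3⟩ := hm q hq hq1 hqζ
  refine ⟨w * m * w⁻¹, ?_, ?_, fun p => ?_⟩
  · rw [← h.w_conj 1 ζ]
    calc w * m * w⁻¹ * (w * f (1, ζ) * w⁻¹) = w * (m * f (1, ζ)) * w⁻¹ := by group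
      _ = w * (f (1, ζ) * m) * w⁻¹ := by rw [h2]
      _ = _ := by group
  · rw [← h.w_conj ζ 1]
    calc w * m * w⁻¹ * (w * f (ζ, 1) * w⁻¹) = w * (m * f (ζ, 1)) * w⁻¹ := by group
      _ = w * (f (ζ, 1) * m) * w⁻¹ := by rw [h1]
      _ = _ := by group
  · have hw := h.w_conj' p q
    calc w * m * w⁻¹ * f (p, q) * (w * m * w⁻¹)⁻¹
        = w * (m * (w⁻¹ * f (p, q) * w) * m⁻¹) * w⁻¹ := by group
      _ = w * (m * (w * f (p, q) * w) * m⁻¹) * w⁻¹ := by rw [h.w_inv]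
      _ = w * (m * f (q, p) * m⁻¹) * w⁻¹ := by rw [hw]
      _ = f (p, e) := by rw [h3, h.w_conj]

/-- an involution of `T` is moved into `E` by an element centralising `t` and `t'`. -/
theorem move_both {S : Subgroup G} (h : Wr S f w) (hm : Moves f ζ e) (p q : W)
    (hp : p * p = 1) (hq : q * q = 1) : ∃ m : G, m * f (ζ, 1) = f (ζ, 1) * m ∧
    m * f (1, ζ) = f (1, ζ) * m ∧ ∃ p' q', m * f (p, q) * m⁻¹ = f (p', q') ∧
      (p' = 1 ∨ p' = ζ ∨ p' = e) ∧ (q' = 1 ∨ q' = ζ ∨ q' = e) := by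
  have h1 : ∃ m : G, m * f (ζ, 1) = f (ζ, 1) * m ∧ m * f (1, ζ) = f (1, ζ) * m ∧
      ∃ p', (∀ q, m * f (p, q) * m⁻¹ = f (p', q)) ∧ (p' = 1 ∨ p' = ζ ∨ p' = e) := by
    by_cases hp1 : p = 1
    · exact ⟨1, by group, by group, p, fun q => by group, Or.inl hp1⟩
    · by_cases hp2 : p = ζ
      · exact ⟨1, by group, by group, p, fun q => by group, Or.inr (Or.inl hp2)⟩
      · obtain ⟨m, a1, a2, a3⟩ := hm p hp hp1 hp2
        exact ⟨m, a1, a2, e, a3, Or.inr (Or.inr rfl)⟩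
  have h2 : ∃ m : G, m * f (ζ, 1) = f (ζ, 1) * m ∧ m * f (1, ζ) = f (1, ζ) * m ∧
      ∃ q', (∀ p, m * f (p, q) * m⁻¹ = f (p, q')) ∧ (q' = 1 ∨ q' = ζ ∨ q' = e) := by
    by_cases hq1 : q = 1
    · exact ⟨1, by group, by group, q, fun p => by group, Or.inl hq1⟩
    · by_cases hq2 : q = ζ
      · exact ⟨1, by group, by group, q, fun p => by group, Or.inr (Or.inl hq2)⟩
      · obtain ⟨m, a1, a2, a3⟩ := Moves.swap h hm q hq hq1 hq2
        exact ⟨m, a1, a2, e, a3, Or.inr (Or.inr rfl)⟩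
  obtain ⟨m, a1, a2, p', a3, hp'⟩ := h1
  obtain ⟨m', b1, b2, q', b3, hq'⟩ := h2
  refine ⟨m' * m, ?_, ?_, p', q', ?_, hp', hq'⟩
  · rw [mul_assoc, a1, ← mul_assoc, b1, mul_assoc]
  · rw [mul_assoc, a2, ← mul_assoc, b2, mul_assoc]
  · calc m' * m * f (p, q) * (m' * m)⁻¹ = m' * (m * f (p, q) * m⁻¹) * m'⁻¹ := by group
      _ = _ := by rw [a3, b3]

/-- `w` is conjugate to `t` inside `C_G(z)`. -/
theorem conj_w_z [Finite G] {S : Sylow 2 G} (h : Wr (S : Subgroup G) f w) (b : WBase ζ)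
    (hw : IsConj (f (ζ, 1)) w) : ∃ g, g * w * g⁻¹ = f (ζ, 1) ∧
      g * f (ζ, ζ) * g⁻¹ = f (ζ, ζ) := by
  obtain ⟨g0, hg0⟩ := isConj_iff.1 hw.symm
  let R : Subgroup G := (S : Subgroup G) ⊓ centralizer ({w} : Set G)
  have hR : IsPGroup 2 R := S.isPGroup'.to_le inf_le_left
  have hRle : R.map (MulAut.conj g0).toMonoidHom ≤ centralizer ({f (ζ, 1)} : Set G) := by
    rintro _ ⟨r, hr, rfl⟩
    rw [mem_centralizer_singleton_iff]
    have h1 := mem_centralizer_singleton_iff.1 (Subgroup.mem_inf.1 hr).2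
    change g0 * r * g0⁻¹ * f (ζ, 1) = f (ζ, 1) * (g0 * r * g0⁻¹)
    rw [← hg0]
    calc g0 * r * g0⁻¹ * (g0 * w * g0⁻¹) = g0 * (r * w) * g0⁻¹ := by group
      _ = g0 * (w * r) * g0⁻¹ := by rw [h1]
      _ = _ := by group
  obtain ⟨m, hm, hmD⟩ := exists_conj_le_in (p := 2) (S.isPGroup'.to_le h.range_le)
    (Control.not_dvd_relIndex_t h b) hRle (hR.map _)
  rw [Control.map_conj_mul] at hmD
  have hm1 := mem_centralizer_singleton_iff.1 hm
  have hk : Ext (S : Subgroup G) f w (m * g0) ζ 1 := by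
    refine ⟨?_, fun r hr hrw => ?_⟩
    · calc m * g0 * w * (m * g0)⁻¹ = m * (g0 * w * g0⁻¹) * m⁻¹ := by group
        _ = f (ζ, 1) * m * m⁻¹ := by rw [hg0, hm1]
        _ = _ := by group
    · exact h.range_le (hmD ⟨r, Subgroup.mem_inf.2 ⟨hr, mem_centralizer_singleton_iff.2 hrw⟩, rfl⟩)
  refine ⟨m * g0, hk.eq, (hk.case_t h b 1 (by rw [one_mul])).1⟩

/-- The generators of `E` as a subgroup. -/
theorem mem_closure {S : Subgroup G} (h : FusOut S f w ζ e) (b : WBase ζ) (d : EData ζ e)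
    (p q : W) (hp : p = 1 ∨ p = ζ ∨ p = e) (hq : q = 1 ∨ q = ζ ∨ q = e) :
    f (p, q) ∈ Subgroup.closure {y | ∃ i j, y = (toFr S h b d).T i j} := by
  set K := Subgroup.closure {y | ∃ i j, y = (toFr S h b d).T i j} with hK
  have hT : ∀ i j, f (zv ζ e i * zv ζ e j) ∈ K := fun i j =>
    Subgroup.subset_closure ⟨i, j, rfl⟩
  have h1 : f (p, 1) ∈ K := by
    rcases hp with rfl | rfl | rfl
    · have : f ((1 : W), (1 : W)) = 1 := map_one f
      rw [this]; exact K.one_mem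
    · rw [← zv_01 b d]; exact hT 0 1
    · rw [← zv_04 b]; exact hT 0 4
  have h2 : f (1, q) ∈ K := by
    rcases hq with rfl | rfl | rfl
    · have : f ((1 : W), (1 : W)) = 1 := map_one f
      rw [this]; exact K.one_mem
    · rw [← zv_23 b d]; exact hT 2 3
    · rw [← zv_24 b]; exact hT 2 4
  have h3 := K.mul_mem h1 h2
  rwa [h.wr.f_mul_f, mul_one, one_mul] at h3

/-- The fusion fields of `Fr5`. -/
structure Fields (S : Sylow 2 G) (F : Fr G) : Prop where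
  ne : ∀ g, g * F.T 0 1 * g⁻¹ ≠ F.T 0 1 * F.T 2 3
  inv_C : ∀ u, orderOf u = 2 → u * F.T 0 1 = F.T 0 1 * u → ∃ c, c * F.T 0 1 = F.T 0 1 * c ∧
    c * u * c⁻¹ ∈ Subgroup.closure {y | ∃ i j, y = F.T i j}
  inv_Cz : ∀ u, orderOf u = 2 → u * (F.T 0 1 * F.T 2 3) = (F.T 0 1 * F.T 2 3) * u →
    ∃ c, c * (F.T 0 1 * F.T 2 3) = (F.T 0 1 * F.T 2 3) * c ∧
    c * u * c⁻¹ ∈ Subgroup.closure {y | ∃ i j, y = F.T i j}
  S_le : ∀ s ∈ S, s ∈ Subgroup.closure ({c | c * F.T 0 1 = F.T 0 1 * c} ∪ {n | F.Ind n})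
  inv_S : ∀ u ∈ S, orderOf u = 2 → ∃ s ∈ S, ∃ i j, i ≠ j ∧
    (s * u * s⁻¹) * F.T i j = F.T i j * (s * u * s⁻¹)

theorem fields [Finite G] {S : Sylow 2 G} (h : FusOut (S : Subgroup G) f w ζ e) (b : WBase ζ)
    (d : EData ζ e) (hm : Moves f ζ e) : Fields S (toFr (S : Subgroup G) h b d) := by
  have hT01 := T_01 h b d
  have hT23 := T_23 h b d
  have hz : f (ζ, 1) * f (1, ζ) = f (ζ, ζ) := by rw [h.wr.f_mul_f, mul_one, one_mul]
  have hsq : ∀ u : G, orderOf u = 2 → u * u = 1 := by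
    intro u hu
    rw [← pow_two, ← hu, pow_orderOf_eq_one]
  have hzp : ∀ u : G, orderOf u = 2 → IsPGroup 2 (Subgroup.zpowers u) := by
    intro u hu
    apply IsPGroup.of_card (n := 1)
    rw [Nat.card_zpowers, hu, pow_one]
  have hconj_sq : ∀ u c : G, u * u = 1 → c * u * c⁻¹ * (c * u * c⁻¹) = 1 := by
    intro u c hu
    calc c * u * c⁻¹ * (c * u * c⁻¹) = c * (u * u) * c⁻¹ := by group
      _ = 1 := by rw [hu]; group
  refine ⟨?_, ?_, ?_, ?_, ?_⟩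
  · intro g hg
    rw [hT01, hT23, hz] at hg
    exact h.not_conj (isConj_iff.2 ⟨g, hg⟩)
  · intro u hu hut
    rw [hT01] at hut ⊢
    have hle : Subgroup.zpowers u ≤ centralizer ({f (ζ, 1)} : Set G) := by
      rw [Subgroup.zpowers_le, mem_centralizer_singleton_iff]
      exact hut
    obtain ⟨c, hc, hcT⟩ := exists_conj_le_in (p := 2) (S.isPGroup'.to_le h.wr.range_le)
      (Control.not_dvd_relIndex_t h.wr b) hle (hzp u hu)
    obtain ⟨⟨p, q⟩, hpq⟩ := hcT ⟨u, Subgroup.mem_zpowers u, rfl⟩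
    have hpq' : c * u * c⁻¹ = f (p, q) := hpq.symm
    have h1 := hconj_sq u c (hsq u hu)
    rw [hpq', h.wr.f_mul_f, h.wr.f_eq_one_iff, Prod.mk_eq_one] at h1
    obtain ⟨m, m1, -, p', q', m3, hp', hq'⟩ := move_both h.wr hm p q h1.1 h1.2
    refine ⟨m * c, ?_, ?_⟩
    · have h2 := mem_centralizer_singleton_iff.1 hc
      rw [mul_assoc, h2, ← mul_assoc, m1, mul_assoc]
    · have e1 : m * c * u * (m * c)⁻¹ = f (p', q') := by
        calc m * c * u * (m * c)⁻¹ = m * (c * u * c⁻¹) * m⁻¹ := by group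
          _ = _ := by rw [hpq', m3]
      rw [e1]
      exact mem_closure h b d p' q' hp' hq'
  · intro u hu huz
    rw [hT01, hT23, hz] at huz ⊢
    have hle : Subgroup.zpowers u ≤ centralizer ({f (ζ, ζ)} : Set G) := by
      rw [Subgroup.zpowers_le, mem_centralizer_singleton_iff]
      exact huz
    obtain ⟨c, hc, hcT⟩ := exists_conj_le_in (p := 2) S.isPGroup'
      (Control.not_dvd_relIndex_z S _ (fun r hr => TNotZ.z_comm h.wr b r hr)) hle (hzp u hu)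
    have hcS : c * u * c⁻¹ ∈ (S : Subgroup G) := hcT ⟨u, Subgroup.mem_zpowers u, rfl⟩
    have hcz := mem_centralizer_singleton_iff.1 hc
    have h1 := hconj_sq u c (hsq u hu)
    rcases h.wr.cases _ hcS with ⟨p, q, hpq⟩ | ⟨p, q, hpq⟩
    · rw [hpq, h.wr.f_mul_f, h.wr.f_eq_one_iff, Prod.mk_eq_one] at h1
      obtain ⟨m, m1, m2, p', q', m3, hp', hq'⟩ := move_both h.wr hm p q h1.1 h1.2
      refine ⟨m * c, ?_, ?_⟩
      · have m4 : m * f (ζ, ζ) = f (ζ, ζ) * m := by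
          rw [← hz, ← mul_assoc, m1, mul_assoc, m2, mul_assoc]
        rw [mul_assoc, hcz, ← mul_assoc, m4, mul_assoc]
      · have e1 : m * c * u * (m * c)⁻¹ = f (p', q') := by
          calc m * c * u * (m * c)⁻¹ = m * (c * u * c⁻¹) * m⁻¹ := by group
            _ = _ := by rw [hpq, m3]
        rw [e1]
        exact mem_closure h b d p' q' hp' hq'
    · rw [hpq, h.wr.fw_sq_eq_one_iff] at h1
      subst h1
      obtain ⟨g, g1, g2⟩ := conj_w_z h.wr b h.conj_w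
      have h2 := h.wr.f_conj_w p 1
      rw [inv_one, mul_one, one_mul] at h2
      refine ⟨g * (f (p, 1))⁻¹ * c, ?_, ?_⟩
      · have h3 := TNotZ.z_comm h.wr b _ (h.wr.mem (p, 1))
        have h3' : (f (p, 1))⁻¹ * f (ζ, ζ) = f (ζ, ζ) * (f (p, 1))⁻¹ := by
          calc (f (p, 1))⁻¹ * f (ζ, ζ) = (f (p, 1))⁻¹ * (f (ζ, ζ) * f (p, 1)) * (f (p, 1))⁻¹ := by
                group
            _ = (f (p, 1))⁻¹ * (f (p, 1) * f (ζ, ζ)) * (f (p, 1))⁻¹ := by rw [h3]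
            _ = _ := by group
        have h4 : g * f (ζ, ζ) = f (ζ, ζ) * g := by
          calc g * f (ζ, ζ) = (g * f (ζ, ζ) * g⁻¹) * g := by group
            _ = _ := by rw [g2]
        calc g * (f (p, 1))⁻¹ * c * f (ζ, ζ) = g * (f (p, 1))⁻¹ * (c * f (ζ, ζ)) := by group
          _ = g * ((f (p, 1))⁻¹ * f (ζ, ζ)) * c := by rw [hcz]; group
          _ = (g * f (ζ, ζ)) * (f (p, 1))⁻¹ * c := by rw [h3']; group
          _ = _ := by rw [h4]; group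
      · have e1 : g * (f (p, 1))⁻¹ * c * u * (g * (f (p, 1))⁻¹ * c)⁻¹ = f (ζ, 1) := by
          calc g * (f (p, 1))⁻¹ * c * u * (g * (f (p, 1))⁻¹ * c)⁻¹
              = g * ((f (p, 1))⁻¹ * (c * u * c⁻¹) * f (p, 1)) * g⁻¹ := by group
            _ = g * ((f (p, 1))⁻¹ * (f (p, 1) * w * (f (p, 1))⁻¹) * f (p, 1)) * g⁻¹ := by
                rw [hpq, h2]
            _ = g * w * g⁻¹ := by group
            _ = _ := g1
        rw [e1]
        exact mem_closure h b d ζ 1 (Or.inr (Or.inl rfl)) (Or.inl rfl)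
  · intro s hs
    have hfc : ∀ p, f p ∈ Subgroup.closure ({c | c * (toFr (S : Subgroup G) h b d).T 0 1 =
        (toFr (S : Subgroup G) h b d).T 0 1 * c} ∪ {n | (toFr (S : Subgroup G) h b d).Ind n}) := by
      intro p
      apply Subgroup.subset_closure
      left
      change f p * (toFr (S : Subgroup G) h b d).T 0 1 = (toFr (S : Subgroup G) h b d).T 0 1 * f p
      rw [hT01]
      exact TNotZ.t_comm h.wr b p
    have hwc : w ∈ Subgroup.closure ({c | c * (toFr (S : Subgroup G) h b d).T 0 1 =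
        (toFr (S : Subgroup G) h b d).T 0 1 * c} ∪ {n | (toFr (S : Subgroup G) h b d).Ind n}) := by
      apply Subgroup.subset_closure
      right
      refine ⟨Equiv.swap 0 2 * Equiv.swap 1 3, fun i j => ?_⟩
      rw [toFr_T, toFr_T, ← zv_swap, ← zv_swap]
      exact h.wr.w_conj (zv ζ e i * zv ζ e j).1 (zv ζ e i * zv ζ e j).2
    rcases h.wr.cases s hs with ⟨p, q, rfl⟩ | ⟨p, q, rfl⟩
    · exact hfc _
    · exact Subgroup.mul_mem _ (hfc _) hwc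
  · intro u hu hu2
    have h1 := hsq u hu2
    rcases h.wr.cases u hu with ⟨p, q, rfl⟩ | ⟨p, q, rfl⟩
    · refine ⟨1, (S : Subgroup G).one_mem, 0, 1, by decide, ?_⟩
      rw [hT01, one_mul, inv_one, mul_one]
      exact TNotZ.t_comm h.wr b _
    · rw [h.wr.fw_sq_eq_one_iff] at h1
      subst h1
      have h2 := h.wr.f_conj_w p 1
      rw [inv_one, mul_one, one_mul] at h2
      refine ⟨(f (p, 1))⁻¹, (S : Subgroup G).inv_mem (h.wr.mem _), 0, 2, by decide, ?_⟩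
      have e1 : (f (p, 1))⁻¹ * (f (p, p⁻¹) * w) * ((f (p, 1))⁻¹)⁻¹ = w := by
        rw [← h2]; group
      rw [e1, toFr_T, zv_02 b, h.wr.w_f]

/-- the moves in the semidihedral case -/
theorem moves_sd {n : ℕ} {u : ZMod (2 ^ n) → W} {y : W} {S : Subgroup G}
    (h : FusSD S f w u y) : Moves f (u (2 ^ (n - 1))) y := by
  intro p hp hp1 hp2
  have b := sd_base h.coord
  obtain ⟨a, ha⟩ := SDFive.conj_y h.coord p hp hp1 hp2
  refine ⟨f (a, 1), TNotZ.t_comm h.out.wr b _, ?_, fun q => ?_⟩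
  · rw [h.out.wr.f_comm_f_iff]
    exact ⟨by rw [one_mul, mul_one], by rw [one_mul, mul_one]⟩
  · rw [← map_inv, Prod.inv_mk, h.out.wr.f_mul_f, h.out.wr.f_mul_f, ha, inv_one, one_mul, mul_one]

/-- the moves in the wreathed case -/
theorem moves_wr {n : ℕ} {u : ZMod (2 ^ n) → ZMod (2 ^ n) → W} {s : W} {S : Subgroup G}
    (h : FusWR S f w u s) : Moves f (u (2 ^ (n - 1)) (2 ^ (n - 1))) (u (2 ^ (n - 1)) 0) := by
  intro p hp hp1 hp2
  have b := wr_base h.coord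
  obtain ⟨ρ, hρ⟩ := h.rho
  have hwr := h.out.wr
  have c1 : ∀ a : W, f (a, 1) * f (u (2 ^ (n - 1)) (2 ^ (n - 1)), 1) =
      f (u (2 ^ (n - 1)) (2 ^ (n - 1)), 1) * f (a, 1) := fun a => TNotZ.t_comm hwr b _
  have c2 : ∀ a : W, f (a, 1) * f (1, u (2 ^ (n - 1)) (2 ^ (n - 1))) =
      f (1, u (2 ^ (n - 1)) (2 ^ (n - 1))) * f (a, 1) := by
    intro a
    rw [hwr.f_comm_f_iff]
    exact ⟨by rw [one_mul, mul_one], by rw [one_mul, mul_one]⟩
  have key : ∀ a q, f (a, 1) * f (p, q) * (f (a, 1))⁻¹ = f (a * p * a⁻¹, q) := by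
    intro a q
    rw [← map_inv, Prod.inv_mk, hwr.f_mul_f, hwr.f_mul_f, inv_one, one_mul, mul_one]
  have hρc : ∀ a y, ρ⁻¹ * f (u a a, y) = f (u a a, y) * ρ⁻¹ := by
    intro a y
    have h1 := hρ.comm a y
    calc ρ⁻¹ * f (u a a, y) = ρ⁻¹ * (f (u a a, y) * ρ) * ρ⁻¹ := by group
      _ = ρ⁻¹ * (ρ * f (u a a, y)) * ρ⁻¹ := by rw [h1]
      _ = _ := by group
  rcases WRMain.conj_d_or_s h.coord p hp hp1 hp2 with ⟨a, ha⟩ | ⟨a, ha⟩
  · exact ⟨f (a, 1), c1 a, c2 a, fun q => by rw [key, ha]⟩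
  · refine ⟨ρ⁻¹ * f (a, 1), ?_, ?_, fun q => ?_⟩
    · rw [mul_assoc, c1, ← mul_assoc, hρc, mul_assoc]
    · have h0 : f ((1 : W), u (2 ^ (n - 1)) (2 ^ (n - 1))) =
        f (u 0 0, u (2 ^ (n - 1)) (2 ^ (n - 1))) := by rw [h.coord.u_zero]
      rw [mul_assoc, c2, ← mul_assoc, h0, hρc, mul_assoc]
    · calc ρ⁻¹ * f (a, 1) * f (p, q) * (ρ⁻¹ * f (a, 1))⁻¹
          = ρ⁻¹ * (f (a, 1) * f (p, q) * (f (a, 1))⁻¹) * ρ := by group
        _ = ρ⁻¹ * f (s, q) * ρ := by rw [key, ha]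
        _ = ρ⁻¹ * (ρ * f (u (2 ^ (n - 1)) 0, q) * ρ⁻¹) * ρ := by
            rw [WRMain.rho_d_s h.coord hρ]
        _ = _ := by group

/-- the frame, semidihedral case -/
def frSD {n : ℕ} {u : ZMod (2 ^ n) → W} {y : W} {S : Subgroup G} (h : FusSD S f w u y) : Fr G :=
  toFr S h.out (sd_base h.coord) (SDMain.edata h.coord)

theorem fieldsSD [Finite G] {n : ℕ} {u : ZMod (2 ^ n) → W} {y : W} {S : Sylow 2 G}
    (h : FusSD (S : Subgroup G) f w u y) : Fields S (frSD h) :=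
  fields h.out (sd_base h.coord) (SDMain.edata h.coord) (moves_sd h)

/-- the frame, wreathed case -/
def frWR {n : ℕ} {u : ZMod (2 ^ n) → ZMod (2 ^ n) → W} {s : W} {S : Subgroup G}
    (h : FusWR S f w u s) : Fr G :=
  toFr S h.out (wr_base h.coord) (WRMain.edata h.coord)

theorem fieldsWR [Finite G] {n : ℕ} {u : ZMod (2 ^ n) → ZMod (2 ^ n) → W} {s : W}
    {S : Sylow 2 G} (h : FusWR (S : Subgroup G) f w u s) : Fields S (frWR h) :=
  fields h.out (wr_base h.coord) (WRMain.edata h.coord) (moves_wr h)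

end Cfsg.Agent.TypeLFive.FusGlue
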