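import Mathlib
import Cfsg.Agent.TypeLFive.CentOut
import Cfsg.Agent.TypeLFive.CentCov
import Cfsg.Agent.TypeLFive.CentR
import Cfsg.Agent.TypeLFive.CentGlue
import Cfsg.Agent.TypeLFive.CoreOut
import Cfsg.Agent.TypeLFive.FusGlue

/-!
# From the data `CData` and the fusion output to the structure `CenK` of `C(t) / O(C(t))`
-/

set_option autoImplicit false

namespace Cfsg.Agent.TypeLFive.CentOutK

open Subgroup hiding mk
open Cfsg.Agent.SignalizersComponents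
open Cfsg.Agent.SignalizersComponents.GoldschmidtFunctor
open Cfsg.Agent.TypeLFive.CentAbs Cfsg.Agent.TypeLFive.CentData
  Cfsg.Agent.TypeLFive.CentFiveApp Cfsg.Agent.TypeLFive.JIdent Cfsg.Agent.TypeLFive.QUniq
  Cfsg.Agent.TypeLFive.CentFiveJ Cfsg.Agent.TypeLFive.CentOut Cfsg.Agent.TypeLFive.CentGlue
  Cfsg.Agent.TypeLFive.CoreBalance Cfsg.Agent.TypeLFive.CoreLoc Cfsg.Agent.TypeLFive.CoreOut
  Cfsg.Agent.TypeLFive.Out Cfsg.Agent.TypeLFive.Facts Cfsg.Agent.TypeLFive.FrameE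
  Cfsg.Agent.SylowLFive.Frame

universe v w'

variable {G : Type v} {W : Type w'} [Group G] [Group W] {f : W × W →* G} {Q' : Subgroup W} {ζ e : W}
  {w : G}

theorem map_phi_one (D : CData f Q' ζ) (R : Subgroup W) :
    (R.prod ⊥).map (phi D) = bar (f (ζ, 1)) (P1 f R) := by
  ext x
  constructor
  · rintro ⟨⟨a, b⟩, ⟨ha, hb⟩, rfl⟩
    have hb1 : b = 1 := hb
    subst hb1
    exact mem_bar (mem_Ct D (a, 1)) (mem_P1.2 ⟨a, ha, rfl⟩)
  · rintro ⟨c, hc, rfl⟩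
    obtain ⟨a, ha, hac⟩ := mem_P1.1 (mem_subgroupOf.1 hc)
    refine ⟨(a, 1), ⟨ha, rfl⟩, ?_⟩
    rw [phi_apply]
    congr 1
    exact Subtype.ext hac

theorem map_phi_two (D : CData f Q' ζ) (R : Subgroup W) :
    ((⊥ : Subgroup W).prod R).map (phi D) = bar (f (ζ, 1)) (P2 f R) := by
  ext x
  constructor
  · rintro ⟨⟨a, b⟩, ⟨ha, hb⟩, rfl⟩
    have ha1 : a = 1 := ha
    subst ha1
    exact mem_bar (mem_Ct D (1, b)) (mem_P2.2 ⟨b, hb, rfl⟩)
  · rintro ⟨c, hc, rfl⟩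
    obtain ⟨b, hb, hbc⟩ := mem_P2.1 (mem_subgroupOf.1 hc)
    refine ⟨(1, b), ⟨rfl, hb⟩, ?_⟩
    rw [phi_apply]
    congr 1
    exact Subtype.ext hbc

/-- The output of helper539's `CentGlueKj.exists_chyp`, transported to `b = f (ζ, 1)`. -/
theorem chyp_of [Finite G] (D : CData f Q' ζ)
    (hk : ∃ T : Sylow 2 (XX f ζ), CHyp T (W1 D) (W2 D) (Q1 D)) {b : G} (hb : b = f (ζ, 1)) :
    ∃ T : Sylow 2 (Q b), CHyp T (bar b (P1 f ⊤)) (bar b (P2 f ⊤)) (bar b (P1 f Q')) := by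
  subst hb
  obtain ⟨T, h⟩ := hk
  refine ⟨T, ?_⟩
  have h1 : W1 D = bar (f (ζ, 1)) (P1 f ⊤) := map_phi_one D ⊤
  have h2 : W2 D = bar (f (ζ, 1)) (P2 f ⊤) := map_phi_two D ⊤
  have h3 : Q1 D = bar (f (ζ, 1)) (P1 f Q') := map_phi_one D Q'
  rw [← h1, ← h2, ← h3]
  exact h

/-- The covering property of helper539's `CentCov`. -/
def CovX (D : CData f Q' ζ) (e : W) : Prop := ∀ N : Subgroup (XX f ζ), N.Normal →
  phi D (e, 1) ∈ N → normalClosure (Q1 D : Set (XX f ζ)) ≤ N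

theorem cov_of (D : CData f Q' ζ) (hc : CovX D e) {b : G} (hb : b = f (ζ, 1))
    (N : Subgroup (Q b)) (hN : N.Normal) (hx : f (e, 1) ∈ centralizer ({b} : Set G))
    (he : mk b (f (e, 1)) hx ∈ N) : normalClosure (bar b (P1 f Q') : Set (Q b)) ≤ N := by
  subst hb
  have h3 : Q1 D = bar (f (ζ, 1)) (P1 f Q') := map_phi_one D Q'
  rw [← h3]
  exact hc N hN he

/-- `f p` centralises `b`. -/
theorem f_mem (b0 : WBase ζ) {b : G} (hb : b = f (ζ, 1)) (p : W × W) :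
    f p ∈ centralizer ({b} : Set G) := by
  rw [mem_centralizer_singleton_iff, hb, ← map_mul, ← map_mul]
  congr 1
  exact Prod.ext (b0.central p.1).symm (by simp)

theorem mem_bar_one (b0 : WBase ζ) {b : G} (hb : b = f (ζ, 1)) {R : Subgroup W} {x : Q b} :
    x ∈ bar b (P1 f R) ↔ ∃ y ∈ R, x = mk b (f (y, 1)) (f_mem b0 hb _) := by
  constructor
  · rintro ⟨c, hc, rfl⟩
    obtain ⟨a, ha, hac⟩ := mem_P1.1 (mem_subgroupOf.1 hc)
    refine ⟨a, ha, ?_⟩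
    congr 1
    exact Subtype.ext hac.symm
  · rintro ⟨y, hy, rfl⟩
    exact mem_bar (f_mem b0 hb _) (mem_P1.2 ⟨y, hy, rfl⟩)

theorem mem_bar_two (b0 : WBase ζ) {b : G} (hb : b = f (ζ, 1)) {R : Subgroup W} {x : Q b} :
    x ∈ bar b (P2 f R) ↔ ∃ y ∈ R, x = mk b (f (1, y)) (f_mem b0 hb _) := by
  constructor
  · rintro ⟨c, hc, rfl⟩
    obtain ⟨a, ha, hac⟩ := mem_P2.1 (mem_subgroupOf.1 hc)
    refine ⟨a, ha, ?_⟩
    congr 1
    exact Subtype.ext hac.symm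
  · rintro ⟨y, hy, rfl⟩
    exact mem_bar (f_mem b0 hb _) (mem_P2.2 ⟨y, hy, rfl⟩)

theorem core_odd [Finite G] (b : G) :
    Odd (Nat.card (QuotientGroup.mk' (Cfsg.pPrimeCore 2 ↥(centralizer ({b} : Set G)))).ker) := by
  rw [QuotientGroup.ker_mk']
  exact Nat.coprime_two_right.1 (Lib.Cores.pPrimeCore_coprime 2)

section main

variable [Finite G] {S : Subgroup G}

/-- **The structure of `C(t) / O(C(t))`.** -/
theorem out (h0 : FusOut S f w ζ e) (b0 : WBase ζ) (d0 : EData ζ e) (D : CData f Q' ζ)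
    (hk : ∃ T : Sylow 2 (XX f ζ), CHyp T (W1 D) (W2 D) (Q1 D)) (hcov : CovX D e)
    (hQn : Q'.Normal) (hQL : QLike Q') (hId : IdThm.{v}) (F : FrX G)
    (hT : ∀ i j, F.T i j = f (zv ζ e i * zv ζ e j)) :
    ∃ (T : Sylow 2 (Q (F.T 0 1))) (F₀ : Type) (_ : Field F₀) (_ : Fintype F₀) (p : ℕ),
      CHyp T (bar (F.T 0 1) (P1 f ⊤)) (bar (F.T 0 1) (P2 f ⊤)) (bar (F.T 0 1) (P1 f Q')) ∧
      JData ↥(normalClosure (bar (F.T 0 1) (P2 f ⊤) : Set (Q (F.T 0 1)))) F₀ p ∧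
      CenK F p (normalClosure (bar (F.T 0 1) (P2 f ⊤) : Set (Q (F.T 0 1))))
        (normalClosure (bar (F.T 0 1) (P1 f Q') : Set (Q (F.T 0 1)))) (P1 f Q') w ∧
      (3 < Fintype.card F₀ →
        Nonempty (↥(normalClosure (bar (F.T 0 1) (P1 f Q') : Set (Q (F.T 0 1)))) ≃*
          Matrix.SpecialLinearGroup (Fin 2) F₀)) ∧
      (Fintype.card F₀ = 3 →
        normalClosure (bar (F.T 0 1) (P1 f Q') : Set (Q (F.T 0 1))) = bar (F.T 0 1) (P1 f Q')) := by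
  have hb : F.T 0 1 = f (ζ, 1) := by rw [hT, FusGlue.zv_01 b0 d0]
  have hT23 : F.T 2 3 = f (1, ζ) := by rw [hT, FusGlue.zv_23 b0 d0]
  have hT34 : F.T 3 4 = f (1, e * ζ) := by
    rw [hT]
    congr 1
    change (ζ * ζ, e * ζ) = (1, e * ζ)
    rw [b0.sq]
  have hT04 : F.T 0 4 = f (e, 1) := by rw [hT, FusGlue.zv_04 b0]
  have hz : F.toFr.z 0 = f (ζ, 1) * f (e, ζ) := by
    have h1 : F.toFr.z 0 = F.T 1 2 * F.T 3 4 := rfl
    rw [h1, hT34, hT, ← map_mul, ← map_mul]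
    congr 1
    change ((e * ζ) * 1, ζ * (e * ζ) * (e * ζ)) = (ζ * e, 1 * ζ)
    rw [mul_one, one_mul, ← b0.central e, mul_assoc ζ (ζ * e) (ζ * e)]
    congr 1
    have : ζ * e * (ζ * e) = 1 := by
      calc ζ * e * (ζ * e) = ζ * (e * ζ) * e := by group
        _ = ζ * (ζ * e) * e := by rw [b0.central e]
        _ = (ζ * ζ) * (e * e) := by group
        _ = 1 := by rw [b0.sq, d0.ee, mul_one]
    rw [this, mul_one]
  obtain ⟨T, h⟩ := chyp_of D hk hb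
  have hker := core_odd (G := G) (F.T 0 1)
  have hsur : Function.Surjective
      (QuotientGroup.mk' (Cfsg.pPrimeCore 2 ↥(centralizer ({F.T 0 1} : Set G)))) :=
    QuotientGroup.mk'_surjective _
  have hC : ∀ g, g ∈ centralizer ({F.T 0 1} : Set G) ↔ g * f (ζ, 1) = f (ζ, 1) * g := by
    intro g
    rw [mem_centralizer_singleton_iff, hb]
  have hfm := f_mem (f := f) b0 hb
  obtain ⟨F₀, i1, i2, p, hJ, hK1, hK2⟩ := out_of_cHyp (w := w) h0.wr.inj b0.pgroup h0.wr.w_conj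
    b0.ne b0.sq b0.central hQn hQL hC
    (QuotientGroup.mk' (Cfsg.pPrimeCore 2 ↥(centralizer ({F.T 0 1} : Set G)))) hsur hker h rfl rfl hId
  refine ⟨T, F₀, i1, i2, p, h, hJ, ?_, hK1, hK2⟩
  obtain ⟨hs, hn⟩ := h.simple_J
  have hW2le : bar (F.T 0 1) (P2 f ⊤) ≤ normalClosure (bar (F.T 0 1) (P2 f ⊤) : Set (Q (F.T 0 1))) :=
    subset_normalClosure
  have hmem2 : ∀ (x : G) (hx : x ∈ centralizer ({F.T 0 1} : Set G)) (y : W), x = f (1, y) →
      mk (F.T 0 1) x hx ∈ bar (F.T 0 1) (P2 f ⊤) := by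
    intro x hx y hxy
    exact mem_bar hx (mem_P2.2 ⟨y, mem_top y, hxy.symm⟩)
  have hcen : ∀ i j, F.T i j ∈ centralizer ({F.T 0 1} : Set G) := fun i j =>
    mem_centralizer_singleton_iff.2 (F.comm i j 0 1)
  refine ⟨?_, hs, hn, normalClosure_normal, h.kj, ?_, ?_, subset_normalClosure, ?_, ?_, ?_, ?_⟩
  · -- CenOut
    refine ⟨hcen 2 3, hcen 3 4, ?_, normalClosure_normal, hW2le (hmem2 _ _ ζ hT23),
      hW2le (hmem2 _ _ (e * ζ) hT34), ?_, ?_, hJ.facts⟩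
    · rw [hz]; exact mul_mem (hfm _) (hfm _)
    · intro j hj
      have hR := CentR.comm_J h h0 b0.sq b0.ne d0.ee d0.e_ne d0.e_ζ b0.central b0.pgroup
        (QuotientGroup.mk' (Cfsg.pPrimeCore 2 ↥(centralizer ({F.T 0 1} : Set G)))) hsur hker hfm
        (fun x => by
          rw [mem_bar_two b0 hb]
          exact ⟨fun ⟨y, _, hy⟩ => ⟨y, hy⟩, fun ⟨y, hy⟩ => ⟨y, mem_top y, hy⟩⟩)
        (fun x => by
          rw [mem_bar_one b0 hb]
          exact ⟨fun ⟨y, _, hy⟩ => ⟨y, hy⟩, fun ⟨y, hy⟩ => ⟨y, mem_top y, hy⟩⟩) j hj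
      -- `f (ζ, 1)` is central
      have hcentral : ∀ x : Q (F.T 0 1), mk (F.T 0 1) (f (ζ, 1)) (hfm _) * x =
          x * mk (F.T 0 1) (f (ζ, 1)) (hfm _) := by
        intro x
        obtain ⟨c, rfl⟩ := hsur x
        rw [← map_mul, ← map_mul]
        congr 1
        apply Subtype.ext
        exact ((hC c).1 c.2).symm
      have e1 : ∀ hh : F.toFr.z 0 ∈ centralizer ({F.T 0 1} : Set G),
          mk (F.T 0 1) (F.toFr.z 0) hh =
          mk (F.T 0 1) (f (ζ, 1)) (hfm _) * mk (F.T 0 1) (f (e, ζ)) (hfm _) := by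
        intro hh
        rw [← map_mul]
        congr 1
      rw [e1, mul_assoc]
      have hR' : mk (F.T 0 1) (f (e, ζ)) (hfm _) * j = j * mk (F.T 0 1) (f (e, ζ)) (hfm _) := hR
      rw [hR', ← mul_assoc, hcentral j, mul_assoc]
    · intro x
      obtain ⟨j, hj, c, hc, hx⟩ := h.exists_fac x
      exact ⟨j, hj, c, hx, hc _ (hmem2 _ _ ζ hT23), hc _ (hmem2 _ _ (e * ζ) hT34)⟩
  · -- P2
    exact (b0.pgroup.to_subgroup Q').map _
  · intro x hx
    obtain ⟨a, -, rfl⟩ := mem_P1.1 hx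
    exact hfm _
  · rw [hb, hT23]; exact h0.wr.w_conj ζ 1
  · rw [hb, hT23]; exact h0.wr.w_conj 1 ζ
  · intro x hx
    obtain ⟨a, -, rfl⟩ := mem_P1.1 hx
    have e1 := h0.wr.w_conj a 1
    exact ⟨by rw [e1]; exact hfm _, hW2le (hmem2 _ _ a e1)⟩
  · intro N hN hE
    refine cov_of D hcov hb N hN (hfm (e, 1)) ?_
    have h1 : F.T 0 4 ∈ EE F := T_mem_EE F 0 4
    have h2 := hE (mem_bar (hcen 0 4) h1)
    have e1 : mk (F.T 0 1) (f (e, 1)) (hfm (e, 1)) = mk (F.T 0 1) (F.T 0 4) (hcen 0 4) :=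
      congrArg (QuotientGroup.mk' (Cfsg.pPrimeCore 2 ↥(centralizer ({F.T 0 1} : Set G))))
        (Subtype.ext hT04.symm)
    rw [e1]; exact h2

end main

end Cfsg.Agent.TypeLFive.CentOutK
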