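import Mathlib
import Cfsg.Agent.S0542

/-!
# Generalities on 2-subgroups used in the wreathed half of (C), S0511
-/

set_option autoImplicit false

namespace Cfsg.Agent.TypeLFive.CentGen

open Subgroup

variable {G : Type*} [Group G] [Finite G]

/-- Two 2-subgroups of `H`: the second has an `H`-conjugate generating a 2-group with the first. -/
theorem exists_conj_into (H A B : Subgroup G) (hA : A ≤ H) (hB : B ≤ H) (pA : IsPGroup 2 A) (pB : IsPGroup 2 B) :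
    ∃ (R : Subgroup G) (k : G), k ∈ H ∧ IsPGroup 2 R ∧ R ≤ H ∧ A ≤ R ∧ ∀ b ∈ B, k * b * k⁻¹ ∈ R := by
  have : Fact (Nat.Prime 2) := ⟨Nat.prime_two⟩
  have pA' : IsPGroup 2 (A.subgroupOf H) := pA.comap_subtype
  have pB' : IsPGroup 2 (B.subgroupOf H) := pB.comap_subtype
  obtain ⟨Q, hQ⟩ := pA'.exists_le_sylow
  obtain ⟨Q', hQ'⟩ := pB'.exists_le_sylow
  obtain ⟨k, hk⟩ := MulAction.exists_smul_eq ↥H Q' Q
  refine ⟨(Q : Subgroup ↥H).map H.subtype, k, k.2, Q.isPGroup'.map _, map_subtype_le _, ?_, ?_⟩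
  · intro a ha
    exact ⟨⟨a, hA ha⟩, hQ (mem_subgroupOf.2 ha), rfl⟩
  · intro b hb
    refine ⟨k * ⟨b, hB hb⟩ * k⁻¹, ?_, rfl⟩
    rw [← hk]
    show k * ⟨b, hB hb⟩ * k⁻¹ ∈ ((k • Q' : Sylow 2 ↥H) : Subgroup ↥H)
    rw [Sylow.coe_subgroup_smul]
    exact ⟨⟨b, hB hb⟩, hQ' (mem_subgroupOf.2 hb), rfl⟩

/-- Every 2-subgroup has a conjugate in a Sylow 2-subgroup. -/
theorem exists_conj_sylow (P : Sylow 2 G) (R : Subgroup G) (hR : IsPGroup 2 R) :
    ∃ m : G, ∀ r ∈ R, m * r * m⁻¹ ∈ (P : Subgroup G) := by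
  have : Fact (Nat.Prime 2) := ⟨Nat.prime_two⟩
  obtain ⟨Q, hQ⟩ := hR.exists_le_sylow
  obtain ⟨k, hk⟩ := MulAction.exists_smul_eq G Q P
  refine ⟨k, fun r hr => ?_⟩
  rw [← hk]
  show k * r * k⁻¹ ∈ ((k • Q : Sylow 2 G) : Subgroup G)
  rw [Sylow.coe_subgroup_smul]
  exact ⟨r, hQ hr, rfl⟩

/-- If `T` is a maximal 2-subgroup of `C` and `L ≤ C` is normalised by `T` then `T ∩ L` has odd index in `L`. -/
theorem odd_relIndex (C T L : Subgroup G) (hT : T ≤ C) (hL : L ≤ C) (pT : IsPGroup 2 T)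
    (hmax : ∀ R : Subgroup G, IsPGroup 2 R → T ≤ R → R ≤ C → R = T)
    (hn : ∀ t ∈ T, ∀ l ∈ L, t * l * t⁻¹ ∈ L) : ¬ 2 ∣ T.relIndex L := by
  have : Fact (Nat.Prime 2) := ⟨Nat.prime_two⟩
  set M := T ⊔ L with hM
  have hMC : M ≤ C := sup_le hT hL
  have hTM : T ≤ M := le_sup_left
  have hLM : L ≤ M := le_sup_right
  let P : Sylow 2 ↥M :=
    { toSubgroup := T.subgroupOf M
      isPGroup' := pT.comap_subtype
      is_maximal' := by
        intro Q hQ hle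
        have h1 : Q.map M.subtype = T := by
          refine hmax _ (hQ.map _) ?_ ((map_subtype_le _).trans hMC)
          intro t ht
          exact ⟨⟨t, hTM ht⟩, hle (mem_subgroupOf.2 ht), rfl⟩
        rw [← h1]
        ext x
        rw [mem_subgroupOf]
        constructor
        · intro hx; exact ⟨x, hx, rfl⟩
        · rintro ⟨y, hy, hyx⟩
          rwa [← Subtype.ext hyx] }
  have hLn : (L.subgroupOf M).Normal := by
    have h1 : M ≤ normalizer (L : Set G) := by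
      refine sup_le ?_ le_normalizer
      intro t ht
      rw [mem_normalizer_iff]
      intro l
      constructor
      · exact fun hl => hn t ht l hl
      · intro hl
        have := hn t⁻¹ (inv_mem ht) _ hl
        have e : t⁻¹ * (t * l * t⁻¹) * t⁻¹⁻¹ = l := by group
        rwa [e] at this
    exact (normal_subgroupOf_iff_le_normalizer hLM).2 h1
  have h2 := Cfsg.Agent.S0542.relIndex_dvd_index_of_normal_right (T.subgroupOf M) (L.subgroupOf M)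
  rw [relIndex_subgroupOf hLM] at h2
  intro h3
  exact P.not_dvd_index (h3.trans h2)

omit [Finite G] in
/-- Cancelling an odd power: in a 2-group `x ^ m = 1` with `m` odd implies `x = 1`. -/
theorem eq_one_of_odd_pow {x : G} {m k : ℕ} (hm : ¬ 2 ∣ m) (h1 : x ^ m = 1) (h2 : x ^ 2 ^ k = 1) : x = 1 := by
  have h3 := Nat.dvd_gcd (orderOf_dvd_of_pow_eq_one h1) (orderOf_dvd_of_pow_eq_one h2)
  have h4 : Nat.Coprime m (2 ^ k) := by
    apply Nat.Coprime.pow_right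
    rw [Nat.coprime_comm]
    exact (Nat.Prime.coprime_iff_not_dvd Nat.prime_two).2 hm
  rw [h4.gcd_eq_one, Nat.dvd_one] at h3
  exact orderOf_eq_one_iff.1 h3

/-- The transfer trick: `P0 ≤ L` of odd index, `π : P0 → M` a hom to a commutative group; `z ∈ P0` central in `L`
of 2-power order with `π z ≠ 1`.  Then no `g ∈ L` sends `x` to `z x`. -/
theorem no_central_mul (L P0 : Subgroup G) (hP : P0 ≤ L) (hodd : ¬ 2 ∣ P0.relIndex L) {M : Type*} [CommGroup M]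
    (π : ↥P0 →* M) (z : G) (hz : z ∈ P0) (hzc : ∀ l ∈ L, l * z = z * l) (k : ℕ) (hz2 : z ^ 2 ^ k = 1)
    (hπ : π ⟨z, hz⟩ ≠ 1) (g x : G) (hg : g ∈ L) (hx : x ∈ L) : g * x * g⁻¹ ≠ z * x := by
  intro he
  let P1 : Subgroup ↥L := P0.subgroupOf L
  let e : ↥P1 →* ↥P0 :=
    { toFun := fun p => ⟨((p : ↥L) : G), mem_subgroupOf.1 p.2⟩
      map_one' := rfl
      map_mul' := fun _ _ => rfl }
  let φ : ↥P1 →* M := π.comp e
  have : P1.FiniteIndex := inferInstance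
  let ψ : ↥L →* M := MonoidHom.transfer φ
  have hzL : z ∈ L := hP hz
  have hzP1 : (⟨z, hzL⟩ : ↥L) ^ P1.index ∈ P1 := pow_mem (mem_subgroupOf.2 hz) _
  have hcen : ∀ l : ↥L, l⁻¹ * (⟨z, hzL⟩ : ↥L) * l = ⟨z, hzL⟩ := by
    intro l
    apply Subtype.ext
    push_cast
    rw [mul_assoc, ← hzc l l.2, inv_mul_cancel_left]
  have h1 : ψ ⟨z, hzL⟩ = φ ⟨(⟨z, hzL⟩ : ↥L) ^ P1.index, hzP1⟩ := by
    refine MonoidHom.transfer_eq_pow φ ⟨z, hzL⟩ ?_
    intro k g₀ _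
    have := hcen g₀
    calc g₀⁻¹ * (⟨z, hzL⟩ : ↥L) ^ k * g₀ = (g₀⁻¹ * (⟨z, hzL⟩ : ↥L) * g₀) ^ k := by
          have := conj_pow (a := g₀⁻¹) (b := (⟨z, hzL⟩ : ↥L)) (i := k)
          rw [inv_inv] at this
          exact this.symm
      _ = _ := by rw [this]
  have h2 : ψ ⟨z, hzL⟩ = (π ⟨z, hz⟩) ^ P1.index := by
    rw [h1, ← map_pow]
    rfl
  have h3 : ψ ⟨z, hzL⟩ = 1 := by
    have h4 : (⟨g, hg⟩ : ↥L) * ⟨x, hx⟩ * ⟨g, hg⟩⁻¹ = ⟨z, hzL⟩ * ⟨x, hx⟩ := Subtype.ext he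
    have h5 := congrArg ψ h4
    rw [map_mul, map_mul, map_inv, map_mul, mul_comm (ψ ⟨g, hg⟩), mul_inv_cancel_right] at h5
    exact (right_eq_mul.1 h5)
  rw [h3] at h2
  have h6 : (π ⟨z, hz⟩) ^ 2 ^ k = 1 := by
    rw [← map_pow]
    have : (⟨z, hz⟩ : ↥P0) ^ 2 ^ k = 1 := Subtype.ext hz2
    rw [this, map_one]
  have h7 : ¬ 2 ∣ P1.index := hodd
  have h8 := Nat.dvd_gcd (orderOf_dvd_of_pow_eq_one h2.symm) (orderOf_dvd_of_pow_eq_one h6)
  have h9 : Nat.Coprime P1.index (2 ^ k) := by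
    apply Nat.Coprime.pow_right
    rw [Nat.coprime_comm]
    exact (Nat.Prime.coprime_iff_not_dvd Nat.prime_two).2 h7
  rw [h9.gcd_eq_one, Nat.dvd_one] at h8
  exact hπ (orderOf_eq_one_iff.1 h8)

end Cfsg.Agent.TypeLFive.CentGen
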