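import Mathlib
import Cfsg.Agent.TypeLFive.CentWRTwist
import Cfsg.Agent.TypeLFive.CentGen

/-!
# Fusion in `C_G(t)`: wreathed half of (C), S0511: steps (W2) and (W3)(i)
-/

set_option autoImplicit false

namespace Cfsg.Agent.TypeLFive.CentWR

open Cfsg.Agent.TypeLFive.Model Cfsg.Agent.TypeLFive.Out Cfsg.Agent.TypeLFive.CentLin
open Cfsg.Agent.TwoFusion.QDBasic Cfsg.Agent.TwoFusion.WreathedBasic

/-- points -/
def P1 : Fin 5 → Fin 5 := ![1, 0, 2, 3, 4]
/-- points -/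
def P2 : Fin 5 → Fin 5 := ![0, 1, 3, 2, 4]
/-- points -/
def P3 : Fin 5 → Fin 5 := ![0, 1, 3, 4, 2]

theorem exists_word_aux : ∀ p q r : Fin 5, p ≠ 0 → p ≠ 1 → q ≠ 0 → q ≠ 1 → r ≠ 0 → r ≠ 1 → p ≠ q → p ≠ r →
    q ≠ r → ∃ e : Fin 2, ∃ l : Fin 3, P2^[(e : ℕ)] (P3^[(l : ℕ)] 2) = p ∧ P2^[(e : ℕ)] (P3^[(l : ℕ)] 3) = q ∧
      P2^[(e : ℕ)] (P3^[(l : ℕ)] 4) = r := by
  decide

theorem exists_word (π : Fin 5 → Fin 5) (hπ : Function.Injective π)
    (h : (π 0 = 0 ∧ π 1 = 1) ∨ (π 0 = 1 ∧ π 1 = 0)) :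
    ∃ d e : Fin 2, ∃ l : Fin 3, ∀ i, π i = P1^[(d : ℕ)] (P2^[(e : ℕ)] (P3^[(l : ℕ)] i)) := by
  have h01 : ∀ i, i ≠ 0 → i ≠ 1 → π i ≠ 0 ∧ π i ≠ 1 := by
    intro i h0 h1
    constructor
    · intro e
      rcases h with h | h
      · exact h0 (hπ (e.trans h.1.symm))
      · exact h1 (hπ (e.trans h.2.symm))
    · intro e
      rcases h with h | h
      · exact h1 (hπ (e.trans h.2.symm))
      · exact h0 (hπ (e.trans h.1.symm))
  have h2 := h01 2 (by decide) (by decide)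
  have h3 := h01 3 (by decide) (by decide)
  have h4 := h01 4 (by decide) (by decide)
  obtain ⟨e, l, w2, w3, w4⟩ := exists_word_aux (π 2) (π 3) (π 4) h2.1 h2.2 h3.1 h3.2 h4.1 h4.2
    (fun e => absurd (hπ e) (by decide)) (fun e => absurd (hπ e) (by decide)) (fun e => absurd (hπ e) (by decide))
  have f0' : ∀ (e : Fin 2) (l : Fin 3), P2^[(e : ℕ)] (P3^[(l : ℕ)] 0) = 0 := by decide
  have f1' : ∀ (e : Fin 2) (l : Fin 3), P2^[(e : ℕ)] (P3^[(l : ℕ)] 1) = 1 := by decide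
  have f0 := f0' e l
  have f1 := f1' e l
  have g : ∀ d : Fin 2, ∀ p : Fin 5, p ≠ 0 → p ≠ 1 → P1^[(d : ℕ)] p = p := by decide
  rcases h with ⟨a, b⟩ | ⟨a, b⟩
  · refine ⟨0, e, l, fun i => ?_⟩
    fin_cases i
    · show π 0 = P1^[0] _; rw [a]; exact f0.symm
    · show π 1 = P1^[0] _; rw [b]; exact f1.symm
    · exact w2.symm
    · exact w3.symm
    · exact w4.symm
  · refine ⟨1, e, l, fun i => ?_⟩
    fin_cases i
    · show π 0 = P1 (P2^[(e : ℕ)] (P3^[(l : ℕ)] 0)); rw [a, f0]; rfl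
    · show π 1 = P1 (P2^[(e : ℕ)] (P3^[(l : ℕ)] 1)); rw [b, f1]; rfl
    · show π 2 = P1^[((1 : Fin 2) : ℕ)] (P2^[(e : ℕ)] (P3^[(l : ℕ)] 2)); rw [w2]; exact (g 1 _ h2.1 h2.2).symm
    · show π 3 = P1^[((1 : Fin 2) : ℕ)] (P2^[(e : ℕ)] (P3^[(l : ℕ)] 3)); rw [w3]; exact (g 1 _ h3.1 h3.2).symm
    · show π 4 = P1^[((1 : Fin 2) : ℕ)] (P2^[(e : ℕ)] (P3^[(l : ℕ)] 4)); rw [w4]; exact (g 1 _ h4.1 h4.2).symm

variable {G W : Type*} [Group G] [Group W] {n : ℕ} {S : Subgroup G} {f : W × W →* G} {w : G}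
  {u : ZMod (2 ^ n) → ZMod (2 ^ n) → W} {s : W}

theorem Act.pow {g : G} {φ : V n →ₗ[ZMod (2 ^ n)] V n} (h : Act f u g φ) (k : ℕ) : Act f u (g ^ k) (φ ^ k) := by
  induction k with
  | zero =>
    rw [pow_zero, pow_zero]
    exact Act.one
  | succ k ih =>
    rw [pow_succ, pow_succ]
    exact ih.mul h

theorem zV_inj (hn : 1 ≤ n) : Function.Injective (zV n) := by
  have h1 := half_ne_zero n hn
  have h2 : (0 : ZMod (2 ^ n)) ≠ 2 ^ (n - 1) := fun e => h1 e.symm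
  intro i j
  fin_cases i <;> fin_cases j <;> simp [zV, h1, h2]

theorem zV_add (hn : 1 ≤ n) (i j : Fin 5) (h : zV n i + zV n j = ((2 ^ (n - 1), 2 ^ (n - 1)), (0, 0))) :
    (i = 0 ∧ j = 1) ∨ (i = 1 ∧ j = 0) := by
  have h1 := half_ne_zero n hn
  have h2 : (0 : ZMod (2 ^ n)) ≠ 2 ^ (n - 1) := fun e => h1 e.symm
  have h3 : (2 : ZMod (2 ^ n)) ^ (n - 1) + 2 ^ (n - 1) = 0 := by rw [← two_mul, two_mul_half n hn]
  revert h
  fin_cases i <;> fin_cases j <;> simp [zV, h1, h2, h3]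

section

variable (h : FusWRN S f w u s)

include h

theorem t_eq : Fv f u ((2 ^ (n - 1), 2 ^ (n - 1)), (0, 0)) = f (u (2 ^ (n - 1)) (2 ^ (n - 1)), 1) := by
  show f (u (2 ^ (n - 1)) (2 ^ (n - 1)), u 0 0) = _
  rw [h.fus.coord.u_zero]

/-- the five vectors are permuted by `N_G(A)`. -/
theorem exists_perm_of_act {g : G} {φ : V n →ₗ[ZMod (2 ^ n)] V n} (hφ : Act f u g φ) (i : Fin 5) :
    ∃ j, φ (zV n i) = zV n j := by
  have hc := h.fus.coord
  have hn := hc.one_le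
  have hwr := h.fus.out.wr
  have hh : (2 : ZMod (2 ^ n)) ^ (n - 1) + 2 ^ (n - 1) = 0 := by rw [← two_mul, two_mul_half n hn]
  have hz2 : zV n i + zV n i = 0 := by
    fin_cases i <;> simp [zV, hh]
  have hz0 : zV n i ≠ 0 := by
    have h1 := half_ne_zero n hn
    fin_cases i <;> simp [zV, h1]
  set v := φ (zV n i) with hv
  have hv2 : v + v = 0 := by rw [hv, ← map_add, hz2, map_zero]
  have hv0 : v ≠ 0 := by
    intro e
    apply hz0
    apply Fv_inj hc hwr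
    have h1 := hφ (zV n i)
    rw [← hv, e, Fv_zero hc] at h1
    rw [Fv_zero hc]
    exact (conj_eq_one_iff).1 h1
  -- `f (zv i)` is conjugate to `z`
  have hcz : IsConj (f (u (2 ^ (n - 1)) (2 ^ (n - 1)), u (2 ^ (n - 1)) (2 ^ (n - 1)))) (Fv f u v) := by
    obtain ⟨a, ha⟩ := h.fus.out.perm (Equiv.swap 4 i)
    have h1 := ha 4
    rw [Equiv.swap_apply_left] at h1
    rw [isConj_iff]
    refine ⟨g * a, ?_⟩
    rw [← hφ, ← f_zv hc, ← h1]
    show g * a * f (u (2 ^ (n - 1)) (2 ^ (n - 1)), u (2 ^ (n - 1)) (2 ^ (n - 1))) * (g * a)⁻¹ =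
      g * (a * f (u (2 ^ (n - 1)) (2 ^ (n - 1)), u (2 ^ (n - 1)) (2 ^ (n - 1))) * a⁻¹) * g⁻¹
    group
  have hx : u v.1.1 v.1.2 * u v.1.1 v.1.2 = 1 := by
    rw [hc.u_mul, hc.u_eq_one_iff]
    exact ⟨congrArg (fun w : V n => w.1.1) hv2, congrArg (fun w : V n => w.1.2) hv2⟩
  have hy : u v.2.1 v.2.2 * u v.2.1 v.2.2 = 1 := by
    rw [hc.u_mul, hc.u_eq_one_iff]
    exact ⟨congrArg (fun w : V n => w.2.1) hv2, congrArg (fun w : V n => w.2.2) hv2⟩
  have hne : ¬ (u v.1.1 v.1.2 = 1 ∧ u v.2.1 v.2.2 = 1) := by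
    rintro ⟨h1, h2⟩
    apply hv0
    rw [hc.u_eq_one_iff] at h1 h2
    exact Prod.ext (Prod.ext h1.1 h1.2) (Prod.ext h2.1 h2.2)
  have key : u v.1.1 v.1.2 ≠ 1 ∧ u v.2.1 v.2.2 ≠ 1 ∧
      (u v.1.1 v.1.2 = u (2 ^ (n - 1)) (2 ^ (n - 1)) ∨ u v.2.1 v.2.2 = u (2 ^ (n - 1)) (2 ^ (n - 1))) := by
    by_contra hcon
    have h1 := h.fus.out.conj_t _ _ hx hy hne hcon
    exact h.fus.out.not_conj (h1.trans hcz.symm)
  obtain ⟨k1, k2, k3⟩ := key
  have hcoord : ∀ a : ZMod (2 ^ n), a + a = 0 → a = 0 ∨ a = 2 ^ (n - 1) := by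
    intro a ha
    rw [← two_mul] at ha
    exact (two_mul_eq_zero_iff n hn a).1 ha
  have a1 := hcoord _ (congrArg (fun w : V n => w.1.1) hv2)
  have a2 := hcoord _ (congrArg (fun w : V n => w.1.2) hv2)
  have a3 := hcoord _ (congrArg (fun w : V n => w.2.1) hv2)
  have a4 := hcoord _ (congrArg (fun w : V n => w.2.2) hv2)
  rw [ne_eq, hc.u_eq_one_iff] at k1 k2
  rw [hc.u_eq_iff, hc.u_eq_iff] at k3
  have e : v = ((v.1.1, v.1.2), (v.2.1, v.2.2)) := rfl
  rcases k3 with ⟨b1, b2⟩ | ⟨b1, b2⟩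
  · rcases a3 with a3 | a3 <;> rcases a4 with a4 | a4
    · exact absurd ⟨a3, a4⟩ k2
    · exact ⟨2, by rw [e, b1, b2, a3, a4]; rfl⟩
    · exact ⟨3, by rw [e, b1, b2, a3, a4]; rfl⟩
    · exact ⟨4, by rw [e, b1, b2, a3, a4]; rfl⟩
  · rcases a1 with a1 | a1 <;> rcases a2 with a2 | a2
    · exact absurd ⟨a1, a2⟩ k1
    · exact ⟨0, by rw [e, b1, b2, a1, a2]; rfl⟩
    · exact ⟨1, by rw [e, b1, b2, a1, a2]; rfl⟩
    · exact ⟨4, by rw [e, b1, b2, a1, a2]; rfl⟩

/-- Elements of `N_C(A)`: the word. -/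
theorem word [Finite G] {σ : G} {α : V n →ₗ[ZMod (2 ^ n)] V n} (hα : Act f u σ α) (hcyc : Cyc α) {g : G}
    {φ : V n →ₗ[ZMod (2 ^ n)] V n} (hφ : Act f u g φ)
    (ht : φ ((2 ^ (n - 1), 2 ^ (n - 1)), (0, 0)) = ((2 ^ (n - 1), 2 ^ (n - 1)), (0, 0))) :
    ∃ d e : Fin 2, ∃ l : Fin 3, ∀ v, φ v = sw1^[(d : ℕ)] (sw2^[(e : ℕ)] (α^[(l : ℕ)] v)) := by
  have hc := h.fus.coord
  have hn := hc.one_le
  have hwr := h.fus.out.wr
  have hh : (2 : ZMod (2 ^ n)) ^ (n - 1) + 2 ^ (n - 1) = 0 := by rw [← two_mul, two_mul_half n hn]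
  choose π hπ using exists_perm_of_act h hφ
  have hφi : Function.Injective φ := by
    intro a b e
    apply Fv_inj hc hwr
    have h1 := hφ a
    rw [e, ← hφ b] at h1
    exact mul_left_cancel (mul_right_cancel h1)
  have hπi : Function.Injective π := by
    intro i j e
    apply zV_inj hn
    apply hφi
    rw [hπ, hπ, e]
  have h01 : (π 0 = 0 ∧ π 1 = 1) ∨ (π 0 = 1 ∧ π 1 = 0) := by
    apply zV_add hn
    have e : zV n 0 + zV n 1 = ((2 ^ (n - 1), 2 ^ (n - 1)), (0, 0)) := by simp [zV, hh]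
    rw [← hπ, ← hπ, ← map_add, e, ht]
  obtain ⟨d, e, l, hword⟩ := exists_word π hπi h01
  refine ⟨d, e, l, fun v => ?_⟩
  have hact := (((act_s1 (f := f) hc).pow (d : ℕ)).mul ((act_s2 (f := f) hc).pow (e : ℕ))).mul (hα.pow (l : ℕ))
  have hval : ∀ v, (((sw1L n ^ (d : ℕ)).comp (sw2L n ^ (e : ℕ))).comp (α ^ (l : ℕ))) v =
      sw1^[(d : ℕ)] (sw2^[(e : ℕ)] (α^[(l : ℕ)] v)) := by
    intro v
    rw [LinearMap.comp_apply, LinearMap.comp_apply, Module.End.pow_apply, Module.End.pow_apply,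
      Module.End.pow_apply]
    rfl
  have z1 : ∀ (k : ℕ) i, sw1^[k] (zV n i) = zV n (P1^[k] i) := by
    intro k
    induction k with
    | zero => intro i; rfl
    | succ k ih =>
      intro i
      rw [Function.iterate_succ_apply, Function.iterate_succ_apply, ← ih]
      congr 1
      fin_cases i <;> rfl
  have z2 : ∀ (k : ℕ) i, sw2^[k] (zV n i) = zV n (P2^[k] i) := by
    intro k
    induction k with
    | zero => intro i; rfl
    | succ k ih =>
      intro i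
      rw [Function.iterate_succ_apply, Function.iterate_succ_apply, ← ih]
      congr 1
      fin_cases i <;> rfl
  have h4 : α (zV n 4) = zV n 2 := by
    have := hcyc.cube (zV n 2)
    have i2 : α (zV n 2) = zV n 3 := hcyc.z2
    have i3 : α (zV n 3) = zV n 4 := hcyc.z3
    rw [i2, i3] at this
    exact this
  have z3 : ∀ (k : ℕ) i, α^[k] (zV n i) = zV n (P3^[k] i) := by
    intro k
    induction k with
    | zero => intro i; rfl
    | succ k ih =>
      intro i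
      rw [Function.iterate_succ_apply, Function.iterate_succ_apply, ← ih]
      congr 1
      fin_cases i
      · exact hcyc.z0
      · exact hcyc.z1
      · exact hcyc.z2
      · exact hcyc.z3
      · exact h4
  rw [← hval]
  refine act_eq h.fus hφ hact ?_ v
  intro i
  rw [hval, z3, z2, z1, hπ, hword]

omit h in
theorem iter2 (k : ℕ) (v : V n) : (sw2^[k] v).1 = v.1 := by
  induction k generalizing v with
  | zero => rfl
  | succ k ih => rw [Function.iterate_succ_apply, ih]; rfl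

/-- (A1) -/
theorem act_fst [Finite G] {g : G} {φ : V n →ₗ[ZMod (2 ^ n)] V n} (hφ : Act f u g φ)
    (ht : φ ((2 ^ (n - 1), 2 ^ (n - 1)), (0, 0)) = ((2 ^ (n - 1), 2 ^ (n - 1)), (0, 0))) :
    (∀ v, (φ v).1 = v.1) ∨ (∀ v, (φ v).1 = (v.1.2, v.1.1)) := by
  obtain ⟨σ, α, hα, hcyc, h1, h2⟩ := h.cyc
  obtain ⟨d, e, l, hword⟩ := word h hα hcyc hφ ht
  have hl : ∀ (k : ℕ) v, (α^[k] v).1 = v.1 := by
    intro k
    induction k with
    | zero => intro v; rfl
    | succ k ih => intro v; rw [Function.iterate_succ_apply, ih, h1]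
  fin_cases d
  · left
    intro v
    rw [hword]
    show (sw2^[(e : ℕ)] (α^[(l : ℕ)] v)).1 = v.1
    rw [iter2, hl]
  · right
    intro v
    rw [hword]
    show (sw1 (sw2^[(e : ℕ)] (α^[(l : ℕ)] v))).1 = (v.1.2, v.1.1)
    have := (iter2 (e : ℕ) (α^[(l : ℕ)] v)).trans (hl l v)
    show ((sw2^[(e : ℕ)] (α^[(l : ℕ)] v)).1.2, (sw2^[(e : ℕ)] (α^[(l : ℕ)] v)).1.1) = (v.1.2, v.1.1)
    rw [this]

/-- (A3) -/
theorem act_anti [Finite G] {g : G} {φ : V n →ₗ[ZMod (2 ^ n)] V n} (hφ : Act f u g φ)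
    (ht : φ ((2 ^ (n - 1), 2 ^ (n - 1)), (0, 0)) = ((2 ^ (n - 1), 2 ^ (n - 1)), (0, 0))) (x : ZMod (2 ^ n)) :
    φ ((x, -x), (0, 0)) = ((x, -x), (0, 0)) ∨ φ ((x, -x), (0, 0)) = ((-x, x), (0, 0)) := by
  obtain ⟨σ, α, hα, hcyc, h1, h2⟩ := h.cyc
  obtain ⟨d, e, l, hword⟩ := word h hα hcyc hφ ht
  have hl : ∀ (k : ℕ), α^[k] ((x, -x), (0, 0)) = ((x, -x), (0, 0)) := by
    intro k
    induction k with
    | zero => rfl
    | succ k ih => rw [Function.iterate_succ_apply, hcyc.anti, ih]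
  have hl2 : ∀ (k : ℕ), sw2^[k] (((x, -x), (0, 0)) : V n) = ((x, -x), (0, 0)) := by
    intro k
    induction k with
    | zero => rfl
    | succ k ih => rw [Function.iterate_succ_apply]; exact ih
  rw [hword, hl, hl2]
  fin_cases d
  · left; rfl
  · right; rfl

/-- (A4) -/
theorem act_diag [Finite G] {g : G} {φ : V n →ₗ[ZMod (2 ^ n)] V n} (hφ : Act f u g φ)
    (ht : φ ((2 ^ (n - 1), 2 ^ (n - 1)), (0, 0)) = ((2 ^ (n - 1), 2 ^ (n - 1)), (0, 0))) {x y : ZMod (2 ^ n)}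
    (hxy : φ ((0, 0), (x, x)) = ((0, 0), (y, y))) : x = y := by
  obtain ⟨σ, α, hα, hcyc, h1, h2⟩ := h.cyc
  obtain ⟨d, e, l, hword⟩ := word h hα hcyc hφ ht
  set v : V n := ((0, 0), (x, x)) with hv
  set v' : V n := ((0, 0), (y, y)) with hv'
  have e1 : ∀ k : ℕ, sw1^[k] v' = v' := by
    intro k
    induction k with
    | zero => rfl
    | succ k ih => rw [Function.iterate_succ_apply]; exact ih
  have e2 : ∀ k : ℕ, sw2^[k] v' = v' := by
    intro k
    induction k with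
    | zero => rfl
    | succ k ih => rw [Function.iterate_succ_apply]; exact ih
  have i1 : Function.Injective (sw1 : V n → V n) := fun a b hab => by
    have := congrArg sw1 hab
    exact this
  have i2 : Function.Injective (sw2 : V n → V n) := fun a b hab => by
    have := congrArg sw2 hab
    exact this
  rw [hword] at hxy
  have h3 : sw2^[(e : ℕ)] (α^[(l : ℕ)] v) = v' := by
    apply i1.iterate (d : ℕ)
    rw [hxy, e1]
  have h4 : α^[(l : ℕ)] v = v' := by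
    apply i2.iterate (e : ℕ)
    rw [h3, e2]
  have s2v : sw2 v = v := rfl
  have s2v' : sw2 v' = v' := rfl
  have hfin : v = v' := by
    fin_cases l
    · exact h4
    · have h5 : α v = v' := h4
      have h6 := hcyc.s2 v
      rw [h5, s2v', s2v] at h6
      have h7 := hcyc.cube v
      rw [h5, h6, h5] at h7
      exact h7.symm
    · have h5 : α (α v) = v' := h4
      have h6 := hcyc.s2 (α v)
      rw [h5, s2v'] at h6
      have h7 := hcyc.cube v
      rw [h5] at h7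
      rw [h7] at h6
      have h8 : α v = v := by
        have := congrArg sw2 h6
        exact this.symm
      rw [h8, h8] at h5
      exact h5
  have := congrArg (fun w : V n => w.2.1) hfin
  exact this

/-- (A5) -/
theorem act_cent [Finite G] {g : G} {φ : V n →ₗ[ZMod (2 ^ n)] V n} (hφ : Act f u g φ)
    (ht : φ ((2 ^ (n - 1), 2 ^ (n - 1)), (0, 0)) = ((2 ^ (n - 1), 2 ^ (n - 1)), (0, 0)))
    (ht' : φ ((0, 0), (2 ^ (n - 1), 2 ^ (n - 1))) = ((0, 0), (2 ^ (n - 1), 2 ^ (n - 1)))) :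
    (∀ a b c, φ ((a, b), (c, c)) = ((a, b), (c, c))) ∨ (∀ a b c, φ ((a, b), (c, c)) = ((b, a), (c, c))) := by
  have hn := h.fus.coord.one_le
  obtain ⟨σ, α, hα, hcyc, h1, h2⟩ := h.cyc
  obtain ⟨d, e, l, hword⟩ := word h hα hcyc hφ ht
  set v' : V n := ((0, 0), (2 ^ (n - 1), 2 ^ (n - 1))) with hv'
  have e1 : ∀ k : ℕ, sw1^[k] v' = v' := by
    intro k
    induction k with
    | zero => rfl
    | succ k ih => rw [Function.iterate_succ_apply]; exact ih
  have e2 : ∀ k : ℕ, sw2^[k] v' = v' := by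
    intro k
    induction k with
    | zero => rfl
    | succ k ih => rw [Function.iterate_succ_apply]; exact ih
  have i1 : Function.Injective (sw1 : V n → V n) := fun a b hab => by
    have := congrArg sw1 hab
    exact this
  have i2 : Function.Injective (sw2 : V n → V n) := fun a b hab => by
    have := congrArg sw2 hab
    exact this
  rw [hword] at ht'
  have h3 : sw2^[(e : ℕ)] (α^[(l : ℕ)] v') = v' := by
    apply i1.iterate (d : ℕ)
    rw [ht', e1]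
  have h4 : α^[(l : ℕ)] v' = v' := by
    apply i2.iterate (e : ℕ)
    rw [h3, e2]
  have ev : v' = ((0, 0), (2 ^ (n - 1), 0)) + ((0, 0), (0, 2 ^ (n - 1))) := by
    rw [hv']; simp
  have hav : α v' = ((0, 0), (0, 2 ^ (n - 1))) := by
    rw [ev, map_add, hcyc.e3, hcyc.e4]
    simp [hcyc.hh]
  have hne : (2 : ZMod (2 ^ n)) ^ (n - 1) ≠ 0 := half_ne_zero n hn
  have hl0 : (l : ℕ) = 0 := by
    fin_cases l
    · rfl
    · exfalso
      have h5 : α v' = v' := h4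
      rw [hav, hv'] at h5
      have := congrArg (fun w : V n => w.2.1) h5
      exact hne this.symm
    · exfalso
      have h5 : α (α v') = v' := h4
      rw [hav, hcyc.e4, hv'] at h5
      have := congrArg (fun w : V n => w.2.2) h5
      exact hne this.symm
  rw [hl0] at hword
  have e3 : ∀ (k : ℕ) (a b c : ZMod (2 ^ n)), sw2^[k] (((a, b), (c, c)) : V n) = ((a, b), (c, c)) := by
    intro k a b c
    induction k with
    | zero => rfl
    | succ k ih => rw [Function.iterate_succ_apply]; exact ih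
  fin_cases d
  · left
    intro a b c
    rw [hword]
    exact e3 _ a b c
  · right
    intro a b c
    rw [hword]
    show sw1 (sw2^[(e : ℕ)] ((a, b), (c, c))) = _
    rw [e3]
    rfl

end

end Cfsg.Agent.TypeLFive.CentWR
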