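import Mathlib
import Cfsg.Agent.TypeLFive.CentWRFus

/-!
# Wreathed half of (C), S0511: `Q₁` is strongly closed (W2), `W₂` is strongly closed up to N-type elements (W3)(i)
-/

set_option autoImplicit false

namespace Cfsg.Agent.TypeLFive.CentWR

open Cfsg.Agent.TypeLFive.Model Cfsg.Agent.TypeLFive.Out Cfsg.Agent.TypeLFive.CentLin
open Cfsg.Agent.TwoFusion.QDBasic Cfsg.Agent.TwoFusion.WreathedBasic

variable {G W : Type*} [Group G] [Group W] {n : ℕ} {f : W × W →* G} {w : G}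
  {u : ZMod (2 ^ n) → ZMod (2 ^ n) → W} {s : W}

/-- The subgroup `A`. -/
def Asub (f : W × W →* G) (hc : IsWCoord n u s) : Subgroup G where
  carrier := {x | ∃ v : V n, x = Fv f u v}
  one_mem' := ⟨0, (Fv_zero hc).symm⟩
  mul_mem' := by
    rintro _ _ ⟨v, rfl⟩ ⟨v', rfl⟩
    exact ⟨v + v', (Fv_add hc v v').symm⟩
  inv_mem' := by
    rintro _ ⟨v, rfl⟩
    exact ⟨-v, (Fv_neg hc v).symm⟩

section

variable [Finite G] {P : Sylow 2 G}

omit [Finite G] in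
theorem na_of_mem (h : FusWRN (P : Subgroup G) f w u s) {m : G}
    (hm : ∀ v : V n, m * Fv f u v * m⁻¹ ∈ (P : Subgroup G)) : NA f u m := by
  intro v
  obtain ⟨a, b, c, d, e⟩ := h.fus.weak m (fun a b c d => hm ((a, b), (c, d))) v.1.1 v.1.2 v.2.1 v.2.2
  exact ⟨((a, b), (c, d)), e⟩

/-- `N_G(A)` controls the fusion of subsets of `A`. -/
theorem control (h : FusWRN (P : Subgroup G) f w u s) (Ω : Set G) (hΩ : ∀ ω ∈ Ω, ∃ v : V n, ω = Fv f u v) (g : G)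
    (hg : ∀ ω ∈ Ω, ∃ v : V n, g * ω * g⁻¹ = Fv f u v) :
    ∃ (g' : G) (φ : V n →ₗ[ZMod (2 ^ n)] V n), Act f u g' φ ∧ ∀ ω ∈ Ω, g' * ω * g'⁻¹ = g * ω * g⁻¹ := by
  have hc := h.fus.coord
  have hwr := h.fus.out.wr
  set A := Asub f hc with hA
  set H := Subgroup.centralizer ((fun ω => g * ω * g⁻¹) '' Ω) with hH
  have hAP : A ≤ (P : Subgroup G) := by
    rintro _ ⟨v, rfl⟩
    exact hwr.mem _
  have pA : IsPGroup 2 A := P.isPGroup'.to_le hAP
  have hAH : A ≤ H := by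
    rintro _ ⟨v, rfl⟩
    rw [hH, Subgroup.mem_centralizer_iff]
    rintro _ ⟨ω, hω, rfl⟩
    obtain ⟨v', hv'⟩ := hg ω hω
    show g * ω * g⁻¹ * Fv f u v = Fv f u v * (g * ω * g⁻¹)
    rw [hv']
    exact Fv_comm hc _ _
  set B := A.map (MulAut.conj g).toMonoidHom with hB
  have hBH : B ≤ H := by
    rintro _ ⟨_, ⟨v, rfl⟩, rfl⟩
    rw [hH, Subgroup.mem_centralizer_iff]
    rintro _ ⟨ω, hω, rfl⟩
    obtain ⟨v', rfl⟩ := hΩ ω hω
    show g * Fv f u v' * g⁻¹ * (g * Fv f u v * g⁻¹) = g * Fv f u v * g⁻¹ * (g * Fv f u v' * g⁻¹)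
    calc g * Fv f u v' * g⁻¹ * (g * Fv f u v * g⁻¹) = g * (Fv f u v' * Fv f u v) * g⁻¹ := by group
      _ = g * (Fv f u v * Fv f u v') * g⁻¹ := by rw [Fv_comm hc]
      _ = _ := by group
  obtain ⟨R, k, hk, pR, hRH, hAR, hBR⟩ := CentGen.exists_conj_into H A B hAH hBH pA (pA.map _)
  obtain ⟨m, hm⟩ := CentGen.exists_conj_sylow P R pR
  have h1 : NA f u m := na_of_mem h fun v => hm _ (hAR ⟨v, rfl⟩)
  have h2 : NA f u (m * (k * g)) := by
    apply na_of_mem h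
    intro v
    have := hm _ (hBR _ ⟨Fv f u v, ⟨v, rfl⟩, rfl⟩)
    have e : m * (k * g) * Fv f u v * (m * (k * g))⁻¹ =
        m * (k * ((MulAut.conj g).toMonoidHom (Fv f u v)) * k⁻¹) * m⁻¹ := by
      show _ = m * (k * (g * Fv f u v * g⁻¹) * k⁻¹) * m⁻¹
      group
    rw [e]
    exact this
  have h3 : NA f u (k * g) := by
    have := h1.inv.mul h2
    rwa [inv_mul_cancel_left] at this
  obtain ⟨φ, hφ⟩ := h3.exists_act hc hwr
  refine ⟨k * g, φ, hφ, fun ω hω => ?_⟩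
  have h4 := Subgroup.mem_centralizer_iff.1 hk (g * ω * g⁻¹) ⟨ω, hω, rfl⟩
  calc k * g * ω * (k * g)⁻¹ = k * (g * ω * g⁻¹) * k⁻¹ := by group
    _ = g * ω * g⁻¹ * k * k⁻¹ := by rw [h4]
    _ = g * ω * g⁻¹ := by group

theorem control2 (h : FusWRN (P : Subgroup G) f w u s) {v v' : V n} {g : G}
    (hg : g * f (u (2 ^ (n - 1)) (2 ^ (n - 1)), 1) = f (u (2 ^ (n - 1)) (2 ^ (n - 1)), 1) * g)
    (hv : g * Fv f u v * g⁻¹ = Fv f u v') :
    ∃ (g' : G) (φ : V n →ₗ[ZMod (2 ^ n)] V n), Act f u g' φ ∧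
      φ ((2 ^ (n - 1), 2 ^ (n - 1)), (0, 0)) = ((2 ^ (n - 1), 2 ^ (n - 1)), (0, 0)) ∧ φ v = v' := by
  have hc := h.fus.coord
  have hwr := h.fus.out.wr
  have ht := t_eq h
  obtain ⟨g', φ, hφ, he⟩ := control h {Fv f u v, Fv f u ((2 ^ (n - 1), 2 ^ (n - 1)), (0, 0))} (by
    rintro _ (rfl | rfl)
    · exact ⟨v, rfl⟩
    · exact ⟨_, rfl⟩) g (by
    rintro _ (rfl | rfl)
    · exact ⟨v', hv⟩
    · refine ⟨((2 ^ (n - 1), 2 ^ (n - 1)), (0, 0)), ?_⟩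
      rw [ht, hg, mul_inv_cancel_right])
  refine ⟨g', φ, hφ, ?_, ?_⟩
  · apply Fv_inj hc hwr
    rw [← hφ, he _ (by right; rfl), ht, hg, mul_inv_cancel_right]
  · apply Fv_inj hc hwr
    rw [← hφ, he _ (by left; rfl), hv]

end

section

variable {S : Subgroup G}

theorem uz_pow_eq_one (hc : IsWCoord n u s) {a b : ZMod (2 ^ n)} (h : (u a b * s) ^ 2 ^ n = 1) :
    ∃ c, a + b = 2 * c := by
  have hn := hc.one_le
  have e : 2 ^ n = 2 * 2 ^ (n - 1) := by rw [← pow_succ', Nat.sub_add_cancel hn]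
  rw [e, pow_mul, hc.uz_sq, hc.u_pow, hc.u_eq_one_iff] at h
  rw [← half_mul_eq_zero_iff n hn]
  have := h.1
  push_cast at this
  exact this

/-- (MOVE) for the first coordinate. -/
theorem move1 (h : FusWR S f w u s) {D : W → ZMod (2 ^ n)} (hD1 : ∀ a b, D (u a b) = a + b)
    (hD2 : ∀ a b, D (u a b * s) = a + b + 2 ^ (n - 1)) (x : W) (hx : x ^ 2 ^ n = 1) :
    ∃ (m : G) (a b : ZMod (2 ^ n)), (∀ y, m * f (x, y) * m⁻¹ = f (u a b, y)) ∧
      (∀ c y, m * f (u c c, y) * m⁻¹ = f (u c c, y)) ∧ a + b = D x := by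
  have hc := h.coord
  have hn2 := hc.two_le
  rcases hc.cases x with ⟨a, b, rfl⟩ | ⟨a, b, rfl⟩
  · exact ⟨1, a, b, fun y => by simp, fun c y => by simp, (hD1 a b).symm⟩
  · obtain ⟨c, hcab⟩ := uz_pow_eq_one hc hx
    obtain ⟨ρ, hρ⟩ := h.rho
    set q : ZMod (2 ^ n) := 2 ^ (n - 2) with hq
    have hqq : q + q = 2 ^ (n - 1) := by
      rw [hq, ← two_mul, ← pow_succ']
      congr 1
      omega
    have hh : (2 : ZMod (2 ^ n)) ^ (n - 1) + 2 ^ (n - 1) = 0 := by rw [← two_mul, two_mul_half n hc.one_le]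
    -- `ρ⁻¹ f(z, y) ρ = f(z, y)` for central `z`
    have hρc : ∀ a y, ρ⁻¹ * f (u a a, y) * ρ = f (u a a, y) := by
      intro a y
      rw [mul_assoc, ← hρ.comm, inv_mul_cancel_left]
    have hρj : ρ⁻¹ * f (u q q * s, 1) * ρ = f (u (-q) q, 1) := by
      have e := hρ.i_j
      rw [← hq] at e
      rw [← e]; group
    have hρs : ∀ y, ρ⁻¹ * f (u c c * s, y) * ρ = f (u (c - q + -q) (c - q + q), y) := by
      intro y
      have e1 : f (u c c * s, y) = f (u (c - q) (c - q), y) * f (u q q * s, 1) := by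
        rw [← map_mul, Prod.mk_mul_mk, hc.u_mul_uz, mul_one, sub_add_cancel]
      have e2 : f (u (c - q + -q) (c - q + q), y) = f (u (c - q) (c - q), y) * f (u (-q) q, 1) := by
        rw [← map_mul, Prod.mk_mul_mk, hc.u_mul, mul_one]
      rw [e1, e2]
      calc ρ⁻¹ * (f (u (c - q) (c - q), y) * f (u q q * s, 1)) * ρ =
          (ρ⁻¹ * f (u (c - q) (c - q), y) * ρ) * (ρ⁻¹ * f (u q q * s, 1) * ρ) := by group
        _ = _ := by rw [hρc, hρj]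
    refine ⟨ρ⁻¹ * f (u (c - a) 0, 1), c - q + -q, c - q + q, ?_, ?_, ?_⟩
    · intro y
      have e1 : f (u (c - a) 0, 1) * f (u a b * s, y) * (f (u (c - a) 0, 1))⁻¹ = f (u c c * s, y) := by
        rw [← map_mul, ← map_inv, ← map_mul]
        congr 1
        simp only [Prod.mk_mul_mk, Prod.inv_mk, inv_one, mul_one, one_mul]
        rw [hc.u_conj_uz]
        congr 3
        · ring
        · linear_combination hcab
      calc ρ⁻¹ * f (u (c - a) 0, 1) * f (u a b * s, y) * (ρ⁻¹ * f (u (c - a) 0, 1))⁻¹ =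
          ρ⁻¹ * (f (u (c - a) 0, 1) * f (u a b * s, y) * (f (u (c - a) 0, 1))⁻¹) * ρ := by group
        _ = _ := by rw [e1, hρs]
    · intro e y
      have e1 : f (u (c - a) 0, 1) * f (u e e, y) * (f (u (c - a) 0, 1))⁻¹ = f (u e e, y) := by
        rw [← map_mul, ← map_inv, ← map_mul]
        congr 1
        simp only [Prod.mk_mul_mk, Prod.inv_mk, inv_one, mul_one, one_mul]
        rw [hc.u_conj_u]
      calc ρ⁻¹ * f (u (c - a) 0, 1) * f (u e e, y) * (ρ⁻¹ * f (u (c - a) 0, 1))⁻¹ =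
          ρ⁻¹ * (f (u (c - a) 0, 1) * f (u e e, y) * (f (u (c - a) 0, 1))⁻¹) * ρ := by group
        _ = _ := by rw [e1, hρc]
    · rw [hD2, hcab]
      linear_combination -hqq - hh

/-- (MOVE) for the second coordinate. -/
theorem move2 (h : FusWR S f w u s) {D : W → ZMod (2 ^ n)} (hD1 : ∀ a b, D (u a b) = a + b)
    (hD2 : ∀ a b, D (u a b * s) = a + b + 2 ^ (n - 1)) (y : W) (hy : y ^ 2 ^ n = 1) :
    ∃ (m : G) (a b : ZMod (2 ^ n)), (∀ x, m * f (x, y) * m⁻¹ = f (x, u a b)) ∧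
      (∀ c x, m * f (x, u c c) * m⁻¹ = f (x, u c c)) ∧ a + b = D y := by
  obtain ⟨m, a, b, h1, h2, h3⟩ := move1 h hD1 hD2 y hy
  have hwr := h.out.wr
  have hcj : ∀ x y, w * f (x, y) * w = f (y, x) := hwr.w_conj'
  have hw2 : w * w = 1 := hwr.w_w
  have key : ∀ p q p' q' : W, m * f (p, q) * m⁻¹ = f (p', q') → (w * m * w) * f (q, p) * (w * m * w)⁻¹ = f (q', p') := by
    intro p q p' q' e
    have hwi : w⁻¹ = w := hwr.w_inv
    calc (w * m * w) * f (q, p) * (w * m * w)⁻¹ = w * (m * (w * f (q, p) * w⁻¹) * m⁻¹) * w⁻¹ := by group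
      _ = w * (m * (w * f (q, p) * w) * m⁻¹) * w := by rw [hwi]
      _ = w * f (p', q') * w := by rw [hcj, e]
      _ = f (q', p') := hcj _ _
  exact ⟨w * m * w, a, b, fun x => key _ _ _ _ (h1 x), fun c x => key _ _ _ _ (h2 c x), h3⟩

end

section

variable [Finite G] {P : Sylow 2 G}

omit [Finite G] in
theorem pow_of_conj (hinj : Function.Injective f) {c : G} {x x' y₁ y₂ : W} {k : ℕ}
    (h : c * f (x, x') * c⁻¹ = f (y₁, y₂)) (hx : x ^ k = 1) (hx' : x' ^ k = 1) : y₁ ^ k = 1 ∧ y₂ ^ k = 1 := by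
  have h1 : f (y₁ ^ k, y₂ ^ k) = 1 := by
    have : f (y₁ ^ k, y₂ ^ k) = (f (y₁, y₂)) ^ k := by rw [← map_pow, Prod.pow_mk]
    rw [this, ← h, conj_pow, ← map_pow, Prod.pow_mk, hx, hx']
    have : ((1 : W), (1 : W)) = 1 := rfl
    rw [this, map_one, mul_one, mul_inv_cancel]
  have h2 := hinj (h1.trans (map_one f).symm)
  exact ⟨congrArg Prod.fst h2, congrArg Prod.snd h2⟩

omit [Finite G] in
/-- the conjugation of `t` under a composite -/
theorem comm_of_conj {m t : G} (h : m * t * m⁻¹ = t) : m * t = t * m := by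
  calc m * t = m * t * m⁻¹ * m := by group
    _ = t * m := by rw [h]

/-- The common core of (W2) and (W3)(i). -/
theorem moved (h : FusWRN (P : Subgroup G) f w u s) {D : W → ZMod (2 ^ n)} (hD1 : ∀ a b, D (u a b) = a + b)
    (hD2 : ∀ a b, D (u a b * s) = a + b + 2 ^ (n - 1)) {c : G}
    (hct : c * f (u (2 ^ (n - 1)) (2 ^ (n - 1)), 1) = f (u (2 ^ (n - 1)) (2 ^ (n - 1)), 1) * c)
    {x x' y₁ y₂ : W} (hx : x ^ 2 ^ n = 1) (hx' : x' ^ 2 ^ n = 1) (he : c * f (x, x') * c⁻¹ = f (y₁, y₂)) :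
    ∃ (a b a' b' p q p' q' : ZMod (2 ^ n)) (g : G) (φ : V n →ₗ[ZMod (2 ^ n)] V n), Act f u g φ ∧
      φ ((2 ^ (n - 1), 2 ^ (n - 1)), (0, 0)) = ((2 ^ (n - 1), 2 ^ (n - 1)), (0, 0)) ∧
      φ ((a, b), (a', b')) = ((p, q), (p', q')) ∧ a + b = D x ∧ a' + b' = D x' ∧ p + q = D y₁ ∧ p' + q' = D y₂ ∧
      (u a b = 1 ↔ x = 1) ∧ (u a' b' = 1 ↔ x' = 1) ∧ (u p q = 1 ↔ y₁ = 1) ∧ (u p' q' = 1 ↔ y₂ = 1) := by
  have hc := h.fus.coord
  have hinj := h.fus.out.wr.inj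
  obtain ⟨hy1, hy2⟩ := pow_of_conj hinj he hx hx'
  obtain ⟨m1, a, b, m1a, m1b, m1c⟩ := move1 h.fus hD1 hD2 x hx
  obtain ⟨m2, a', b', m2a, m2b, m2c⟩ := move2 h.fus hD1 hD2 x' hx'
  obtain ⟨m3, p, q, m3a, m3b, m3c⟩ := move1 h.fus hD1 hD2 y₁ hy1
  obtain ⟨m4, p', q', m4a, m4b, m4c⟩ := move2 h.fus hD1 hD2 y₂ hy2
  set t := f (u (2 ^ (n - 1)) (2 ^ (n - 1)), 1) with ht
  -- all the moves centralise `t`
  have t1 : m1 * t * m1⁻¹ = t := m1b _ _
  have t3 : m3 * t * m3⁻¹ = t := m3b _ _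
  have t2 : m2 * t * m2⁻¹ = t := by
    have := m2b 0 (u (2 ^ (n - 1)) (2 ^ (n - 1)))
    rwa [hc.u_zero] at this
  have t4 : m4 * t * m4⁻¹ = t := by
    have := m4b 0 (u (2 ^ (n - 1)) (2 ^ (n - 1)))
    rwa [hc.u_zero] at this
  have tc : c * t * c⁻¹ = t := by rw [hct, mul_inv_cancel_right]
  set g := m4 * m3 * c * (m2 * m1)⁻¹ with hg
  have e1 : (m2 * m1) * f (x, x') * (m2 * m1)⁻¹ = Fv f u ((a, b), (a', b')) := by
    calc (m2 * m1) * f (x, x') * (m2 * m1)⁻¹ = m2 * (m1 * f (x, x') * m1⁻¹) * m2⁻¹ := by group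
      _ = _ := by rw [m1a, m2a]; rfl
  have e2 : (m4 * m3) * f (y₁, y₂) * (m4 * m3)⁻¹ = Fv f u ((p, q), (p', q')) := by
    calc (m4 * m3) * f (y₁, y₂) * (m4 * m3)⁻¹ = m4 * (m3 * f (y₁, y₂) * m3⁻¹) * m4⁻¹ := by group
      _ = _ := by rw [m3a, m4a]; rfl
  have e3 : g * Fv f u ((a, b), (a', b')) * g⁻¹ = Fv f u ((p, q), (p', q')) := by
    rw [← e1, ← e2, ← he, hg]
    group
  have e4 : g * t = t * g := by
    apply comm_of_conj
    have i1 : (m2 * m1)⁻¹ * t * (m2 * m1) = t := by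
      calc (m2 * m1)⁻¹ * t * (m2 * m1) = (m2 * m1)⁻¹ * (m2 * (m1 * t * m1⁻¹) * m2⁻¹) * (m2 * m1) := by
            rw [t1, t2]
        _ = t := by group
    calc g * t * g⁻¹ = m4 * (m3 * (c * ((m2 * m1)⁻¹ * t * (m2 * m1)) * c⁻¹) * m3⁻¹) * m4⁻¹ := by
          rw [hg]; group
      _ = t := by rw [i1, tc, t3, t4]
  obtain ⟨g', φ, hφ, h5, h6⟩ := control2 h e4 e3
  have triv : ∀ (m : G) (z z' : W × W), m * f z * m⁻¹ = f z' → (z' = 1 ↔ z = 1) := by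
    intro m z z' e
    constructor
    · intro e1
      rw [e1, map_one, conj_eq_one_iff] at e
      exact hinj (e.trans (map_one f).symm)
    · intro e1
      rw [e1, map_one, mul_one, mul_inv_cancel] at e
      exact hinj (e.symm.trans (map_one f).symm)
  have one1 : ∀ z : W, ((z, 1) : W × W) = 1 ↔ z = 1 := fun z => by
    rw [Prod.mk_eq_one]; simp
  have one2 : ∀ z : W, ((1, z) : W × W) = 1 ↔ z = 1 := fun z => by
    rw [Prod.mk_eq_one]; simp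
  refine ⟨a, b, a', b', p, q, p', q', g', φ, hφ, h5, h6, m1c, m2c, m3c, m4c, ?_, ?_, ?_, ?_⟩
  · have := triv m1 _ _ (m1a 1)
    rwa [one1, one1] at this
  · have := triv m2 _ _ (m2a 1)
    rwa [one2, one2] at this
  · have := triv m3 _ _ (m3a 1)
    rwa [one1, one1] at this
  · have := triv m4 _ _ (m4a 1)
    rwa [one2, one2] at this

/-- (W2): `Q₁` is strongly closed. -/
theorem closed_Q (h : FusWRN (P : Subgroup G) f w u s) {D : W → ZMod (2 ^ n)} (hD1 : ∀ a b, D (u a b) = a + b)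
    (hD2 : ∀ a b, D (u a b * s) = a + b + 2 ^ (n - 1)) {c : G}
    (hct : c * f (u (2 ^ (n - 1)) (2 ^ (n - 1)), 1) = f (u (2 ^ (n - 1)) (2 ^ (n - 1)), 1) * c)
    {x y₁ y₂ : W} (hx : D x = 0) (he : c * f (x, 1) * c⁻¹ = f (y₁, y₂)) : D y₁ = 0 ∧ y₂ = 1 := by
  have hc := h.fus.coord
  have hn := hc.one_le
  have hn2 := hc.two_le
  have hx2 : x ^ 2 ^ n = 1 := by
    rcases hc.cases x with ⟨a, b, rfl⟩ | ⟨a, b, rfl⟩
    · rw [hc.u_pow]
      have : ((2 ^ n : ℕ) : ZMod (2 ^ n)) = 0 := by push_cast; exact two_pow_eq_zero n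
      rw [this, zero_mul, zero_mul, hc.u_zero]
    · rw [hD2] at hx
      have hh : (2 : ZMod (2 ^ n)) ^ (n - 1) + 2 ^ (n - 1) = 0 := by rw [← two_mul, two_mul_half n hn]
      have hab : a + b = 2 ^ (n - 1) := by linear_combination hx - hh
      have e : 2 ^ n = 2 * 2 ^ (n - 1) := by rw [← pow_succ', Nat.sub_add_cancel hn]
      rw [e, pow_mul, hc.uz_sq, hc.u_pow, hab]
      have : ((2 ^ (n - 1) : ℕ) : ZMod (2 ^ n)) * 2 ^ (n - 1) = 0 := by
        push_cast; exact half_mul_half n hn2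
      rw [this, hc.u_zero]
  obtain ⟨a, b, a', b', p, q, p', q', g, φ, hφ, h1, h2, h3, h4, h5, h6, h7, h8, h9, h10⟩ :=
    moved h hD1 hD2 hct hx2 (one_pow _) he
  have hb : b = -a := by
    rw [hx] at h3
    linear_combination h3
  have hab' := h8.2 rfl
  rw [hc.u_eq_one_iff] at hab'
  rw [hb, hab'.1, hab'.2] at h2
  rcases act_anti h hφ h1 a with h11 | h11
  · rw [h11] at h2
    simp only [Prod.mk.injEq] at h2
    obtain ⟨⟨e1, e2⟩, e3, e4⟩ := h2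
    refine ⟨by rw [← h5, ← e1, ← e2]; ring, h10.1 ?_⟩
    rw [← e3, ← e4, hc.u_zero]
  · rw [h11] at h2
    simp only [Prod.mk.injEq] at h2
    obtain ⟨⟨e1, e2⟩, e3, e4⟩ := h2
    refine ⟨by rw [← h5, ← e1, ← e2]; ring, h10.1 ?_⟩
    rw [← e3, ← e4, hc.u_zero]

/-- (W3)(i). -/
theorem closed_W1 (h : FusWRN (P : Subgroup G) f w u s) {c : G}
    (hct : c * f (u (2 ^ (n - 1)) (2 ^ (n - 1)), 1) = f (u (2 ^ (n - 1)) (2 ^ (n - 1)), 1) * c)
    {x y₁ y₂ : W} (hx : x ^ 2 ^ n = 1) (he : c * f (1, x) * c⁻¹ = f (y₁, y₂)) : y₁ = 1 := by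
  have hc := h.fus.coord
  obtain ⟨D, hD1, hD2, -⟩ := exists_det hc
  obtain ⟨a, b, a', b', p, q, p', q', g, φ, hφ, h1, h2, h3, h4, h5, h6, h7, h8, h9, h10⟩ :=
    moved h hD1 hD2 hct (one_pow _) hx he
  have hab := h7.2 rfl
  rw [hc.u_eq_one_iff] at hab
  rw [hab.1, hab.2] at h2
  apply h9.1
  rcases act_fst h hφ h1 with h11 | h11
  · have := h11 ((0, 0), (a', b'))
    rw [h2] at this
    simp only [Prod.mk.injEq] at this
    rw [this.1, this.2, hc.u_zero]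
  · have := h11 ((0, 0), (a', b'))
    rw [h2] at this
    simp only [Prod.mk.injEq] at this
    rw [this.1, this.2, hc.u_zero]

end

end Cfsg.Agent.TypeLFive.CentWR
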