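import Mathlib
import Cfsg.Agent.TypeLFive.CentWRClosed

/-!
# Wreathed half of (C), S0511: `W₂` is strongly closed (W3), N-type elements
-/

set_option autoImplicit false

namespace Cfsg.Agent.TypeLFive.CentWR

open Cfsg.Agent.TypeLFive.Model Cfsg.Agent.TypeLFive.Out Cfsg.Agent.TypeLFive.CentLin
open Cfsg.Agent.TwoFusion.QDBasic Cfsg.Agent.TwoFusion.WreathedBasic

section W

variable {W : Type*} [Group W] {n : ℕ} {u : ZMod (2 ^ n) → ZMod (2 ^ n) → W} {s : W}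

/-- commuting of `u c d` and `u a b * s`. -/
theorem comm_us_iff (hc : IsWCoord n u s) (a b c d : ZMod (2 ^ n)) :
    u c d * (u a b * s) = u a b * s * u c d ↔ c = d := by
  rw [hc.u_mul_uz, hc.uz_mul_u]
  constructor
  · intro e
    obtain ⟨h1, -⟩ := hc.u_inj _ _ _ _ (mul_right_cancel e)
    linear_combination h1
  · rintro rfl
    rw [add_comm c a, add_comm c b]

/-- conjugacy of the elements outside the base. -/
theorem exists_conj_us (hc : IsWCoord n u s) {a b a' b' : ZMod (2 ^ n)} (h : a + b = a' + b') :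
    ∃ e, u e 0 * (u a b * s) * (u e 0)⁻¹ = u a' b' * s := by
  refine ⟨a' - a, ?_⟩
  rw [hc.u_conj_uz]
  congr 2
  · ring
  · linear_combination h

/-- the centraliser of an N-type element. -/
theorem mem_zpowers_of_comm (hc : IsWCoord n u s) {a b : ZMod (2 ^ n)} (hγ : IsUnit (a + b)) {y : W}
    (hy : y * (u a b * s) = u a b * s * y) : y ∈ Subgroup.zpowers (u a b * s) := by
  have hu : ∀ c, u c c ∈ Subgroup.zpowers (u a b * s) := by
    intro c
    obtain ⟨γ, hγ'⟩ := hγ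
    obtain ⟨j, hj⟩ := ZMod.intCast_surjective (c * ((γ⁻¹ : (ZMod (2 ^ n))ˣ) : ZMod (2 ^ n)))
    have h1 : (u a b * s) ^ (2 * j) = u c c := by
      rw [zpow_mul]
      have : (u a b * s) ^ (2 : ℤ) = u (a + b) (a + b) := by
        rw [← hc.uz_sq]; norm_cast
      rw [this]
      have h2 : ∀ (k : ℤ) (d : ZMod (2 ^ n)), u d d ^ k = u (k * d) (k * d) := by
        intro k d
        obtain ⟨m, rfl | rfl⟩ := k.eq_nat_or_neg
        · rw [zpow_natCast, hc.u_pow]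
          push_cast
          rfl
        · rw [zpow_neg, zpow_natCast, hc.u_pow, hc.u_inv]
          push_cast
          congr 1 <;> ring
      have h3 : c * ((γ⁻¹ : (ZMod (2 ^ n))ˣ) : ZMod (2 ^ n)) * (γ : ZMod (2 ^ n)) = c := by
        rw [mul_assoc, Units.inv_mul, mul_one]
      rw [h2, hj, ← hγ', h3]
    rw [← h1]
    exact Subgroup.zpow_mem _ (Subgroup.mem_zpowers _) _
  rcases hc.cases y with ⟨c, d, rfl⟩ | ⟨c, d, rfl⟩
  · rw [comm_us_iff hc] at hy
    rw [hy]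
    exact hu d
  · rw [hc.uz_mul_uz, hc.uz_mul_uz] at hy
    obtain ⟨h1, -⟩ := hc.u_inj _ _ _ _ hy
    have e : u c d * s = u (c - a) (c - a) * (u a b * s) := by
      rw [hc.u_mul_uz]
      congr 2
      · ring
      · linear_combination -h1
    rw [e]
    exact mul_mem (hu _) (Subgroup.mem_zpowers _)

/-- an element of `⟨x⟩` of order dividing `2 ^ n`. -/
theorem eq_u_of_mem_zpowers (hc : IsWCoord n u s) {a b : ZMod (2 ^ n)} (hγ : IsUnit (a + b)) {y : W}
    (hy : y ∈ Subgroup.zpowers (u a b * s)) (hy2 : y ^ 2 ^ n = 1) : ∃ c, y = u c c := by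
  have hcomm : y * (u a b * s) = u a b * s * y := by
    obtain ⟨k, rfl⟩ := Subgroup.mem_zpowers_iff.1 hy
    exact (((Commute.refl (u a b * s)).zpow_left k)).eq
  rcases hc.cases y with ⟨c, d, rfl⟩ | ⟨c, d, rfl⟩
  · rw [comm_us_iff hc] at hcomm
    exact ⟨d, by rw [hcomm]⟩
  · exfalso
    rw [hc.uz_mul_uz, hc.uz_mul_uz] at hcomm
    obtain ⟨h1, -⟩ := hc.u_inj _ _ _ _ hcomm
    obtain ⟨c', hc'⟩ := uz_pow_eq_one hc hy2
    obtain ⟨g, hg⟩ := odd_of_isUnit n hc.one_le _ hγ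
    refine two_mul_ne_two_mul_add_one n hc.one_le (c' + a - c) g ?_
    rw [← hg]
    linear_combination -hc' - h1

end W

variable {G W : Type*} [Group G] [Group W] {n : ℕ} {f : W × W →* G} {w : G}
  {u : ZMod (2 ^ n) → ZMod (2 ^ n) → W} {s : W} [Finite G] {P : Sylow 2 G}

omit [Finite G] in
theorem f_pair_comm {p q : W × W} (h1 : p.1 * q.1 = q.1 * p.1) (h2 : p.2 * q.2 = q.2 * p.2) :
    f p * f q = f q * f p := by
  rw [← map_mul, ← map_mul]
  congr 1
  exact Prod.ext h1 h2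

omit [Finite G] in
/-- central elements of `W`. -/
theorem u_diag_comm (hc : IsWCoord n u s) (c : ZMod (2 ^ n)) (y : W) : u c c * y = y * u c c := by
  have := Subgroup.mem_center_iff.1 ((hc.u_mem_center_iff c c).2 rfl) y
  exact this.symm

/-- (α): `W₁ × ⟨x⟩` is a maximal 2-subgroup of `C_G(t, x)`. -/
theorem alpha (h : FusWRN (P : Subgroup G) f w u s) {a b : ZMod (2 ^ n)} (hγ : IsUnit (a + b)) (R : Subgroup G)
    (pR : IsPGroup 2 R) (hU : ((⊤ : Subgroup W).prod (Subgroup.zpowers (u a b * s))).map f ≤ R)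
    (hR : ∀ r ∈ R, r * f (u (2 ^ (n - 1)) (2 ^ (n - 1)), 1) = f (u (2 ^ (n - 1)) (2 ^ (n - 1)), 1) * r ∧
      r * f (1, u a b * s) = f (1, u a b * s) * r) :
    R = ((⊤ : Subgroup W).prod (Subgroup.zpowers (u a b * s))).map f := by
  have hc := h.fus.coord
  have hfin : Finite W := hc.finite
  have hwr := h.fus.out.wr
  have hinj := hwr.inj
  set x := u a b * s with hx
  set t := f (u (2 ^ (n - 1)) (2 ^ (n - 1)), 1) with ht
  set z2 := f (1, u (a + b) (a + b)) with hz2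
  have hX2 : f (1, x) * f (1, x) = z2 := by
    rw [← map_mul, Prod.mk_mul_mk, mul_one, ← pow_two, hx, hc.uz_sq]
  set Y := Subgroup.centralizer ({t, z2} : Set G) with hY
  have hmemY : ∀ g, g ∈ Y ↔ t * g = g * t ∧ z2 * g = g * z2 := by
    intro g
    rw [hY, Subgroup.mem_centralizer_iff]
    constructor
    · intro hg
      exact ⟨hg t (by simp), hg z2 (by simp)⟩
    · rintro ⟨h1, h2⟩ m hm
      rcases hm with rfl | rfl
      · exact h1
      · exact h2
  have hTY : f.range ≤ Y := by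
    rintro _ ⟨⟨p, q⟩, rfl⟩
    rw [hmemY]
    constructor
    · refine f_pair_comm (u_diag_comm hc _ _) ?_
      show 1 * q = q * 1
      rw [one_mul, mul_one]
    · refine f_pair_comm ?_ (u_diag_comm hc _ _)
      show 1 * p = p * 1
      rw [one_mul, mul_one]
  have hRY : R ≤ Y := by
    intro r hr
    rw [hmemY]
    obtain ⟨h1, h2⟩ := hR r hr
    refine ⟨h1.symm, ?_⟩
    rw [← hX2]
    calc f (1, x) * f (1, x) * r = f (1, x) * (f (1, x) * r) := by group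
      _ = f (1, x) * (r * f (1, x)) := by rw [h2]
      _ = (f (1, x) * r) * f (1, x) := by group
      _ = (r * f (1, x)) * f (1, x) := by rw [h2]
      _ = r * (f (1, x) * f (1, x)) := by group
  have pT : IsPGroup 2 f.range := P.isPGroup'.to_le hwr.range_le
  obtain ⟨R', k, hk, pR', hR'Y, hTR', hkR⟩ := CentGen.exists_conj_into Y f.range R hTY hRY pT pR
  have hR'T : R' = f.range := h.fus.out.sylow_t R' pR' hTR' (fun r hr => ((hmemY r).1 (hR'Y hr)).1.symm)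
  rw [hR'T] at hkR
  have hXR : f (1, x) ∈ R := hU ⟨(1, x), ⟨Subgroup.mem_top _, Subgroup.mem_zpowers x⟩, rfl⟩
  obtain ⟨⟨y₁, y₂⟩, hy⟩ := hkR _ hXR
  have hkz : k * z2 * k⁻¹ = z2 := by
    have := ((hmemY k).1 hk).2
    rw [← this, mul_inv_cancel_right]
  have hyy : f (y₁, y₂) * f (y₁, y₂) = z2 := by
    rw [hy]
    calc k * f (1, x) * k⁻¹ * (k * f (1, x) * k⁻¹) = k * (f (1, x) * f (1, x)) * k⁻¹ := by group
      _ = z2 := by rw [hX2, hkz]
  rw [← map_mul, Prod.mk_mul_mk] at hyy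
  have hyy2 : y₂ * y₂ = u (a + b) (a + b) := congrArg Prod.snd (hinj hyy)
  obtain ⟨g, hg⟩ := odd_of_isUnit n hc.one_le _ hγ
  have hex : ∃ e, u e 0 * x * (u e 0)⁻¹ = y₂ := by
    rcases hc.cases y₂ with ⟨p, q, rfl⟩ | ⟨p, q, rfl⟩
    · exfalso
      rw [hc.u_mul] at hyy2
      obtain ⟨h1, -⟩ := hc.u_inj _ _ _ _ hyy2
      refine two_mul_ne_two_mul_add_one n hc.one_le p g ?_
      rw [← hg, ← h1]; ring
    · rw [← pow_two, hc.uz_sq] at hyy2
      obtain ⟨h1, -⟩ := hc.u_inj _ _ _ _ hyy2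
      exact exists_conj_us hc h1.symm
  obtain ⟨e, he⟩ := hex
  have hord : orderOf y₂ = orderOf x := by
    rw [← he]
    exact (MulAut.conj (u e 0)).orderOf_eq x
  have hcent : ∀ r ∈ R, k * r * k⁻¹ ∈ ((⊤ : Subgroup W).prod (Subgroup.zpowers y₂)).map f := by
    intro r hr
    obtain ⟨⟨r₁, r₂⟩, hr12⟩ := hkR _ hr
    refine ⟨(r₁, r₂), ⟨Subgroup.mem_top _, ?_⟩, hr12⟩
    show r₂ ∈ Subgroup.zpowers y₂
    have h1 : f (r₁, r₂) * f (y₁, y₂) = f (y₁, y₂) * f (r₁, r₂) := by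
      rw [hr12, hy]
      calc k * r * k⁻¹ * (k * f (1, x) * k⁻¹) = k * (r * f (1, x)) * k⁻¹ := by group
        _ = k * (f (1, x) * r) * k⁻¹ := by rw [(hR r hr).2]
        _ = _ := by group
    rw [← map_mul, ← map_mul, Prod.mk_mul_mk, Prod.mk_mul_mk] at h1
    have h2 : r₂ * y₂ = y₂ * r₂ := congrArg Prod.snd (hinj h1)
    rw [← he] at h2 ⊢
    have h3 : ((u e 0)⁻¹ * r₂ * u e 0) * x = x * ((u e 0)⁻¹ * r₂ * u e 0) := by
      calc ((u e 0)⁻¹ * r₂ * u e 0) * x = (u e 0)⁻¹ * (r₂ * (u e 0 * x * (u e 0)⁻¹)) * u e 0 := by group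
        _ = (u e 0)⁻¹ * ((u e 0 * x * (u e 0)⁻¹) * r₂) * u e 0 := by rw [h2]
        _ = _ := by group
    obtain ⟨j, hj⟩ := Subgroup.mem_zpowers_iff.1 (mem_zpowers_of_comm hc hγ h3)
    refine Subgroup.mem_zpowers_iff.2 ⟨j, ?_⟩
    rw [conj_zpow, hj]
    group
  have hcard : Nat.card R ≤ Nat.card (((⊤ : Subgroup W).prod (Subgroup.zpowers y₂)).map f) := by
    have h1 : R.map (MulAut.conj k).toMonoidHom ≤ ((⊤ : Subgroup W).prod (Subgroup.zpowers y₂)).map f := by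
      rintro _ ⟨r, hr, rfl⟩
      exact hcent r hr
    have h2 := Subgroup.card_le_of_le h1
    rwa [Subgroup.card_map_of_injective (MulAut.conj k).injective] at h2
  have hc1 : ∀ y : W, Nat.card (((⊤ : Subgroup W).prod (Subgroup.zpowers y)).map f) =
      Nat.card (⊤ : Subgroup W) * orderOf y := by
    intro y
    rw [Subgroup.card_map_of_injective hinj, Nat.card_congr (Subgroup.prodEquiv _ _).toEquiv, Nat.card_prod,
      Nat.card_zpowers]
  rw [hc1, hord, ← hc1] at hcard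
  exact (Subgroup.eq_of_le_of_card_ge hU hcard).symm

/-- The key lemma: an N-type element of `W₂` is not fused to `f (u a₁ b₁, x)`. -/
theorem key (h : FusWRN (P : Subgroup G) f w u s) {a b a₁ b₁ : ZMod (2 ^ n)} (hγ : IsUnit (a + b)) {c : G}
    (hct : c * f (u (2 ^ (n - 1)) (2 ^ (n - 1)), 1) = f (u (2 ^ (n - 1)) (2 ^ (n - 1)), 1) * c)
    (hcs : c * f (1, u (a + b) (a + b)) = f (1, u (a + b) (a + b)) * c)
    (he : c * f (1, u a b * s) * c⁻¹ = f (u a₁ b₁, u a b * s)) : a₁ = 0 ∧ b₁ = 0 := by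
  by_contra hne
  have hc := h.fus.coord
  have hn := hc.one_le
  have hn2 := hc.two_le
  have hfin : Finite W := hc.finite
  have hwr := h.fus.out.wr
  have hinj := hwr.inj
  have hh : (2 : ZMod (2 ^ n)) ^ (n - 1) + 2 ^ (n - 1) = 0 := by rw [← two_mul, two_mul_half n hn]
  have hhalf0 := half_ne_zero n hn
  set x := u a b * s with hx
  set t := f (u (2 ^ (n - 1)) (2 ^ (n - 1)), 1) with ht
  set z2 := f (1, u (a + b) (a + b)) with hz2
  set X := f (1, x) with hXd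
  set v := f (u a₁ b₁, x) with hv
  have hxx : x * x = u (a + b) (a + b) := by rw [← pow_two, hx, hc.uz_sq]
  have hX2 : X * X = z2 := by
    rw [hXd, ← map_mul, Prod.mk_mul_mk, mul_one, hxx]
  obtain ⟨γ, hγ'⟩ := odd_of_isUnit n hn _ hγ
  -- commuting with `z2` means commuting with all `f (1, u e e)`
  have hz2all : ∀ g : G, g * z2 = z2 * g → ∀ e, g * f (1, u e e) = f (1, u e e) * g := by
    intro g hg e
    obtain ⟨γ', hγu⟩ := hγ
    obtain ⟨j, hj⟩ := ZMod.natCast_zmod_surjective (e * ((γ'⁻¹ : (ZMod (2 ^ n))ˣ) : ZMod (2 ^ n)))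
    have e1 : f (1, u e e) = z2 ^ j := by
      rw [hz2, ← map_pow, Prod.pow_mk, one_pow, hc.u_pow, hj, ← hγu, mul_assoc, Units.inv_mul, mul_one]
    rw [e1]
    exact (Commute.pow_right (show Commute g z2 from hg) j).eq
  set H := Subgroup.centralizer ({t, X} : Set G) with hH
  have hmemH : ∀ g, g ∈ H ↔ g * t = t * g ∧ g * X = X * g := by
    intro g
    rw [hH, Subgroup.mem_centralizer_iff]
    constructor
    · intro hg
      exact ⟨(hg t (by simp)).symm, (hg X (by simp)).symm⟩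
    · rintro ⟨h1, h2⟩ m hm
      rcases hm with rfl | rfl
      · exact h1.symm
      · exact h2.symm
  set Ux := ((⊤ : Subgroup W).prod (Subgroup.zpowers x)).map f with hUx
  set U3 := (hc.base.prod (Subgroup.zpowers x)).map f with hU3
  have hzx : ∀ y ∈ Subgroup.zpowers x, y * x = x * y := by
    intro y hy
    obtain ⟨k, rfl⟩ := Subgroup.mem_zpowers_iff.1 hy
    exact ((Commute.refl x).zpow_left k).eq
  have hUxH : Ux ≤ H := by
    rintro _ ⟨⟨p, q⟩, ⟨-, hq⟩, rfl⟩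
    rw [hmemH]
    constructor
    · refine f_pair_comm (u_diag_comm hc _ _).symm ?_
      show q * 1 = 1 * q
      rw [one_mul, mul_one]
    · refine f_pair_comm ?_ (hzx q hq)
      show p * 1 = 1 * p
      rw [one_mul, mul_one]
  have pUx : IsPGroup 2 Ux := P.isPGroup'.to_le (by
    rintro _ ⟨p, -, rfl⟩
    exact hwr.mem p)
  have pU3 : IsPGroup 2 U3 := P.isPGroup'.to_le (by
    rintro _ ⟨p, -, rfl⟩
    exact hwr.mem p)
  -- `U3` commutes with `v` and `t`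
  have hU3v : ∀ z ∈ U3, z * v = v * z ∧ z * t = t * z := by
    rintro _ ⟨⟨p, q⟩, ⟨hp, hq⟩, rfl⟩
    obtain ⟨p₁, p₂, rfl⟩ := (hc.mem_base p).1 hp
    exact ⟨f_pair_comm (hc.u_comm _ _ _ _) (hzx q hq),
      f_pair_comm (hc.u_comm _ _ _ _) (by show q * 1 = 1 * q; rw [one_mul, mul_one])⟩
  set B := U3.map (MulAut.conj c⁻¹).toMonoidHom with hB
  have hBH : B ≤ H := by
    rintro _ ⟨z, hz, rfl⟩
    obtain ⟨h1, h2⟩ := hU3v z hz
    rw [hmemH]
    show c⁻¹ * z * c⁻¹⁻¹ * t = t * (c⁻¹ * z * c⁻¹⁻¹) ∧ c⁻¹ * z * c⁻¹⁻¹ * X = X * (c⁻¹ * z * c⁻¹⁻¹)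
    rw [inv_inv]
    have h3 : c * X = v * c := by rw [← he]; group
    have h4 : X * c⁻¹ = c⁻¹ * v := by rw [← he]; group
    have h5 : t * c⁻¹ = c⁻¹ * t := by
      calc t * c⁻¹ = c⁻¹ * (c * t) * c⁻¹ := by group
        _ = c⁻¹ * (t * c) * c⁻¹ := by rw [hct]
        _ = _ := by group
    constructor
    · calc c⁻¹ * z * c * t = c⁻¹ * z * (c * t) := by group
        _ = c⁻¹ * (z * t) * c := by rw [hct]; group
        _ = (c⁻¹ * t) * z * c := by rw [h2]; group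
        _ = t * (c⁻¹ * z * c) := by rw [← h5]; group
    · calc c⁻¹ * z * c * X = c⁻¹ * z * (c * X) := by group
        _ = c⁻¹ * (z * v) * c := by rw [h3]; group
        _ = (c⁻¹ * v) * z * c := by rw [h1]; group
        _ = X * (c⁻¹ * z * c) := by rw [← h4]; group
  obtain ⟨R, k, hk, pR, hRH, hUR, hBR⟩ := CentGen.exists_conj_into H Ux B hUxH hBH pUx (pU3.map _)
  have hRU : R = Ux := alpha h hγ R pR hUR (fun r hr => (hmemH r).1 (hRH hr))
  rw [hRU] at hBR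
  obtain ⟨hkt, hkX⟩ := (hmemH k).1 hk
  set g := k * c⁻¹ with hg
  have hgU : ∀ z ∈ U3, g * z * g⁻¹ ∈ Ux := by
    intro z hz
    have := hBR _ ⟨z, hz, rfl⟩
    have e : g * z * g⁻¹ = k * ((MulAut.conj c⁻¹).toMonoidHom z) * k⁻¹ := by
      show _ = k * (c⁻¹ * z * c⁻¹⁻¹) * k⁻¹
      rw [hg]; group
    rw [e]
    exact this
  have hgv : g * v * g⁻¹ = X := by
    rw [hg, ← he]
    calc k * c⁻¹ * (c * X * c⁻¹) * (k * c⁻¹)⁻¹ = k * X * k⁻¹ := by group
      _ = X := by rw [hkX, mul_inv_cancel_right]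
  have hct' : c⁻¹ * t = t * c⁻¹ := by
    calc c⁻¹ * t = c⁻¹ * (t * c) * c⁻¹ := by group
      _ = c⁻¹ * (c * t) * c⁻¹ := by rw [hct]
      _ = _ := by group
  have hcs' : c⁻¹ * z2 = z2 * c⁻¹ := by
    calc c⁻¹ * z2 = c⁻¹ * (z2 * c) * c⁻¹ := by group
      _ = c⁻¹ * (c * z2) * c⁻¹ := by rw [hcs]
      _ = _ := by group
  have hgt : g * t = t * g := by
    rw [hg, mul_assoc, hct', ← mul_assoc, hkt, mul_assoc]
  have hkz : k * z2 = z2 * k := by
    rw [← hX2, ← mul_assoc, hkX, mul_assoc, hkX, ← mul_assoc]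
  have hgz : g * z2 = z2 * g := by
    rw [hg, mul_assoc, hcs', ← mul_assoc, hkz, mul_assoc]
  have hgzz := hz2all g hgz
  -- (β)
  have hbeta : ∀ z ∈ U3, ∃ (p q : ZMod (2 ^ n)) (y : W), y ∈ Subgroup.zpowers x ∧ g * z * g⁻¹ = f (u p q, y) := by
    intro z hz
    obtain ⟨⟨r, r'⟩, ⟨-, hr'⟩, hrz⟩ := hgU z hz
    rcases hc.cases r with ⟨p, q, rfl⟩ | ⟨p, q, rfl⟩
    · exact ⟨p, q, r', hr', hrz.symm⟩
    · exfalso
      -- the image of `(u 1 0, 1)`
      have hm : f (u 1 0, 1) ∈ U3 := ⟨(u 1 0, 1), ⟨hc.u_mem_base 1 0, Subgroup.one_mem _⟩, rfl⟩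
      obtain ⟨⟨p₁, p₂⟩, ⟨-, hp₂⟩, hpe⟩ := hgU _ hm
      have hcomm : f (p₁, p₂) * f (u p q * s, r') = f (u p q * s, r') * f (p₁, p₂) := by
        rw [hrz, hpe]
        obtain ⟨⟨z₁, z₂⟩, ⟨hz₁, -⟩, rfl⟩ := hz
        obtain ⟨z₃, z₄, rfl⟩ := (hc.mem_base z₁).1 hz₁
        have h1 : f (u 1 0, 1) * f (u z₃ z₄, z₂) = f (u z₃ z₄, z₂) * f (u 1 0, 1) :=
          f_pair_comm (hc.u_comm _ _ _ _) (by show 1 * z₂ = z₂ * 1; rw [one_mul, mul_one])
        calc g * f (u 1 0, 1) * g⁻¹ * (g * f (u z₃ z₄, z₂) * g⁻¹) = g * (f (u 1 0, 1) * f (u z₃ z₄, z₂)) * g⁻¹ := by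
              group
          _ = g * (f (u z₃ z₄, z₂) * f (u 1 0, 1)) * g⁻¹ := by rw [h1]
          _ = _ := by group
      rw [← map_mul, ← map_mul, Prod.mk_mul_mk, Prod.mk_mul_mk] at hcomm
      have hp1c : p₁ * (u p q * s) = u p q * s * p₁ := congrArg Prod.fst (hinj hcomm)
      have hsq : ∃ e, p₁ ^ 2 = u e e := by
        rcases hc.cases p₁ with ⟨e, e', rfl⟩ | ⟨e, e', rfl⟩
        · rw [comm_us_iff hc] at hp1c
          exact ⟨2 * e', by rw [hc.u_sq, hp1c]⟩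
        · exact ⟨_, hc.uz_sq _ _⟩
      obtain ⟨e, hee⟩ := hsq
      have epow : 2 ^ (n - 1) = 2 * 2 ^ (n - 2) := by rw [← pow_succ']; congr 1; omega
      have hd1 : g * f (u (2 ^ (n - 1)) 0, 1) * g⁻¹ =
          f (u ((2 ^ (n - 2) : ℕ) * e) ((2 ^ (n - 2) : ℕ) * e), p₂ ^ 2 ^ (n - 1)) := by
        have e1 : f (u (2 ^ (n - 1)) 0, 1) = (f (u 1 0, 1)) ^ 2 ^ (n - 1) := by
          rw [← map_pow, Prod.pow_mk, one_pow, hc.u_pow]
          push_cast
          rw [mul_one, mul_zero]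
        rw [e1, ← conj_pow, ← hpe, ← map_pow, Prod.pow_mk]
        congr 2
        rw [epow, pow_mul, hee, hc.u_pow]
      set e' : ZMod (2 ^ n) := (2 ^ (n - 2) : ℕ) * e with he'
      set y := p₂ ^ 2 ^ (n - 1) with hy
      have hyz : y ∈ Subgroup.zpowers x := Subgroup.pow_mem _ hp₂ _
      -- it is an involution
      have hinv : f (u e' e', y) * f (u e' e', y) = 1 := by
        rw [← hd1]
        have e1 : f (u (2 ^ (n - 1)) 0, 1) * f (u (2 ^ (n - 1)) 0, 1) = 1 := by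
          rw [← map_mul, Prod.mk_mul_mk, hc.u_mul, hh, add_zero, hc.u_zero, mul_one]
          exact map_one f
        calc g * f (u (2 ^ (n - 1)) 0, 1) * g⁻¹ * (g * f (u (2 ^ (n - 1)) 0, 1) * g⁻¹) =
            g * (f (u (2 ^ (n - 1)) 0, 1) * f (u (2 ^ (n - 1)) 0, 1)) * g⁻¹ := by group
          _ = 1 := by rw [e1, mul_one, mul_inv_cancel]
      rw [← map_mul, Prod.mk_mul_mk] at hinv
      have hinv' := hinj (hinv.trans (map_one f).symm)
      have hi1 : u e' e' * u e' e' = 1 := congrArg Prod.fst hinv'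
      have hi2 : y * y = 1 := congrArg Prod.snd hinv'
      obtain ⟨y', hy'⟩ := eq_u_of_mem_zpowers hc hγ hyz (by
        have e1 : 2 ^ n = 2 * 2 ^ (n - 1) := by rw [← pow_succ', Nat.sub_add_cancel hn]
        rw [e1, pow_mul, pow_two, hi2, one_pow])
      rw [hc.u_mul, hc.u_eq_one_iff] at hi1
      rw [hy', hc.u_mul, hc.u_eq_one_iff] at hi2
      -- the image commutes with `g`
      have hfix : g * f (u e' e', y) = f (u e' e', y) * g := by
        have e1 : f (u e' e', y) = f (u e' e', 1) * f (1, u y' y') := by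
          rw [← map_mul, Prod.mk_mul_mk, mul_one, one_mul, hy']
        have e2 : g * f (u e' e', 1) = f (u e' e', 1) * g := by
          have h5 : e' = 0 ∨ e' = 2 ^ (n - 1) := by
            rw [← two_mul_eq_zero_iff n hn, two_mul]; exact hi1.1
          rcases h5 with h5 | h5
          · rw [h5, hc.u_zero]
            have : ((1 : W), (1 : W)) = 1 := rfl
            rw [this, map_one, mul_one, one_mul]
          · rw [h5]; exact hgt
        rw [e1, ← mul_assoc, e2, mul_assoc, hgzz, mul_assoc]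
      have h6 : g * f (u (2 ^ (n - 1)) 0, 1) = f (u e' e', y) * g := by
        rw [← hd1]; group
      rw [← hfix] at h6
      have h7 := hinj (mul_left_cancel h6)
      have h8 := hc.u_inj _ _ _ _ (congrArg Prod.fst h7)
      exact hhalf0 (h8.1.trans h8.2.symm)
  -- the action of `g` on `U₀`
  have hU0 : ∀ p q e : ZMod (2 ^ n), ∃ v' : V n, g * Fv f u ((p, q), (e, e)) * g⁻¹ = Fv f u v' := by
    intro p q e
    have h1 : f (u p q, 1) ∈ U3 := ⟨(u p q, 1), ⟨hc.u_mem_base p q, Subgroup.one_mem _⟩, rfl⟩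
    obtain ⟨p', q', y, hy, h2⟩ := hbeta _ h1
    have hy2 : y ^ 2 ^ n = 1 := by
      refine (pow_of_conj hinj h2 (k := 2 ^ n) ?_ (one_pow _)).2
      rw [hc.u_pow]
      have : ((2 ^ n : ℕ) : ZMod (2 ^ n)) = 0 := by push_cast; exact two_pow_eq_zero n
      rw [this, zero_mul, zero_mul, hc.u_zero]
    obtain ⟨y', hy'⟩ := eq_u_of_mem_zpowers hc hγ hy hy2
    refine ⟨((p', q'), (y' + e, y' + e)), ?_⟩
    have e1 : Fv f u ((p, q), (e, e)) = f (u p q, 1) * f (1, u e e) := by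
      show f (u p q, u e e) = _
      rw [← map_mul, Prod.mk_mul_mk, mul_one, one_mul]
    have e2 : Fv f u ((p', q'), (y' + e, y' + e)) = f (u p' q', u y' y') * f (1, u e e) := by
      show f (u p' q', u (y' + e) (y' + e)) = _
      rw [← map_mul, Prod.mk_mul_mk, mul_one, hc.u_mul]
    rw [e1, e2, ← hy', ← h2]
    calc g * (f (u p q, 1) * f (1, u e e)) * g⁻¹ = g * f (u p q, 1) * (f (1, u e e) * g⁻¹) := by group
      _ = g * f (u p q, 1) * (g⁻¹ * (g * f (1, u e e)) * g⁻¹) := by group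
      _ = g * f (u p q, 1) * (g⁻¹ * (f (1, u e e) * g) * g⁻¹) := by rw [hgzz]
      _ = _ := by group
  obtain ⟨g', φ, hφ, hg'⟩ := control h {ω | ∃ p q e : ZMod (2 ^ n), ω = Fv f u ((p, q), (e, e))}
    (by rintro _ ⟨p, q, e, rfl⟩; exact ⟨_, rfl⟩) g (by rintro _ ⟨p, q, e, rfl⟩; exact hU0 p q e)
  have hφt : φ ((2 ^ (n - 1), 2 ^ (n - 1)), (0, 0)) = ((2 ^ (n - 1), 2 ^ (n - 1)), (0, 0)) := by
    apply Fv_inj hc hwr
    rw [← hφ, hg' _ ⟨_, _, 0, rfl⟩, t_eq h, hgt, mul_inv_cancel_right]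
  have hFz : ∀ e : ZMod (2 ^ n), Fv f u ((0, 0), (e, e)) = f (1, u e e) := by
    intro e
    show f (u 0 0, u e e) = _
    rw [hc.u_zero]
  have hφz : φ ((0, 0), (2 ^ (n - 1), 2 ^ (n - 1))) = ((0, 0), (2 ^ (n - 1), 2 ^ (n - 1))) := by
    apply Fv_inj hc hwr
    rw [← hφ, hg' _ ⟨0, 0, _, rfl⟩, hFz, hgzz, mul_inv_cancel_right]
  have hF1 : ∀ p q : ZMod (2 ^ n), Fv f u ((p, q), (0, 0)) = f (u p q, 1) := by
    intro p q
    show f (u p q, u 0 0) = _
    rw [hc.u_zero]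
  -- the correction by `s₁`
  obtain ⟨g₁, a₂, b₂, hg1a, hg1b, hg1c, hg1d⟩ : ∃ (g₁ : G) (a₂ b₂ : ZMod (2 ^ n)),
      (∀ p q, g₁ * f (u p q, 1) * g₁⁻¹ = f (u p q, 1)) ∧ (∀ e, g₁ * f (1, u e e) * g₁⁻¹ = f (1, u e e)) ∧
      g₁ * X * g₁⁻¹ = f (u a₂ b₂, x) ∧ ¬ (a₂ = 0 ∧ b₂ = 0) := by
    have hXv : X = (f (u a₁ b₁, 1))⁻¹ * v := by
      rw [hXd, hv, ← map_inv, ← map_mul, Prod.inv_mk, Prod.mk_mul_mk, inv_mul_cancel, inv_one, one_mul]
    have hgX : g * X * g⁻¹ = (g * f (u a₁ b₁, 1) * g⁻¹)⁻¹ * X := by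
      calc g * X * g⁻¹ = (g * f (u a₁ b₁, 1) * g⁻¹)⁻¹ * (g * v * g⁻¹) := by rw [hXv]; group
        _ = _ := by rw [hgv]
    have hform : ∀ p q : ZMod (2 ^ n), (f (u p q, 1))⁻¹ * X = f (u (-p) (-q), x) := by
      intro p q
      rw [hXd, ← map_inv, ← map_mul, Prod.inv_mk, Prod.mk_mul_mk, mul_one, inv_one, one_mul, hc.u_inv]
    rcases act_cent h hφ hφt hφz with h1 | h1
    · have h2 : ∀ p q, g * f (u p q, 1) * g⁻¹ = f (u p q, 1) := by
        intro p q
        rw [← hF1, ← hg' _ ⟨p, q, 0, rfl⟩, hφ, h1]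
      refine ⟨g, -a₁, -b₁, h2, fun e => by rw [hgzz, mul_inv_cancel_right], ?_, ?_⟩
      · rw [hgX, h2, hform]
      · rintro ⟨h3, h4⟩
        exact hne ⟨neg_eq_zero.1 h3, neg_eq_zero.1 h4⟩
    · have h2 : ∀ p q, g * f (u p q, 1) * g⁻¹ = f (u q p, 1) := by
        intro p q
        rw [← hF1, ← hg' _ ⟨p, q, 0, rfl⟩, hφ, h1, hF1]
      have h3 : ∀ p q : ZMod (2 ^ n), f (s, 1) * f (u p q, 1) * (f (s, 1))⁻¹ = f (u q p, 1) := by
        intro p q
        have := act_s1 (f := f) hc ((p, q), (0, 0))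
        rw [hF1] at this
        rw [this]
        exact hF1 q p
      have h4 : ∀ y : W, f (s, 1) * f (1, y) * (f (s, 1))⁻¹ = f (1, y) := by
        intro y
        rw [← map_mul, ← map_inv, ← map_mul, Prod.inv_mk, Prod.mk_mul_mk, Prod.mk_mul_mk]
        simp
      have h5 : ∀ (m : G) (z z' : G), f (s, 1) * g * z * (f (s, 1) * g)⁻¹ =
          f (s, 1) * (g * z * g⁻¹) * (f (s, 1))⁻¹ := by intro m z z'; group
      refine ⟨f (s, 1) * g, -a₁, -b₁, ?_, ?_, ?_, ?_⟩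
      · intro p q
        rw [h5 1 _ 1, h2, h3]
      · intro e
        rw [h5 1 _ 1, hgzz, mul_inv_cancel_right, h4]
      · rw [h5 1 _ 1, hgX, h2]
        calc f (s, 1) * ((f (u b₁ a₁, 1))⁻¹ * X) * (f (s, 1))⁻¹ =
            (f (s, 1) * f (u b₁ a₁, 1) * (f (s, 1))⁻¹)⁻¹ * (f (s, 1) * X * (f (s, 1))⁻¹) := by group
          _ = _ := by rw [h3, h4, ← hXd, hform]
      · rintro ⟨h6, h7⟩
        exact hne ⟨neg_eq_zero.1 h6, neg_eq_zero.1 h7⟩
  -- the group `L = C_G(U₀)`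
  set L : Subgroup G := Subgroup.centralizer ({ω | ∃ p q e : ZMod (2 ^ n), ω = Fv f u ((p, q), (e, e))} : Set G)
    with hL
  set P0 : Subgroup G := (hc.base.prod (⊤ : Subgroup W)).map f with hP0
  have hFsplit : ∀ p q e : ZMod (2 ^ n), Fv f u ((p, q), (e, e)) = f (u p q, 1) * f (1, u e e) := by
    intro p q e
    show f (u p q, u e e) = _
    rw [← map_mul, Prod.mk_mul_mk, mul_one, one_mul]
  have hmemL : ∀ l, l ∈ L ↔ (∀ p q, l * f (u p q, 1) = f (u p q, 1) * l) ∧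
      (∀ e, l * f (1, u e e) = f (1, u e e) * l) := by
    intro l
    rw [hL, Subgroup.mem_centralizer_iff]
    constructor
    · intro hl
      refine ⟨fun p q => ?_, fun e => ?_⟩
      · have := hl _ ⟨p, q, 0, rfl⟩
        rw [hF1] at this
        exact this.symm
      · have := hl _ ⟨0, 0, e, rfl⟩
        rw [hFz] at this
        exact this.symm
    · rintro ⟨h1, h2⟩ _ ⟨p, q, e, rfl⟩
      rw [hFsplit, mul_assoc, ← h2, ← mul_assoc, ← h1, mul_assoc]
  have hP0L : P0 ≤ L := by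
    rintro _ ⟨⟨p, q⟩, ⟨hp, -⟩, rfl⟩
    obtain ⟨p₁, p₂, rfl⟩ := (hc.mem_base p).1 hp
    rw [hmemL]
    constructor
    · intro p' q'
      exact f_pair_comm (hc.u_comm _ _ _ _) (by show q * 1 = 1 * q; rw [one_mul, mul_one])
    · intro e
      exact f_pair_comm (by show u p₁ p₂ * 1 = 1 * u p₁ p₂; rw [one_mul, mul_one]) (u_diag_comm hc _ _).symm
  have hTL : f.range ⊓ L ≤ P0 := by
    rintro _ ⟨⟨⟨p, q⟩, rfl⟩, hl⟩
    have h1 := ((hmemL _).1 hl).1 1 0
    rw [← map_mul, ← map_mul, Prod.mk_mul_mk, Prod.mk_mul_mk] at h1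
    have h2 : p * u 1 0 = u 1 0 * p := congrArg Prod.fst (hinj h1)
    rcases hc.cases p with ⟨p₁, p₂, rfl⟩ | ⟨p₁, p₂, rfl⟩
    · exact ⟨(u p₁ p₂, q), ⟨hc.u_mem_base _ _, Subgroup.mem_top _⟩, rfl⟩
    · exfalso
      have h3 := (comm_us_iff hc p₁ p₂ 1 0).1 h2.symm
      have h4 : (2 : ZMod (2 ^ n)) ^ (n - 1) * 1 = 2 ^ (n - 1) * 0 := by rw [h3]
      rw [mul_one, mul_zero] at h4
      exact hhalf0 h4
  set C := Subgroup.centralizer ({t} : Set G) with hC
  have hmemC : ∀ g, g ∈ C ↔ g * t = t * g := by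
    intro g
    rw [hC, Subgroup.mem_centralizer_iff]
    constructor
    · intro hg; exact (hg t rfl).symm
    · rintro h1 _ rfl; exact h1.symm
  have hTC : f.range ≤ C := by
    rintro _ ⟨⟨p, q⟩, rfl⟩
    rw [hmemC]
    exact f_pair_comm (u_diag_comm hc _ _).symm (by show q * 1 = 1 * q; rw [one_mul, mul_one])
  have hLC : L ≤ C := fun l hl => (hmemC l).2 (((hmemL l).1 hl).1 _ _)
  have pT : IsPGroup 2 f.range := P.isPGroup'.to_le hwr.range_le
  have hodd := CentGen.odd_relIndex C f.range L hTC hLC pT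
    (fun R pR hTR hRC => h.fus.out.sylow_t R pR hTR (fun r hr => (hmemC r).1 (hRC hr))) (by
      rintro _ ⟨⟨p, q⟩, rfl⟩ l hl
      -- `f (p, q)` normalises `U₀`
      have h1 := (hmemL l).1 hl
      have hp : ∀ a b : ZMod (2 ^ n), ∃ a' b' : ZMod (2 ^ n), p⁻¹ * u a b * p = u a' b' := by
        intro a b
        rcases hc.cases p with ⟨p₁, p₂, rfl⟩ | ⟨p₁, p₂, rfl⟩
        · exact ⟨a, b, by rw [mul_assoc, hc.u_comm, inv_mul_cancel_left]⟩
        · refine ⟨b, a, ?_⟩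
          have := hc.uz_conj_u p₁ p₂ b a
          rw [← this]; group
      rw [hmemL]
      constructor
      · intro a b
        obtain ⟨a', b', e⟩ := hp a b
        have e1 : (f (p, q))⁻¹ * f (u a b, 1) * f (p, q) = f (u a' b', 1) := by
          rw [← map_inv, ← map_mul, ← map_mul, Prod.inv_mk, Prod.mk_mul_mk, Prod.mk_mul_mk, e, mul_one,
            inv_mul_cancel]
        calc f (p, q) * l * (f (p, q))⁻¹ * f (u a b, 1) =
            f (p, q) * (l * ((f (p, q))⁻¹ * f (u a b, 1) * f (p, q))) * (f (p, q))⁻¹ := by group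
          _ = f (p, q) * (((f (p, q))⁻¹ * f (u a b, 1) * f (p, q)) * l) * (f (p, q))⁻¹ := by
              rw [e1, h1.1]
          _ = _ := by group
      · intro e
        have e1 : (f (p, q))⁻¹ * f (1, u e e) * f (p, q) = f (1, u e e) := by
          rw [← map_inv, ← map_mul, ← map_mul, Prod.inv_mk, Prod.mk_mul_mk, Prod.mk_mul_mk, mul_one,
            inv_mul_cancel, mul_assoc, u_diag_comm hc, inv_mul_cancel_left]
        calc f (p, q) * l * (f (p, q))⁻¹ * f (1, u e e) =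
            f (p, q) * (l * ((f (p, q))⁻¹ * f (1, u e e) * f (p, q))) * (f (p, q))⁻¹ := by group
          _ = f (p, q) * (((f (p, q))⁻¹ * f (1, u e e) * f (p, q)) * l) * (f (p, q))⁻¹ := by
              rw [e1, h1.2]
          _ = _ := by group)
  have hodd' : ¬ 2 ∣ P0.relIndex L := by
    intro h2
    apply hodd
    rw [← Subgroup.inf_relIndex_right]
    exact h2.trans (Subgroup.relIndex_dvd_of_le_left L hTL)
  -- the projection
  have hcomm : IsMulCommutative hc.base := hc.base_comm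
  let _ : CommGroup hc.base := { (inferInstance : Group hc.base) with mul_comm := hcomm.is_comm.comm }
  let eqv : ↥(hc.base.prod (⊤ : Subgroup W)) ≃* ↥P0 := Subgroup.equivMapOfInjective _ f hinj
  let π : ↥P0 →* ↥hc.base :=
    (MonoidHom.fst ↥hc.base ↥(⊤ : Subgroup W)).comp
      ((Subgroup.prodEquiv hc.base (⊤ : Subgroup W)).toMonoidHom.comp eqv.symm.toMonoidHom)
  have hz : f (u a₂ b₂, 1) ∈ P0 := ⟨(u a₂ b₂, 1), ⟨hc.u_mem_base _ _, Subgroup.mem_top _⟩, rfl⟩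
  have hπ : π ⟨f (u a₂ b₂, 1), hz⟩ = ⟨u a₂ b₂, hc.u_mem_base _ _⟩ := by
    have e1 : eqv.symm ⟨f (u a₂ b₂, 1), hz⟩ = ⟨(u a₂ b₂, 1), ⟨hc.u_mem_base _ _, Subgroup.mem_top _⟩⟩ := by
      rw [MulEquiv.symm_apply_eq]
      rfl
    show (Subgroup.prodEquiv hc.base (⊤ : Subgroup W) (eqv.symm ⟨f (u a₂ b₂, 1), hz⟩)).1 = _
    rw [e1]
    rfl
  have hXL : X ∈ L := by
    rw [hmemL]
    exact ⟨fun p q => f_pair_comm (by show 1 * u p q = u p q * 1; rw [one_mul, mul_one])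
      (by show x * 1 = 1 * x; rw [one_mul, mul_one]),
      fun e => f_pair_comm (by show (1 : W) * 1 = 1 * 1; rfl) (u_diag_comm hc _ _).symm⟩
  have hg1L : g₁ ∈ L := by
    rw [hmemL]
    exact ⟨fun p q => comm_of_conj (hg1a p q), fun e => comm_of_conj (hg1b e)⟩
  refine CentGen.no_central_mul L P0 hP0L hodd' π (f (u a₂ b₂, 1)) hz (fun l hl => ((hmemL l).1 hl).1 _ _) n ?_ ?_
    g₁ X hg1L hXL ?_
  · rw [← map_pow, Prod.pow_mk, one_pow, hc.u_pow]
    have : ((2 ^ n : ℕ) : ZMod (2 ^ n)) = 0 := by push_cast; exact two_pow_eq_zero n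
    rw [this, zero_mul, zero_mul, hc.u_zero]
    exact map_one f
  · rw [hπ]
    intro e
    have h1 : u a₂ b₂ = 1 := congrArg Subtype.val e
    exact hg1d ((hc.u_eq_one_iff _ _).1 h1)
  · rw [hg1c, hXd, ← map_mul, Prod.mk_mul_mk, mul_one, one_mul]

end Cfsg.Agent.TypeLFive.CentWR
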