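import Mathlib
import Cfsg.Agent.TypeLFive.CentWRNType

/-!
# Wreathed half of (C), S0511: `W₂` is strongly closed (W3)
-/

set_option autoImplicit false

namespace Cfsg.Agent.TypeLFive.CentWR

open Cfsg.Agent.TypeLFive.Model Cfsg.Agent.TypeLFive.Out Cfsg.Agent.TypeLFive.CentLin
open Cfsg.Agent.TwoFusion.QDBasic Cfsg.Agent.TwoFusion.WreathedBasic

variable {G W : Type*} [Group G] [Group W] {n : ℕ} {f : W × W →* G} {w : G}
  {u : ZMod (2 ^ n) → ZMod (2 ^ n) → W} {s : W} [Finite G] {P : Sylow 2 G}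

/-- (W3): `W₂` is strongly closed in `T` with respect to `C_G(t)`. -/
theorem closed_W (h : FusWRN (P : Subgroup G) f w u s) {c : G}
    (hct : c * f (u (2 ^ (n - 1)) (2 ^ (n - 1)), 1) = f (u (2 ^ (n - 1)) (2 ^ (n - 1)), 1) * c)
    {x y₁ y₂ : W} (he : c * f (1, x) * c⁻¹ = f (y₁, y₂)) : y₁ = 1 := by
  by_cases hx : x ^ 2 ^ n = 1
  · exact closed_W1 h hct hx he
  have hc := h.fus.coord
  have hn := hc.one_le
  have hwr := h.fus.out.wr
  have hinj := hwr.inj
  have h2n : ((2 ^ n : ℕ) : ZMod (2 ^ n)) = 0 := by push_cast; exact two_pow_eq_zero n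
  have hupow : ∀ a b : ZMod (2 ^ n), u a b ^ 2 ^ n = 1 := by
    intro a b
    rw [hc.u_pow, h2n, zero_mul, zero_mul, hc.u_zero]
  have e2n : 2 ^ n = 2 * 2 ^ (n - 1) := by rw [← pow_succ', Nat.sub_add_cancel hn]
  rcases hc.cases x with ⟨a, b, rfl⟩ | ⟨a, b, rfl⟩
  · exact absurd (hupow a b) hx
  -- `a + b` is a unit
  have hγ : IsUnit (a + b) := by
    rcases even_or_odd' n (a + b) with ⟨k, hk⟩ | ⟨k, hk⟩
    · exfalso
      apply hx
      rw [e2n, pow_mul, hc.uz_sq, hc.u_pow, hk]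
      have : ((2 ^ (n - 1) : ℕ) : ZMod (2 ^ n)) * (2 * k) = 0 := by
        push_cast
        have := two_mul_half n hn
        linear_combination k * this
      rw [this, hc.u_zero]
    · rw [hk]; exact isUnit_odd n k
  set x := u a b * s with hxd
  have hxx : x * x = u (a + b) (a + b) := by rw [← pow_two, hxd, hc.uz_sq]
  -- squares
  have hsq : c * f (1, x * x) * c⁻¹ = f (y₁ * y₁, y₂ * y₂) := by
    have e1 : f (1, x * x) = f (1, x) * f (1, x) := by rw [← map_mul, Prod.mk_mul_mk, mul_one]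
    have e2 : f (y₁ * y₁, y₂ * y₂) = f (y₁, y₂) * f (y₁, y₂) := by rw [← map_mul, Prod.mk_mul_mk]
    rw [e1, e2, ← he]; group
  have hy1 : y₁ * y₁ = 1 := closed_W1 h hct (by rw [hxx]; exact hupow _ _) hsq
  have hy1p : y₁ ^ 2 ^ n = 1 := by rw [e2n, pow_mul, pow_two, hy1, one_pow]
  have hy2 : ∃ p q, y₂ = u p q * s := by
    rcases hc.cases y₂ with ⟨p, q, e⟩ | hh
    · exfalso
      apply hx
      have e1 : c⁻¹ * f (y₁, y₂) * c⁻¹⁻¹ = f (1, x) := by rw [← he]; group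
      exact (pow_of_conj hinj e1 (k := 2 ^ n) hy1p (by rw [e]; exact hupow _ _)).2
    · exact hh
  obtain ⟨p, q, rfl⟩ := hy2
  have hγeq : a + b = p + q := by
    have e1 : c * Fv f u ((0, 0), (a + b, a + b)) * c⁻¹ = Fv f u ((0, 0), (p + q, p + q)) := by
      show c * f (u 0 0, u (a + b) (a + b)) * c⁻¹ = f (u 0 0, u (p + q) (p + q))
      rw [hc.u_zero, ← hxx, hsq, hy1, ← pow_two, hc.uz_sq]
    obtain ⟨g', φ, hφ, h1, h2⟩ := control2 h hct e1
    exact act_diag h hφ h1 h2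
  obtain ⟨e, hee⟩ := exists_conj_us hc hγeq.symm
  obtain ⟨D, hD1, hD2, -⟩ := exists_det hc
  obtain ⟨m, a₁, b₁, m1, m2, -⟩ := move1 h.fus hD1 hD2 y₁ hy1p
  set t := f (u (2 ^ (n - 1)) (2 ^ (n - 1)), 1) with ht
  have hmt : m * t = t * m := comm_of_conj (m2 _ _)
  have het : f (1, u e 0) * t = t * f (1, u e 0) :=
    f_pair_comm (by show 1 * u (2 ^ (n - 1)) (2 ^ (n - 1)) = u (2 ^ (n - 1)) (2 ^ (n - 1)) * 1; rw [one_mul, mul_one])
      (by show u e 0 * 1 = 1 * u e 0; rw [one_mul, mul_one])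
  set c' := f (1, u e 0) * m * c with hc'
  have hc't : c' * t = t * c' := by
    calc c' * t = f (1, u e 0) * m * (c * t) := by rw [hc']; group
      _ = f (1, u e 0) * (m * t) * c := by rw [hct]; group
      _ = (f (1, u e 0) * t) * m * c := by rw [hmt]; group
      _ = t * c' := by rw [het, hc']; group
  have hc'x : c' * f (1, x) * c'⁻¹ = f (u a₁ b₁, x) := by
    calc c' * f (1, x) * c'⁻¹ = f (1, u e 0) * (m * (c * f (1, x) * c⁻¹) * m⁻¹) * (f (1, u e 0))⁻¹ := by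
          rw [hc']; group
      _ = f (1, u e 0) * f (u a₁ b₁, u p q * s) * (f (1, u e 0))⁻¹ := by rw [he, m1]
      _ = f (u a₁ b₁, x) := by
          rw [← map_inv, ← map_mul, ← map_mul, Prod.inv_mk, Prod.mk_mul_mk, Prod.mk_mul_mk, hee, one_mul, inv_one,
            mul_one]
  have hab1 : u a₁ b₁ * u a₁ b₁ = 1 := by
    have e1 : m * f (y₁ * y₁, 1) * m⁻¹ = f (u a₁ b₁ * u a₁ b₁, 1) := by
      have e2 : f (y₁ * y₁, 1) = f (y₁, 1) * f (y₁, 1) := by rw [← map_mul, Prod.mk_mul_mk, mul_one]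
      have e3 : f (u a₁ b₁ * u a₁ b₁, 1) = f (u a₁ b₁, 1) * f (u a₁ b₁, 1) := by
        rw [← map_mul, Prod.mk_mul_mk, mul_one]
      rw [e2, e3, ← m1]; group
    rw [hy1] at e1
    have e4 : ((1 : W), (1 : W)) = 1 := rfl
    rw [e4, map_one, mul_one, mul_inv_cancel] at e1
    exact congrArg Prod.fst (hinj (e1.symm.trans (map_one f).symm))
  have hc's : c' * f (1, u (a + b) (a + b)) = f (1, u (a + b) (a + b)) * c' := by
    apply comm_of_conj
    rw [← hxx]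
    have e1 : f (1, x * x) = f (1, x) * f (1, x) := by rw [← map_mul, Prod.mk_mul_mk, mul_one]
    have e2 : f (u a₁ b₁, x) * f (u a₁ b₁, x) = f (1, x) * f (1, x) := by
      rw [← map_mul, ← map_mul, Prod.mk_mul_mk, Prod.mk_mul_mk, hab1, mul_one]
    calc c' * f (1, x * x) * c'⁻¹ = (c' * f (1, x) * c'⁻¹) * (c' * f (1, x) * c'⁻¹) := by rw [e1]; group
      _ = f (1, x * x) := by rw [hc'x, e2, e1]
  obtain ⟨k1, k2⟩ := key h hγ hc't hc's hc'x
  have h5 := m1 1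
  rw [k1, k2, hc.u_zero] at h5
  have e4 : ((1 : W), (1 : W)) = 1 := rfl
  rw [e4, map_one, conj_eq_one_iff] at h5
  exact congrArg Prod.fst (hinj (h5.trans (map_one f).symm))

end Cfsg.Agent.TypeLFive.CentWR
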