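import Mathlib
import Cfsg.Agent.TypeLFive.CentWRFacts
import Cfsg.Agent.TypeLFive.CentWRMain

/-!
# The data `CData` in the wreathed case (S0511, piece (C))
-/

set_option autoImplicit false

namespace Cfsg.Agent.TypeLFive.CentWRData

open Cfsg.Agent.TypeLFive.Model Cfsg.Agent.TypeLFive.Out Cfsg.Agent.TypeLFive.CentWR Cfsg.Agent.TypeLFive.CentData
open Cfsg.Agent.TwoFusion.WreathedBasic

variable {G W : Type*} [Group G] [Group W] {n : ℕ} {f : W × W →* G} {w : G}
  {u : ZMod (2 ^ n) → ZMod (2 ^ n) → W} {s : W} [Finite G] {P : Sylow 2 G}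

/-- `CData` from the normalised fusion data. -/
theorem cdata_of_norm (h : FusWRN (P : Subgroup G) f w u s) :
    CData f (QWR h.fus.coord) (u (2 ^ (n - 1)) (2 ^ (n - 1))) := by
  refine CentWR.cdata h ?_ ?_
  · intro c hc x hx y₁ y₂ he
    exact closed_Q h (DW_u h.fus.coord) (DW_us h.fus.coord) hc hx he
  · intro c hc x y₁ y₂ he
    exact closed_W h hc he

/-- The data of steps (1)-(3) in the wreathed case. -/
theorem exists_cdata (F : FusWR (P : Subgroup G) f w u s) :
    ∃ f' : W × W →* G, ∃ F' : FusWR (P : Subgroup G) f' w u s, f'.range = f.range ∧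
      (∀ a b : W, a * a = 1 → b * b = 1 → f' (a, b) = f (a, b)) ∧
      CData f' (QWR F'.coord) (u (2 ^ (n - 1)) (2 ^ (n - 1))) := by
  obtain ⟨μ, hμ, h1, h2, h3⟩ := exists_norm F
  refine ⟨f.comp (twistHom μ hμ), h3.fus, ?_, ?_, cdata_of_norm h3⟩
  · -- the ranges
    have hfin : Finite W := F.coord.finite
    have hle : (f.comp (twistHom μ hμ)).range ≤ f.range := by
      rintro _ ⟨p, rfl⟩
      exact ⟨_, rfl⟩
    have hcard : Nat.card (f.comp (twistHom μ hμ)).range = Nat.card f.range := by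
      rw [h3.fus.out.wr.card_range, F.out.wr.card_range]
    exact Subgroup.eq_of_le_of_card_ge hle hcard.ge
  · intro a b ha hb
    show f (a * μ b, b * μ a) = f (a, b)
    rw [h1 a ha, h1 b hb, mul_one, mul_one]

end Cfsg.Agent.TypeLFive.CentWRData
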