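import Mathlib
import Cfsg.Agent.TypeLFive.CoreOut
import Cfsg.Agent.TypeLFive.SLTwoCore
import Cfsg.Agent.SylowLFive.ModPlus

/-!
# S0511, `q > 3`: from the structure of `C(t) / O(C(t))` to `G ≅ PSL₅(q)`
-/

set_option autoImplicit false
set_option linter.unusedSectionVars false
set_option linter.unusedVariables false

namespace Cfsg.Agent.TypeLFive.CoreBig

open Subgroup hiding mk
open Cfsg
open Cfsg.Agent.SignalizersComponents
open Cfsg.Agent.SignalizersComponents.GoldschmidtFunctor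
open Cfsg.Agent.TypeLFive.CoreBalance
open Cfsg.Agent.TypeLFive.CoreMain
open Cfsg.Agent.TypeLFive.CoreLoc
open Cfsg.Agent.TypeLFive.CoreLift
open Cfsg.Agent.TypeLFive.CoreOut
open Cfsg.Agent.SylowLFive.Frame
open Cfsg.Agent.SylowLFive.KFrame
open Cfsg.Agent.SylowLFive
open scoped commutatorElement

universe u

variable {G : Type u} [Group G] [Finite G]

/-- `K` is perfect if `K ≅ SL(2,q)`, `q > 3` -/
theorem perf_of {X : Type*} [Group X] {K : Subgroup X} {Fq : Type*} [Field Fq] [Fintype Fq]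
    (h : 3 < Fintype.card Fq) (e : K ≃* Matrix.SpecialLinearGroup (Fin 2) Fq) : ⁅K, K⁆ = K := by
  have h1 : commutator K = ⊤ := by
    have h2 : (commutator K).map e.toMonoidHom = ⊤ := by
      rw [_root_.commutator_def, Subgroup.map_commutator, ← MonoidHom.range_eq_map,
        MonoidHom.range_eq_top.2 e.surjective]
      exact TwoFusion.SLTwoFacts.commutator_eq_top h
    rw [eq_top_iff]
    intro x _
    have h3 : e x ∈ (commutator K).map e.toMonoidHom := by rw [h2]; trivial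
    obtain ⟨y, hy, hyx⟩ := h3
    rwa [← e.injective hyx]
  have h2 : (commutator K).map K.subtype = ⁅K, K⁆ := by
    rw [_root_.commutator_def, Subgroup.map_commutator, ← MonoidHom.range_eq_map,
      Subgroup.range_subtype]
  rw [← h2, h1, ← MonoidHom.range_eq_map, Subgroup.range_subtype]

/-- a normal subgroup of `K ≅ SL(2,q)`, `q > 3`, which is not central is `K` -/
theorem eq_of_normal {X : Type*} [Group X] {K : Subgroup X} {Fq : Type*} [Field Fq] [Fintype Fq]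
    (h : 3 < Fintype.card Fq) (e : K ≃* Matrix.SpecialLinearGroup (Fin 2) Fq) {N : Subgroup X}
    (hN : N ≤ K) (hn : ∀ k ∈ K, ∀ n ∈ N, k * n * k⁻¹ ∈ N)
    (hc : ∃ x ∈ N, ∃ y ∈ N, x * y ≠ y * x) : N = K := by
  have h1 : ((N.subgroupOf K).map e.toMonoidHom).Normal := by
    refine Subgroup.Normal.map ?_ _ e.surjective
    constructor
    intro n hn' g
    exact hn g g.2 n hn'
  rcases SLTwoCore.normal_cases h _ h1 with h2 | h2
  · exfalso
    obtain ⟨x, hx, y, hy, hxy⟩ := hc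
    apply hxy
    have h3 : e ⟨x, hN hx⟩ ∈ center (Matrix.SpecialLinearGroup (Fin 2) Fq) := h2 ⟨_, hx, rfl⟩
    have h4 := mem_center_iff.1 h3 (e ⟨y, hN hy⟩)
    rw [← map_mul, ← map_mul] at h4
    exact (congrArg Subtype.val (e.injective h4)).symm
  · apply le_antisymm hN
    intro k hk
    have h3 : e ⟨k, hk⟩ ∈ (N.subgroupOf K).map e.toMonoidHom := by rw [h2]; trivial
    obtain ⟨y, hy, hyx⟩ := h3
    have h4 : y = ⟨k, hk⟩ := e.injective hyx
    rw [h4] at hy
    exact hy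

/-- two elements of a 2-subgroup commuting modulo the core commute -/
theorem comm_of_two {b : G} {P : Subgroup G} (hP : IsPGroup 2 P)
    (hPC : P ≤ centralizer ({b} : Set G)) {x y : G} (hx : x ∈ P) (hy : y ∈ P)
    (h : CoreLoc.mk b x (hPC hx) * CoreLoc.mk b y (hPC hy) =
      CoreLoc.mk b y (hPC hy) * CoreLoc.mk b x (hPC hx)) : x * y = y * x := by
  have h1 : cl b (x * y) (mul_mem (hPC hx) (hPC hy)) = cl b (y * x) (mul_mem (hPC hy) (hPC hx)) :=
    h
  have h2 : (x * y)⁻¹ * (y * x) ∈ M b := (cl_eq_iff _ _).1 h1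
  have h3 : (x * y)⁻¹ * (y * x) ∈ P := mul_mem (inv_mem (mul_mem hx hy)) (mul_mem hy hx)
  obtain ⟨k, hk⟩ := hP ⟨_, h3⟩
  have h4 : ((x * y)⁻¹ * (y * x)) ^ 2 ^ k = 1 := congrArg Subtype.val hk
  have h5 : orderOf ((x * y)⁻¹ * (y * x)) ∣ 2 ^ k := orderOf_dvd_of_pow_eq_one h4
  have h6 : orderOf ((x * y)⁻¹ * (y * x)) ∣ Nat.card (M b) := by
    rw [← Subgroup.orderOf_mk _ h2]
    exact orderOf_dvd_natCard _
  have h7 : (2 ^ k).Coprime (Nat.card (M b)) :=
    Nat.Coprime.pow_left k (Nat.prime_two.coprime_iff_not_dvd.2 (M_odd b))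
  have h8 : orderOf ((x * y)⁻¹ * (y * x)) = 1 := by
    have := Nat.dvd_gcd h5 h6
    rw [h7] at this
    exact Nat.dvd_one.1 this
  have h9 := orderOf_eq_one_iff.1 h8
  exact inv_mul_eq_one.1 h9

variable {F : FrX G} {p : ℕ} {J K : Subgroup (Q (F.T 0 1))} {P : Subgroup G} {w : G}
  (H : CenK F p J K P w) (hE : ⁅M (F.T 0 1), EE F⁆ = ⊥)

include H in
theorem gen_of {Fq : Type*} [Field Fq] [Fintype Fq]
    (h : 3 < Fintype.card Fq) (e : K ≃* Matrix.SpecialLinearGroup (Fin 2) Fq)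
    (hP : ∃ x ∈ P, ∃ y ∈ P, x * y ≠ y * x) :
    ∀ N ≤ K, (∀ k ∈ K, ∀ n ∈ N, k * n * k⁻¹ ∈ N) → bar (F.T 0 1) P ≤ N → N = K := by
  intro N hN hn hPN
  refine eq_of_normal h e hN hn ?_
  obtain ⟨x, hx, y, hy, hxy⟩ := hP
  exact ⟨_, hPN (mem_bar (H.PC hx) hx), _, hPN (mem_bar (H.PC hy) hy), fun h1 =>
    hxy (comm_of_two H.P2 H.PC hx hy h1)⟩

/-- reduction followed by an isomorphism -/
def redE (b : G) (N : Subgroup (Q b)) {Y : Type*} [Group Y] (e : N ≃* Y) : lft b N →* Y :=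
  e.toMonoidHom.comp (red b N)

theorem redE_ker (b : G) (N : Subgroup (Q b)) {Y : Type*} [Group Y] (e : N ≃* Y) :
    (redE b N e).ker = (red b N).ker := by
  ext x
  rw [MonoidHom.mem_ker, MonoidHom.mem_ker]
  exact e.map_eq_one_iff

theorem redE_ker_center (b : G) (N : Subgroup (Q b)) {Y : Type*} [Group Y] (e : N ≃* Y) :
    (redE b N e).ker ≤ center (lft b N) := by
  rw [redE_ker]; exact red_ker_center b N

theorem redE_ker_odd (b : G) (N : Subgroup (Q b)) {Y : Type*} [Group Y] (e : N ≃* Y) :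
    Odd (Nat.card (redE b N e).ker) := by
  rw [redE_ker]; exact red_ker_odd b N

/-- the input of `Recog` -/
noncomputable def mkIn (perf : ⁅K, K⁆ = K)
    (gen : ∀ N ≤ K, (∀ k ∈ K, ∀ n ∈ N, k * n * k⁻¹ ∈ N) → bar (F.T 0 1) P ≤ N → N = K)
    {S : Type*} [Group S] {C : Type*} [CommGroup C] (D : Recog.Mod S C)
    (eJ : J ≃* S ⧸ center S) (κ : K →* D.std 2) (hκ : Function.Surjective κ) :
    Recog.In (JKB H hE perf gen) D where
  π := redE (F.T 0 1) J eJ
  surj := eJ.surjective.comp (red_J_surj H hE)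
  ker := redE_ker_center (F.T 0 1) J eJ
  odd := redE_ker_odd (F.T 0 1) J eJ
  Jperf := JG_perf H hE
  Kperf := KG_perf H hE perf
  κ := κ.comp (red (F.T 0 1) K)
  κ_surj := hκ.comp (red_K_surj H hE perf)

/-- **`q > 3`, `ε = +`** -/
theorem nonempty_psl [IsSimpleGroup G] {Fq : Type*} [Field Fq] [Fintype Fq]
    (h : 3 < Fintype.card Fq) (h2 : (2 : Fq) ≠ 0)
    (eJ : J ≃* Matrix.ProjectiveSpecialLinearGroup (Fin 3) Fq)
    (eK : K ≃* Matrix.SpecialLinearGroup (Fin 2) Fq) (hP : ∃ x ∈ P, ∃ y ∈ P, x * y ≠ y * x)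
    (H : CenK F p J K P w) (hE : ⁅M (F.T 0 1), EE F⁆ = ⊥) :
    Nonempty (G ≃* Matrix.ProjectiveSpecialLinearGroup (Fin 5) Fq) := by
  have perf := perf_of h eK
  have gen := gen_of H h eK hP
  let f : Matrix.SpecialLinearGroup (Fin 2) Fq →* (ModPlus.mod h h2).std 2 :=
    (LThreeExt.SL3.bl (LThreeExt.SL3.pr 2) (LThreeExt.SL3.pr_inj 2)).rangeRestrict
  have hf : Function.Surjective f := MonoidHom.rangeRestrict_surjective _
  refine ModPlus.nonempty_psl_five h h2 (mkIn H hE perf gen (ModPlus.mod h h2) eJ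
    (f.comp eK.toMonoidHom) (hf.comp eK.surjective)) ?_
  intro x hx hc _ i j
  exact center_JG_comm H hE hx hc i j

end Cfsg.Agent.TypeLFive.CoreBig
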