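import Mathlib
import Cfsg.Agent.TypeLFive.CoreBig
import Cfsg.Agent.TypeLFive.JIdent
import Cfsg.Agent.SylowLFive.ModMinus
import Cfsg.Agent.S0281

/-!
# S0511, `q > 3`: from the structure of `C(t) / O(C(t))` to `G ≅ PSL₅(q)` or `G ≅ PSU₅(q)`
-/

set_option autoImplicit false
set_option linter.unusedSectionVars false

namespace Cfsg.Agent.TypeLFive.CoreEnd

open Subgroup hiding mk
open Cfsg
open Cfsg.Agent.SignalizersComponents
open Cfsg.Agent.SignalizersComponents.GoldschmidtFunctor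
open Cfsg.Agent.TypeLFive.CoreBalance
open Cfsg.Agent.TypeLFive.CoreMain
open Cfsg.Agent.TypeLFive.CoreLoc
open Cfsg.Agent.TypeLFive.CoreLift
open Cfsg.Agent.TypeLFive.CoreOut
open Cfsg.Agent.TypeLFive.CoreBig
open Cfsg.Agent.TypeLFive.JIdent
open Cfsg.Agent.SylowLFive.Frame
open Cfsg.Agent.SylowLFive.KFrame
open Cfsg.Agent.SylowLFive
open scoped commutatorElement

universe u

variable {G : Type u} [Group G] [Finite G]

variable {F : FrX G} {p : ℕ} {J K : Subgroup (Q (F.T 0 1))} {P : Subgroup G} {w : G}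

/-- **`q > 3`, `ε = -`** -/
theorem nonempty_psu [IsSimpleGroup G] {E : Type*} [Field E] [Fintype E] {q : ℕ}
    (hF : Fintype.card E = q ^ 2) (hodd : Odd q) (hq : 3 < q)
    {Fq : Type*} [Field Fq] [Fintype Fq] (hK : Fintype.card Fq = q)
    (eJ : J ≃* PSU 3 E q)
    (eK : K ≃* Matrix.SpecialLinearGroup (Fin 2) Fq) (hP : ∃ x ∈ P, ∃ y ∈ P, x * y ≠ y * x)
    (H : CenK F p J K P w) (hE : ⁅M (F.T 0 1), EE F⁆ = ⊥) :
    Nonempty (G ≃* PSU 5 E q) := by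
  have h : 3 < Fintype.card Fq := by rw [hK]; exact hq
  have perf := perf_of h eK
  have gen := gen_of H h eK hP
  obtain ⟨e2⟩ := S0281.result hF hK
  let e3 : Matrix.SpecialLinearGroup (Fin 2) Fq ≃* (ModMinus.mod hF hodd hq).std 2 :=
    e2.symm.trans (LThreeExt.SU3.stdEquiv hF 2)
  refine ModMinus.nonempty_psu_five hF hodd hq (mkIn H hE perf gen (ModMinus.mod hF hodd hq) eJ
    (eK.trans e3).toMonoidHom (eK.trans e3).surjective) ?_
  intro x hx hc _ i j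
  exact center_JG_comm H hE hx hc i j

/-- **`q > 3`** -/
theorem concl [IsSimpleGroup G] {F₀ : Type} [Field F₀] [Fintype F₀] {p' : ℕ}
    (hJ : JData J F₀ p') (h3 : 3 < Fintype.card F₀)
    (eK : K ≃* Matrix.SpecialLinearGroup (Fin 2) F₀) (hP : ∃ x ∈ P, ∃ y ∈ P, x * y ≠ y * x)
    (H : CenK F p J K P w) (hE : ⁅M (F.T 0 1), EE F⁆ = ⊥) :
    (∃ (K : Type) (_ : Field K) (_ : Fintype K), Odd (Fintype.card K) ∧
        Nonempty (G ≃* Matrix.ProjectiveSpecialLinearGroup (Fin 5) K)) ∨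
      (∃ (K : Type) (_ : Field K) (_ : Fintype K) (r : ℕ), Fintype.card K = r ^ 2 ∧ Odd r ∧
        Nonempty (G ≃* Cfsg.PSU 5 K r)) := by
  have h2 : (2 : F₀) ≠ 0 := by
    intro h
    have hc := hJ.char
    have h4 : (p' : ℕ) ∣ 2 := (CharP.cast_eq_zero_iff F₀ p' 2).1 (by exact_mod_cast h)
    exact hJ.ne_two ((Nat.prime_dvd_prime_iff_eq hJ.prime Nat.prime_two).1 h4)
  rcases hJ.cases with ⟨⟨e⟩⟩ | ⟨E, i1, i2, hE2, ⟨e⟩⟩ | ⟨h, -⟩
  · exact Or.inl ⟨F₀, inferInstance, inferInstance, hJ.odd, nonempty_psl h3 h2 e eK hP H hE⟩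
  · exact Or.inr ⟨E, i1, i2, Fintype.card F₀, hE2, hJ.odd,
      nonempty_psu hE2 hJ.odd h3 rfl e eK hP H hE⟩
  · omega

end Cfsg.Agent.TypeLFive.CoreEnd
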