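import Mathlib
import Cfsg.Agent.TypeLFive.FusGlue
import Cfsg.Agent.TypeLFive.CentFiveApp
import Cfsg.Agent.TypeLFive.CentWRFacts
import Cfsg.Agent.TypeLFive.CentSDGroup
import Cfsg.Agent.SylowLFive.ThreeAux
import Cfsg.Agent.SylowLFive.Centre

/-!
# Auxiliary facts for the assembly of type `L₅`

* an element `q` of `Q` with `q e q⁻¹ = e ζ`; `f (q, 1)` induces `(0 1)` on the frame;
* `Q` is the quaternion group of order 8 if `SLFact` holds for a field with three elements.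
-/

set_option autoImplicit false

namespace Cfsg.Agent.TypeLFive.MainAux

open Subgroup Cfsg.Agent.TypeLFive.Model Cfsg.Agent.TypeLFive.Facts Cfsg.Agent.TypeLFive.FrameE
open Cfsg.Agent.TypeLFive.Out Cfsg.Agent.TypeLFive.Five Cfsg.Agent.SylowLFive.Frame
open Cfsg.Agent.SylowLFive.Centre Cfsg.Agent.TwoFusion.QDBasic Cfsg.Agent.TwoFusion.WreathedBasic
open Cfsg.Agent.TypeLFive.CentAbs Cfsg.Agent.TypeLFive.FusGlue
open Cfsg.Agent.TypeLFive.QUniq Cfsg.Agent.TypeLFive.CentFiveJ Cfsg.Agent.SylowLFive.ThreeAux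

section q

variable {W : Type*} [Group W] {n : ℕ}

theorem exists_q_sd {u : ZMod (2 ^ n) → W} {y : W} (h : IsQDCoord n u y) :
    ∃ q ∈ CentSDGroup.Q h, q * y * q⁻¹ = y * u (2 ^ (n - 1)) := by
  refine ⟨u (2 * 2 ^ (n - 3)), ⟨2 ^ (n - 3), Or.inl rfl⟩, ?_⟩
  have h1 : (2 : ZMod (2 ^ n)) * 2 ^ (n - 3) = 2 ^ (n - 2) := CentSDGroup.two_mul_eighth h
  have h2 : (2 : ZMod (2 ^ n)) * 2 ^ (n - 2) = 2 ^ (n - 1) := CentSDGroup.two_mul_quarter h
  have h3 := CentSDGroup.half_mul_quarter h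
  rw [h1]
  have hinv : (u (2 ^ (n - 2)))⁻¹ = u (-(2 ^ (n - 2))) := by
    rw [inv_eq_iff_mul_eq_one, h.u_mul, add_neg_cancel, h.u_zero]
  have h4 : y * u (-(2 ^ (n - 2))) = u (2 ^ (n - 2)) * y := by
    rw [h.y_u]
    congr 2
    rw [sub_mul, mul_neg, h3, one_mul, neg_zero, zero_sub, neg_neg]
  rw [hinv, mul_assoc, h4, ← mul_assoc, h.u_mul, ← two_mul, h2]
  exact CentSDGroup.zz_comm h y

theorem exists_q_wr {u : ZMod (2 ^ n) → ZMod (2 ^ n) → W} {s : W} (hc : IsWCoord n u s) :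
    ∃ q ∈ CentWR.QWR hc, q * u (2 ^ (n - 1)) 0 * q⁻¹ =
      u (2 ^ (n - 1)) 0 * u (2 ^ (n - 1)) (2 ^ (n - 1)) := by
  refine ⟨u 0 (2 ^ (n - 1)) * s, (CentWR.us_mem_QWR_iff hc _ _).2 (zero_add _), ?_⟩
  have h2 : (2 : ZMod (2 ^ n)) ^ (n - 1) + 2 ^ (n - 1) = 0 := by
    have := hc.two_le
    rw [← two_mul, ← pow_succ', show n - 1 + 1 = n by omega]
    exact two_pow_eq_zero n
  have hs : s⁻¹ = s := inv_eq_of_mul_eq_one_right hc.z_z
  have hinv : (u 0 (2 ^ (n - 1)))⁻¹ = u 0 (2 ^ (n - 1)) := by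
    rw [inv_eq_iff_mul_eq_one, hc.u_mul, h2, zero_add, hc.u_zero]
  rw [mul_inv_rev, hs, hinv]
  calc u 0 (2 ^ (n - 1)) * s * u (2 ^ (n - 1)) 0 * (s * u 0 (2 ^ (n - 1)))
      = u 0 (2 ^ (n - 1)) * (s * u (2 ^ (n - 1)) 0) * s * u 0 (2 ^ (n - 1)) := by group
    _ = u 0 (2 ^ (n - 1)) * u 0 (2 ^ (n - 1)) * (s * s) * u 0 (2 ^ (n - 1)) := by
        rw [hc.z_u]; group
    _ = u (2 ^ (n - 1)) 0 * u (2 ^ (n - 1)) (2 ^ (n - 1)) := by
        rw [hc.z_z, mul_one, hc.u_mul, hc.u_mul, hc.u_mul]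
        simp only [zero_add, h2]

end q

variable {G W : Type*} [Group G] [Group W] {f : W × W →* G} {w : G} {ζ e : W}

/-- `f (q, 1)` induces `(0 1)` on the frame -/
theorem act_of_q {S : Subgroup G} (h : FusOut S f w ζ e) (b : WBase ζ) (d : EData ζ e) {q : W}
    (hq : q * e * q⁻¹ = e * ζ) : Act (toFr S h b d) (Equiv.swap 0 1) (f (q, 1)) := by
  have hζ : q * ζ * q⁻¹ = ζ := by rw [← b.central q, mul_inv_cancel_right]
  have hq' : q * (e * ζ) * q⁻¹ = e := by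
    calc q * (e * ζ) * q⁻¹ = (q * e * q⁻¹) * (q * ζ * q⁻¹) := by group
      _ = e := by rw [hq, hζ, mul_assoc, b.sq, mul_one]
  have key : ∀ i : Fin 5, (q, 1) * zv ζ e i * (q, 1)⁻¹ = zv ζ e (Equiv.swap 0 1 i) := by
    intro i
    fin_cases i
    · change (q * (e * ζ) * q⁻¹, 1 * ζ * 1⁻¹) = (e, ζ)
      rw [hq', one_mul, inv_one, mul_one]
    · change (q * e * q⁻¹, 1 * ζ * 1⁻¹) = (e * ζ, ζ)
      rw [hq, one_mul, inv_one, mul_one]
    · change (q * ζ * q⁻¹, 1 * (e * ζ) * 1⁻¹) = (ζ, e * ζ)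
      rw [hζ, one_mul, inv_one, mul_one]
    · change (q * ζ * q⁻¹, 1 * e * 1⁻¹) = (ζ, e)
      rw [hζ, one_mul, inv_one, mul_one]
    · change (q * ζ * q⁻¹, 1 * ζ * 1⁻¹) = (ζ, ζ)
      rw [hζ, one_mul, inv_one, mul_one]
  intro i j
  rw [toFr_T, toFr_T, ← map_inv, ← map_mul, ← map_mul]
  congr 1
  calc (q, 1) * (zv ζ e i * zv ζ e j) * (q, 1)⁻¹
      = ((q, 1) * zv ζ e i * (q, 1)⁻¹) * ((q, 1) * zv ζ e j * (q, 1)⁻¹) := by group
    _ = _ := by rw [key, key]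

/-- `|F| = 3`: `Q` is the quaternion group of order 8. -/
theorem nonempty_q8 {X : Type*} [Group X] [Finite X] {T : Sylow 2 X} {W1 W2 Q1 : Subgroup X}
    (h : CHyp T W1 W2 Q1) (ι : W →* X) (hι : Function.Injective ι) (hW2 : ∀ b, ι b ∈ W2)
    (hW2' : ∀ x ∈ W2, ∃ b, x = ι b) (b : WBase ζ) {Q : Subgroup W} (hQn : Q.Normal)
    (hQL : QLike Q) {Fq : Type*} [Field Fq] [Fintype Fq] (h3 : Fintype.card Fq = 3)
    (hJ : SLFact ↥(normalClosure (W2 : Set X)) Fq) : Nonempty (Q ≃* Q8) := by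
  have : Fact (Nat.Prime 2) := ⟨Nat.prime_two⟩
  have hodd : Odd (Fintype.card Fq) := by rw [h3]; decide
  obtain ⟨B, hB, hBn, ⟨eB⟩, hQB, P, hP⟩ := exists_B (Q2 := Q.map ι) h
    (by
      rintro _ ⟨b, -, rfl⟩
      exact hW2 b)
    (by
      intro g hg q hq
      obtain ⟨a, rfl⟩ := hW2' g hg
      obtain ⟨b, hb, rfl⟩ := hq
      exact ⟨a * b * a⁻¹, hQn.conj_mem b hb a, by rw [map_mul, map_mul, map_inv]⟩)
    (hQL.map ι hι) (z := ι ζ) (hW2 ζ)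
    (fun hh => b.ne (hι (hh.trans (map_one ι).symm)))
    (by rw [← map_mul, b.sq, map_one])
    (by
      intro g hg
      obtain ⟨a, rfl⟩ := hW2' g hg
      rw [← map_mul, ← map_mul, b.central]) hodd hJ
  obtain ⟨-, P8, hP8n, hP8i, ⟨e8⟩, -, -⟩ := exists_q8 h3 eB
  have h8 : IsPGroup 2 P8 := by
    refine IsPGroup.of_card (n := 3) ?_
    rw [Nat.card_congr e8.toEquiv, Nat.card_eq_fintype_card, QuaternionGroup.card]
    norm_num
  have hPP : (P : Subgroup B) = P8 := by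
    let P' : Sylow 2 B := h8.toSylow (by rw [hP8i]; norm_num)
    have hP'n : (P' : Subgroup B).Normal := hP8n
    obtain ⟨g, hg⟩ := MulAction.exists_smul_eq B P' P
    rw [← hg, Sylow.smul_eq_of_normal]
    rfl
  have e1 : Q ≃* Q.map ι := Q.equivMapOfInjective ι hι
  have e2 : Q.map ι ≃* (Q.map ι).subgroupOf B := (subgroupOfEquivOfLe hQB).symm
  have e3 : (Q.map ι).subgroupOf B ≃* P8 := MulEquiv.subgroupCongr (hP.symm.trans hPP)
  exact ⟨((e1.trans e2).trans e3).trans e8⟩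

end Cfsg.Agent.TypeLFive.MainAux
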