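import Mathlib
import Cfsg.Agent.TypeLFive.MainAux
import Cfsg.Agent.TypeLFive.CentOutK
import Cfsg.Agent.TypeLFive.CentGlueKj
import Cfsg.Agent.TypeLFive.CentWRData
import Cfsg.Agent.TypeLFive.CentSDData
import Cfsg.Agent.TypeLFive.KModel
import Cfsg.Agent.TypeLFive.CoreEnd
import Cfsg.Agent.SylowLFive.ThreeFinal
import Cfsg.Agent.S0205

/-!
# Simple groups with Sylow 2-subgroups of type `L₅(q)`, `q` odd

Assembly: model of the Sylow 2-subgroup, fusion, structure of `C(t) / O(C(t))`, cores, recognition.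
The identification of simple groups with quasi-dihedral or wreathed Sylow 2-subgroups is the
hypothesis `IdThm`.
-/

set_option autoImplicit false

namespace Cfsg.Agent.TypeLFive.Main

open Subgroup hiding mk
open Cfsg
open Cfsg.Agent.SignalizersComponents.GoldschmidtFunctor
open Cfsg.Agent.TypeLFive.Model Cfsg.Agent.TypeLFive.Facts Cfsg.Agent.TypeLFive.FrameE
open Cfsg.Agent.TypeLFive.Out Cfsg.Agent.TypeLFive.CentAbs Cfsg.Agent.TypeLFive.CentData
open Cfsg.Agent.TypeLFive.CentFiveApp Cfsg.Agent.TypeLFive.JIdent Cfsg.Agent.TypeLFive.QUniq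
open Cfsg.Agent.TypeLFive.CentOut Cfsg.Agent.TypeLFive.CentOutK Cfsg.Agent.TypeLFive.CentGlue
open Cfsg.Agent.TypeLFive.CoreBalance Cfsg.Agent.TypeLFive.CoreLoc Cfsg.Agent.TypeLFive.CoreOut
open Cfsg.Agent.TypeLFive.CoreClose Cfsg.Agent.TypeLFive.FusGlue Cfsg.Agent.TypeLFive.MainAux
open Cfsg.Agent.SylowLFive.Frame Cfsg.Agent.SylowLFive.ThreeAux
open Cfsg.Agent.TwoFusion.QDBasic Cfsg.Agent.TwoFusion.WreathedBasic

universe v w'

/-- the conclusion -/
def Concl (G : Type v) [Group G] : Prop :=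
  (∃ (K : Type) (_ : Field K) (_ : Fintype K), Odd (Fintype.card K) ∧
        Nonempty (G ≃* Matrix.ProjectiveSpecialLinearGroup (Fin 5) K)) ∨
      (∃ (K : Type) (_ : Field K) (_ : Fintype K) (r : ℕ), Fintype.card K = r ^ 2 ∧ Odd r ∧
        Nonempty (G ≃* Cfsg.PSU 5 K r))

variable {G : Type v} [Group G] [Finite G] {W : Type w'} [Group W] {f : W × W →* G} {w : G}

theorem solvable_of_odd (X : Subgroup G) (hX : ¬ 2 ∣ Nat.card X) : Group.IsSolvable X :=
  Cfsg.Agent.S0205.result (Nat.not_even_iff_odd.1 fun h => hX (even_iff_two_dvd.1 h))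

theorem core_eq_bot [IsSimpleGroup G] {t : G} (h1 : t ≠ 1) (h2 : t * t = 1) :
    pPrimeCore 2 G = ⊥ := by
  rcases (inferInstance : (pPrimeCore 2 G).Normal).eq_bot_or_eq_top with h | h
  · exact h
  · exfalso
    rw [Lib.Cores.pPrimeCore_eq_top_iff] at h
    have h3 : orderOf t = 2 := orderOf_eq_prime (by rw [pow_two]; exact h2) h1
    have h4 : 2 ∣ Nat.card G := by rw [← h3]; exact orderOf_dvd_natCard t
    have h5 := Nat.dvd_gcd h4 (dvd_refl 2)
    rw [h] at h5
    omega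

/-- From the fusion output and the centraliser data to the conclusion. -/
theorem concl_of [IsSimpleGroup G] {S : Sylow 2 G} {ζ e : W} {Q' : Subgroup W}
    (h0 : FusOut (S : Subgroup G) f w ζ e) (b0 : WBase ζ) (d0 : EData ζ e)
    (fl : Fields S (toFr (S : Subgroup G) h0 b0 d0)) (D : CData f Q' ζ) (hcov : CovX D e)
    (hQn : Q'.Normal) (hQL : QLike Q') (hq : ∃ q ∈ Q', q * e * q⁻¹ = e * ζ)
    (hId : IdThm.{v}) : Concl G := by
  let FC : FrC G := { toFr (S : Subgroup G) h0 b0 d0 with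
    ne := fl.ne
    inv_C := fl.inv_C
    inv_Cz := fl.inv_Cz
    S := S
    S_le := fl.S_le
    inv_S := fl.inv_S }
  let F : FrX G := { toFr (S : Subgroup G) h0 b0 d0 with
    ne := fl.ne
    close := fun M h1 h2 => FrC.eq_top (F := FC) (M := M) ⟨h1, h2⟩ }
  have hT : ∀ i j, F.T i j = f (zv ζ e i * zv ζ e j) := fun i j => rfl
  have hk : ∃ T : Sylow 2 (XX f ζ), CHyp T (W1 D) (W2 D) (Q1 D) := by
    obtain ⟨T, -, h⟩ := CentGlueKj.exists_chyp D
    exact ⟨T, h⟩
  obtain ⟨T, F₀, i1, i2, p, hC, hJ, H, hK1, hK2⟩ :=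
    CentOutK.out h0 b0 d0 D hk hcov hQn hQL hId F hT
  have hO : pPrimeCore 2 G = ⊥ := core_eq_bot F.T_ne (F.T_sq 0 1)
  have hE : ⁅M (F.T 0 1), EE F⁆ = ⊥ := CoreLoc.main F hO solvable_of_odd H.out (F.T 0 1)
    (T_mem_TT F (by decide))
  obtain ⟨x, hx, y, hy, hxy⟩ := hQL.nc
  have hP : ∃ x ∈ P1 f Q', ∃ y ∈ P1 f Q', x * y ≠ y * x := by
    refine ⟨_, mem_P1.2 ⟨x, hx, rfl⟩, _, mem_P1.2 ⟨y, hy, rfl⟩, fun h => hxy ?_⟩
    rw [← map_mul, ← map_mul] at h
    exact (Prod.mk.inj (D.inj h)).1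
  have hodd := hJ.odd
  have hcard : Fintype.card F₀ = 3 ∨ 3 < Fintype.card F₀ := by
    have h1 : 1 < Fintype.card F₀ := Fintype.one_lt_card
    obtain ⟨k, hk⟩ := hodd
    omega
  rcases hcard with h3 | h3
  · -- `q = 3`
    have hp : p = 3 := by
      have := hJ.char
      have hpp := hJ.prime
      have : Fact p.Prime := ⟨hpp⟩
      obtain ⟨n, -, hn⟩ := FiniteField.card F₀ p
      rw [h3] at hn
      have h4 : p ∣ 3 := by rw [hn]; exact dvd_pow_self p n.ne_zero
      exact (Nat.prime_dvd_prime_iff_eq hpp Nat.prime_three).1 h4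
    subst hp
    have hb : F.T 0 1 = f (ζ, 1) := by rw [hT, zv_01 b0 d0]
    obtain ⟨q, hqQ, hq⟩ := hq
    have hfm := f_mem (f := f) b0 hb
    -- the embeddings
    let ι : W →* Q (F.T 0 1) :=
      { toFun := fun y => CoreLoc.mk (F.T 0 1) (f (1, y)) (hfm _)
        map_one' := by
          rw [CoreOut.mk_eq_one_iff, show ((1 : W), (1 : W)) = 1 from rfl, map_one]
          exact one_mem _
        map_mul' := fun a b => by
          have : f (1, a * b) = f (1, a) * f (1, b) := by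
            rw [← map_mul, Prod.mk_mul_mk, one_mul]
          exact CoreLoc.mk_congr this _ (mul_mem (hfm _) (hfm _)) }
    let ι' : W →* Q (F.T 0 1) :=
      { toFun := fun y => CoreLoc.mk (F.T 0 1) (f (y, 1)) (hfm _)
        map_one' := by
          rw [CoreOut.mk_eq_one_iff, show ((1 : W), (1 : W)) = 1 from rfl, map_one]
          exact one_mem _
        map_mul' := fun a b => by
          have : f (a * b, 1) = f (a, 1) * f (b, 1) := by
            rw [← map_mul, Prod.mk_mul_mk, one_mul]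
          exact CoreLoc.mk_congr this _ (mul_mem (hfm _) (hfm _)) }
    have hinj : ∀ p : W × W, CoreLoc.mk (F.T 0 1) (f p) (hfm p) = 1 → p = 1 := by
      intro p hp
      rw [CoreOut.mk_eq_one_iff] at hp
      have h1 : IsPGroup 2 f.range := by
        rintro ⟨_, r, rfl⟩
        obtain ⟨k, hk⟩ := twoP D r
        refine ⟨k, Subtype.ext ?_⟩
        change f r ^ 2 ^ k = 1
        rw [← map_pow, hk, map_one]
      obtain ⟨k, hk⟩ := twoP D p
      have h2 : orderOf (f p) ∣ 2 ^ k := by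
        rw [orderOf_dvd_iff_pow_eq_one, ← map_pow, hk, map_one]
      have h3 : orderOf (f p) ∣ Nat.card (M (F.T 0 1)) := by
        rw [← Subgroup.orderOf_mk (f p) hp]
        exact orderOf_dvd_natCard _
      have h4 : Nat.Coprime (2 ^ k) (Nat.card (M (F.T 0 1))) :=
        Nat.Coprime.pow_left k (Nat.prime_two.coprime_iff_not_dvd.2 (M_odd _))
      have h5 := Nat.dvd_gcd h2 h3
      rw [h4, Nat.dvd_one, orderOf_eq_one_iff] at h5
      rw [← map_one f] at h5
      exact D.inj h5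
    have hι : Function.Injective ι := by
      rw [injective_iff_map_eq_one]
      intro a ha
      exact (Prod.mk.inj (hinj _ ha)).2
    have hι' : Function.Injective ι' := by
      rw [injective_iff_map_eq_one]
      intro a ha
      exact (Prod.mk.inj (hinj _ ha)).1
    obtain ⟨e8⟩ := nonempty_q8 hC ι hι (fun b => (mem_bar_two b0 hb).2 ⟨b, mem_top b, rfl⟩)
      (fun x hx => by
        obtain ⟨b, -, h⟩ := (mem_bar_two b0 hb).1 hx
        exact ⟨b, h⟩) b0 hQn hQL h3 (slFact_of_yIso hJ.yiso)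
    have hQmap : Q'.map ι' = bar (F.T 0 1) (P1 f Q') := by
      ext x
      rw [mem_bar_one b0 hb]
      constructor
      · rintro ⟨b, hb, rfl⟩
        exact ⟨b, hb, rfl⟩
      · rintro ⟨b, hb, rfl⟩
        exact ⟨b, hb, rfl⟩
    have e8' : bar (F.T 0 1) (P1 f Q') ≃* Q8 :=
      ((Q'.equivMapOfInjective ι' hι').trans (MulEquiv.subgroupCongr hQmap)).symm.trans e8
    have H3 : SylowLFive.Three.Hyp3 F T (bar (F.T 0 1) (P1 f ⊤)) (bar (F.T 0 1) (P2 f ⊤))
        (bar (F.T 0 1) (P1 f Q')) F₀ (f (q, 1)) :=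
      { chyp := hC
        out := H.out
        hK := hK2 h3
        e8 := ⟨e8'⟩
        card := h3
        yiso := hJ.yiso
        mQ := ⟨hfm _, (mem_bar_one b0 hb).2 ⟨q, hqQ, rfl⟩⟩
        act := act_of_q h0 b0 d0 hq
        hE := hE }
    rcases SylowLFive.ThreeFinal.final H3 hJ with h | ⟨K, j1, j2, hK, h⟩
    · exact Or.inl ⟨F₀, i1, i2, hJ.odd, h⟩
    · exact Or.inr ⟨K, j1, j2, 3, hK, by decide, h⟩
  · -- `q > 3`
    obtain ⟨eK⟩ := hK1 h3
    exact CoreEnd.concl hJ h3 eK hP H hE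

/-- the semidihedral case -/
theorem concl_sd [IsSimpleGroup G] {n : ℕ} {u : ZMod (2 ^ n) → W} {y : W} {S : Sylow 2 G}
    (F0 : FusSD (S : Subgroup G) f w u y) (hId : IdThm.{v}) : Concl G := by
  have b0 := sd_base F0.coord
  obtain ⟨f', F, -, -, ρ, hρ⟩ := CentSDMain.exists_rho S (Simple.char_one F0.out.wr b0) F0
  have D := CentSDData.cdata_of_rho F S.isPGroup' hρ
  exact concl_of F.out (sd_base F.coord) (SDMain.edata F.coord) (fieldsSD F) D
    (fun N hN he => CentCov.cov_SD F hρ D hN he) (normal_sd F.coord) (qlike_sd F.coord)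
    (exists_q_sd F.coord) hId

/-- the wreathed case -/
theorem concl_wr [IsSimpleGroup G] {n : ℕ} {u : ZMod (2 ^ n) → ZMod (2 ^ n) → W} {s : W}
    {S : Sylow 2 G} (F0 : FusWR (S : Subgroup G) f w u s) (hId : IdThm.{v}) : Concl G := by
  obtain ⟨f', F, -, -, D⟩ := CentWRData.exists_cdata F0
  obtain ⟨ρ, hρ⟩ := F.rho
  exact concl_of F.out (wr_base F.coord) (WRMain.edata F.coord) (fieldsWR F) D
    (fun N hN he => CentCov.cov_WR F.coord hρ D hN he) (normal_wr F.coord) (qlike_wr F.coord)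
    (exists_q_wr F.coord) hId

universe u₂

/-- **Simple groups with Sylow 2-subgroups of type `L₅(q)`.** -/
theorem main (hId : IdThm.{v}) {G : Type v} [Group G] [Finite G] [IsSimpleGroup G]
    {F : Type u₂} [Field F] [Fintype F] (hF : Odd (Fintype.card F)) (S : Sylow 2 G)
    (P : Sylow 2 (Matrix.ProjectiveSpecialLinearGroup (Fin 5) F))
    (hS : Nonempty ((S : Subgroup G) ≃*
      (P : Subgroup (Matrix.ProjectiveSpecialLinearGroup (Fin 5) F)))) : Concl G := by
  obtain ⟨e⟩ := hS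
  obtain ⟨W, i1, i2, f, w, h2, hwr, ⟨n, u, y, hc⟩ | ⟨n, u, s, hc⟩⟩ := KModel.exists_model hF P e
  · obtain ⟨f', F', -⟩ := SDMain.exists_fusSD hwr hc
    exact concl_sd F' hId
  · obtain ⟨f', F', -⟩ := WRMain.exists_fusWR hwr hc
    exact concl_wr F' hId

end Cfsg.Agent.TypeLFive.Main
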