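import Mathlib
import Cfsg.Agent.TypeLFive.CentAbs
import Cfsg.Agent.SylowLFive.ThreeLoc

/-!
# The centraliser of the involution `t` of type `L₅`, `q = 3`

`X = C(t) / O(C(t))`, `J` the component, `Q` (quaternion of order 8) normal in `X`: an element of odd
order centralising `J` and `Q` is trivial, and all subgroups of order 24 of `C(J)` generated by
elements of order three coincide.
-/

set_option autoImplicit false

namespace Cfsg.Agent.TypeLFive.CentThree

open Subgroup Cfsg Cfsg.Agent.TypeLFive.CentAbs Cfsg.Agent.SylowLFive.ThreeAux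
open Cfsg.Agent.SylowLFive.ThreeLoc

/-- A group with a cyclic Sylow 2-subgroup has a normal 2-complement. -/
theorem exists_compl {R : Type*} [Group R] [Finite R] (P : Sylow 2 R) (hP : IsCyclic P) :
    ∃ (K : Subgroup R) (_ : K.Normal), Odd (Nat.card K) ∧ IsPGroup 2 (R ⧸ K) := by
  have : Fact (Nat.Prime 2) := ⟨Nat.prime_two⟩
  by_cases h2 : 2 ∣ Nat.card R
  · have hmin : (Nat.card R).minFac = 2 := (Nat.minFac_eq_two_iff _).2 h2
    have h1 := IsCyclic.isComplement' hmin hP
    set K := (MonoidHom.transferSylow P (hP.normalizer_le_centralizer hmin)).ker with hK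
    have hodd : Odd (Nat.card K) := by
      have h3 : P.index = Nat.card K := h1.index_eq_card
      rw [← h3]
      exact Nat.not_even_iff_odd.1 fun h => P.not_dvd_index (even_iff_two_dvd.1 h)
    refine ⟨K, inferInstance, hodd, ?_⟩
    have h3 : K.index = Nat.card P := h1.symm.index_eq_card
    obtain ⟨n, hn⟩ := P.isPGroup'.exists_card_eq
    refine IsPGroup.of_card (n := n) ?_
    rw [← hn, ← h3]
    rfl
  · refine ⟨⊤, inferInstance, ?_, ?_⟩
    · rw [Subgroup.card_top]
      exact Nat.not_even_iff_odd.1 fun h => h2 (even_iff_two_dvd.1 h)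
    · refine IsPGroup.of_card (n := 0) ?_
      have : Nat.card (R ⧸ (⊤ : Subgroup R)) = (⊤ : Subgroup R).index := rfl
      rw [this, index_top, pow_zero]

/-- A normal subgroup with cyclic Sylow 2-subgroup is a 2-group, if `O(X) = 1`. -/
theorem isPGroup_of_cyclic {X : Type*} [Group X] [Finite X] (hO : oddCore X = ⊥) {D : Subgroup X}
    (hD : D.Normal) (P : Sylow 2 D) (hP : IsCyclic P) : IsPGroup 2 D := by
  have : Fact (Nat.Prime 2) := ⟨Nat.prime_two⟩
  obtain ⟨K, hKn, hK, h2⟩ := exists_compl P hP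
  have h1 : K ≤ pPrimeCore 2 D := Lib.Cores.le_pPrimeCore hKn (Nat.coprime_two_right.2 hK)
  have h3 := Lib.Cores.map_subtype_pPrimeCore (G := X) 2 (N := D) hD
  have h4 : pPrimeCore 2 X = ⊥ := hO
  rw [h4, inf_bot_eq, Subgroup.map_eq_bot_iff, ker_subtype, le_bot_iff] at h3
  rw [h3, le_bot_iff] at h1
  subst h1
  exact h2.of_equiv (QuotientGroup.quotientBot)

section

variable {X : Type*} [Group X] [Finite X] {T : Sylow 2 X} {W1 W2 Q1 : Subgroup X}

omit [Finite X] in
theorem fst_unique (h : CHyp T W1 W2 Q1) : ∀ a a' y : X, a ∈ W1 → a' ∈ W1 → a⁻¹ * y ∈ W2 →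
    a'⁻¹ * y ∈ W2 → a = a' := by
  intro a a' y ha ha' h1 h2
  have h3 : a⁻¹ * a' ∈ W2 := by
    have := mul_mem h1 (inv_mem h2)
    have e : a⁻¹ * y * (a'⁻¹ * y)⁻¹ = a⁻¹ * a' := by group
    rwa [e] at this
  have h4 := h.inf _ (mul_mem (inv_mem ha) ha') h3
  exact (inv_mul_eq_one.1 h4)

omit [Finite X] in
/-- the `W1`-part of an element of `T` -/
theorem exists_fst (h : CHyp T W1 W2 Q1) : ∃ f : (T : Subgroup X) →* X,
    ∀ x : (T : Subgroup X), f x ∈ W1 ∧ (f x)⁻¹ * x ∈ W2 := by
  have h1 : ∀ x : (T : Subgroup X), ∃ a ∈ W1, a⁻¹ * (x : X) ∈ W2 := by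
    intro x
    obtain ⟨a, ha, b, hb, hab⟩ := h.fac x x.2
    exact ⟨a, ha, by rw [hab, inv_mul_cancel_left]; exact hb⟩
  choose f hf1 hf2 using h1
  have huniq := fst_unique h
  refine ⟨MonoidHom.mk' f ?_, fun x => ⟨hf1 x, hf2 x⟩⟩
  intro x y
  refine huniq _ _ (x * y : X) (hf1 _) (mul_mem (hf1 x) (hf1 y)) (hf2 (x * y)) ?_
  have e : (f x * f y)⁻¹ * ((x : X) * y) = ((f y)⁻¹ * ((f x)⁻¹ * x) * f y) * ((f y)⁻¹ * y) := by
    group
  rw [e]
  refine mul_mem ?_ (hf2 y)
  have := h.comm _ (inv_mem (hf1 y)) _ (hf2 x)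
  rw [this, inv_mul_cancel_right]
  exact hf2 x

/-- odd elements centralising `J` and `Q1` are trivial. -/
theorem odd_eq_one (h : CHyp T W1 W2 Q1) (hK : normalClosure (Q1 : Set X) = Q1) {x : X}
    (hx : Odd (orderOf x)) (hJ : ∀ j ∈ normalClosure (W2 : Set X), x * j = j * x)
    (hQ : ∀ q ∈ Q1, x * q = q * x) : x = 1 := by
  have : Fact (Nat.Prime 2) := ⟨Nat.prime_two⟩
  set J := normalClosure (W2 : Set X) with hJd
  have hQn : Q1.Normal := by rw [← hK]; exact normalClosure_normal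
  set D : Subgroup X := centralizer (J : Set X) ⊓ centralizer (Q1 : Set X) with hD
  have hDn : D.Normal := inferInstance
  obtain ⟨hs, hc⟩ := h.simple_J
  obtain ⟨P, hP⟩ := Cfsg.Agent.S0542.result 2 D (Subgroup.Normal.isSubnormal inferInstance) T
  obtain ⟨f, hf⟩ := exists_fst h
  obtain ⟨c, hcc⟩ := h.centQ
  have hPT : ∀ x : (P : Subgroup D), ((x : D) : X) ∈ (T : Subgroup X) := by
    intro x
    have h1 : (x : D) ∈ (T : Subgroup X).subgroupOf D := by rw [← hP]; exact x.2
    exact h1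
  let g : (P : Subgroup D) →* (T : Subgroup X) :=
    { toFun := fun x => ⟨_, hPT x⟩, map_one' := rfl, map_mul' := fun _ _ => rfl }
  have hD1 : ∀ x : D, ∀ j ∈ J, (x : X) * j = j * x := fun x j hj =>
    (mem_centralizer_iff.1 x.2.1 j hj).symm
  have hD2 : ∀ x : D, ∀ j ∈ Q1, (x : X) * j = j * x := fun x j hj =>
    (mem_centralizer_iff.1 x.2.2 j hj).symm
  have hmem : ∀ x : (P : Subgroup D), f (g x) ∈ zpowers c := by
    intro x
    apply hcc _ (hf _).1
    intro q hq
    have h1 : Commute ((x : D) : X) q := hD2 x q hq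
    have h2 : Commute ((f (g x))⁻¹ * ((x : D) : X)) q :=
      (h.comm q (h.leW hq) _ (hf (g x)).2).symm
    have h3 : f (g x) = ((x : D) : X) * ((f (g x))⁻¹ * ((x : D) : X))⁻¹ := by group
    rw [h3]
    exact h1.mul_left h2.inv_left
  have hinj : Function.Injective (f.comp g) := by
    rw [injective_iff_map_eq_one]
    intro x hx
    have h1 := (hf (g x)).2
    have h2 : f (g x) = 1 := hx
    rw [h2, inv_one, one_mul] at h1
    have h3 : ((x : D) : X) ∈ J := subset_normalClosure h1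
    have h4 : (⟨_, h3⟩ : J) ∈ center J := by
      rw [mem_center_iff]
      intro j
      exact Subtype.ext (hD1 x j j.2).symm
    have h5 : center J = ⊥ := by
      rcases (inferInstance : (center J).Normal).eq_bot_or_eq_top with h6 | h6
      · exact h6
      · exfalso
        apply hc
        refine ⟨⟨fun a b => ?_⟩⟩
        have hb : b ∈ center J := by rw [h6]; exact mem_top b
        exact mem_center_iff.1 hb a
    rw [h5, mem_bot] at h4
    have h6 : ((x : D) : X) = 1 := congrArg Subtype.val h4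
    exact Subtype.ext (Subtype.ext h6)
  have hcyc : IsCyclic (P : Subgroup D) := by
    let g' : (P : Subgroup D) →* zpowers c := (f.comp g).codRestrict (zpowers c) hmem
    refine isCyclic_of_injective g' ?_
    intro x y hxy
    exact hinj (congrArg Subtype.val hxy)
  have h2 := isPGroup_of_cyclic h.core hDn P hcyc
  have hxD : x ∈ D := ⟨mem_centralizer_iff.2 fun j hj => (hJ j hj).symm,
    mem_centralizer_iff.2 fun j hj => (hQ j hj).symm⟩
  obtain ⟨k, hk⟩ := h2 ⟨x, hxD⟩
  have hk' : x ^ 2 ^ k = 1 := congrArg Subtype.val hk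
  have h3 := orderOf_dvd_of_pow_eq_one hk'
  have h4 : Nat.Coprime (orderOf x) (2 ^ k) := Nat.Coprime.pow_right k (Nat.coprime_two_right.2 hx)
  have h5 := Nat.dvd_gcd (dvd_refl (orderOf x)) h3
  rw [h4, Nat.dvd_one, orderOf_eq_one_iff] at h5
  exact h5

/-- elements of `W2` centralising `J` are trivial -/
theorem eq_one_of_W2 (h : CHyp T W1 W2 Q1) {x : X} (hx : x ∈ W2)
    (hJ : ∀ j ∈ normalClosure (W2 : Set X), x * j = j * x) : x = 1 := by
  obtain ⟨hs, hc⟩ := h.simple_J
  set J := normalClosure (W2 : Set X) with hJd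
  have h3 : x ∈ J := subset_normalClosure hx
  have h4 : (⟨x, h3⟩ : J) ∈ center J := by
    rw [mem_center_iff]
    intro j
    exact Subtype.ext (hJ j j.2).symm
  have h5 : center J = ⊥ := by
    rcases (inferInstance : (center J).Normal).eq_bot_or_eq_top with h6 | h6
    · exact h6
    · exfalso
      apply hc
      refine ⟨⟨fun a b => ?_⟩⟩
      have hb : b ∈ center J := by rw [h6]; exact mem_top b
      exact mem_center_iff.1 hb a
  rw [h5, mem_bot] at h4
  exact congrArg Subtype.val h4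

theorem exists_N (h : CHyp T W1 W2 Q1) (hK : normalClosure (Q1 : Set X) = Q1) :
    ∃ N : Subgroup X, Q1 ≤ N ∧ (∀ n ∈ N, ∀ j ∈ normalClosure (W2 : Set X), n * j = j * n) ∧
      Odd (Q1.relIndex N) ∧
      ∀ x, (∀ j ∈ normalClosure (W2 : Set X), x * j = j * x) → x ^ 3 = 1 → x ∈ N := by
  have : Fact (Nat.Prime 2) := ⟨Nat.prime_two⟩
  set J := normalClosure (W2 : Set X) with hJd
  have hQn : Q1.Normal := by rw [← hK]; exact normalClosure_normal
  set H : Subgroup X := centralizer (J : Set X) with hH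
  have hHn : H.Normal := inferInstance
  have hQH : Q1 ≤ H := fun q hq => mem_centralizer_iff.2 fun j hj =>
    (h.kj q (by rw [hK]; exact hq) j hj).symm
  have hHJ : ∀ x ∈ H, ∀ j ∈ J, x * j = j * x := fun x hx j hj => (mem_centralizer_iff.1 hx j hj).symm
  have hQHn : (Q1.subgroupOf H).Normal := inferInstance
  obtain ⟨P, hP⟩ := Cfsg.Agent.S0542.result 2 H (Subgroup.Normal.isSubnormal inferInstance) T
  obtain ⟨f, hf⟩ := exists_fst h
  have hPT : ∀ x : (P : Subgroup H), ((x : H) : X) ∈ (T : Subgroup X) := by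
    intro x
    have h1 : (x : H) ∈ (T : Subgroup X).subgroupOf H := by rw [← hP]; exact x.2
    exact h1
  let g : (P : Subgroup H) →* (T : Subgroup X) :=
    { toFun := fun x => ⟨_, hPT x⟩, map_one' := rfl, map_mul' := fun _ _ => rfl }
  have hQW : (Q1.subgroupOf W1).Normal := inferInstance
  let κ : (P : Subgroup H) →* W1 ⧸ Q1.subgroupOf W1 :=
    (QuotientGroup.mk' (Q1.subgroupOf W1)).comp ((f.comp g).codRestrict W1 (fun x => (hf (g x)).1))
  let π : (P : Subgroup H) →* H ⧸ Q1.subgroupOf H :=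
    (QuotientGroup.mk' (Q1.subgroupOf H)).comp (P : Subgroup H).subtype
  have hκ : ∀ x, κ x = 1 ↔ ((x : H) : X) ∈ Q1 := by
    intro x
    have h1 : κ x = 1 ↔ f (g x) ∈ Q1 := by
      show QuotientGroup.mk' (Q1.subgroupOf W1) _ = 1 ↔ _
      rw [QuotientGroup.mk'_apply, QuotientGroup.eq_one_iff]
      rfl
    rw [h1]
    constructor
    · intro h2
      have h3 : (f (g x))⁻¹ * ((x : H) : X) ∈ W2 := (hf (g x)).2
      have h4 : (f (g x))⁻¹ * ((x : H) : X) = 1 := by
        apply eq_one_of_W2 h h3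
        intro j hj
        exact hHJ _ (mul_mem (inv_mem (hQH h2)) (x : H).2) j hj
      have h5 : ((x : H) : X) = f (g x) := (inv_mul_eq_one.1 h4).symm
      rw [h5]; exact h2
    · intro h2
      have h3 : f (g x) = ((x : H) : X) := by
        refine fst_unique h _ _ ((x : H) : X) (hf (g x)).1 (h.leW h2) (hf (g x)).2 ?_
        rw [inv_mul_cancel]
        exact one_mem _
      rw [h3]; exact h2
  have hπ : ∀ x, π x = 1 ↔ ((x : H) : X) ∈ Q1 := by
    intro x
    show QuotientGroup.mk' (Q1.subgroupOf H) _ = 1 ↔ _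
    rw [QuotientGroup.mk'_apply, QuotientGroup.eq_one_iff]
    rfl
  have hker : κ.ker = π.ker := by
    ext x
    rw [MonoidHom.mem_ker, MonoidHom.mem_ker, hκ, hπ]
  have hcW : IsCyclic (W1 ⧸ Q1.subgroupOf W1) := by
    obtain ⟨w, hw, hww⟩ := h.quoQ
    refine ⟨QuotientGroup.mk' _ ⟨w, hw⟩, fun y => ?_⟩
    obtain ⟨y, rfl⟩ := QuotientGroup.mk'_surjective _ y
    obtain ⟨i, hi⟩ := hww y y.2
    refine ⟨-i, ?_⟩
    show (QuotientGroup.mk' (Q1.subgroupOf W1) ⟨w, hw⟩) ^ (-i) = _
    rw [← map_zpow]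
    refine QuotientGroup.eq.2 ?_
    have e : (((⟨w, hw⟩ : W1) ^ (-i))⁻¹ * y : W1) = (⟨w, hw⟩ : W1) ^ i * y := by
      rw [zpow_neg, inv_inv]
    rw [e]
    exact hi
  have hcP : IsCyclic (P.mapSurjective (QuotientGroup.mk'_surjective (Q1.subgroupOf H)) :
      Subgroup (H ⧸ Q1.subgroupOf H)) := by
    have h1 : (P.mapSurjective (QuotientGroup.mk'_surjective (Q1.subgroupOf H)) :
      Subgroup (H ⧸ Q1.subgroupOf H)) = π.range := by
      rw [MonoidHom.range_comp, range_subtype]
      rfl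
    rw [h1]
    have e1 := QuotientGroup.quotientKerEquivRange π
    have e2 := QuotientGroup.quotientKerEquivRange κ
    have e3 : (P : Subgroup H) ⧸ π.ker ≃* (P : Subgroup H) ⧸ κ.ker :=
      QuotientGroup.quotientMulEquivOfEq hker.symm
    have : IsCyclic κ.range := inferInstance
    exact isCyclic_of_injective ((e1.symm.trans e3).trans e2).toMonoidHom
      ((e1.symm.trans e3).trans e2).injective
  obtain ⟨K, hKn, hKo, hK2⟩ := exists_compl _ hcP
  refine ⟨(K.comap (QuotientGroup.mk' (Q1.subgroupOf H))).map H.subtype, ?_, ?_, ?_, ?_⟩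
  · intro q hq
    refine ⟨⟨q, hQH hq⟩, ?_, rfl⟩
    rw [SetLike.mem_coe, mem_comap]
    have : QuotientGroup.mk' (Q1.subgroupOf H) ⟨q, hQH hq⟩ = 1 := by
      rw [QuotientGroup.mk'_apply, QuotientGroup.eq_one_iff]
      exact hq
    rw [this]
    exact one_mem K
  · rintro _ ⟨n, -, rfl⟩ j hj
    exact hHJ n n.2 j hj
  · rw [← relIndex_comap]
    have h1 : Q1.comap H.subtype = (⊥ : Subgroup (H ⧸ Q1.subgroupOf H)).comap
        (QuotientGroup.mk' (Q1.subgroupOf H)) := by
      rw [MonoidHom.comap_bot, QuotientGroup.ker_mk']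
      rfl
    rw [h1, relIndex_comap, map_comap_eq_self_of_surjective (QuotientGroup.mk'_surjective _),
      relIndex_bot_left]
    exact hKo
  · intro x hx hx3
    have hxH : x ∈ H := mem_centralizer_iff.2 fun j hj => (hx j hj).symm
    refine ⟨⟨x, hxH⟩, ?_, rfl⟩
    rw [SetLike.mem_coe, mem_comap]
    set y := QuotientGroup.mk' (Q1.subgroupOf H) ⟨x, hxH⟩ with hy
    have hy3 : y ^ 3 = 1 := by
      rw [hy, ← map_pow]
      have : (⟨x, hxH⟩ : H) ^ 3 = 1 := Subtype.ext hx3
      rw [this, map_one]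
    have h1 : (QuotientGroup.mk' K y) = 1 := by
      obtain ⟨k, hk⟩ := hK2 (QuotientGroup.mk' K y)
      have h2 : (QuotientGroup.mk' K y) ^ 3 = 1 := by rw [← map_pow, hy3, map_one]
      have h3 := Nat.dvd_gcd (orderOf_dvd_of_pow_eq_one h2) (orderOf_dvd_of_pow_eq_one hk)
      have h4 : Nat.gcd 3 (2 ^ k) = 1 := Nat.Coprime.pow_right k (by norm_num)
      rw [h4, Nat.dvd_one, orderOf_eq_one_iff] at h3
      exact h3
    exact (QuotientGroup.eq_one_iff y).1 h1

/-- All subgroups of order 24 of `C(J)` generated by elements of order three coincide. -/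
theorem eq_of_card (h : CHyp T W1 W2 Q1) (hK : normalClosure (Q1 : Set X) = Q1) (e : Q1 ≃* Q8)
    {Y : Subgroup X} (hY : ∀ y ∈ Y, ∀ j ∈ normalClosure (W2 : Set X), y * j = j * y)
    (hc : Nat.card Y = 24) (hgen : ∀ H : Subgroup X, (∀ y ∈ Y, y ^ 3 = 1 → y ∈ H) → Y ≤ H) :
    (∀ x, (∀ j ∈ normalClosure (W2 : Set X), x * j = j * x) → x ^ 3 = 1 → x ∈ Y) ∧ Q1 ≤ Y := by
  have : Fact (Nat.Prime 2) := ⟨Nat.prime_two⟩
  obtain ⟨N, hQN, hNJ, hodd, hN3⟩ := exists_N h hK
  have hQn : Q1.Normal := by rw [← hK]; exact normalClosure_normal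
  have hYN : Y ≤ N := hgen N fun y hy hy3 => hN3 y (hY y hy) hy3
  have hcQ : Nat.card Q1 = 8 := by
    rw [Nat.card_congr e.toEquiv, Nat.card_eq_fintype_card, QuaternionGroup.card]
  have hcN : Nat.card N = 8 * Q1.relIndex N := by
    have h1 := Subgroup.relIndex_mul_relIndex (⊥ : Subgroup X) Q1 N bot_le hQN
    rw [relIndex_bot_left, relIndex_bot_left, hcQ] at h1
    exact h1.symm
  have h48 : Nat.card N ≤ 24 * 2 := by
    refine card_le e (fun n _ p hp => hQn.conj_mem p hp n) ?_
    intro D hD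
    -- `D ≤ Q1`
    have h1 : ∀ d ∈ D, d ∈ Q1 := by
      intro d hd
      have hdN := (hD d hd).1
      -- the odd part of `d` is trivial
      obtain ⟨k, m, hm, hkm⟩ := Nat.exists_eq_two_pow_mul_odd (n := orderOf d) (orderOf_pos d).ne'
      have h2 : d ^ 2 ^ k = 1 := by
        apply odd_eq_one h hK
        · rw [orderOf_pow, hkm, Nat.gcd_eq_right (Dvd.intro _ rfl),
            Nat.mul_div_cancel_left _ (by positivity)]
          exact hm
        · intro j hj
          exact (show Commute d j from hNJ d hdN j hj).pow_left _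
        · intro q hq
          exact (show Commute d q from (hD d hd).2 q hq).pow_left _
      -- the image in `N / Q1`
      have hn : (Q1.subgroupOf N).Normal := inferInstance
      set y := QuotientGroup.mk' (Q1.subgroupOf N) ⟨d, hdN⟩ with hy
      have h3 : y ^ 2 ^ k = 1 := by
        rw [hy, ← map_pow]
        have : (⟨d, hdN⟩ : N) ^ 2 ^ k = 1 := Subtype.ext h2
        rw [this, map_one]
      have h4 : orderOf y ∣ Q1.relIndex N := by
        have : Nat.card (N ⧸ Q1.subgroupOf N) = Q1.relIndex N := rfl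
        rw [← this]
        exact orderOf_dvd_natCard _
      have h5 := Nat.dvd_gcd (orderOf_dvd_of_pow_eq_one h3) h4
      have h6 : Nat.gcd (2 ^ k) (Q1.relIndex N) = 1 :=
        Nat.Coprime.pow_left k (Nat.coprime_two_left.2 hodd)
      rw [h6, Nat.dvd_one, orderOf_eq_one_iff] at h5
      have h7 : (⟨d, hdN⟩ : N) ∈ Q1.subgroupOf N := (QuotientGroup.eq_one_iff _).1 h5
      exact h7
    have h2 : ∀ d : D, (e ⟨d, h1 d d.2⟩ = 1 ∨ e ⟨d, h1 d d.2⟩ = .a 2) := by
      intro d
      apply q8_center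
      intro p
      have := congrArg e (show (⟨d, h1 d d.2⟩ : Q1) * e.symm p = e.symm p * ⟨d, h1 d d.2⟩ from
        Subtype.ext ((hD d d.2).2 _ (e.symm p).2))
      rwa [map_mul, map_mul, e.apply_symm_apply] at this
    classical
    let φ : D → ({1, .a 2} : Finset Q8) := fun d => ⟨e ⟨d, h1 d d.2⟩, by
      rcases h2 d with h3 | h3
      · rw [h3]; decide
      · rw [h3]; decide⟩
    have hφ : Function.Injective φ := by
      intro a b hab
      have h3 : e ⟨a, h1 a a.2⟩ = e ⟨b, h1 b b.2⟩ := congrArg Subtype.val hab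
      have h4 := congrArg Subtype.val (e.injective h3)
      exact Subtype.ext h4
    have h3 := Nat.card_le_card_of_injective φ hφ
    refine h3.trans ?_
    rw [Nat.card_eq_fintype_card, Fintype.card_coe]
    decide
  have h24 : 24 ∣ Nat.card N := by rw [← hc]; exact card_dvd_of_le hYN
  have hcN24 : Nat.card N = 24 := by
    rw [hcN] at h24 h48 ⊢
    obtain ⟨k, hk⟩ := hodd
    rw [hk] at h24 h48 ⊢
    have : k ≤ 2 := by omega
    interval_cases k <;> omega
  have hYN' : Y = N := Subgroup.eq_of_le_of_card_ge hYN (by rw [hcN24, hc])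
  rw [hYN']
  exact ⟨hN3, hQN⟩

end

end Cfsg.Agent.TypeLFive.CentThree
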