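import Mathlib
import Cfsg.Agent.Lib.GoldschmidtFusion
import Cfsg.Agent.TwoFusion.OddAut
import Cfsg.Agent.SylowSp4.Extremal

/-!
# Tools for step (C) of S0511: relative Sylow theory, actions of odd elements, transfer
-/

set_option autoImplicit false

namespace Cfsg.Agent.TypeLFive.CentTools

open Subgroup Cfsg.Agent.Lib.GoldschmidtFusion

variable {G : Type*} [Group G]

/-- conjugation by an element of odd order is an odd automorphism. -/
theorem isOddAut_conj {g : G} (hg : Odd (orderOf g)) {X : Subgroup G}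
    (hX : ∀ x ∈ X, g * x * g⁻¹ ∈ X) : TwoFusion.OddAut.IsOddAut X (fun s => g * s * g⁻¹) where
  mem := hX
  mul x _ z _ := by group
  odd := by
    refine ⟨orderOf g, hg, fun x _ => ?_⟩
    have key : ∀ (k : ℕ) (s : G), (fun s => g * s * g⁻¹)^[k] s = g ^ k * s * (g ^ k)⁻¹ := by
      intro k
      induction k with
      | zero => intro s; simp
      | succ k ih =>
        intro s
        rw [Function.iterate_succ_apply, ih, pow_succ]
        group
    rw [key, pow_orderOf_eq_one]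
    group

/-- An element `g` of odd order with `g x g⁻¹ = x ^ j * c`, `c` fixed and commuting with `x`,
fixes the 2-element `x`. -/
theorem conj_fix {g x c : G} (hg : Odd (orderOf g)) {X : Subgroup G} {m : ℕ}
    (h2 : ∀ x ∈ X, x ^ (2 ^ m) = 1) (hX : ∀ x ∈ X, g * x * g⁻¹ ∈ X) (hx : x ∈ X) (hc : c ∈ X)
    {j : ℤ} (e : g * x * g⁻¹ = x ^ j * c) (hcc : g * c * g⁻¹ = c) (hcomm : Commute x c) :
    g * x * g⁻¹ = x := by
  have h := isOddAut_conj hg hX
  have hk : x ^ (j - 1) * c ∈ X := X.mul_mem (X.zpow_mem hx _) hc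
  have h1 : g * x * g⁻¹ = x * (x ^ (j - 1) * c) := by
    rw [e, ← mul_assoc, ← zpow_one_add]
    congr 2
    ring
  have h3 : g * (x ^ (j - 1) * c) * g⁻¹ = (x ^ (j - 1) * c) ^ j := by
    have e1 : g * (x ^ (j - 1) * c) * g⁻¹ = (g * x * g⁻¹) ^ (j - 1) * (g * c * g⁻¹) := by
      rw [conj_zpow]; group
    rw [e1, e, hcc, (hcomm.zpow_left j).mul_zpow, (hcomm.zpow_left (j - 1)).mul_zpow, mul_assoc,
      ← zpow_add_one, sub_add_cancel, ← zpow_mul, ← zpow_mul, mul_comm j (j - 1)]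
  have h4 := h.eq_one_of_eq_mul hx hk h1 h3 (h2 _ hk)
  rw [h1, h4, mul_one]

variable [Finite G]

/-- If the odd elements of `L` centralise `X` and `T` is Sylow in `L`, then every element of `L`
acts on `X` as an element of `T`. -/
theorem exists_conj_eq_in {L T X : Subgroup G} (hT : IsPGroup 2 T) (_hTL : T ≤ L)
    (hTi : ¬ 2 ∣ T.relIndex L) (hX : ∀ g ∈ L, ∀ x ∈ X, g * x * g⁻¹ ∈ X)
    (hodd : ∀ g ∈ L, Odd (orderOf g) → ∀ x ∈ X, g * x * g⁻¹ = x) :
    ∀ g ∈ L, ∃ τ ∈ T, ∀ x ∈ X, τ * x * τ⁻¹ = g * x * g⁻¹ := by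
  have : Fact (Nat.Prime 2) := ⟨Nat.prime_two⟩
  let K : Subgroup L := (centralizer (X : Set G)).subgroupOf L
  have hKN : K.Normal := by
    constructor
    rintro ⟨k, hkL⟩ hk ⟨g, hg⟩
    rw [mem_subgroupOf] at hk ⊢
    change g * k * g⁻¹ ∈ _
    rw [mem_centralizer_iff]
    intro x hx
    have h1 := hX g⁻¹ (L.inv_mem hg) x hx
    rw [inv_inv] at h1
    have h2 := (mem_centralizer_iff.1 hk) _ h1
    calc x * (g * k * g⁻¹) = g * (g⁻¹ * x * g * k) * g⁻¹ := by group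
      _ = g * (k * (g⁻¹ * x * g)) * g⁻¹ := by rw [h2]
      _ = _ := by group
  have hQ : IsPGroup 2 (L ⧸ K) := by
    intro q
    obtain ⟨⟨g, hg⟩, rfl⟩ := QuotientGroup.mk'_surjective K q
    obtain ⟨k, r, hr, hkr⟩ := Nat.exists_eq_two_pow_mul_odd (orderOf_pos g).ne'
    refine ⟨k, ?_⟩
    rw [← map_pow, QuotientGroup.mk'_apply, QuotientGroup.eq_one_iff]
    rw [mem_subgroupOf]
    change g ^ (2 ^ k) ∈ _
    have h1 : orderOf (g ^ (2 ^ k)) = r := by
      rw [orderOf_pow, hkr, Nat.gcd_eq_right (Dvd.intro _ rfl), Nat.mul_div_cancel_left _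
        (by positivity)]
    rw [mem_centralizer_iff]
    intro x hx
    have h2 := hodd (g ^ (2 ^ k)) (L.pow_mem hg _) (by rw [h1]; exact hr) x hx
    exact (mul_inv_eq_iff_eq_mul.1 h2).symm
  have hT' : IsPGroup 2 (T.subgroupOf L) := hT.comap_of_injective L.subtype L.subtype_injective
  let T₁ : Sylow 2 L := hT'.toSylow hTi
  let T₂ : Sylow 2 (L ⧸ K) := T₁.mapSurjective (QuotientGroup.mk'_surjective K)
  have hT₂ : (T₂ : Subgroup (L ⧸ K)) = ⊤ :=
    (T₂.is_maximal' (hQ.to_subgroup ⊤) le_top).symm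
  intro g hg
  have h2 : QuotientGroup.mk' K ⟨g, hg⟩ ∈ (T₂ : Subgroup (L ⧸ K)) := by rw [hT₂]; exact mem_top _
  obtain ⟨τ, hτ, hτg⟩ := h2
  have hτT : (τ : G) ∈ T := hτ
  refine ⟨τ, hτT, ?_⟩
  have h3 : τ⁻¹ * ⟨g, hg⟩ ∈ K := by
    rw [← QuotientGroup.eq]
    exact hτg
  rw [mem_subgroupOf, mem_centralizer_iff] at h3
  intro x hx
  have h4 := h3 x hx
  change x * ((τ : G)⁻¹ * g) = (τ : G)⁻¹ * g * x at h4
  calc (τ : G) * x * (τ : G)⁻¹ = (τ : G) * (x * ((τ : G)⁻¹ * g)) * g⁻¹ := by group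
    _ = (τ : G) * ((τ : G)⁻¹ * g * x) * g⁻¹ := by rw [h4]
    _ = g * x * g⁻¹ := by group

/-- The transfer `N → P / M` (`|P : M| = 2`) inside a subgroup `N` with Sylow 2-subgroup `P`. -/
theorem exists_transfer_in {N P M : Subgroup G} (hP : IsPGroup 2 P) (hPN : P ≤ N)
    (hPi : ¬ 2 ∣ P.relIndex N) (hMP : M.relIndex P = 2) :
    ∃ V : N →* ℤˣ, ∀ (y : G) (hy : y ∈ P),
      (∀ k : ℕ, ∀ g ∈ N, g * y ^ k * g⁻¹ ∈ P → (g * y ^ k * g⁻¹ ∈ M ↔ y ^ k ∈ M)) →
      (V ⟨y, hPN hy⟩ = 1 ↔ y ∈ M) := by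
  have : Fact (Nat.Prime 2) := ⟨Nat.prime_two⟩
  have hP' : IsPGroup 2 (P.subgroupOf N) := hP.comap_of_injective N.subtype N.subtype_injective
  let P₁ : Sylow 2 N := hP'.toSylow hPi
  obtain ⟨V, hV⟩ := SylowSp4.Extremal.exists_transfer P₁ (M.subgroupOf N) (by
    change (M.subgroupOf N).relIndex (P.subgroupOf N) = 2
    rw [Subgroup.relIndex_subgroupOf hPN, hMP])
  refine ⟨V, fun y hy hyk => ?_⟩
  have h1 := hV ⟨y, hPN hy⟩ (show y ∈ P from hy) (by
    rintro k ⟨g, hg⟩ hgk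
    exact hyk k g hg hgk)
  rw [h1, mem_subgroupOf]

end Cfsg.Agent.TypeLFive.CentTools
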