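import Cfsg.Agent.TypeLFive.LThreeQuot
import Cfsg.Agent.TwoFusion.PSL3Inv
import Mathlib

/-!
Commuting involutions of determinant one of `GL₃(F)`, `2 ≠ 0`, are simultaneously diagonalisable.
-/

set_option autoImplicit false

open scoped MatrixGroups Matrix

namespace Cfsg.Agent.TypeLFive.LThreeFrame

variable {F : Type*} [Field F]

/-- `diag(1,-1,-1)`. -/
def D0 (F : Type*) [Field F] : Matrix (Fin 3) (Fin 3) F := !![1, 0, 0; 0, -1, 0; 0, 0, -1]

/-- `diag(-1,1,-1)`. -/
def D1 (F : Type*) [Field F] : Matrix (Fin 3) (Fin 3) F := !![-1, 0, 0; 0, 1, 0; 0, 0, -1]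

/-- `diag(-1,-1,1)`. -/
def D2 (F : Type*) [Field F] : Matrix (Fin 3) (Fin 3) F := !![-1, 0, 0; 0, -1, 0; 0, 0, 1]

theorem D0_mul_D1 : D0 F * D1 F = D2 F := by
  ext i j
  fin_cases i <;> fin_cases j <;> simp [D0, D1, D2, Matrix.mul_apply, Fin.sum_univ_three]

theorem D0_sq : D0 F * D0 F = 1 := by
  ext i j
  fin_cases i <;> fin_cases j <;> simp [D0, Matrix.mul_apply, Fin.sum_univ_three]

theorem D1_sq : D1 F * D1 F = 1 := by
  ext i j
  fin_cases i <;> fin_cases j <;> simp [D1, Matrix.mul_apply, Fin.sum_univ_three]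

theorem D0_det : (D0 F).det = 1 := by
  rw [Matrix.det_fin_three]; simp [D0]

theorem D1_det : (D1 F).det = 1 := by
  rw [Matrix.det_fin_three]; simp [D1]

theorem D2_det : (D2 F).det = 1 := by
  rw [Matrix.det_fin_three]; simp [D2]

/-- A matrix commuting with `D0` is block diagonal. -/
theorem block (h2 : (2 : F) ≠ 0) {X : Matrix (Fin 3) (Fin 3) F} (hX : X * D0 F = D0 F * X) :
    X 0 1 = 0 ∧ X 0 2 = 0 ∧ X 1 0 = 0 ∧ X 2 0 = 0 := by
  have hz : ∀ x : F, -x = x → x = 0 := by
    intro x hx
    have : (2 : F) * x = 0 := by linear_combination -hx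
    exact (mul_eq_zero.1 this).resolve_left h2
  refine ⟨?_, ?_, ?_, ?_⟩
  · have := congrFun (congrFun hX 0) 1
    simp only [Matrix.mul_apply, Fin.sum_univ_three] at this
    apply hz
    simpa [D0] using this
  · have := congrFun (congrFun hX 0) 2
    simp only [Matrix.mul_apply, Fin.sum_univ_three] at this
    apply hz
    simpa [D0] using this
  · have := congrFun (congrFun hX 1) 0
    simp only [Matrix.mul_apply, Fin.sum_univ_three] at this
    apply hz
    simpa [D0] using this.symm
  · have := congrFun (congrFun hX 2) 0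
    simp only [Matrix.mul_apply, Fin.sum_univ_three] at this
    apply hz
    simpa [D0] using this.symm

/-- An involution of determinant one commuting with `D0` and different from it can be diagonalised
by a matrix commuting with `D0`. -/
theorem exists_diag (h2 : (2 : F) ≠ 0) {X : Matrix (Fin 3) (Fin 3) F}
    (hX : X * D0 F = D0 F * X) (hXX : X * X = 1) (hd : X.det = 1) (h1 : X ≠ 1) (h0 : X ≠ D0 F) :
    ∃ B : Matrix (Fin 3) (Fin 3) F, B.det ≠ 0 ∧ D0 F * B = B * D0 F ∧ X * B = B * D1 F := by
  obtain ⟨h01, h02, h10, h20⟩ := block h2 hX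
  set x := X 0 0 with hx
  set a := X 1 1 with ha
  set b := X 1 2 with hb
  set c := X 2 1 with hc
  set d := X 2 2 with hd'
  have e00 := congrFun (congrFun hXX 0) 0
  have e11 := congrFun (congrFun hXX 1) 1
  have e12 := congrFun (congrFun hXX 1) 2
  have e21 := congrFun (congrFun hXX 2) 1
  have e22 := congrFun (congrFun hXX 2) 2
  simp only [Matrix.mul_apply, Fin.sum_univ_three] at e00 e11 e12 e21 e22
  rw [← hx, h01, h02, h10, h20] at e00
  rw [h10, ← ha, ← hb, ← hc] at e11
  rw [h10, ← ha, ← hb, ← hd'] at e12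
  rw [h20, ← ha, ← hc, ← hd'] at e21
  rw [h20, ← hc, ← hb, ← hd'] at e22
  simp only [zero_mul, mul_zero, add_zero, zero_add, Matrix.one_apply_eq, Matrix.one_apply,
    Fin.reduceEq, if_false] at e00 e11 e12 e21 e22
  rw [Matrix.det_fin_three, ← hx, h01, h02, h10, h20, ← ha, ← hb, ← hc, ← hd'] at hd
  have hXe : X = !![x, 0, 0; 0, a, b; 0, c, d] := by
    ext i j
    fin_cases i <;> fin_cases j <;> simp [h01, h02, h10, h20, hx, ha, hb, hc, hd']
  have hsum : a + d = 0 := by
    by_contra hne
    have hb0 : b = 0 := by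
      have : b * (a + d) = 0 := by linear_combination e12
      exact (mul_eq_zero.1 this).resolve_right hne
    have hc0 : c = 0 := by
      have : c * (a + d) = 0 := by linear_combination e21
      exact (mul_eq_zero.1 this).resolve_right hne
    have had : a = d := by
      have : (a - d) * (a + d) = 0 := by linear_combination e11 - e22
      exact sub_eq_zero.1 ((mul_eq_zero.1 this).resolve_right hne)
    have ha1 : (a - 1) * (a + 1) = 0 := by rw [hb0] at e11; linear_combination e11
    have hx1 : x = 1 := by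
      rw [hb0, ← had] at hd
      rw [hb0] at e11
      linear_combination hd - x * e11
    rcases mul_eq_zero.1 ha1 with h | h
    · apply h1
      have ha1 : a = 1 := by linear_combination h
      rw [hXe, hx1, hb0, hc0, ← had, ha1]
      ext i j
      fin_cases i <;> fin_cases j <;> simp
    · apply h0
      have ha1 : a = -1 := by linear_combination h
      rw [hXe, hx1, hb0, hc0, ← had, ha1]
      rfl
  have hda : d = -a := by linear_combination hsum
  have hx1 : x = -1 := by
    rw [hda] at hd
    linear_combination -hd - x * e11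
  rw [hXe, hx1, hda]
  by_cases hc0 : c = 0
  · rw [hc0] at e11 ⊢
    by_cases hb0 : b = 0
    · rw [hb0]
      have ha1 : (a - 1) * (a + 1) = 0 := by rw [hb0] at e11; linear_combination e11
      rcases mul_eq_zero.1 ha1 with h | h
      · have ha1 : a = 1 := by linear_combination h
        rw [ha1]
        refine ⟨1, by simp, by rw [mul_one, one_mul], ?_⟩
        rw [mul_one, one_mul]
        rfl
      · have ha1 : a = -1 := by linear_combination h
        rw [ha1, neg_neg]
        refine ⟨!![1, 0, 0; 0, 0, 1; 0, 1, 0], ?_, ?_, ?_⟩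
        · rw [Matrix.det_fin_three]; simp
        · ext i j
          fin_cases i <;> fin_cases j <;> simp [D0, Matrix.mul_apply, Fin.sum_univ_three]
        · ext i j
          fin_cases i <;> fin_cases j <;> simp [D1, Matrix.mul_apply, Fin.sum_univ_three]
    · refine ⟨!![1, 0, 0; 0, b, b; 0, 1 - a, -1 - a], ?_, ?_, ?_⟩
      · rw [Matrix.det_fin_three]
        simp only [Matrix.of_apply, Matrix.cons_val', Matrix.cons_val_zero, Matrix.cons_val_one,
          Matrix.cons_val, Matrix.cons_val_fin_one]
        intro h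
        have : (2 : F) * b = 0 := by linear_combination -h
        rcases mul_eq_zero.1 this with h | h
        · exact h2 h
        · exact hb0 h
      · ext i j
        fin_cases i <;> fin_cases j <;> simp [D0, Matrix.mul_apply, Fin.sum_univ_three]
      · ext i j
        fin_cases i <;> fin_cases j <;> simp [D1, Matrix.mul_apply, Fin.sum_univ_three] <;>
          first | ring1 | linear_combination e11 | linear_combination (-1 : F) * e11
  · refine ⟨!![1, 0, 0; 0, 1 + a, a - 1; 0, c, c], ?_, ?_, ?_⟩
    · rw [Matrix.det_fin_three]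
      simp only [Matrix.of_apply, Matrix.cons_val', Matrix.cons_val_zero, Matrix.cons_val_one,
        Matrix.cons_val, Matrix.cons_val_fin_one]
      intro h
      have : (2 : F) * c = 0 := by linear_combination h
      rcases mul_eq_zero.1 this with h | h
      · exact h2 h
      · exact hc0 h
    · ext i j
      fin_cases i <;> fin_cases j <;> simp [D0, Matrix.mul_apply, Fin.sum_univ_three]
    · ext i j
      fin_cases i <;> fin_cases j <;> simp [D1, Matrix.mul_apply, Fin.sum_univ_three] <;>
        first | ring1 | linear_combination e11 | linear_combination (-1 : F) * e11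

/-- Commuting involutions of determinant one have a common frame. -/
theorem exists_frame (h2 : (2 : F) ≠ 0) {T U : Matrix (Fin 3) (Fin 3) F} (hT : T * T = 1)
    (hTd : T.det = 1) (hT1 : T ≠ 1) (hU : U * U = 1) (hUd : U.det = 1) (hU1 : U ≠ 1)
    (hTU : T ≠ U) (hc : T * U = U * T) :
    ∃ P : Matrix (Fin 3) (Fin 3) F, P.det ≠ 0 ∧ T * P = P * D0 F ∧ U * P = P * D1 F := by
  obtain ⟨P, hP, hTP⟩ := TwoFusion.PSL3Inv.exists_conj h2 hT hTd hT1
  change T * P = P * D0 F at hTP
  have hPu : IsUnit P.det := by rw [hP]; exact isUnit_one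
  have hPi : P⁻¹ * P = 1 := Matrix.nonsing_inv_mul P hPu
  have hPi' : P * P⁻¹ = 1 := Matrix.mul_nonsing_inv P hPu
  have hD : P⁻¹ * T * P = D0 F := by
    rw [mul_assoc, hTP, ← mul_assoc, hPi, one_mul]
  have hTe : T = P * D0 F * P⁻¹ := by
    rw [← hTP, mul_assoc, hPi', mul_one]
  have conj_mul : ∀ A B : Matrix (Fin 3) (Fin 3) F,
      (P⁻¹ * A * P) * (P⁻¹ * B * P) = P⁻¹ * (A * B) * P := by
    intro A B
    calc (P⁻¹ * A * P) * (P⁻¹ * B * P) = P⁻¹ * A * (P * P⁻¹) * B * P := by
          simp only [mul_assoc]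
      _ = P⁻¹ * (A * B) * P := by rw [hPi']; simp only [mul_assoc, mul_one, one_mul]
  have inj : ∀ A B : Matrix (Fin 3) (Fin 3) F, P⁻¹ * A * P = P⁻¹ * B * P → A = B := by
    intro A B h
    have h3 : P * (P⁻¹ * A * P) * P⁻¹ = P * (P⁻¹ * B * P) * P⁻¹ := by rw [h]
    have h4 : ∀ C : Matrix (Fin 3) (Fin 3) F, P * (P⁻¹ * C * P) * P⁻¹ = C := by
      intro C
      calc P * (P⁻¹ * C * P) * P⁻¹ = (P * P⁻¹) * C * (P * P⁻¹) := by simp only [mul_assoc]
        _ = C := by rw [hPi', one_mul, mul_one]
    rwa [h4, h4] at h3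
  obtain ⟨B, hB, hB0, hB1⟩ := exists_diag h2 (X := P⁻¹ * U * P)
    (by rw [← hD, conj_mul, conj_mul, hc])
    (by rw [conj_mul, hU, mul_one, hPi])
    (by rw [Matrix.det_mul, Matrix.det_mul, hUd, mul_one, ← Matrix.det_mul, hPi, Matrix.det_one])
    (by
      intro h
      apply hU1
      apply inj
      rw [h, mul_one, hPi])
    (by
      intro h
      apply hTU
      apply inj
      rw [h, hD])
  refine ⟨P * B, ?_, ?_, ?_⟩
  · rw [Matrix.det_mul, hP, one_mul]; exact hB
  · rw [← mul_assoc, hTP, mul_assoc, hB0, mul_assoc]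
  · have h3 : U * P = P * (P⁻¹ * U * P) := by
      rw [← mul_assoc, ← mul_assoc, hPi', one_mul]
    rw [← mul_assoc, h3, mul_assoc, hB1, mul_assoc]

end Cfsg.Agent.TypeLFive.LThreeFrame
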