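import Cfsg.Agent.TypeLFive.LThreeSLTwo
import Cfsg.Agent.FramePlus.SLThree
import Cfsg.Agent.LieClassical.SLGen

/-!
`Facts (PSL₃(q)) p`, `q` a power of the odd prime `p`.
-/

set_option autoImplicit false

open scoped MatrixGroups Matrix

namespace Cfsg.Agent.TypeLFive.LThreePSL

open Subgroup Cfsg.Agent.TypeLFive.LThreeDef Cfsg.Agent.TypeLFive.LThreeFrame
open Cfsg.Agent.FramePlus (S3 S3.ext' lo lo_val)

section block

variable {F : Type*} [Field F]

/-- `X ^ n` at `(0,0)` for a matrix with `X 1 0 = X 2 0 = 0`. -/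
theorem pow_zero_zero {X : Matrix (Fin 3) (Fin 3) F} (h10 : X 1 0 = 0) (h20 : X 2 0 = 0) (n : ℕ) :
    (X ^ n) 0 0 = (X 0 0) ^ n := by
  induction n with
  | zero => simp
  | succ n ih =>
    rw [pow_succ, Matrix.mul_apply, Fin.sum_univ_three, h10, h20, mul_zero, mul_zero, add_zero,
      add_zero, ih, pow_succ]

/-- Two matrices commuting with `D0`, one of them scalar on the plane, commute. -/
theorem comm_of_scalar (h2 : (2 : F) ≠ 0) {X Y : Matrix (Fin 3) (Fin 3) F}
    (hX : X * D0 F = D0 F * X) (hY : Y * D0 F = D0 F * Y) (h12 : X 1 2 = 0) (h21 : X 2 1 = 0)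
    (h11 : X 1 1 = X 2 2) : X * Y = Y * X := by
  obtain ⟨a1, a2, a3, a4⟩ := block h2 hX
  obtain ⟨b1, b2, b3, b4⟩ := block h2 hY
  ext i j
  fin_cases i <;> fin_cases j <;>
    simp [Matrix.mul_apply, Fin.sum_univ_three, a1, a2, a3, a4, b1, b2, b3, b4, h12, h21, h11,
      mul_comm]

theorem conj_of_eq {G : Type*} [Group G] {t g s : G} (h : t * g = g * s) :
    g⁻¹ * t * g⁻¹⁻¹ = s := by
  rw [inv_inv, mul_assoc, h, inv_mul_cancel_left]

end block

variable {F : Type*} [Field F]

/-- A matrix of determinant one as an element of `SL₃`. -/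
def mkS (P : Matrix (Fin 3) (Fin 3) F) (h : P.det = 1) : S3 F := ⟨P, h⟩

/-- The three diagonal involutions. -/
def t0 (F : Type*) [Field F] : S3 F := ⟨D0 F, D0_det⟩
def t1 (F : Type*) [Field F] : S3 F := ⟨D1 F, D1_det⟩
def t2 (F : Type*) [Field F] : S3 F := ⟨D2 F, D2_det⟩

theorem t0_mul_t1 : t0 F * t1 F = t2 F := Subtype.ext D0_mul_D1

theorem val_comm {x y : S3 F} (h : x * y = y * x) : x.1 * y.1 = y.1 * x.1 := congrArg Subtype.val h

theorem exists_conj_t0 (h2 : (2 : F) ≠ 0) {t : S3 F} (h1 : t ≠ 1) (ht : t * t = 1) :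
    ∃ g : S3 F, g * t * g⁻¹ = t0 F := by
  obtain ⟨P, hP, hTP⟩ := TwoFusion.PSL3Inv.exists_conj h2 (T := t.1) (congrArg Subtype.val ht) t.2
    (fun h => h1 (Subtype.ext h))
  have h3 : t * mkS P hP = mkS P hP * t0 F := Subtype.ext hTP
  exact ⟨(mkS P hP)⁻¹, conj_of_eq h3⟩

theorem exists_conj_pair (h2 : (2 : F) ≠ 0) {t u : S3 F} (h1 : t ≠ 1) (ht : t * t = 1)
    (hu1 : u ≠ 1) (hu : u * u = 1) (htu : t ≠ u) (hc : t * u = u * t) :
    ∃ g : S3 F, g * t * g⁻¹ = t0 F ∧ g * u * g⁻¹ = t1 F := by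
  obtain ⟨P, hP, hTP, hUP⟩ := exists_frame h2 (T := t.1) (U := u.1) (congrArg Subtype.val ht) t.2
    (fun h => h1 (Subtype.ext h)) (congrArg Subtype.val hu) u.2 (fun h => hu1 (Subtype.ext h))
    (fun h => htu (Subtype.ext h)) (congrArg Subtype.val hc)
  set D : Matrix (Fin 3) (Fin 3) F := Matrix.diagonal ![P.det⁻¹, 1, 1] with hD
  have hDd : D.det = P.det⁻¹ := by
    rw [hD, Matrix.det_diagonal, Fin.prod_univ_three]; simp
  have hc0 : D0 F * D = D * D0 F := by
    ext i j
    fin_cases i <;> fin_cases j <;> simp [hD, D0, Matrix.mul_apply, Fin.sum_univ_three]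
  have hc1 : D1 F * D = D * D1 F := by
    ext i j
    fin_cases i <;> fin_cases j <;> simp [hD, D1, Matrix.mul_apply, Fin.sum_univ_three]
  have hdet : (P * D).det = 1 := by rw [Matrix.det_mul, hDd, mul_inv_cancel₀ hP]
  refine ⟨(mkS (P * D) hdet)⁻¹, ?_, ?_⟩
  · have h3 : t * mkS (P * D) hdet = mkS (P * D) hdet * t0 F := by
      apply Subtype.ext
      change t.1 * (P * D) = P * D * D0 F
      rw [← mul_assoc, hTP, mul_assoc, hc0, mul_assoc]
    exact conj_of_eq h3
  · have h3 : u * mkS (P * D) hdet = mkS (P * D) hdet * t1 F := by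
      apply Subtype.ext
      change u.1 * (P * D) = P * D * D1 F
      rw [← mul_assoc, hUP, mul_assoc, hc1, mul_assoc]
    exact conj_of_eq h3

theorem lo_injective : Function.Injective (lo F) := by
  intro x y h
  have h1 : (lo F x).1 = (lo F y).1 := congrArg Subtype.val h
  rw [lo_val, lo_val] at h1
  apply Subtype.ext
  ext i j
  fin_cases i <;> fin_cases j
  · simpa using congrFun (congrFun h1 1) 1
  · simpa using congrFun (congrFun h1 1) 2
  · simpa using congrFun (congrFun h1 2) 1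
  · simpa using congrFun (congrFun h1 2) 2

theorem lo_comm (A : Matrix.SpecialLinearGroup (Fin 2) F) : lo F A * t0 F = t0 F * lo F A := by
  apply Subtype.ext
  change (lo F A).1 * D0 F = D0 F * (lo F A).1
  rw [lo_val]
  ext i j
  fin_cases i <;> fin_cases j <;> simp [D0, Matrix.mul_apply, Fin.sum_univ_three]

/-- Elements of the centraliser of `t0` with `(0,0)` entry one. -/
theorem mem_lo (h2 : (2 : F) ≠ 0) {x : S3 F} (hx : x * t0 F = t0 F * x) (h00 : x.1 0 0 = 1) :
    x ∈ (lo F).range := by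
  obtain ⟨h01, h02, h10, h20⟩ := block h2 (X := x.1) (congrArg Subtype.val hx)
  have hd := x.2
  rw [Matrix.det_fin_three, h00, h01, h02, h10, h20] at hd
  have hd2 : (!![x.1 1 1, x.1 1 2; x.1 2 1, x.1 2 2] : Matrix (Fin 2) (Fin 2) F).det = 1 := by
    rw [Matrix.det_fin_two_of]; linear_combination hd
  refine ⟨⟨!![x.1 1 1, x.1 1 2; x.1 2 1, x.1 2 2], hd2⟩, ?_⟩
  apply S3.ext'
  intro i j
  change (!![1, 0, 0; 0, x.1 1 1, x.1 1 2; 0, x.1 2 1, x.1 2 2] : Matrix (Fin 3) (Fin 3) F) i j = _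
  fin_cases i <;> fin_cases j <;> simp [h00, h01, h02, h10, h20]

theorem lo_zero_zero (A : Matrix.SpecialLinearGroup (Fin 2) F) : (lo F A).1 0 0 = 1 := by
  rw [lo_val]; simp

theorem inv_comm' {x y : S3 F} (h : x * y = y * x) : x⁻¹ * y = y * x⁻¹ := by
  rw [inv_mul_eq_iff_eq_mul, ← mul_assoc, h, mul_inv_cancel_right]

theorem lo_conj (h2 : (2 : F) ≠ 0) {g : S3 F} (hg : g * t0 F = t0 F * g) {x : S3 F}
    (hx : x ∈ (lo F).range) : g * x * g⁻¹ ∈ (lo F).range := by
  obtain ⟨A, rfl⟩ := hx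
  have hgi : g⁻¹ * t0 F = t0 F * g⁻¹ := inv_comm' hg
  have hc : g * lo F A * g⁻¹ * t0 F = t0 F * (g * lo F A * g⁻¹) := by
    calc g * lo F A * g⁻¹ * t0 F = g * lo F A * (g⁻¹ * t0 F) := by group
      _ = g * (lo F A * t0 F) * g⁻¹ := by rw [hgi]; group
      _ = (g * t0 F) * lo F A * g⁻¹ := by rw [lo_comm]; group
      _ = _ := by rw [hg]; group
  apply mem_lo h2 hc
  obtain ⟨h01, h02, h10, h20⟩ := block h2 (X := g.1) (congrArg Subtype.val hg)
  obtain ⟨i01, i02, i10, i20⟩ := block h2 (X := (g⁻¹).1) (congrArg Subtype.val hgi)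
  have h1 : (g * g⁻¹).1 0 0 = 1 := by rw [mul_inv_cancel]; rfl
  change (g.1 * (g⁻¹).1) 0 0 = 1 at h1
  rw [Matrix.mul_apply, Fin.sum_univ_three, h01, h02, zero_mul, zero_mul, add_zero, add_zero] at h1
  change (g.1 * (lo F A).1 * (g⁻¹).1) 0 0 = 1
  rw [Matrix.mul_apply, Fin.sum_univ_three, i10, i20, mul_zero, mul_zero, add_zero, add_zero,
    Matrix.mul_apply, Fin.sum_univ_three, h01, h02, lo_zero_zero, zero_mul, zero_mul, add_zero,
    add_zero, mul_one, h1]

theorem transvection_val {i j : Fin 3} (h : i ≠ j) (c : F) :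
    (Matrix.SpecialLinearGroup.transvection h c : S3 F).1 = Matrix.transvection i j c := rfl

/-- The Facts for `SL₃`. -/
theorem facts_sl [Fintype F] (hF : Odd (Fintype.card F)) (p : ℕ) [CharP F p] :
    Facts (S3 F) p := by
  have h2 : (2 : F) ≠ 0 := TwoFusion.QuatCoverSL.two_ne_zero_of_odd hF
  have hp0 : p ≠ 0 := by
    rintro rfl
    have : CharZero F := CharP.charP_to_charZero F
    exact (not_finite F)
  have hpp : p.Prime := (CharP.char_is_prime_or_zero F p).resolve_right hp0
  have : Fact p.Prime := ⟨hpp⟩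
  have hone : ∀ x : F, x ^ p = 1 → x = 1 := by
    intro x hx
    have h3 : (x - 1) ^ p = 0 := by rw [sub_pow_char, hx, one_pow, sub_self]
    exact sub_eq_zero.1 (pow_eq_zero_iff hp0 |>.1 h3)
  let e : (lo F).range ≃* Matrix.SpecialLinearGroup (Fin 2) F :=
    (MonoidHom.ofInjective lo_injective).symm
  obtain ⟨-, hcent, hodd⟩ := LThreeSLTwo.std (H := S3 F) (p := p) hF (t₀ := t0 F) (S := (lo F).range) e
    (by rintro _ ⟨A, rfl⟩; exact lo_comm A)
    (fun g hg x hx => lo_conj h2 hg hx)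
    (by
      intro x hx hxp
      apply mem_lo h2 hx
      obtain ⟨h01, h02, h10, h20⟩ := block h2 (X := x.1) (congrArg Subtype.val hx)
      apply hone
      rw [← pow_zero_zero h10 h20]
      have : (x ^ p).1 = x.1 ^ p := Matrix.SpecialLinearGroup.coe_pow x p
      rw [← this, hxp]
      rfl)
    (by
      intro n hn hns g hg
      have k1 := congrArg Subtype.val (hns _ ⟨Cfsg.Agent.LieClassical.SLTwoUnipotent.u 1, rfl⟩)
      have k2 := congrArg Subtype.val (hns _ ⟨Cfsg.Agent.LieClassical.SLTwoUnipotent.l 1, rfl⟩)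
      change n.1 * (lo F _).1 = (lo F _).1 * n.1 at k1 k2
      rw [lo_val, Cfsg.Agent.LieClassical.SLTwoUnipotent.coe_u] at k1
      rw [lo_val, Cfsg.Agent.LieClassical.SLTwoUnipotent.coe_l] at k2
      have a1 := congrFun (congrFun k1 1) 2
      have a2 := congrFun (congrFun k1 1) 1
      have a3 := congrFun (congrFun k2 1) 1
      simp [Matrix.mul_apply, Fin.sum_univ_three] at a1 a2 a3
      apply Subtype.ext
      exact comm_of_scalar h2 (congrArg Subtype.val hn) (congrArg Subtype.val hg) a3 a2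
        (by linear_combination a1))
  refine LThreeQuot.facts_std (t0 F) (t1 F) (fun t h1 h => exists_conj_t0 h2 h1 h)
    (fun t u h1 h3 h4 h5 h6 h7 => exists_conj_pair h2 h1 h3 h4 h5 h6 h7) hcent hodd ?_
  -- generation
  rw [t0_mul_t1, eq_top_iff]
  intro x _
  refine LieClassical.SLGen.transvection_induction
    (fun A => A ∈ Y p (t0 F) ⊔ Y p (t1 F) ⊔ Y p (t2 F)) ?_ (fun _ _ => mul_mem) x
  intro i j hij c
  have hpow : (Matrix.SpecialLinearGroup.transvection hij c : S3 F) ^ p = 1 := by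
    have h3 : ∀ n : ℕ, (Matrix.SpecialLinearGroup.transvection hij c : S3 F) ^ n =
        Matrix.SpecialLinearGroup.transvection hij (n * c) := by
      intro n
      induction n with
      | zero =>
        rw [pow_zero, Nat.cast_zero, zero_mul]
        apply Subtype.ext
        rw [transvection_val, Matrix.transvection_zero]
        rfl
      | succ n ih =>
        rw [pow_succ, ih]
        apply Subtype.ext
        change Matrix.transvection i j _ * Matrix.transvection i j c = Matrix.transvection i j _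
        rw [Matrix.transvection_mul_transvection_same _ _ hij]
        congr 1
        push_cast
        ring
    rw [h3, CharP.cast_eq_zero, zero_mul]
    apply Subtype.ext
    rw [transvection_val, Matrix.transvection_zero]
    rfl
  have key : ∀ t : S3 F, (Matrix.transvection i j c) * t.1 = t.1 * Matrix.transvection i j c →
      (Matrix.SpecialLinearGroup.transvection hij c : S3 F) ∈ Y p t := fun t ht =>
    mem_Y (Subtype.ext ht) hpow
  have m0 : Y p (t0 F) ≤ Y p (t0 F) ⊔ Y p (t1 F) ⊔ Y p (t2 F) := le_sup_left.trans le_sup_left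
  have m1 : Y p (t1 F) ≤ Y p (t0 F) ⊔ Y p (t1 F) ⊔ Y p (t2 F) := le_sup_right.trans le_sup_left
  have m2 : Y p (t2 F) ≤ Y p (t0 F) ⊔ Y p (t1 F) ⊔ Y p (t2 F) := le_sup_right
  fin_cases i <;> fin_cases j
  · exact absurd rfl hij
  · refine m2 (key _ ?_)
    ext a b
    fin_cases a <;> fin_cases b <;>
      simp [t2, D2, Matrix.transvection, Matrix.mul_apply, Fin.sum_univ_three, Matrix.single]
  · refine m1 (key _ ?_)
    ext a b
    fin_cases a <;> fin_cases b <;>
      simp [t1, D1, Matrix.transvection, Matrix.mul_apply, Fin.sum_univ_three, Matrix.single]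
  · refine m2 (key _ ?_)
    ext a b
    fin_cases a <;> fin_cases b <;>
      simp [t2, D2, Matrix.transvection, Matrix.mul_apply, Fin.sum_univ_three, Matrix.single]
  · exact absurd rfl hij
  · refine m0 (key _ ?_)
    ext a b
    fin_cases a <;> fin_cases b <;>
      simp [t0, D0, Matrix.transvection, Matrix.mul_apply, Fin.sum_univ_three, Matrix.single]
  · refine m1 (key _ ?_)
    ext a b
    fin_cases a <;> fin_cases b <;>
      simp [t1, D1, Matrix.transvection, Matrix.mul_apply, Fin.sum_univ_three, Matrix.single]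
  · refine m0 (key _ ?_)
    ext a b
    fin_cases a <;> fin_cases b <;>
      simp [t0, D0, Matrix.transvection, Matrix.mul_apply, Fin.sum_univ_three, Matrix.single]
  · exact absurd rfl hij

/-- The Facts for `PSL₃`. -/
theorem facts_psl [Fintype F] (hF : Odd (Fintype.card F)) (p : ℕ) [CharP F p] :
    Facts (Matrix.ProjectiveSpecialLinearGroup (Fin 3) F) p := by
  have hp0 : p ≠ 0 := by
    rintro rfl
    have : CharZero F := CharP.charP_to_charZero F
    exact (not_finite F)
  have hpp : p.Prime := (CharP.char_is_prime_or_zero F p).resolve_right hp0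
  refine LThreeQuot.facts_quot hpp (fun z hz => TwoFusion.PSL3Inv.pow_three_of_mem_center hz) ?_
    (facts_sl hF p)
  rintro rfl
  rw [eq_bot_iff]
  intro z hz
  obtain ⟨r, hr, hrz⟩ := Matrix.SpecialLinearGroup.mem_center_iff.1 hz
  rw [Fintype.card_fin] at hr
  have h3 : (3 : F) = 0 := by exact_mod_cast CharP.cast_eq_zero F 3
  have h4 : (r - 1) ^ 3 = 0 := by linear_combination hr - (r ^ 2 - r) * h3
  have h5 : r = 1 := sub_eq_zero.1 (pow_eq_zero_iff three_ne_zero |>.1 h4)
  rw [Subgroup.mem_bot]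
  apply Subtype.ext
  rw [← hrz, h5, map_one]
  rfl

end Cfsg.Agent.TypeLFive.LThreePSL
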