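import Cfsg.Agent.TypeLFive.LThreePSL
import Cfsg.Agent.Phan.Ext
import Cfsg.Agent.S0281

/-!
`Facts (PSU₃(q)) p`, `q` a power of the odd prime `p`.
-/

set_option autoImplicit false

open scoped MatrixGroups Matrix

namespace Cfsg.Agent.TypeLFive.LThreePSU

open Matrix Cfsg
open Cfsg.Agent.LieClassical.HermBasic
open Cfsg.Agent.TypeLFive.LThreeDef Cfsg.Agent.TypeLFive.LThreeFrame
open Cfsg.Agent.Phan (mat mat_mul mat_one mat_inj mat_det mat_isom mk mat_mk ext mat_ext extM inc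
  inc_apply ext_injective)

variable {F : Type*} [Field F] {q : ℕ}

/-- The three embeddings of two points in three points. -/
def e0 : Fin 2 → Fin 3 := ![1, 2]
def e1 : Fin 2 → Fin 3 := ![0, 2]
def e2 : Fin 2 → Fin 3 := ![0, 1]

theorem he0 : Function.Injective e0 := by decide
theorem he1 : Function.Injective e1 := by decide
theorem he2 : Function.Injective e2 := by decide

theorem extM_e0 (A : Matrix (Fin 2) (Fin 2) F) :
    extM e0 A = !![1, 0, 0; 0, A 0 0, A 0 1; 0, A 1 0, A 1 1] := by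
  ext i j
  fin_cases i <;> fin_cases j <;>
    simp [extM, inc_apply, e0, Matrix.mul_apply, Fin.sum_univ_two, Matrix.one_apply]

theorem extM_e1 (A : Matrix (Fin 2) (Fin 2) F) :
    extM e1 A = !![A 0 0, 0, A 0 1; 0, 1, 0; A 1 0, 0, A 1 1] := by
  ext i j
  fin_cases i <;> fin_cases j <;>
    simp [extM, inc_apply, e1, Matrix.mul_apply, Fin.sum_univ_two, Matrix.one_apply]

theorem extM_e2 (A : Matrix (Fin 2) (Fin 2) F) :
    extM e2 A = !![A 0 0, A 0 1, 0; A 1 0, A 1 1, 0; 0, 0, 1] := by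
  ext i j
  fin_cases i <;> fin_cases j <;>
    simp [extM, inc_apply, e2, Matrix.mul_apply, Fin.sum_univ_two, Matrix.one_apply]

variable [Fintype F]

/-- Orthogonality relations from the Gram matrix. -/
theorem gram (hF : Fintype.card F = q ^ 2) (P : Matrix (Fin 3) (Fin 3) F) (i j : Fin 3) :
    (Pᵀ * P.map (LieClassical.GUOrder.frob hF)) i j = hermForm 3 F q (P.col i) (P.col j) := by
  rw [Matrix.mul_apply]
  rfl

theorem frob_D0 (hF : Fintype.card F = q ^ 2) :
    (D0 F).map (LieClassical.GUOrder.frob hF) = D0 F := by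
  ext i j
  fin_cases i <;> fin_cases j <;> simp [D0]

theorem frob_D1 (hF : Fintype.card F = q ^ 2) :
    (D1 F).map (LieClassical.GUOrder.frob hF) = D1 F := by
  ext i j
  fin_cases i <;> fin_cases j <;> simp [D1]

omit [Fintype F] in
theorem trans_D0 : (D0 F)ᵀ = D0 F := by
  ext i j
  fin_cases i <;> fin_cases j <;> simp [D0]

omit [Fintype F] in
theorem trans_D1 : (D1 F)ᵀ = D1 F := by
  ext i j
  fin_cases i <;> fin_cases j <;> simp [D1]

theorem isom_iff (hF : Fintype.card F = q ^ 2) (M : Matrix (Fin 3) (Fin 3) F) :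
    (∀ u v : Fin 3 → F, hermForm 3 F q (M *ᵥ u) (M *ᵥ v) = hermForm 3 F q u v) ↔
      Mᵀ * M.map (LieClassical.GUOrder.frob hF) = 1 :=
  LieClassical.GUOrder.mul_map_eq_one_iff hF M

theorem map_mul' (hF : Fintype.card F = q ^ 2) (M N : Matrix (Fin 3) (Fin 3) F) :
    (M * N).map (LieClassical.GUOrder.frob hF) =
      M.map (LieClassical.GUOrder.frob hF) * N.map (LieClassical.GUOrder.frob hF) :=
  Matrix.map_mul

/-- The diagonal involutions. -/
def t0 (hF : Fintype.card F = q ^ 2) : SU 3 F q := mk (D0 F) D0_det (by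
  rw [isom_iff hF, frob_D0, trans_D0, D0_sq])

def t1 (hF : Fintype.card F = q ^ 2) : SU 3 F q := mk (D1 F) D1_det (by
  rw [isom_iff hF, frob_D1, trans_D1, D1_sq])

theorem mat_t0 (hF : Fintype.card F = q ^ 2) : mat (t0 hF) = D0 F := rfl
theorem mat_t1 (hF : Fintype.card F = q ^ 2) : mat (t1 hF) = D1 F := rfl

theorem mat_t0_mul_t1 (hF : Fintype.card F = q ^ 2) : mat (t0 hF * t1 hF) = D2 F := D0_mul_D1

/-- The Gram matrix of an eigenbasis commutes with the diagonal form of an isometry. -/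
theorem gram_comm (hF : Fintype.card F = q ^ 2) {T P D : Matrix (Fin 3) (Fin 3) F}
    (hD : D.map (LieClassical.GUOrder.frob hF) = D) (hDt : Dᵀ = D) (hDD : D * D = 1)
    (hT : Tᵀ * T.map (LieClassical.GUOrder.frob hF) = 1) (hTP : T * P = P * D) :
    (Pᵀ * P.map (LieClassical.GUOrder.frob hF)) * D =
      D * (Pᵀ * P.map (LieClassical.GUOrder.frob hF)) := by
  have h1 : (T * P)ᵀ * (T * P).map (LieClassical.GUOrder.frob hF) =
      Pᵀ * P.map (LieClassical.GUOrder.frob hF) := by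
    rw [Matrix.transpose_mul, map_mul' hF]
    calc Pᵀ * Tᵀ * (T.map (LieClassical.GUOrder.frob hF) * P.map (LieClassical.GUOrder.frob hF))
        = Pᵀ * (Tᵀ * T.map (LieClassical.GUOrder.frob hF)) * P.map (LieClassical.GUOrder.frob hF) := by
          simp only [Matrix.mul_assoc]
      _ = _ := by rw [hT, Matrix.mul_one]
  have h2 : (P * D)ᵀ * (P * D).map (LieClassical.GUOrder.frob hF) =
      D * (Pᵀ * P.map (LieClassical.GUOrder.frob hF)) * D := by
    rw [Matrix.transpose_mul, map_mul' hF, hD, hDt]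
    simp only [Matrix.mul_assoc]
  rw [hTP, h2] at h1
  calc (Pᵀ * P.map (LieClassical.GUOrder.frob hF)) * D
      = (D * (Pᵀ * P.map (LieClassical.GUOrder.frob hF)) * D) * D := by rw [h1]
    _ = D * (Pᵀ * P.map (LieClassical.GUOrder.frob hF)) * (D * D) := by
        simp only [Matrix.mul_assoc]
    _ = _ := by rw [hDD, Matrix.mul_one]

omit [Fintype F] in
/-- A matrix commuting with `D0` and `D1` is diagonal. -/
theorem diag_of_comm (h2 : (2 : F) ≠ 0) {X : Matrix (Fin 3) (Fin 3) F}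
    (h0 : X * D0 F = D0 F * X) (h1 : X * D1 F = D1 F * X) :
    X = Matrix.diagonal ![X 0 0, X 1 1, X 2 2] := by
  obtain ⟨h01, h02, h10, h20⟩ := block h2 h0
  have hz : ∀ x : F, -x = x → x = 0 := by
    intro x hx
    have : (2 : F) * x = 0 := by linear_combination -hx
    exact (mul_eq_zero.1 this).resolve_left h2
  have h12 : X 1 2 = 0 := by
    have := congrFun (congrFun h1 1) 2
    simp only [Matrix.mul_apply, Fin.sum_univ_three] at this
    apply hz
    simpa [D1] using this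
  have h21 : X 2 1 = 0 := by
    have := congrFun (congrFun h1 2) 1
    simp only [Matrix.mul_apply, Fin.sum_univ_three] at this
    apply hz
    simpa [D1] using this.symm
  ext i j
  fin_cases i <;> fin_cases j <;> simp [h01, h02, h10, h20, h12, h21]

/-- The Gram matrix has non-zero determinant. -/
theorem gram_det (hF : Fintype.card F = q ^ 2) {P : Matrix (Fin 3) (Fin 3) F} (hP : P.det ≠ 0) :
    (Pᵀ * P.map (LieClassical.GUOrder.frob hF)).det ≠ 0 := by
  have h4 : (P.map (LieClassical.GUOrder.frob hF)).det = LieClassical.GUOrder.frob hF P.det := by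
    rw [RingHom.map_det]; rfl
  rw [Matrix.det_mul, Matrix.det_transpose, h4]
  exact mul_ne_zero hP ((map_ne_zero _).2 hP)

theorem gram_self_pow (hF : Fintype.card F = q ^ 2) (P : Matrix (Fin 3) (Fin 3) F) (i : Fin 3) :
    ((Pᵀ * P.map (LieClassical.GUOrder.frob hF)) i i) ^ q =
      (Pᵀ * P.map (LieClassical.GUOrder.frob hF)) i i := by
  rw [gram]
  exact herm_self_pow hF _

/-- Commuting involutions of `SU₃` are conjugate to the diagonal ones. -/
theorem exists_conj_pair (hF : Fintype.card F = q ^ 2) (h2 : (2 : F) ≠ 0) {t u : SU 3 F q}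
    (h1 : t ≠ 1) (ht : t * t = 1) (hu1 : u ≠ 1) (hu : u * u = 1) (htu : t ≠ u)
    (hc : t * u = u * t) :
    ∃ g : SU 3 F q, g * t * g⁻¹ = t0 hF ∧ g * u * g⁻¹ = t1 hF := by
  obtain ⟨P, hP, hTP, hUP⟩ := exists_frame h2 (T := mat t) (U := mat u)
    (by rw [← mat_mul, ht]; rfl) (mat_det t) (fun h => h1 (mat_inj h))
    (by rw [← mat_mul, hu]; rfl) (mat_det u) (fun h => hu1 (mat_inj h))
    (fun h => htu (mat_inj h)) (by rw [← mat_mul, ← mat_mul, hc])
  have g0 := gram_comm hF (frob_D0 hF) trans_D0 D0_sq ((isom_iff hF _).1 (mat_isom t)) hTP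
  have g1 := gram_comm hF (frob_D1 hF) trans_D1 D1_sq ((isom_iff hF _).1 (mat_isom u)) hUP
  have hG := diag_of_comm h2 g0 g1
  have hGd := gram_det hF hP
  set G := Pᵀ * P.map (LieClassical.GUOrder.frob hF) with hGdef
  have hself : ∀ i, (G i i) ^ q = G i i := gram_self_pow hF P
  rw [hG, Matrix.det_diagonal, Fin.prod_univ_three] at hGd
  simp only [Matrix.cons_val_zero, Matrix.cons_val_one, Matrix.cons_val] at hGd
  have n0 : G 0 0 ≠ 0 := fun h => hGd (by rw [h]; ring)
  have n1 : G 1 1 ≠ 0 := fun h => hGd (by rw [h]; ring)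
  have n2 : G 2 2 ≠ 0 := fun h => hGd (by rw [h]; ring)
  have hex : ∀ i, G i i ≠ 0 → ∃ c : F, c * c ^ q = (G i i)⁻¹ := fun i hi =>
    exists_norm_eq hF (by rw [inv_pow, hself])
  obtain ⟨c0, hc0⟩ := hex 0 n0
  obtain ⟨c1, hc1⟩ := hex 1 n1
  obtain ⟨c2, hc2⟩ := hex 2 n2
  -- a diagonal correction gives an isometry
  have key : ∀ a b c : F, a * a ^ q = (G 0 0)⁻¹ → b * b ^ q = (G 1 1)⁻¹ → c * c ^ q = (G 2 2)⁻¹ →
      (P * Matrix.diagonal ![a, b, c])ᵀ *
        (P * Matrix.diagonal ![a, b, c]).map (LieClassical.GUOrder.frob hF) = 1 := by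
    intro a b c ha hb hc
    rw [Matrix.transpose_mul, map_mul' hF, Matrix.diagonal_transpose]
    have h3 : (Matrix.diagonal ![a, b, c] : Matrix (Fin 3) (Fin 3) F).map
        (LieClassical.GUOrder.frob hF) = Matrix.diagonal ![a ^ q, b ^ q, c ^ q] := by
      rw [Matrix.diagonal_map (map_zero _)]
      congr 1
      funext i
      fin_cases i <;> rfl
    rw [h3]
    calc Matrix.diagonal ![a, b, c] * Pᵀ *
          (P.map (LieClassical.GUOrder.frob hF) * Matrix.diagonal ![a ^ q, b ^ q, c ^ q])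
        = Matrix.diagonal ![a, b, c] * G * Matrix.diagonal ![a ^ q, b ^ q, c ^ q] := by
          rw [hGdef]; simp only [Matrix.mul_assoc]
      _ = 1 := by
          rw [hG, Matrix.diagonal_mul_diagonal, Matrix.diagonal_mul_diagonal, ← Matrix.diagonal_one]
          congr 1
          funext i
          fin_cases i
          · simp only [Fin.zero_eta, Matrix.cons_val_zero]
            rw [mul_right_comm, ha, inv_mul_cancel₀ n0]
          · simp only [Fin.mk_one, Matrix.cons_val_one, Matrix.cons_val_zero]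
            rw [mul_right_comm, hb, inv_mul_cancel₀ n1]
          · simp only [Fin.reduceFinMk, Matrix.cons_val]
            rw [mul_right_comm, hc, inv_mul_cancel₀ n2]
  have k1 := key c0 c1 c2 hc0 hc1 hc2
  set d := (P * Matrix.diagonal ![c0, c1, c2]).det with hd
  have hdn : d * d ^ q = 1 := by
    have := LieClassical.GUOrder.det_mul_frob_det hF _ ((isom_iff hF _).2 k1)
    rw [← hd, pow_succ'] at this
    exact this
  have hd0 : d ≠ 0 := by
    intro h
    rw [h, zero_mul] at hdn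
    exact zero_ne_one hdn
  have k2 := key (c0 * d⁻¹) c1 c2 (by
    have h4 : (c0 * d⁻¹) * (c0 * d⁻¹) ^ q = (c0 * c0 ^ q) * (d * d ^ q)⁻¹ := by
      rw [mul_pow, inv_pow, mul_inv]; ring
    rw [h4, hdn, inv_one, mul_one, hc0]) hc1 hc2
  have hdet : (P * Matrix.diagonal ![c0 * d⁻¹, c1, c2]).det = 1 := by
    rw [Matrix.det_mul, Matrix.det_diagonal, Fin.prod_univ_three] at hd
    rw [Matrix.det_mul, Matrix.det_diagonal, Fin.prod_univ_three]
    simp only [Matrix.cons_val_zero, Matrix.cons_val_one, Matrix.cons_val] at hd ⊢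
    calc P.det * (c0 * d⁻¹ * c1 * c2) = (P.det * (c0 * c1 * c2)) * d⁻¹ := by ring
      _ = 1 := by rw [← hd, mul_inv_cancel₀ hd0]
  set C : Matrix (Fin 3) (Fin 3) F := Matrix.diagonal ![c0 * d⁻¹, c1, c2] with hC
  have comm0 : D0 F * C = C * D0 F := by
    ext i j
    fin_cases i <;> fin_cases j <;> simp [hC, D0, Matrix.mul_apply, Fin.sum_univ_three]
  have comm1 : D1 F * C = C * D1 F := by
    ext i j
    fin_cases i <;> fin_cases j <;> simp [hC, D1, Matrix.mul_apply, Fin.sum_univ_three]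
  refine ⟨(mk (P * C) hdet ((isom_iff hF _).2 k2))⁻¹, ?_, ?_⟩
  · apply LThreePSL.conj_of_eq
    apply mat_inj
    rw [mat_mul, mat_mul, mat_mk, mat_t0, ← Matrix.mul_assoc, hTP, Matrix.mul_assoc, comm0,
      Matrix.mul_assoc]
  · apply LThreePSL.conj_of_eq
    apply mat_inj
    rw [mat_mul, mat_mul, mat_mk, mat_t1, ← Matrix.mul_assoc, hUP, Matrix.mul_assoc, comm1,
      Matrix.mul_assoc]

omit [Fintype F] in
/-- An involution of determinant one of the form `diag(1, A)` is `D0`. -/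
theorem eq_D0 (h2 : (2 : F) ≠ 0) {X : Matrix (Fin 3) (Fin 3) F} (h00 : X 0 0 = 1)
    (h01 : X 0 1 = 0) (h02 : X 0 2 = 0) (h10 : X 1 0 = 0) (h20 : X 2 0 = 0) (hXX : X * X = 1)
    (hd : X.det = 1) (h1 : X ≠ 1) : X = D0 F := by
  have e11 := congrFun (congrFun hXX 1) 1
  have e12 := congrFun (congrFun hXX 1) 2
  have e21 := congrFun (congrFun hXX 2) 1
  simp only [Matrix.mul_apply, Fin.sum_univ_three, h10, h20, zero_mul, zero_add,
    Matrix.one_apply_eq, Matrix.one_apply, Fin.reduceEq, if_false] at e11 e12 e21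
  rw [Matrix.det_fin_three, h00, h01, h02, h10, h20] at hd
  have hs : (X 1 1 + X 2 2) * X 1 1 = 2 := by linear_combination e11 + hd
  have hs0 : X 1 1 + X 2 2 ≠ 0 := by
    intro h
    rw [h, zero_mul] at hs
    exact h2 hs.symm
  have h12 : X 1 2 = 0 := by
    have : X 1 2 * (X 1 1 + X 2 2) = 0 := by linear_combination e12
    exact (mul_eq_zero.1 this).resolve_right hs0
  have h21 : X 2 1 = 0 := by
    have : X 2 1 * (X 1 1 + X 2 2) = 0 := by linear_combination e21
    exact (mul_eq_zero.1 this).resolve_right hs0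
  have h11 : X 1 1 * X 1 1 = 1 := by rw [h12] at e11; linear_combination e11
  have h22 : X 1 1 * X 2 2 = 1 := by rw [h12] at hd; linear_combination hd
  have hfac : (X 1 1 - 1) * (X 1 1 + 1) = 0 := by linear_combination h11
  rcases mul_eq_zero.1 hfac with h | h
  · exfalso
    have ha : X 1 1 = 1 := by linear_combination h
    rw [ha, one_mul] at h22
    apply h1
    ext i j
    fin_cases i <;> fin_cases j <;> simp [h00, h01, h02, h10, h20, h12, h21, ha, h22]
  · have ha : X 1 1 = -1 := by linear_combination h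
    have hb : X 2 2 = -1 := by rw [ha] at h22; linear_combination -h22
    ext i j
    fin_cases i <;> fin_cases j <;> simp [D0, h00, h01, h02, h10, h20, h12, h21, ha, hb]

/-- An element of `SU₃` fixing the first basis vector is block diagonal. -/
theorem block_of_fix (hF : Fintype.card F = q ^ 2) {x : SU 3 F q}
    (h : mat x *ᵥ (Pi.single 0 1) = Pi.single 0 1) :
    mat x 0 0 = 1 ∧ mat x 0 1 = 0 ∧ mat x 0 2 = 0 ∧ mat x 1 0 = 0 ∧ mat x 2 0 = 0 := by
  have h1 := LieClassical.GUOrder.eq_ext1_of_fix hF (mat x) (mat_isom x) h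
  refine ⟨?_, ?_, ?_, ?_, ?_⟩
  · rw [h1]; rfl
  · rw [h1]; rfl
  · rw [h1]; rfl
  · rw [h1]; rfl
  · rw [h1]; rfl

/-- The stabiliser of the first basis vector is the standard `SU₂`. -/
theorem mem_ext (hF : Fintype.card F = q ^ 2) {x : SU 3 F q}
    (h : mat x *ᵥ (Pi.single 0 1) = Pi.single 0 1) : x ∈ (ext hF e0 he0).range := by
  have h1 := LieClassical.GUOrder.eq_ext1_of_fix hF (mat x) (mat_isom x) h
  set A := (mat x).submatrix Fin.succ Fin.succ with hA
  have hAd : A.det = 1 := by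
    have := mat_det x
    rw [h1, LieClassical.GUOrder.det_ext1, one_mul] at this
    exact this
  have hAi := LieClassical.GUOrder.submatrix_isom hF A (by
    intro u v
    have := mat_isom x u v
    rwa [h1] at this)
  refine ⟨mk A hAd hAi, mat_inj ?_⟩
  rw [mat_ext, mat_mk, extM_e0, h1]
  ext i j
  fin_cases i <;> fin_cases j <;> rfl

/-- Every involution of `SU₃` is conjugate to `diag(1,-1,-1)`. -/
theorem exists_conj_t0 (hF : Fintype.card F = q ^ 2) (h2 : (2 : F) ≠ 0) {t : SU 3 F q}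
    (h1 : t ≠ 1) (ht : t * t = 1) : ∃ g : SU 3 F q, g * t * g⁻¹ = t0 hF := by
  have htt : mat t * mat t = 1 := by rw [← mat_mul, ht]; rfl
  obtain ⟨P, hP, hTP⟩ := TwoFusion.PSL3Inv.exists_conj h2 (T := mat t) htt (mat_det t)
    (fun h => h1 (mat_inj h))
  change mat t * P = P * D0 F at hTP
  have g0 := gram_comm hF (frob_D0 hF) trans_D0 D0_sq ((isom_iff hF _).1 (mat_isom t)) hTP
  obtain ⟨b01, b02, b10, b20⟩ := block h2 g0
  have hGd := gram_det hF (P := P) (by rw [hP]; exact one_ne_zero)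
  rw [Matrix.det_fin_three, b01, b02, b10, b20] at hGd
  have n0 : (Pᵀ * P.map (LieClassical.GUOrder.frob hF)) 0 0 ≠ 0 := fun h => hGd (by rw [h]; ring)
  have hself := gram_self_pow hF P 0
  obtain ⟨c, hc⟩ := exists_norm_eq hF (c := ((Pᵀ * P.map (LieClassical.GUOrder.frob hF)) 0 0)⁻¹)
    (by rw [inv_pow, hself])
  rw [gram] at hc n0
  set a : Fin 3 → F := c • P.col 0 with ha
  have hTa : mat t *ᵥ a = a := by
    rw [ha, Matrix.mulVec_smul]
    congr 1
    have h3 : (mat t * P).col 0 = (P * D0 F).col 0 := by rw [hTP]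
    have h4 : mat t *ᵥ P.col 0 = (mat t * P).col 0 := by
      ext i; rfl
    rw [h4, h3]
    ext i
    simp [Matrix.mul_apply, Fin.sum_univ_three, D0]
  have haa : hermForm 3 F q a a = 1 := by
    rw [ha, herm_smul_left, herm_smul_right]
    calc c * (c ^ q * hermForm 3 F q (P.col 0) (P.col 0))
        = (c * c ^ q) * hermForm 3 F q (P.col 0) (P.col 0) := by ring
      _ = 1 := by rw [hc, inv_mul_cancel₀ n0]
  have hee : hermForm 3 F q (Pi.single 0 1) (Pi.single 0 1) = 1 := by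
    rw [herm_def, Fin.sum_univ_three]
    simp [zero_pow_q hF]
  obtain ⟨g, hg⟩ := LieClassical.GUOrder.exists_gu_map hF haa hee
  set M : Matrix (Fin 3) (Fin 3) F := ((g : GL (Fin 3) F) : Matrix (Fin 3) (Fin 3) F) with hM
  have hMi : ∀ u v : Fin 3 → F, hermForm 3 F q (M *ᵥ u) (M *ᵥ v) = hermForm 3 F q u v := g.2
  have hdn : M.det * M.det ^ q = 1 := by
    have := LieClassical.GUOrder.det_mul_frob_det hF _ hMi
    rw [pow_succ'] at this
    exact this
  have hd0 : M.det ≠ 0 := by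
    intro h
    rw [h, zero_mul] at hdn
    exact zero_ne_one hdn
  set C : Matrix (Fin 3) (Fin 3) F := Matrix.diagonal ![(M.det)⁻¹, 1, 1] with hC
  have hCi : ∀ u v : Fin 3 → F, hermForm 3 F q (C *ᵥ u) (C *ᵥ v) = hermForm 3 F q u v := by
    intro u v
    rw [herm_def, herm_def, Fin.sum_univ_three, Fin.sum_univ_three]
    simp only [hC, Matrix.mulVec_diagonal, Matrix.cons_val_zero, Matrix.cons_val_one,
      Matrix.cons_val, one_mul, mul_pow, inv_pow]
    have : (M.det)⁻¹ * (M.det ^ q)⁻¹ = 1 := by rw [← mul_inv, hdn, inv_one]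
    linear_combination (u 0 * v 0 ^ q) * this
  have hdet : (C * M).det = 1 := by
    rw [Matrix.det_mul, hC, Matrix.det_diagonal, Fin.prod_univ_three]
    simp only [Matrix.cons_val_zero, Matrix.cons_val_one, Matrix.cons_val, mul_one]
    exact inv_mul_cancel₀ hd0
  set x : SU 3 F q := mk (C * M) hdet (by
    intro u v
    rw [← Matrix.mulVec_mulVec, ← Matrix.mulVec_mulVec, hCi, hMi]) with hx
  have hxa : mat x *ᵥ a = (M.det)⁻¹ • (Pi.single 0 1 : Fin 3 → F) := by
    rw [hx, mat_mk, ← Matrix.mulVec_mulVec, hg]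
    ext i
    rw [hC, Matrix.mulVec_diagonal]
    fin_cases i <;> simp
  have hxe : mat (x * t * x⁻¹) *ᵥ (Pi.single 0 1) = Pi.single 0 1 := by
    have h3 : mat x⁻¹ *ᵥ ((M.det)⁻¹ • (Pi.single 0 1 : Fin 3 → F)) = a := by
      rw [← hxa, Matrix.mulVec_mulVec, ← mat_mul, inv_mul_cancel, mat_one, Matrix.one_mulVec]
    have h4 : mat (x * t * x⁻¹) *ᵥ ((M.det)⁻¹ • (Pi.single 0 1 : Fin 3 → F)) =
        (M.det)⁻¹ • (Pi.single 0 1 : Fin 3 → F) := by
      rw [mat_mul, mat_mul, ← Matrix.mulVec_mulVec, h3, ← Matrix.mulVec_mulVec, hTa, hxa]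
    rw [Matrix.mulVec_smul] at h4
    exact (smul_right_injective (Fin 3 → F) (inv_ne_zero hd0)) h4
  obtain ⟨k1, k2, k3, k4, k5⟩ := block_of_fix hF hxe
  refine ⟨x, mat_inj ?_⟩
  rw [mat_t0]
  apply eq_D0 h2 k1 k2 k3 k4 k5 _ (mat_det _)
  · intro h
    have h3 : x * t * x⁻¹ = 1 := mat_inj h
    apply h1
    have h4 : t = x⁻¹ * (x * t * x⁻¹) * x := by group
    rw [h4, h3]
    group
  · rw [← mat_mul]
    have h3 : x * t * x⁻¹ * (x * t * x⁻¹) = x * (t * t) * x⁻¹ := by group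
    rw [h3, ht, mul_one, mul_inv_cancel]
    rfl

/-! ### `SU₂` -/

omit [Fintype F] in
theorem s2_det {a b : F} (h : a * a ^ q + b * b ^ q = 1) :
    (!![a, b; -b ^ q, a ^ q] : Matrix (Fin 2) (Fin 2) F).det = 1 := by
  rw [Matrix.det_fin_two_of]; linear_combination h

/-- Elements of `SL₂`. -/
def s2' (a b : F) (h : a * a ^ q + b * b ^ q = 1) : Matrix.SpecialLinearGroup (Fin 2) F :=
  ⟨!![a, b; -b ^ q, a ^ q], s2_det h⟩

/-- Elements of `SU₂`. -/
def s2 (hF : Fintype.card F = q ^ 2) (a b : F) (h : a * a ^ q + b * b ^ q = 1) : SU 2 F q :=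
  ⟨s2' a b h, (S0281.mem_SU_two_iff hF (s2' a b h)).2 ⟨rfl, by simp [s2']⟩⟩

theorem mat_s2 (hF : Fintype.card F = q ^ 2) (a b : F) (h : a * a ^ q + b * b ^ q = 1) :
    mat (s2 hF a b h) = !![a, b; -b ^ q, a ^ q] := rfl

/-- `SU₂` is transitive on the vectors of a given non-zero norm. -/
theorem exists_su_two (hF : Fintype.card F = q ^ 2) {x1 x2 y1 y2 s : F}
    (hx : x1 * x1 ^ q + x2 * x2 ^ q = s) (hy : y1 * y1 ^ q + y2 * y2 ^ q = s) (hs : s ≠ 0) :
    ∃ g : SU 2 F q, mat g 0 0 * x1 + mat g 0 1 * x2 = y1 ∧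
      mat g 1 0 * x1 + mat g 1 1 * x2 = y2 := by
  have hsq : s ^ q = s := by
    rw [← hx, add_pow_q hF, norm_pow_q hF, norm_pow_q hF]
  have ea : ((y1 * x1 ^ q + y2 ^ q * x2) / s) ^ q = (y1 ^ q * x1 + y2 * x2 ^ q) / s := by
    rw [div_pow, hsq, add_pow_q hF, mul_pow, mul_pow, pow_q_pow_q hF, pow_q_pow_q hF]
  have eb : ((y1 * x2 ^ q - y2 ^ q * x1) / s) ^ q = (y1 ^ q * x2 - y2 * x1 ^ q) / s := by
    rw [div_pow, hsq, sub_pow_q hF, mul_pow, mul_pow, pow_q_pow_q hF, pow_q_pow_q hF]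
  have hn : (y1 * x1 ^ q + y2 ^ q * x2) / s * ((y1 * x1 ^ q + y2 ^ q * x2) / s) ^ q +
      (y1 * x2 ^ q - y2 ^ q * x1) / s * ((y1 * x2 ^ q - y2 ^ q * x1) / s) ^ q = 1 := by
    rw [ea, eb]
    have : (y1 * x1 ^ q + y2 ^ q * x2) * (y1 ^ q * x1 + y2 * x2 ^ q) +
        (y1 * x2 ^ q - y2 ^ q * x1) * (y1 ^ q * x2 - y2 * x1 ^ q) = s * s := by
      rw [← hx]
      have hy' : y1 * y1 ^ q + y2 * y2 ^ q = x1 * x1 ^ q + x2 * x2 ^ q := by rw [hy, hx]
      linear_combination (x1 * x1 ^ q + x2 * x2 ^ q) * hy'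
    field_simp
    linear_combination this
  refine ⟨s2 hF _ _ hn, ?_, ?_⟩
  · rw [mat_s2]
    simp only [Matrix.of_apply, Matrix.cons_val', Matrix.cons_val_zero, Matrix.cons_val_one,
      Matrix.cons_val_fin_one]
    field_simp
    linear_combination y1 * hx
  · rw [mat_s2, ea, eb]
    simp only [Matrix.of_apply, Matrix.cons_val', Matrix.cons_val_zero, Matrix.cons_val_one,
      Matrix.cons_val_fin_one]
    field_simp
    linear_combination y2 * hx

/-- A scalar of norm one different from `±1`. -/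
theorem exists_mu (hF : Fintype.card F = q ^ 2) (hq : 3 ≤ q) : ∃ μ : F, μ * μ ^ q = 1 ∧ μ * μ ≠ 1 := by
  classical
  by_contra hcon
  push Not at hcon
  have h1 := card_norm_eq_one hF
  have h2 : Nat.card {x : F // x * x ^ q = 1} ≤ 2 := by
    have h3 : ∀ x : {x : F // x * x ^ q = 1}, x.1 ∈ ({1, -1} : Finset F) := by
      rintro ⟨x, hx⟩
      have := hcon x hx
      have h4 : (x - 1) * (x + 1) = 0 := by linear_combination this
      rw [Finset.mem_insert, Finset.mem_singleton]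
      rcases mul_eq_zero.1 h4 with h | h
      · left; linear_combination h
      · right; linear_combination h
    calc Nat.card {x : F // x * x ^ q = 1} ≤ Nat.card ({1, -1} : Finset F) :=
          Nat.card_le_card_of_injective (fun x => ⟨x.1, h3 x⟩)
            (fun x y h => Subtype.ext (congrArg (fun z : ({1, -1} : Finset F) => z.1) h))
      _ = ({1, -1} : Finset F).card := by rw [Nat.card_eq_fintype_card, Fintype.card_coe]
      _ ≤ 2 := Finset.card_le_two
  omega

/-! ### generation -/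

/-- `SU₃` is generated by the three standard `SU₂`'s. -/
theorem eq_top (hF : Fintype.card F = q ^ 2) (h2 : (2 : F) ≠ 0) {L : Subgroup (SU 3 F q)}
    (h0 : (ext hF e0 he0).range ≤ L) (h1 : (ext hF e1 he1).range ≤ L)
    (h3 : (ext hF e2 he2).range ≤ L) : L = ⊤ := by
  -- moves
  have m0 : ∀ (v : Fin 3 → F) (y1 y2 s : F), v 1 * v 1 ^ q + v 2 * v 2 ^ q = s →
      y1 * y1 ^ q + y2 * y2 ^ q = s → s ≠ 0 → ∃ l ∈ L, mat l *ᵥ v = ![v 0, y1, y2] := by
    intro v y1 y2 s hx hy hs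
    obtain ⟨g, hg1, hg2⟩ := exists_su_two hF hx hy hs
    refine ⟨ext hF e0 he0 g, h0 ⟨g, rfl⟩, ?_⟩
    rw [mat_ext, extM_e0]
    funext i
    fin_cases i
    · simp [Matrix.mulVec, dotProduct, Fin.sum_univ_three]
    · simpa [Matrix.mulVec, dotProduct, Fin.sum_univ_three] using hg1
    · simpa [Matrix.mulVec, dotProduct, Fin.sum_univ_three] using hg2
  have m1 : ∀ (v : Fin 3 → F) (y1 y2 s : F), v 0 * v 0 ^ q + v 2 * v 2 ^ q = s →
      y1 * y1 ^ q + y2 * y2 ^ q = s → s ≠ 0 → ∃ l ∈ L, mat l *ᵥ v = ![y1, v 1, y2] := by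
    intro v y1 y2 s hx hy hs
    obtain ⟨g, hg1, hg2⟩ := exists_su_two hF hx hy hs
    refine ⟨ext hF e1 he1 g, h1 ⟨g, rfl⟩, ?_⟩
    rw [mat_ext, extM_e1]
    funext i
    fin_cases i
    · simpa [Matrix.mulVec, dotProduct, Fin.sum_univ_three] using hg1
    · simp [Matrix.mulVec, dotProduct, Fin.sum_univ_three]
    · simpa [Matrix.mulVec, dotProduct, Fin.sum_univ_three] using hg2
  have m2 : ∀ (v : Fin 3 → F) (y1 y2 s : F), v 0 * v 0 ^ q + v 1 * v 1 ^ q = s →
      y1 * y1 ^ q + y2 * y2 ^ q = s → s ≠ 0 → ∃ l ∈ L, mat l *ᵥ v = ![y1, y2, v 2] := by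
    intro v y1 y2 s hx hy hs
    obtain ⟨g, hg1, hg2⟩ := exists_su_two hF hx hy hs
    refine ⟨ext hF e2 he2 g, h3 ⟨g, rfl⟩, ?_⟩
    rw [mat_ext, extM_e2]
    funext i
    fin_cases i
    · simpa [Matrix.mulVec, dotProduct, Fin.sum_univ_three] using hg1
    · simpa [Matrix.mulVec, dotProduct, Fin.sum_univ_three] using hg2
    · simp [Matrix.mulVec, dotProduct, Fin.sum_univ_three]
  have hzq : (0 : F) ^ q = 0 := zero_pow_q hF
  have hsingle : (![1, 0, 0] : Fin 3 → F) = Pi.single 0 1 := by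
    funext i; fin_cases i <;> simp
  have hpow : ∀ x y : F, (x * x ^ q + y * y ^ q) ^ q = x * x ^ q + y * y ^ q := by
    intro x y
    rw [add_pow_q hF, norm_pow_q hF, norm_pow_q hF]
  have move : ∀ v : Fin 3 → F, hermForm 3 F q v v = 1 → ∃ l ∈ L, mat l *ᵥ v = Pi.single 0 1 := by
    intro v hv
    rw [herm_def, Fin.sum_univ_three] at hv
    by_cases hc0 : v 0 * v 0 ^ q + v 1 * v 1 ^ q = 0
    · by_cases hc1 : v 0 * v 0 ^ q + v 2 * v 2 ^ q = 0
      · -- then `N(v 1) + N(v 2) = 2`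
        have hc2 : v 1 * v 1 ^ q + v 2 * v 2 ^ q ≠ 0 := by
          intro h
          apply h2
          linear_combination hc0 + hc1 + h - 2 * hv
        obtain ⟨a, ha⟩ := exists_norm_eq hF (hpow (v 1) (v 2))
        obtain ⟨l, hl, hlv⟩ := m0 v a 0 _ rfl (by rw [ha, hzq]; ring) hc2
        obtain ⟨l', hl', hlv'⟩ := m2 ![v 0, a, 0] 1 0 1 (by
          simp only [Matrix.cons_val_zero, Matrix.cons_val_one]
          rw [ha]; linear_combination hv) (by rw [one_pow, hzq]; ring) one_ne_zero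
        refine ⟨l' * l, L.mul_mem hl' hl, ?_⟩
        rw [mat_mul, ← Matrix.mulVec_mulVec, hlv, hlv', ← hsingle]
        rfl
      · obtain ⟨a, ha⟩ := exists_norm_eq hF (hpow (v 0) (v 2))
        obtain ⟨l, hl, hlv⟩ := m1 v a 0 _ rfl (by rw [ha, hzq]; ring) hc1
        obtain ⟨l', hl', hlv'⟩ := m2 ![a, v 1, 0] 1 0 1 (by
          simp only [Matrix.cons_val_zero, Matrix.cons_val_one]
          rw [ha]; linear_combination hv) (by rw [one_pow, hzq]; ring) one_ne_zero
        refine ⟨l' * l, L.mul_mem hl' hl, ?_⟩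
        rw [mat_mul, ← Matrix.mulVec_mulVec, hlv, hlv', ← hsingle]
        rfl
    · obtain ⟨a, ha⟩ := exists_norm_eq hF (hpow (v 0) (v 1))
      obtain ⟨l, hl, hlv⟩ := m2 v a 0 _ rfl (by rw [ha, hzq]; ring) hc0
      obtain ⟨l', hl', hlv'⟩ := m1 ![a, 0, v 2] 1 0 1 (by
        simp only [Matrix.cons_val_zero, Matrix.cons_val]
        rw [ha]; linear_combination hv) (by rw [one_pow, hzq]; ring) one_ne_zero
      refine ⟨l' * l, L.mul_mem hl' hl, ?_⟩
      rw [mat_mul, ← Matrix.mulVec_mulVec, hlv, hlv', ← hsingle]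
      rfl
  rw [eq_top_iff]
  intro g _
  have hge : hermForm 3 F q (mat g *ᵥ Pi.single 0 1) (mat g *ᵥ Pi.single 0 1) = 1 := by
    rw [mat_isom, herm_def, Fin.sum_univ_three]
    simp [hzq]
  obtain ⟨l, hl, hlv⟩ := move _ hge
  rw [Matrix.mulVec_mulVec, ← mat_mul] at hlv
  have h4 : l * g ∈ (ext hF e0 he0).range := mem_ext hF hlv
  have h5 : g = l⁻¹ * (l * g) := by group
  rw [h5]
  exact L.mul_mem (L.inv_mem hl) (h0 h4)

end Cfsg.Agent.TypeLFive.LThreePSU
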