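import Cfsg.Agent.TypeLFive.LThreePSU

/-!
`Facts (SU₃(q)) p`, `Facts (PSU₃(q)) p`, `q` a power of the odd prime `p`.
-/

set_option autoImplicit false

open scoped MatrixGroups Matrix

namespace Cfsg.Agent.TypeLFive.LThreePSUMain

open Matrix Cfsg
open Cfsg.Agent.LieClassical.HermBasic
open Cfsg.Agent.TypeLFive.LThreeDef Cfsg.Agent.TypeLFive.LThreeFrame
open Cfsg.Agent.TypeLFive.LThreePSU
open Cfsg.Agent.Phan (mat mat_mul mat_one mat_inj mat_det mat_isom mk mat_mk ext mat_ext extM inc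
  inc_apply ext_injective)

variable {F : Type*} [Field F] [Fintype F] {q : ℕ}

omit [Fintype F] in
theorem mat_pow {n : ℕ} (g : SU n F q) (k : ℕ) : mat (g ^ k) = mat g ^ k := by
  induction k with
  | zero => rw [pow_zero, pow_zero, mat_one]
  | succ k ih => rw [pow_succ, pow_succ, mat_mul, ih]

theorem ext_comm_t0 (hF : Fintype.card F = q ^ 2) {x : SU 3 F q}
    (hx : x ∈ (ext hF e0 he0).range) : x * t0 hF = t0 hF * x := by
  obtain ⟨g, rfl⟩ := hx
  apply mat_inj
  rw [mat_mul, mat_mul, mat_ext, extM_e0, mat_t0]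
  ext i j
  fin_cases i <;> fin_cases j <;> simp [D0, Matrix.mul_apply, Fin.sum_univ_three]

theorem ext_comm_t1 (hF : Fintype.card F = q ^ 2) {x : SU 3 F q}
    (hx : x ∈ (ext hF e1 he1).range) : x * t1 hF = t1 hF * x := by
  obtain ⟨g, rfl⟩ := hx
  apply mat_inj
  rw [mat_mul, mat_mul, mat_ext, extM_e1, mat_t1]
  ext i j
  fin_cases i <;> fin_cases j <;> simp [D1, Matrix.mul_apply, Fin.sum_univ_three]

theorem ext_comm_t2 (hF : Fintype.card F = q ^ 2) {x : SU 3 F q}
    (hx : x ∈ (ext hF e2 he2).range) : x * (t0 hF * t1 hF) = (t0 hF * t1 hF) * x := by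
  obtain ⟨g, rfl⟩ := hx
  apply mat_inj
  rw [mat_mul, mat_mul _ (ext hF e2 he2 g), mat_ext, extM_e2, mat_t0_mul_t1]
  ext i j
  fin_cases i <;> fin_cases j <;> simp [D2, Matrix.mul_apply, Fin.sum_univ_three]

omit [Fintype F] in
theorem mat_comm {x y : SU 3 F q} (h : x * y = y * x) : mat x * mat y = mat y * mat x := by
  rw [← mat_mul, ← mat_mul, h]

/-- The first column of an element of the centraliser of `t0`. -/
theorem mulVec_single (hF : Fintype.card F = q ^ 2) (h2 : (2 : F) ≠ 0) {x : SU 3 F q}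
    (hx : x * t0 hF = t0 hF * x) :
    mat x *ᵥ (Pi.single 0 1) = (mat x 0 0) • (Pi.single 0 1 : Fin 3 → F) := by
  obtain ⟨-, -, h10, h20⟩ := block h2 (mat_comm hx)
  rw [Matrix.mulVec_single_one]
  funext i
  fin_cases i
  · simp
  · simpa using h10
  · simpa using h20

/-- The standard `SU₂` is isomorphic to `SL(2, q)`. -/
theorem exists_equiv (hF : Fintype.card F = q ^ 2) (p : ℕ) (hcF : CharP F p) (hp : p.Prime)
    (e : Fin 2 → Fin 3) (he : Function.Injective e) :
    ∃ (K : Type) (_ : Field K) (_ : Fintype K), CharP K p ∧ Fintype.card K = q ∧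
      Nonempty ((ext (F := F) hF e he).range ≃* Matrix.SpecialLinearGroup (Fin 2) K) := by
  obtain ⟨p', k, hp', hchar, hk, hk0⟩ := exists_prime_pow hF
  have hpp : p' = p := CharP.eq F hchar hcF
  subst hpp
  have : Fact p'.Prime := ⟨hp⟩
  have : Fintype (GaloisField p' k) := Fintype.ofFinite _
  have hcard : Fintype.card (GaloisField p' k) = q := by
    rw [← Nat.card_eq_fintype_card, GaloisField.card p' k hk0.ne', hk]
  obtain ⟨f⟩ := S0281.result hF hcard
  exact ⟨GaloisField p' k, inferInstance, inferInstance, inferInstance, hcard,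
    ⟨(MonoidHom.ofInjective (ext_injective hF he)).symm.trans f⟩⟩

theorem two_ne (hF : Fintype.card F = q ^ 2) (hq : Odd q) : (2 : F) ≠ 0 :=
  TwoFusion.QuatCoverSL.two_ne_zero_of_odd (by rw [hF]; exact hq.pow)

/-- The Facts for `SU₃`. -/
theorem facts_su (hF : Fintype.card F = q ^ 2) (hq : Odd q) (p : ℕ) [CharP F p] :
    Facts (SU 3 F q) p := by
  have h2 : (2 : F) ≠ 0 := two_ne hF hq
  have hp0 : p ≠ 0 := by
    rintro rfl
    have : CharZero F := CharP.charP_to_charZero F
    exact (not_finite F)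
  have hpp : p.Prime := (CharP.char_is_prime_or_zero F p).resolve_right hp0
  have : Fact p.Prime := ⟨hpp⟩
  have hq3 : 3 ≤ q := by
    have := two_le hF
    obtain ⟨k, hk⟩ := hq
    omega
  have hone : ∀ x : F, x ^ p = 1 → x = 1 := by
    intro x hx
    have h3 : (x - 1) ^ p = 0 := by rw [sub_pow_char, hx, one_pow, sub_self]
    exact sub_eq_zero.1 (pow_eq_zero_iff hp0 |>.1 h3)
  obtain ⟨K, _, _, _, hK, ⟨f0⟩⟩ := exists_equiv hF p inferInstance hpp e0 he0
  obtain ⟨K1, _, _, _, hK1, ⟨f1⟩⟩ := exists_equiv hF p inferInstance hpp e1 he1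
  obtain ⟨K2, _, _, _, hK2, ⟨f2⟩⟩ := exists_equiv hF p inferInstance hpp e2 he2
  have : Finite (SU 3 F q) := inferInstance
  obtain ⟨hY, hcent, hodd⟩ := LThreeSLTwo.std (H := SU 3 F q) (p := p) (F := K)
    (by rw [hK]; exact hq) (t₀ := t0 hF) (S := (ext hF e0 he0).range) f0
    (fun x hx => ext_comm_t0 hF hx)
    (by
      intro g hg x hx
      apply mem_ext hF
      have hgi : g⁻¹ * t0 hF = t0 hF * g⁻¹ := by
        rw [inv_mul_eq_iff_eq_mul, ← mul_assoc, hg, mul_inv_cancel_right]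
      have k1 := mulVec_single hF h2 hgi
      have k2 : mat x *ᵥ (Pi.single 0 1) = Pi.single 0 1 := by
        obtain ⟨y, rfl⟩ := hx
        rw [mulVec_single hF h2 (ext_comm_t0 hF ⟨y, rfl⟩), mat_ext, extM_e0]
        simp
      rw [mat_mul, mat_mul, ← Matrix.mulVec_mulVec, ← Matrix.mulVec_mulVec, k1,
        Matrix.mulVec_smul, k2, ← k1, Matrix.mulVec_mulVec, ← mat_mul, mul_inv_cancel, mat_one,
        Matrix.one_mulVec])
    (by
      intro x hx hxp
      apply mem_ext hF
      obtain ⟨h01, h02, h10, h20⟩ := block h2 (mat_comm hx)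
      have : mat x 0 0 = 1 := by
        apply hone
        rw [← LThreePSL.pow_zero_zero h10 h20, ← mat_pow, hxp, mat_one]
        rfl
      rw [mulVec_single hF h2 hx, this, one_smul])
    (by
      intro n hn hns g hg
      obtain ⟨μ, hμ, hμ1⟩ := exists_mu hF hq3
      have hzq : (0 : F) ^ q = 0 := zero_pow_q hF
      have k1 := mat_comm (hns _ ⟨s2 hF 0 1 (by rw [hzq, one_pow]; ring), rfl⟩)
      have k2 := mat_comm (hns _ ⟨s2 hF μ 0 (by rw [hzq, hμ]; ring), rfl⟩)
      rw [mat_ext, extM_e0, mat_s2] at k1 k2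
      have a1 := congrFun (congrFun k1 1) 1
      have a2 := congrFun (congrFun k1 1) 2
      have a3 := congrFun (congrFun k2 1) 2
      simp [Matrix.mul_apply, Fin.sum_univ_three, hzq] at a1 a2 a3
      have hμ0 : μ ≠ 0 := by
        rintro rfl
        rw [zero_mul] at hμ
        exact zero_ne_one hμ
      have hμq : μ ^ q - μ ≠ 0 := by
        intro h
        apply hμ1
        calc μ * μ = μ * μ ^ q := by rw [sub_eq_zero.1 h]
          _ = 1 := hμ
      have h12 : mat n 1 2 = 0 := by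
        have : mat n 1 2 * (μ ^ q - μ) = 0 := by linear_combination a3
        exact (mul_eq_zero.1 this).resolve_right hμq
      apply mat_inj
      rw [mat_mul, mat_mul]
      refine LThreePSL.comm_of_scalar h2 (mat_comm hn) (mat_comm hg) h12 ?_ ?_
      · rw [h12] at a1
        linear_combination -a1
      · linear_combination a2)
  refine LThreeQuot.facts_std (t0 hF) (t1 hF) (fun t h1 h => exists_conj_t0 hF h2 h1 h)
    (fun t u h1 h3 h4 h5 h6 h7 => exists_conj_pair hF h2 h1 h3 h4 h5 h6 h7) hcent hodd ?_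
  apply eq_top hF h2
  · rw [← hY]; exact le_sup_left.trans le_sup_left
  · refine le_trans ?_ (le_sup_right.trans le_sup_left)
    exact LThreeSLTwo.le_of_equiv (p := p) f1 fun x hx hxp => mem_Y (ext_comm_t1 hF hx) hxp
  · refine le_trans ?_ le_sup_right
    exact LThreeSLTwo.le_of_equiv (p := p) f2 fun x hx hxp => mem_Y (ext_comm_t2 hF hx) hxp

/-- Central elements of `SU₃` are scalar. -/
theorem exists_scalar (hF : Fintype.card F = q ^ 2) (h2 : (2 : F) ≠ 0) {z : SU 3 F q}
    (hz : z ∈ Subgroup.center (SU 3 F q)) : ∃ r : F, r ^ 3 = 1 ∧ mat z = r • (1 : Matrix (Fin 3) (Fin 3) F) := by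
  have hzc : ∀ x, z * x = x * z := fun x => (Subgroup.mem_center_iff.1 hz x).symm
  have hd := diag_of_comm h2 (mat_comm (hzc (t0 hF))) (mat_comm (hzc (t1 hF)))
  have hzq : (0 : F) ^ q = 0 := zero_pow_q hF
  have k1 := mat_comm (hzc (ext hF e0 he0 (s2 hF 0 1 (by rw [hzq, one_pow]; ring))))
  have k2 := mat_comm (hzc (ext hF e2 he2 (s2 hF 0 1 (by rw [hzq, one_pow]; ring))))
  rw [mat_ext, extM_e0, mat_s2] at k1
  rw [mat_ext, extM_e2, mat_s2] at k2
  have a1 := congrFun (congrFun k1 1) 2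
  have a2 := congrFun (congrFun k2 0) 1
  simp [Matrix.mul_apply, Fin.sum_univ_three, hzq] at a1 a2
  have hdet := mat_det z
  rw [hd, Matrix.det_diagonal, Fin.prod_univ_three] at hdet
  simp only [Matrix.cons_val_zero, Matrix.cons_val_one, Matrix.cons_val] at hdet
  refine ⟨mat z 0 0, ?_, ?_⟩
  · rw [← a1, ← a2] at hdet
    linear_combination hdet
  · rw [hd]
    ext i j
    fin_cases i <;> fin_cases j <;> simp [← a1, ← a2]

theorem center_pow (hF : Fintype.card F = q ^ 2) (h2 : (2 : F) ≠ 0) :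
    ∀ z ∈ Subgroup.center (SU 3 F q), z ^ 3 = 1 := by
  intro z hz
  obtain ⟨r, hr, hzr⟩ := exists_scalar hF h2 hz
  apply mat_inj
  rw [mat_pow, hzr, smul_pow, hr, one_pow, one_smul, mat_one]

theorem center_bot (hF : Fintype.card F = q ^ 2) (h2 : (2 : F) ≠ 0) {p : ℕ} [CharP F p] :
    p = 3 → Subgroup.center (SU 3 F q) = ⊥ := by
  rintro rfl
  rw [eq_bot_iff]
  intro z hz
  obtain ⟨r, hr, hzr⟩ := exists_scalar hF h2 hz
  have h3 : (3 : F) = 0 := by exact_mod_cast CharP.cast_eq_zero F 3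
  have h4 : (r - 1) ^ 3 = 0 := by linear_combination hr - (r ^ 2 - r) * h3
  have h5 : r = 1 := sub_eq_zero.1 (pow_eq_zero_iff three_ne_zero |>.1 h4)
  rw [Subgroup.mem_bot]
  apply mat_inj
  rw [hzr, h5, one_smul, mat_one]

/-- The Facts for `PSU₃`. -/
theorem facts_psu (hF : Fintype.card F = q ^ 2) (hq : Odd q) (p : ℕ) [CharP F p] :
    Facts (PSU 3 F q) p := by
  have h2 : (2 : F) ≠ 0 := two_ne hF hq
  have hp0 : p ≠ 0 := by
    rintro rfl
    have : CharZero F := CharP.charP_to_charZero F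
    exact (not_finite F)
  have hpp : p.Prime := (CharP.char_is_prime_or_zero F p).resolve_right hp0
  have : Finite (SU 3 F q) := inferInstance
  exact LThreeQuot.facts_quot hpp (center_pow hF h2) (center_bot hF h2) (facts_su hF hq p)

end Cfsg.Agent.TypeLFive.LThreePSUMain
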