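import Cfsg.Agent.TypeLFive.LThreeDef
import Mathlib

/-!
`Facts` pass from `H` to `H ⧸ Z(H)` when `Z(H)` has exponent three (and is trivial if `p = 3`), and
it is enough to check them on one standard four-group.
-/

set_option autoImplicit false

namespace Cfsg.Agent.TypeLFive.LThreeQuot

open Subgroup Cfsg.Agent.TypeLFive.LThreeDef

section quot

variable {H : Type*} [Group H]

/-- Involutions of `H / Z` lift to involutions. -/
theorem exists_lift (hz3 : ∀ z ∈ center H, z ^ 3 = 1) {t : H ⧸ center H} (ht1 : t ≠ 1)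
    (ht : t * t = 1) : ∃ T : H, (QuotientGroup.mk T : H ⧸ center H) = t ∧ T * T = 1 ∧ T ≠ 1 := by
  obtain ⟨T₀, rfl⟩ := QuotientGroup.mk_surjective t
  have hsq : T₀ ^ 2 ∈ center H := by
    rw [← QuotientGroup.eq_one_iff, QuotientGroup.mk_pow, pow_two]
    exact ht
  have h3 := hz3 _ hsq
  have hmk : (QuotientGroup.mk (T₀ * T₀ ^ 2) : H ⧸ center H) = QuotientGroup.mk T₀ := by
    rw [QuotientGroup.mk_mul, (QuotientGroup.eq_one_iff _).2 hsq, mul_one]
  refine ⟨T₀ * T₀ ^ 2, hmk, ?_, ?_⟩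
  · rw [← h3, ← pow_succ', ← pow_add, ← pow_mul]
  · intro h
    apply ht1
    rw [← hmk, h]
    rfl

/-- Elements commuting modulo the centre with an involution commute with it. -/
theorem comm_of_mk (hz3 : ∀ z ∈ center H, z ^ 3 = 1) {T X : H} (hT : T * T = 1)
    (h : (QuotientGroup.mk X : H ⧸ center H) * QuotientGroup.mk T =
      QuotientGroup.mk T * QuotientGroup.mk X) : X * T = T * X := by
  rw [← QuotientGroup.mk_mul, ← QuotientGroup.mk_mul, QuotientGroup.eq] at h
  set z := (X * T)⁻¹ * (T * X) with hz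
  have hz3' := hz3 _ h
  have hzc : ∀ Y : H, Y * z = z * Y := fun Y => Subgroup.mem_center_iff.1 h Y
  have h1 : T * X = X * T * z := by rw [hz]; group
  have h3 : z * z = 1 := by
    have h4 : X = X * (z * z) := by
      calc X = T * T * X := by rw [hT, one_mul]
        _ = T * (X * T * z) := by rw [mul_assoc, h1]
        _ = (T * X) * T * z := by group
        _ = X * T * z * T * z := by rw [h1]
        _ = X * T * (z * T) * z := by group
        _ = X * T * (T * z) * z := by rw [hzc T]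
        _ = X * (T * T) * (z * z) := by group
        _ = X * (z * z) := by rw [hT, mul_one]
    exact (mul_eq_left.1 h4.symm)
  have hz1 : z = 1 := by
    rw [pow_succ, pow_two, h3, one_mul] at hz3'
    exact hz3'
  rw [hz1, mul_one] at h1
  exact h1.symm

/-- An element with `x ^ p` central can be corrected to have `x ^ p = 1`. -/
theorem exists_pow_eq_one {p : ℕ} (hp : p.Prime) (hz3 : ∀ z ∈ center H, z ^ 3 = 1)
    (hp3 : p = 3 → center H = ⊥) {x : H} (hx : x ^ p ∈ center H) :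
    ∃ z ∈ center H, (x * z) ^ p = 1 := by
  by_cases h3 : p = 3
  · rw [hp3 h3, Subgroup.mem_bot] at hx
    exact ⟨1, one_mem _, by rw [mul_one, hx]⟩
  · have hcop : Nat.Coprime p 3 := (Nat.coprime_primes hp Nat.prime_three).2 h3
    -- `a` with `1 + p a ≡ 0 mod 3`
    have h1 : p % 3 = 1 ∨ p % 3 = 2 := by
      have h2 : p % 3 ≠ 0 := by
        intro h0
        have : 3 ∣ p := Nat.dvd_of_mod_eq_zero h0
        have h4 := Nat.Coprime.eq_one_of_dvd hcop.symm this
        omega
      omega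
    have hcomm : ∀ a : ℕ, Commute x ((x ^ p) ^ a) := fun a => by
      rw [← pow_mul]
      exact Commute.self_pow x _
    have key : ∀ a : ℕ, 3 ∣ 1 + a * p → (x * (x ^ p) ^ a) ^ p = 1 := by
      rintro a ⟨b, hb⟩
      rw [(hcomm a).mul_pow, ← pow_mul, ← pow_succ', add_comm, hb, pow_mul, hz3 _ hx, one_pow]
    rcases h1 with h1 | h1
    · refine ⟨(x ^ p) ^ 2, Subgroup.pow_mem _ hx _, key 2 ?_⟩
      omega
    · refine ⟨(x ^ p) ^ 1, Subgroup.pow_mem _ hx _, key 1 ?_⟩
      omega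

theorem Y_mk {p : ℕ} (hp : p.Prime) (hz3 : ∀ z ∈ center H, z ^ 3 = 1)
    (hp3 : p = 3 → center H = ⊥) {T : H} (hT : T * T = 1) :
    Y p (QuotientGroup.mk T : H ⧸ center H) = (Y p T).map (QuotientGroup.mk' (center H)) := by
  unfold Y
  rw [MonoidHom.map_closure]
  congr 1
  ext x
  constructor
  · obtain ⟨X, rfl⟩ := QuotientGroup.mk_surjective x
    rintro ⟨h1, h2⟩
    have h3 := comm_of_mk hz3 hT h1
    rw [← QuotientGroup.mk_pow, QuotientGroup.eq_one_iff] at h2
    obtain ⟨z, hz, hz1⟩ := exists_pow_eq_one hp hz3 hp3 h2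
    refine ⟨X * z, ⟨?_, hz1⟩, ?_⟩
    · have hzT := Subgroup.mem_center_iff.1 hz T
      rw [mul_assoc, ← hzT, ← mul_assoc, h3, mul_assoc]
    · change (QuotientGroup.mk (X * z) : H ⧸ center H) = _
      rw [QuotientGroup.mk_mul, (QuotientGroup.eq_one_iff z).2 hz, mul_one]
  · rintro ⟨X, ⟨h1, h2⟩, rfl⟩
    refine ⟨?_, ?_⟩
    · change (QuotientGroup.mk X : H ⧸ center H) * QuotientGroup.mk T = _
      rw [← QuotientGroup.mk_mul, h1]
      rfl
    · change (QuotientGroup.mk X : H ⧸ center H) ^ p = 1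
      rw [← QuotientGroup.mk_pow, h2]
      rfl

/-- The order of the preimage. -/
theorem odd_card_comap [Finite H] (hz3 : ∀ z ∈ center H, z ^ 3 = 1)
    {N : Subgroup (H ⧸ center H)} (hN : Odd (Nat.card N)) :
    Odd (Nat.card (N.comap (QuotientGroup.mk' (center H)))) := by
  have hZ : Odd (Nat.card (center H)) := by
    by_contra hcon
    rw [Nat.not_odd_iff_even] at hcon
    obtain ⟨z, hz⟩ := exists_prime_orderOf_dvd_card' 2 hcon.two_dvd
    have h1 := hz3 z.1 z.2
    have h2 : z ^ 2 = 1 := by rw [← hz]; exact pow_orderOf_eq_one z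
    have h3 : z ^ 3 = 1 := Subtype.ext h1
    rw [pow_succ, h2, one_mul] at h3
    rw [h3, orderOf_one] at hz
    omega
  set M := N.comap (QuotientGroup.mk' (center H)) with hM
  have h1 : Nat.card M = Nat.card (center H) * Nat.card N := by
    have hle : (QuotientGroup.mk' (center H)).ker ≤ M := by
      intro x hx
      rw [hM, Subgroup.mem_comap, MonoidHom.mem_ker.1 hx]
      exact one_mem _
    have h2 := Subgroup.card_mul_index ((QuotientGroup.mk' (center H)).ker.subgroupOf M)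
    have h3 : Nat.card ((QuotientGroup.mk' (center H)).ker.subgroupOf M) = Nat.card (center H) := by
      rw [Nat.card_congr (Subgroup.subgroupOfEquivOfLe hle).toEquiv, QuotientGroup.ker_mk']
    have h4 : ((QuotientGroup.mk' (center H)).ker.subgroupOf M).index = Nat.card N := by
      have h5 : M.map (QuotientGroup.mk' (center H)) = N :=
        Subgroup.map_comap_eq_self_of_surjective (QuotientGroup.mk'_surjective _) N
      have h6 : (QuotientGroup.mk' (center H)).ker.subgroupOf M =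
          ((QuotientGroup.mk' (center H)).comp M.subtype).ker := by
        ext x
        rw [Subgroup.mem_subgroupOf, MonoidHom.mem_ker, MonoidHom.mem_ker]
        rfl
      rw [h6, Subgroup.index_ker, MonoidHom.range_comp, Subgroup.range_subtype, h5]
    rw [← h2, h3, h4]
  rw [h1]
  exact hZ.mul hN

/-- `Facts` pass to the central quotient. -/
theorem facts_quot [Finite H] {p : ℕ} (hp : p.Prime) (hz3 : ∀ z ∈ center H, z ^ 3 = 1)
    (hp3 : p = 3 → center H = ⊥) (hH : Facts H p) : Facts (H ⧸ center H) p := by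
  have hsurj : ∀ x : H ⧸ center H, ∃ X : H, QuotientGroup.mk' (center H) X = x := fun x =>
    QuotientGroup.mk'_surjective _ x
  refine ⟨?_, ?_, ?_⟩
  · intro t ht1 ht N hN hNc hNn n hn g hg
    obtain ⟨T, rfl, hTT, hT1⟩ := exists_lift hz3 ht1 ht
    obtain ⟨n, rfl⟩ := hsurj n
    obtain ⟨g, rfl⟩ := hsurj g
    have key := hH.cent T hT1 hTT (N.comap (QuotientGroup.mk' (center H)))
      (odd_card_comap hz3 hN) (by
        intro m hm
        exact comm_of_mk hz3 hTT (hNc _ hm)) (by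
        intro a ha m hm
        rw [Subgroup.mem_comap, map_mul, map_mul, map_inv]
        refine hNn _ ?_ _ hm
        change (QuotientGroup.mk a : H ⧸ center H) * QuotientGroup.mk T = _
        rw [← QuotientGroup.mk_mul, ha]
        rfl) n hn g (comm_of_mk hz3 hTT hg)
    rw [← map_mul, ← map_mul, key]
  · intro t ht1 ht N hNY hN hNn
    obtain ⟨T, rfl, hTT, hT1⟩ := exists_lift hz3 ht1 ht
    rw [Y_mk hp hz3 hp3 hTT] at hNY hNn
    have key := hH.odd T hT1 hTT (N.comap (QuotientGroup.mk' (center H)) ⊓ Y p T) inf_le_right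
      (by
        obtain ⟨k, hk⟩ := Subgroup.card_dvd_of_le
          (inf_le_left : N.comap (QuotientGroup.mk' (center H)) ⊓ Y p T ≤ _)
        have h1 := odd_card_comap hz3 hN
        rw [hk] at h1
        exact (Nat.odd_mul.1 h1).1)
      (by
        intro g hg n hn
        refine ⟨?_, Subgroup.mul_mem _ (Subgroup.mul_mem _ hg hn.2) (Subgroup.inv_mem _ hg)⟩
        have h2 := hNn (QuotientGroup.mk' (center H) g) ⟨g, hg, rfl⟩ _ hn.1
        change QuotientGroup.mk' (center H) (g * n * g⁻¹) ∈ N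
        rw [map_mul, map_mul, map_inv]
        exact h2)
    rw [eq_bot_iff]
    intro n hn
    obtain ⟨x, hx, hxn⟩ := hNY hn
    have h0 : x ∈ N.comap (QuotientGroup.mk' (center H)) := by
      rw [Subgroup.mem_comap, hxn]; exact hn
    have h1 : x ∈ N.comap (QuotientGroup.mk' (center H)) ⊓ Y p T := ⟨h0, hx⟩
    rw [key, Subgroup.mem_bot] at h1
    rw [← hxn, h1, map_one]
    exact one_mem _
  · intro t u ht1 ht hu1 hu htu hc
    obtain ⟨T, rfl, hTT, hT1⟩ := exists_lift hz3 ht1 ht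
    obtain ⟨U, rfl, hUU, hU1⟩ := exists_lift hz3 hu1 hu
    have hTU := comm_of_mk hz3 hUU hc
    have key := hH.gen T U hT1 hTT hU1 hUU (by rintro rfl; exact htu rfl) hTU
    have hTUs : (T * U) * (T * U) = 1 := by
      calc (T * U) * (T * U) = T * (U * T) * U := by group
        _ = T * (T * U) * U := by rw [hTU]
        _ = (T * T) * (U * U) := by group
        _ = 1 := by rw [hTT, hUU, one_mul]
    rw [← QuotientGroup.mk_mul, Y_mk hp hz3 hp3 hTT, Y_mk hp hz3 hp3 hUU, Y_mk hp hz3 hp3 hTUs,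
      ← Subgroup.map_sup, ← Subgroup.map_sup, key]
    exact Subgroup.map_top_of_surjective _ (QuotientGroup.mk'_surjective _)

end quot

section std

variable {H : Type*} [Group H]

/-- It is enough to check `Facts` on one four-group, if all four-groups are conjugate (as ordered
pairs of involutions). -/
theorem facts_std {p : ℕ} (t₀ u₀ : H)
    (hconj1 : ∀ t : H, t ≠ 1 → t * t = 1 → ∃ g : H, g * t * g⁻¹ = t₀)
    (hconj2 : ∀ t u : H, t ≠ 1 → t * t = 1 → u ≠ 1 → u * u = 1 → t ≠ u → t * u = u * t →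
      ∃ g : H, g * t * g⁻¹ = t₀ ∧ g * u * g⁻¹ = u₀)
    (cent : ∀ N : Subgroup H, Odd (Nat.card N) →
      (∀ n ∈ N, n * t₀ = t₀ * n) → (∀ g, g * t₀ = t₀ * g → ∀ n ∈ N, g * n * g⁻¹ ∈ N) →
      ∀ n ∈ N, ∀ g, g * t₀ = t₀ * g → n * g = g * n)
    (odd : ∀ N : Subgroup H, N ≤ Y p t₀ → Odd (Nat.card N) →
      (∀ g ∈ Y p t₀, ∀ n ∈ N, g * n * g⁻¹ ∈ N) → N = ⊥)
    (gen : Y p t₀ ⊔ Y p u₀ ⊔ Y p (t₀ * u₀) = ⊤) : Facts H p := by
  have hcomm : ∀ {g t x : H}, g * t * g⁻¹ = t₀ → x * t = t * x →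
      (g * x * g⁻¹) * t₀ = t₀ * (g * x * g⁻¹) := by
    intro g t x hg hx
    rw [← hg]
    calc g * x * g⁻¹ * (g * t * g⁻¹) = g * (x * t) * g⁻¹ := by group
      _ = g * (t * x) * g⁻¹ := by rw [hx]
      _ = _ := by group
  have hcomm' : ∀ {g t x : H}, g * t * g⁻¹ = t₀ → x * t₀ = t₀ * x →
      (g⁻¹ * x * g) * t = t * (g⁻¹ * x * g) := by
    intro g t x hg hx
    have ht' : t = g⁻¹ * t₀ * g := by rw [← hg]; group
    rw [ht']
    calc g⁻¹ * x * g * (g⁻¹ * t₀ * g) = g⁻¹ * (x * t₀) * g := by group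
      _ = g⁻¹ * (t₀ * x) * g := by rw [hx]
      _ = _ := by group
  have cardN : ∀ (g : H) (N : Subgroup H), Nat.card (N.map (MulAut.conj g).toMonoidHom) =
      Nat.card N := fun g N =>
    (Nat.card_congr (N.equivMapOfInjective _ (MulAut.conj g).injective).toEquiv).symm
  refine ⟨?_, ?_, ?_⟩
  · intro t h1 h2 N hN hNc hNn n hn a ha
    obtain ⟨g, hg⟩ := hconj1 t h1 h2
    have key := cent (N.map (MulAut.conj g).toMonoidHom) (by rw [cardN]; exact hN) (by
      rintro _ ⟨m, hm, rfl⟩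
      exact hcomm hg (hNc m hm)) (by
      rintro b hb _ ⟨m, hm, rfl⟩
      refine ⟨(g⁻¹ * b * g) * m * (g⁻¹ * b * g)⁻¹, hNn _ (hcomm' hg hb) m hm, ?_⟩
      change g * _ * g⁻¹ = b * (g * m * g⁻¹) * b⁻¹
      group) (g * n * g⁻¹) ⟨n, hn, rfl⟩ (g * a * g⁻¹) (hcomm hg ha)
    have h3 : g * (n * a) * g⁻¹ = g * (a * n) * g⁻¹ := by
      calc g * (n * a) * g⁻¹ = (g * n * g⁻¹) * (g * a * g⁻¹) := by group
        _ = (g * a * g⁻¹) * (g * n * g⁻¹) := key
        _ = _ := by group
    exact mul_left_cancel (mul_right_cancel h3)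
  · intro t h1 h2 N hNY hN hNn
    obtain ⟨g, hg⟩ := hconj1 t h1 h2
    have hY : (Y p t).map (MulAut.conj g).toMonoidHom = Y p t₀ := by
      rw [map_Y, MulAut.conj_apply, hg]
    have key := odd (N.map (MulAut.conj g).toMonoidHom) (by
        rw [← hY]; exact Subgroup.map_mono hNY) (by rw [cardN]; exact hN) (by
      rw [← hY]
      rintro _ ⟨b, hb, rfl⟩ _ ⟨m, hm, rfl⟩
      refine ⟨b * m * b⁻¹, hNn b hb m hm, ?_⟩
      change g * (b * m * b⁻¹) * g⁻¹ = (g * b * g⁻¹) * (g * m * g⁻¹) * (g * b * g⁻¹)⁻¹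
      group)
    exact (Subgroup.map_eq_bot_iff_of_injective _ (MulAut.conj g).injective).1 key
  · intro t u h1 h2 h3 h4 h5 h6
    obtain ⟨g, hg1, hg2⟩ := hconj2 t u h1 h2 h3 h4 h5 h6
    have hY1 : (Y p t).map (MulAut.conj g).toMonoidHom = Y p t₀ := by
      rw [map_Y, MulAut.conj_apply, hg1]
    have hY2 : (Y p u).map (MulAut.conj g).toMonoidHom = Y p u₀ := by
      rw [map_Y, MulAut.conj_apply, hg2]
    have hY3 : (Y p (t * u)).map (MulAut.conj g).toMonoidHom = Y p (t₀ * u₀) := by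
      rw [map_Y, map_mul, MulAut.conj_apply, MulAut.conj_apply, hg1, hg2]
    have h7 : (Y p t ⊔ Y p u ⊔ Y p (t * u)).map (MulAut.conj g).toMonoidHom = ⊤ := by
      rw [Subgroup.map_sup, Subgroup.map_sup, hY1, hY2, hY3, gen]
    have h8 := congrArg (Subgroup.comap (MulAut.conj g).toMonoidHom) h7
    rw [Subgroup.comap_map_eq_self_of_injective (MulAut.conj g).injective, Subgroup.comap_top] at h8
    exact h8

end std

end Cfsg.Agent.TypeLFive.LThreeQuot
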