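import Mathlib

/-!
# Subgroups of `GL₄(2)` with a given dihedral Sylow 2-subgroup

`V = {0, ..., 15}` with bitwise addition is the space of dimension 4 over the field with two elements,
with basis `1, 2, 4, 8`. `Q` is the group of order 8 of the coordinate permutations preserving
`{{1, 2}, {4, 8}}`. We determine the linear groups `X ≥ Q` with `|X : Q|` odd which do not fuse
`3 = 1 + 2` to `15 = 1 + 2 + 4 + 8`: see `HX.classify`.
-/

set_option autoImplicit false

namespace Cfsg.Agent.TypeLFive.OrbitX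

open Subgroup

abbrev V := Fin 16

/-- linear maps -/
def Lin (g : V → V) : Prop := ∀ u v : V, g (u ^^^ v) = g u ^^^ g v

/-- parity of the number of ones -/
def par (v : V) : Bool := Nat.testBit 0x6996 v.val

/-- transvection with centre `c` -/
def T (a c : V) (v : V) : V := if par (a &&& v) then v ^^^ c else v

/-- the elements of the dihedral group, as hexadecimal tables -/
def dn : Fin 8 → ℕ := ![0xfedcba9876543210, 0xfdecb9a875643120, 0xfedc7654ba983210,
  0xfdec7564b9a83120, 0xfb73ea62d951c840, 0xf7b3e6a2d591c480, 0xfb73d951ea62c840,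
  0xf7b3d591e6a2c480]

/-- the elements of the dihedral group: `0` identity, `1` = (1 2), `2` = (4 8), `4` = (1 4)(2 8) -/
def dt (i : Fin 8) (v : V) : V := ⟨dn i / 16 ^ v.val % 16, Nat.mod_lt _ (by norm_num)⟩

def nfix (f : V → V) : ℕ := (Finset.univ.filter (fun v => f v = v)).card

/-- forbidden: transvection with centre `15` -/
def V1 (f : V → V) : Prop := (∃ v, f v ≠ v) ∧ ∀ v, f v = v ∨ f v = v ^^^ 15

/-- forbidden: element of order 4 with more than two fixed points -/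
def V3 (f : V → V) : Prop := (∃ v, f (f v) ≠ v) ∧ (∀ v, f (f (f (f v))) = v) ∧ nfix f ≠ 2

instance (f : V → V) : Decidable (V1 f) := by unfold V1; infer_instance
instance (f : V → V) : Decidable (V3 f) := by unfold V3; infer_instance
instance (f : V → V) : Decidable (Lin f) := by unfold Lin; infer_instance

set_option maxRecDepth 100000 in
theorem key : ∀ c : V, c ≠ 0 → c ≠ 15 → ∀ α : V, par (α &&& c) = false → par (α &&& 15) = false →
    α ≠ 0 → ∀ β : V, par (β &&& (c ^^^ 15)) = false → par (β &&& 15) = false → β ≠ 0 →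
    (α = c ∧ β = c ^^^ 15) ∨ ∃ i : Fin 8, V1 (fun v => T α c (dt i v)) ∨
      V1 (fun v => T β (c ^^^ 15) (dt i v)) ∨ V1 (fun v => T α c (T β (c ^^^ 15) (dt i v))) ∨
      V3 (fun v => T α c (dt i v)) := by
  decide +kernel

theorem dt_lin : ∀ i, Lin (dt i) := by decide +kernel


/-! ### The hypothesis -/

/-- `X` is a group of linear maps of odd index over the dihedral group `Q`, not fusing `3` to `15`. -/
structure HX (X Q : Subgroup (Equiv.Perm V)) : Prop where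
  lin : ∀ g ∈ X, Lin g
  le : Q ≤ X
  mem : ∀ g : Equiv.Perm V, g ∈ Q ↔ ∃ i : Fin 8, ∀ v, g v = dt i v
  idx : ¬ 2 ∣ Q.relIndex X
  nz : ∀ g ∈ X, g 3 ≠ 15

section

theorem lin_zero {g : V → V} (hg : Lin g) : g 0 = 0 := by
  have h := hg 0 0
  have e : ∀ w : V, w = w ^^^ w → w = 0 := by decide
  exact e _ (by simpa using h)

/-- a 2-element of `X` is `X`-conjugate into `Q` -/
theorem exists_conj {X Q : Subgroup (Equiv.Perm V)} (hi : ¬ 2 ∣ Q.relIndex X)
    {y : Equiv.Perm V} (hyX : y ∈ X) (hy : IsPGroup 2 (zpowers y)) :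
    ∃ h ∈ X, h * y * h⁻¹ ∈ Q := by
  have hf : Fact (Nat.Prime 2) := ⟨Nat.prime_two⟩
  let y' : X := ⟨y, hyX⟩
  have hy' : IsPGroup 2 (zpowers y') := by
    have h1 : (zpowers y').map X.subtype = zpowers y := by
      rw [MonoidHom.map_zpowers]; rfl
    have h2 : IsPGroup 2 ((zpowers y').map X.subtype) := by rw [h1]; exact hy
    exact h2.of_injective ((zpowers y').equivMapOfInjective X.subtype X.subtype_injective).toMonoidHom
      ((zpowers y').equivMapOfInjective X.subtype X.subtype_injective).injective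
  have hne : ¬ 2 ∣ Nat.card (X ⧸ Q.subgroupOf X) := hi
  obtain ⟨c, hc⟩ := hy'.nonempty_fixed_point_of_prime_not_dvd_card (X ⧸ Q.subgroupOf X) hne
  obtain ⟨g, rfl⟩ := QuotientGroup.mk_surjective c
  have h1 := hc ⟨y', mem_zpowers y'⟩
  have h2 : ((y' * g : X) : X ⧸ Q.subgroupOf X) = (g : X ⧸ Q.subgroupOf X) := h1
  rw [eq_comm, QuotientGroup.eq] at h2
  refine ⟨(g : Equiv.Perm V)⁻¹, inv_mem g.2, ?_⟩
  rw [mem_subgroupOf] at h2
  have e : ((g⁻¹ * (y' * g) : X) : Equiv.Perm V) = (g : Equiv.Perm V)⁻¹ * y *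
      ((g : Equiv.Perm V)⁻¹)⁻¹ := by
    simp only [coe_mul, coe_inv, inv_inv, mul_assoc]
    rfl
  rwa [e] at h2

end

namespace HX

variable {X Q : Subgroup (Equiv.Perm V)} (h : HX X Q)

include h

theorem d_mem (i : Fin 8) : ∃ g ∈ Q, ∀ v, g v = dt i v := by
  have hb : Function.Bijective (dt i) := by
    have : ∀ i, Function.Bijective (dt i) := by
      intro i
      rw [Fintype.bijective_iff_injective_and_card]
      refine ⟨?_, rfl⟩
      intro a b hab
      have : ∀ i : Fin 8, ∀ a b : V, dt i a = dt i b → a = b := by decide +kernel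
      exact this i a b hab
    exact this i
  exact ⟨Equiv.ofBijective _ hb, (h.mem _).mpr ⟨i, fun v => rfl⟩, fun v => rfl⟩

set_option maxRecDepth 100000 in
omit h in
theorem dt_V1 : ∀ i : Fin 8, ∀ c : V, (∃ v, dt i v ≠ v) → (∀ v, dt i v = v ∨ dt i v = v ^^^ c) →
    c = 3 ∨ c = 12 := by decide +kernel

omit h in
theorem dt_V3 : ∀ i : Fin 8, ¬ V3 (dt i) := by decide +kernel

/-- `15` is not fused to `3` or `12` -/
theorem ne_three {g : Equiv.Perm V} (hg : g ∈ X) : g 15 ≠ 3 := by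
  intro h1
  apply h.nz g⁻¹ (inv_mem hg)
  rw [← h1]
  simp

theorem ne_twelve {g : Equiv.Perm V} (hg : g ∈ X) : g 15 ≠ 12 := by
  intro h1
  obtain ⟨q, hq, hqv⟩ := h.d_mem 4
  apply h.ne_three (mul_mem (h.le hq) hg)
  rw [Equiv.Perm.mul_apply, h1, hqv]
  decide +kernel

omit h in
theorem isPGroup_of_pow {g : Equiv.Perm V} {n : ℕ} (hg : g ^ 2 ^ n = 1) :
    IsPGroup 2 (zpowers g) := by
  have hf : Fact (Nat.Prime 2) := ⟨Nat.prime_two⟩
  obtain ⟨k, -, hk⟩ := (Nat.dvd_prime_pow Nat.prime_two).mp (orderOf_dvd_of_pow_eq_one hg)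
  exact IsPGroup.of_card (n := k) (by rw [Nat.card_zpowers, hk])

/-- no transvection with centre `15` in `X` -/
theorem not_V1 {g : Equiv.Perm V} (hg : g ∈ X) : ¬ V1 g := by
  rintro ⟨⟨w, hw⟩, hv⟩
  have hl := h.lin g hg
  have h15 : g 15 = 15 := by
    rcases hv 15 with h1 | h1
    · exact h1
    · exfalso
      have h2 : g 15 = g 0 := by
        rw [lin_zero hl, h1]; decide
      exact absurd (g.injective h2) (by decide)
  have hsq : g ^ 2 ^ 1 = 1 := by
    ext v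
    rw [pow_one, pow_two, Equiv.Perm.mul_apply]
    have : g (g v) = v := by
      rcases hv v with h1 | h1
      · rw [h1, h1]
      · rw [h1, hl, h1, h15]
        have : ∀ v : V, v ^^^ 15 ^^^ 15 = v := by decide
        exact this v
    rw [this]; rfl
  obtain ⟨k, hk, hq⟩ := exists_conj h.idx hg (isPGroup_of_pow hsq)
  obtain ⟨i, hi⟩ := (h.mem _).mp hq
  have hkl := h.lin k hk
  have hcon : ∀ v, dt i v = v ∨ dt i v = v ^^^ k 15 := by
    intro v
    rw [← hi v, Equiv.Perm.mul_apply, Equiv.Perm.mul_apply]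
    rcases hv (k⁻¹ v) with h1 | h1
    · left; rw [h1]; simp
    · right; rw [h1, hkl]; simp
  have hne : ∃ v, dt i v ≠ v := by
    refine ⟨k w, fun h1 => hw ?_⟩
    rw [← hi, Equiv.Perm.mul_apply, Equiv.Perm.mul_apply] at h1
    have h2 := k.injective h1
    simpa using h2
  rcases dt_V1 i (k 15) hne hcon with h1 | h1
  · exact h.ne_three hk h1
  · exact h.ne_twelve hk h1

omit h in
theorem nfix_conj (g k : Equiv.Perm V) : nfix (fun v => (k * g * k⁻¹) v) = nfix g := by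
  unfold nfix
  refine (Finset.card_bij (fun v _ => k v) ?_ ?_ ?_).symm
  · intro v hv
    rw [Finset.mem_filter] at hv ⊢
    refine ⟨Finset.mem_univ _, ?_⟩
    simp [Equiv.Perm.mul_apply, hv.2]
  · intro a _ b _ hab
    exact k.injective hab
  · intro v hv
    rw [Finset.mem_filter] at hv
    refine ⟨k⁻¹ v, ?_, by simp⟩
    rw [Finset.mem_filter]
    refine ⟨Finset.mem_univ _, ?_⟩
    have h1 := hv.2
    apply k.injective
    simpa [Equiv.Perm.mul_apply] using h1

theorem not_V3 {g : Equiv.Perm V} (hg : g ∈ X) : ¬ V3 g := by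
  rintro ⟨⟨w, hw⟩, hv, hn⟩
  have hsq : g ^ 2 ^ 2 = 1 := by
    ext v
    have e : g ^ 2 ^ 2 = g * g * (g * g) := by
      rw [show (2 : ℕ) ^ 2 = 2 + 2 from rfl, pow_add, pow_two]
    rw [e]
    simp only [Equiv.Perm.mul_apply]
    rw [hv v]; rfl
  obtain ⟨k, hk, hq⟩ := exists_conj h.idx hg (isPGroup_of_pow hsq)
  obtain ⟨i, hi⟩ := (h.mem _).mp hq
  apply dt_V3 i
  have e : dt i = fun v => (k * g * k⁻¹) v := by
    funext v
    exact (hi v).symm
  rw [e]
  have hkk : ∀ x, k⁻¹ (k x) = x := fun x => by simp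
  have hkk' : ∀ x, k (k⁻¹ x) = x := fun x => by simp
  refine ⟨⟨k w, ?_⟩, ?_, ?_⟩
  · intro h1
    apply hw
    simp only [Equiv.Perm.mul_apply, hkk] at h1
    exact k.injective h1
  · intro v
    simp only [Equiv.Perm.mul_apply, hkk]
    rw [hv, hkk']
  · rw [nfix_conj]
    exact hn


/-! ### conjugates of the two transvections of `Q` -/

omit h in
theorem exists_mask {f : V → Bool} (hf : ∀ u v, f (u ^^^ v) = (f u ^^ f v)) :
    ∃ a : V, ∀ v, f v = par (a &&& v) := by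
  have e0 : f 0 = false := by
    have := hf 0 0
    have e : ((0 : V) ^^^ 0) = 0 := by decide
    rw [e] at this
    revert this
    cases f 0 <;> decide
  have e3 : f 3 = (f 1 ^^ f 2) := hf 1 2
  have e5 : f 5 = (f 1 ^^ f 4) := hf 1 4
  have e6 : f 6 = (f 2 ^^ f 4) := hf 2 4
  have e7 : f 7 = (f 3 ^^ f 4) := hf 3 4
  have e9 : f 9 = (f 1 ^^ f 8) := hf 1 8
  have e10 : f 10 = (f 2 ^^ f 8) := hf 2 8
  have e11 : f 11 = (f 3 ^^ f 8) := hf 3 8
  have e12 : f 12 = (f 4 ^^ f 8) := hf 4 8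
  have e13 : f 13 = (f 5 ^^ f 8) := hf 5 8
  have e14 : f 14 = (f 6 ^^ f 8) := hf 6 8
  have e15 : f 15 = (f 7 ^^ f 8) := hf 7 8
  rw [e3] at e7 e11
  rw [e5] at e13
  rw [e6] at e14
  rw [e7] at e15
  have key : ∀ b1 b2 b4 b8 : Bool, ∃ a : V, false = par (a &&& 0) ∧ b1 = par (a &&& 1) ∧
      b2 = par (a &&& 2) ∧ (b1 ^^ b2) = par (a &&& 3) ∧ b4 = par (a &&& 4) ∧
      (b1 ^^ b4) = par (a &&& 5) ∧ (b2 ^^ b4) = par (a &&& 6) ∧
      (b1 ^^ b2 ^^ b4) = par (a &&& 7) ∧ b8 = par (a &&& 8) ∧ (b1 ^^ b8) = par (a &&& 9) ∧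
      (b2 ^^ b8) = par (a &&& 10) ∧ (b1 ^^ b2 ^^ b8) = par (a &&& 11) ∧
      (b4 ^^ b8) = par (a &&& 12) ∧ (b1 ^^ b4 ^^ b8) = par (a &&& 13) ∧
      (b2 ^^ b4 ^^ b8) = par (a &&& 14) ∧ (b1 ^^ b2 ^^ b4 ^^ b8) = par (a &&& 15) := by
    decide +kernel
  obtain ⟨a, h0, h1, h2, h3, h4, h5, h6, h7, h8, h9, h10, h11, h12, h13, h14, h15⟩ :=
    key (f 1) (f 2) (f 4) (f 8)
  refine ⟨a, ?_⟩
  intro v
  fin_cases v
  · exact e0.trans h0
  · exact h1
  · exact h2
  · exact e3.trans h3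
  · exact h4
  · exact e5.trans h5
  · exact e6.trans h6
  · exact e7.trans h7
  · exact h8
  · exact e9.trans h9
  · exact e10.trans h10
  · exact e11.trans h11
  · exact e12.trans h12
  · exact e13.trans h13
  · exact e14.trans h14
  · exact e15.trans h15

omit h in
theorem par_and_xor : ∀ a u v : V, par (a &&& (u ^^^ v)) = (par (a &&& u) ^^ par (a &&& v)) := by
  decide +kernel

omit h in
theorem lin_inv {g : Equiv.Perm V} (hg : Lin g) : Lin (g⁻¹ : Equiv.Perm V) := by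
  intro u v
  apply g.injective
  rw [hg]
  simp

omit h in
/-- the conjugate of the transvection `T m c` is a transvection -/
theorem conj_T {g t : Equiv.Perm V} (hg : Lin g) {m c : V} (ht : ∀ v, t v = T m c v) :
    ∃ α : V, (∀ v, par (m &&& v) = par (α &&& g v)) ∧ ∀ v, (g * t * g⁻¹) v = T α (g c) v := by
  obtain ⟨α, hα⟩ := exists_mask (f := fun v => par (m &&& g⁻¹ v)) (fun u v => by
    rw [lin_inv hg u v, par_and_xor])
  have h1 : ∀ v, par (m &&& v) = par (α &&& g v) := by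
    intro v
    rw [← hα (g v)]
    simp
  refine ⟨α, h1, fun v => ?_⟩
  have h2 : (g * t * g⁻¹) v = g (t (g⁻¹ v)) := rfl
  rw [h2, ht]
  unfold T
  rw [← hα v]
  by_cases hb : par (m &&& g⁻¹ v) = true
  · rw [if_pos hb, if_pos hb, hg]
    simp
  · rw [if_neg hb, if_neg hb]
    simp

omit h in
theorem dt_one : ∀ v, dt 1 v = T 3 3 v := by decide +kernel
omit h in
theorem dt_two : ∀ v, dt 2 v = T 12 12 v := by decide +kernel

/-- `X` contains the transvection of mask `α` and centre `c` -/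
def _root_.Cfsg.Agent.TypeLFive.OrbitX.HasT (X : Subgroup (Equiv.Perm V)) (α c : V) : Prop :=
  ∃ t ∈ X, ∀ v, t v = T α c v

theorem hasT_conj {g : Equiv.Perm V} (hg : g ∈ X) {m c : V} (hT : HasT X m c) :
    ∃ α : V, (∀ v, par (m &&& v) = par (α &&& g v)) ∧ HasT X α (g c) := by
  obtain ⟨t, ht, htv⟩ := hT
  obtain ⟨α, h1, h2⟩ := conj_T (h.lin g hg) htv
  exact ⟨α, h1, _, mul_mem (mul_mem hg ht) (inv_mem hg), h2⟩

theorem hasT_one : HasT X 3 3 := by
  obtain ⟨q, hq, hv⟩ := h.d_mem 1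
  exact ⟨q, h.le hq, fun v => by rw [hv, dt_one]⟩

theorem hasT_two : HasT X 12 12 := by
  obtain ⟨q, hq, hv⟩ := h.d_mem 2
  exact ⟨q, h.le hq, fun v => by rw [hv, dt_two]⟩

/-- words -/
theorem not_V1_fun {f : V → V} {g : Equiv.Perm V} (hg : g ∈ X) (hf : ∀ v, g v = f v) : ¬ V1 f := by
  have : f = g := by funext v; exact (hf v).symm
  rw [this]
  exact h.not_V1 hg

theorem not_V3_fun {f : V → V} {g : Equiv.Perm V} (hg : g ∈ X) (hf : ∀ v, g v = f v) : ¬ V3 f := by
  have : f = g := by funext v; exact (hf v).symm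
  rw [this]
  exact h.not_V3 hg

/-- An element of `X` fixing `15` conjugates the two transvections of `Q` to transpositions. -/
theorem fix_conj {g : Equiv.Perm V} (hg : g ∈ X) (h15 : g 15 = 15) :
    HasT X (g 3) (g 3) ∧ (∀ v, par (3 &&& v) = par (g 3 &&& g v)) ∧
      (∀ v, par (12 &&& v) = par ((g 3 ^^^ 15) &&& g v)) ∧ g 3 ≠ 0 := by
  have hl := h.lin g hg
  obtain ⟨α, a1, a2⟩ := h.hasT_conj hg h.hasT_one
  obtain ⟨β, b1, b2⟩ := h.hasT_conj hg h.hasT_two
  have h12 : g 12 = g 3 ^^^ 15 := by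
    have : g 12 = g 3 ^^^ g 15 := by rw [← hl]; rfl
    rw [this, h15]
  have hg0 := lin_zero hl
  have hc0 : g 3 ≠ 0 := by
    intro h1
    rw [← hg0] at h1
    exact absurd (g.injective h1) (by decide)
  have hc15 : g 3 ≠ 15 := h.nz g hg
  rw [h12] at b2
  have p1 : par (α &&& g 3) = false := by rw [← a1]; decide +kernel
  have p2 : par (α &&& 15) = false := by
    have := a1 15
    rw [h15] at this
    rw [← this]; decide +kernel
  have p3 : α ≠ 0 := by
    rintro rfl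
    have h1 := a1 1
    have e : ∀ w : V, par (0 &&& w) = false := by decide +kernel
    rw [e] at h1
    exact absurd h1 (by decide +kernel)
  have q1 : par (β &&& (g 3 ^^^ 15)) = false := by rw [← h12, ← b1]; decide +kernel
  have q2 : par (β &&& 15) = false := by
    have := b1 15
    rw [h15] at this
    rw [← this]; decide +kernel
  have q3 : β ≠ 0 := by
    rintro rfl
    have h1 := b1 4
    have e : ∀ w : V, par (0 &&& w) = false := by decide +kernel
    rw [e] at h1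
    exact absurd h1 (by decide +kernel)
  rcases key (g 3) hc0 hc15 α p1 p2 p3 β q1 q2 q3 with ⟨k1, k2⟩ | ⟨i, hi⟩
  · rw [k1] at a1 a2
    rw [k2] at b1
    exact ⟨a2, a1, b1, hc0⟩
  · exfalso
    obtain ⟨t1, ht1, hv1⟩ := a2
    obtain ⟨t2, ht2, hv2⟩ := b2
    obtain ⟨q, hq, hqv⟩ := h.d_mem i
    have hqX := h.le hq
    rcases hi with hi | hi | hi | hi
    · exact h.not_V1_fun (mul_mem ht1 hqX) (fun v => by
        rw [Equiv.Perm.mul_apply, hqv, hv1]) hi
    · exact h.not_V1_fun (mul_mem ht2 hqX) (fun v => by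
        rw [Equiv.Perm.mul_apply, hqv, hv2]) hi
    · exact h.not_V1_fun (mul_mem ht1 (mul_mem ht2 hqX)) (fun v => by
        rw [Equiv.Perm.mul_apply, Equiv.Perm.mul_apply, hqv, hv2, hv1]) hi
    · exact h.not_V3_fun (mul_mem ht1 hqX) (fun v => by
        rw [Equiv.Perm.mul_apply, hqv, hv1]) hi

/-! ### recognising elements by the images of the basis -/

/-- the linear map with given images of `1, 2, 4, 8` -/
def _root_.Cfsg.Agent.TypeLFive.OrbitX.ev (x1 x2 x4 x8 v : V) : V :=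
  (if Nat.testBit v.val 0 then x1 else 0) ^^^ (if Nat.testBit v.val 1 then x2 else 0) ^^^
    (if Nat.testBit v.val 2 then x4 else 0) ^^^ (if Nat.testBit v.val 3 then x8 else 0)

omit h in
theorem eq_ev {g : V → V} (hg : Lin g) (v : V) : g v = ev (g 1) (g 2) (g 4) (g 8) v := by
  have h0 := lin_zero hg
  have e3 : g 3 = g 1 ^^^ g 2 := hg 1 2
  have e5 : g 5 = g 1 ^^^ g 4 := hg 1 4
  have e6 : g 6 = g 2 ^^^ g 4 := hg 2 4
  have e7 : g 7 = g 3 ^^^ g 4 := hg 3 4
  have e9 : g 9 = g 1 ^^^ g 8 := hg 1 8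
  have e10 : g 10 = g 2 ^^^ g 8 := hg 2 8
  have e11 : g 11 = g 3 ^^^ g 8 := hg 3 8
  have e12 : g 12 = g 4 ^^^ g 8 := hg 4 8
  have e13 : g 13 = g 5 ^^^ g 8 := hg 5 8
  have e14 : g 14 = g 6 ^^^ g 8 := hg 6 8
  have e15 : g 15 = g 7 ^^^ g 8 := hg 7 8
  rw [e3] at e7 e11
  rw [e5] at e13
  rw [e6] at e14
  rw [e7] at e15
  have z1 : ∀ x : V, 0 ^^^ x = x := by decide
  have z2 : ∀ x : V, x ^^^ 0 = x := by decide
  fin_cases v <;> simp [ev, Nat.testBit, *]


theorem mem_Q_of_images {g : Equiv.Perm V} (hg : Lin g) {i : Fin 8} (h1 : g 1 = dt i 1)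
    (h2 : g 2 = dt i 2) (h4 : g 4 = dt i 4) (h8 : g 8 = dt i 8) : g ∈ Q := by
  rw [h.mem]
  refine ⟨i, fun v => ?_⟩
  rw [eq_ev hg v, h1, h2, h4, h8]
  exact (eq_ev (dt_lin i) v).symm

/-- a linear map fixing `3` and `12` and the sets `{1, 2}`, `{4, 8}` is in `Q` -/
theorem mem_Q_of {g : Equiv.Perm V} (hg : Lin g) (h3 : g 3 = 3) (h12 : g 12 = 12)
    (h1 : g 1 = 1 ∨ g 1 = 2) (h4 : g 4 = 4 ∨ g 4 = 8) : g ∈ Q := by
  have e2 : g 2 = g 3 ^^^ g 1 := by rw [← hg]; rfl
  have e8 : g 8 = g 12 ^^^ g 4 := by rw [← hg]; rfl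
  rw [h3] at e2
  rw [h12] at e8
  rcases h1 with h1 | h1 <;> rcases h4 with h4 | h4 <;> rw [h1] at e2 <;> rw [h4] at e8
  · exact h.mem_Q_of_images (i := 0) hg (by rw [h1]; decide +kernel) (by rw [e2]; decide +kernel)
      (by rw [h4]; decide +kernel) (by rw [e8]; decide +kernel)
  · exact h.mem_Q_of_images (i := 2) hg (by rw [h1]; decide +kernel) (by rw [e2]; decide +kernel)
      (by rw [h4]; decide +kernel) (by rw [e8]; decide +kernel)
  · exact h.mem_Q_of_images (i := 1) hg (by rw [h1]; decide +kernel) (by rw [e2]; decide +kernel)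
      (by rw [h4]; decide +kernel) (by rw [e8]; decide +kernel)
  · exact h.mem_Q_of_images (i := 3) hg (by rw [h1]; decide +kernel) (by rw [e2]; decide +kernel)
      (by rw [h4]; decide +kernel) (by rw [e8]; decide +kernel)

set_option maxRecDepth 100000 in
omit h in
theorem key2 : ∀ x : V, par (3 &&& x) = true → par (12 &&& x) = false → ∀ y : V,
    par (3 &&& y) = false → par (12 &&& y) = true →
    ((x = 1 ∨ x = 2) ∧ (y = 4 ∨ y = 8)) ∨
      ∃ i : Fin 8, V1 (fun v => ev x (3 ^^^ x) y (12 ^^^ y) (dt i v)) := by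
  decide +kernel

/-- an element of `X` fixing `3` and `15` is in `Q` -/
theorem mem_Q_of_fix {g : Equiv.Perm V} (hg : g ∈ X) (h3 : g 3 = 3) (h15 : g 15 = 15) :
    g ∈ Q := by
  have hl := h.lin g hg
  obtain ⟨-, a1, a2, -⟩ := h.fix_conj hg h15
  rw [h3] at a1 a2
  have h12 : g 12 = 12 := by
    have : g 12 = g 3 ^^^ g 15 := by rw [← hl]; rfl
    rw [this, h15, h3]; decide
  have b1 := a1 1
  have b2 := a2 1
  have b3 := a1 4
  have b4 := a2 4
  have e12 : (3 : V) ^^^ 15 = 12 := by decide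
  rw [e12] at b2 b4
  rcases key2 (g 1) (by rw [← b1]; decide +kernel) (by rw [← b2]; decide +kernel) (g 4)
    (by rw [← b3]; decide +kernel) (by rw [← b4]; decide +kernel) with ⟨k1, k2⟩ | ⟨i, hi⟩
  · exact h.mem_Q_of hl h3 h12 k1 k2
  · exfalso
    obtain ⟨q, hq, hqv⟩ := h.d_mem i
    refine h.not_V1_fun (mul_mem hg (h.le hq)) (fun v => ?_) hi
    have e2 : g 2 = 3 ^^^ g 1 := by
      have : g 2 = g 3 ^^^ g 1 := by rw [← hl]; rfl
      rw [this, h3]
    have e8 : g 8 = 12 ^^^ g 4 := by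
      have : g 8 = g 12 ^^^ g 4 := by rw [← hl]; rfl
      rw [this, h12]
    rw [Equiv.Perm.mul_apply, hqv, eq_ev hl (dt i v), e2, e8]

omit h in
theorem lin_mul {g k : Equiv.Perm V} (hg : Lin g) (hk : Lin k) : Lin (g * k : Equiv.Perm V) := by
  intro u v
  simp only [Equiv.Perm.mul_apply]
  rw [hk, hg]

omit h in
/-- membership in `X` via an element of `X` -/
theorem mem_of_mul {g k : Equiv.Perm V} (hk : k ∈ X) (hkg : k * g ∈ X) : g ∈ X := by
  have := mul_mem (inv_mem hk) hkg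
  rwa [inv_mul_cancel_left] at this

/-! ### the symmetric group of degree four -/

/-- linear maps preserving the basis -/
def _root_.Cfsg.Agent.TypeLFive.OrbitX.InS4 (g : Equiv.Perm V) : Prop :=
  Lin g ∧ ∀ v ∈ ({1, 2, 4, 8} : Finset V), g v ∈ ({1, 2, 4, 8} : Finset V)

omit h in
theorem inS4_mul {g k : Equiv.Perm V} (hg : InS4 g) (hk : InS4 k) : InS4 (g * k) :=
  ⟨lin_mul hg.1 hk.1, fun v hv => hg.2 _ (hk.2 v hv)⟩

omit h in
theorem inv_preserves {g : Equiv.Perm V} {s : Finset V} (hs : ∀ v ∈ s, g v ∈ s) :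
    ∀ v ∈ s, g⁻¹ v ∈ s := by
  intro v hv
  have h1 : s.image g = s := by
    apply Finset.eq_of_subset_of_card_le
    · intro w hw
      obtain ⟨u, hu, rfl⟩ := Finset.mem_image.mp hw
      exact hs u hu
    · rw [Finset.card_image_of_injective _ g.injective]
  rw [← h1] at hv
  obtain ⟨u, hu, rfl⟩ := Finset.mem_image.mp hv
  simpa using hu

omit h in
theorem inS4_inv {g : Equiv.Perm V} (hg : InS4 g) : InS4 g⁻¹ :=
  ⟨lin_inv hg.1, inv_preserves hg.2⟩

theorem inS4_of_mem_Q {g : Equiv.Perm V} (hg : g ∈ Q) : InS4 g := by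
  obtain ⟨i, hi⟩ := (h.mem g).mp hg
  refine ⟨h.lin g (h.le hg), fun v hv => ?_⟩
  rw [hi]
  have : ∀ i : Fin 8, ∀ v ∈ ({1, 2, 4, 8} : Finset V), dt i v ∈ ({1, 2, 4, 8} : Finset V) := by
    decide +kernel
  exact this i v hv

omit h in
theorem inS4_15 {g : Equiv.Perm V} (hg : InS4 g) : g 15 = 15 := by
  have h1 : g 15 = g 1 ^^^ g 2 ^^^ g 4 ^^^ g 8 := by
    rw [← hg.1, ← hg.1, ← hg.1]; rfl
  have key : ∀ a ∈ ({1, 2, 4, 8} : Finset V), ∀ b ∈ ({1, 2, 4, 8} : Finset V),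
      ∀ c ∈ ({1, 2, 4, 8} : Finset V), ∀ d ∈ ({1, 2, 4, 8} : Finset V),
      a ≠ b → a ≠ c → a ≠ d → b ≠ c → b ≠ d → c ≠ d → a ^^^ b ^^^ c ^^^ d = 15 := by
    decide +kernel
  have hne : ∀ u v : V, u ≠ v → g u ≠ g v := fun u v huv he => huv (g.injective he)
  rw [h1]
  exact key _ (hg.2 1 (by decide)) _ (hg.2 2 (by decide)) _ (hg.2 4 (by decide)) _
    (hg.2 8 (by decide)) (hne _ _ (by decide)) (hne _ _ (by decide)) (hne _ _ (by decide))
    (hne _ _ (by decide)) (hne _ _ (by decide)) (hne _ _ (by decide))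

set_option maxRecDepth 100000 in
omit h in
theorem key3 : ∀ c : V, par (c &&& c) = false → c ≠ 0 → c ≠ 15 →
    (∃ i : Fin 8, dt i c = 3) ∨ ∃ i : Fin 8, T c c (dt i c) = 3 := by decide +kernel

omit h in
theorem T_S4 : ∀ c : V, par (c &&& c) = false → c ≠ 0 → c ≠ 15 →
    ∀ v ∈ ({1, 2, 4, 8} : Finset V), T c c v ∈ ({1, 2, 4, 8} : Finset V) := by decide +kernel

/-- `X_z ≤ S₄` -/
theorem inS4_of_fix {g : Equiv.Perm V} (hg : g ∈ X) (h15 : g 15 = 15) : InS4 g := by
  obtain ⟨hT, -, -, h0⟩ := h.fix_conj hg h15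
  have hc15 : g 3 ≠ 15 := h.nz g hg
  have hpar : par (g 3 &&& g 3) = false := by
    obtain ⟨-, a1, -, -⟩ := h.fix_conj hg h15
    rw [← a1]; decide +kernel
  rcases key3 (g 3) hpar h0 hc15 with ⟨i, hi⟩ | ⟨i, hi⟩
  · obtain ⟨q, hq, hqv⟩ := h.d_mem i
    have h1 : q * g ∈ Q := h.mem_Q_of_fix (mul_mem (h.le hq) hg)
      (by rw [Equiv.Perm.mul_apply, hqv, hi])
      (by rw [Equiv.Perm.mul_apply, h15]; exact inS4_15 (h.inS4_of_mem_Q hq))
    have h2 := inS4_mul (inS4_inv (h.inS4_of_mem_Q hq)) (h.inS4_of_mem_Q h1)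
    rwa [inv_mul_cancel_left] at h2
  · obtain ⟨q, hq, hqv⟩ := h.d_mem i
    obtain ⟨t, ht, htv⟩ := hT
    have htS : InS4 t := ⟨h.lin t ht, fun v hv => by
      rw [htv]; exact T_S4 _ hpar h0 hc15 v hv⟩
    have h1 : t * (q * g) ∈ Q := h.mem_Q_of_fix (mul_mem ht (mul_mem (h.le hq) hg))
      (by rw [Equiv.Perm.mul_apply, Equiv.Perm.mul_apply, hqv, htv, hi])
      (by rw [Equiv.Perm.mul_apply, Equiv.Perm.mul_apply, h15,
        inS4_15 (h.inS4_of_mem_Q hq)]; exact inS4_15 htS)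
    have h2 := inS4_mul (inS4_inv htS) (h.inS4_of_mem_Q h1)
    rw [inv_mul_cancel_left] at h2
    have h3 := inS4_mul (inS4_inv (h.inS4_of_mem_Q hq)) h2
    rwa [inv_mul_cancel_left] at h3

omit h in
theorem T_conj_dt : ∀ i : Fin 8, ∀ j : Fin 8, (∀ v, dt i (dt j v) = v) → ∀ c : V,
    par (c &&& c) = false → ∀ v, dt i (T c c (dt j v)) = T (dt i c) (dt i c) v := by
  decide +kernel

/-- conjugating a transposition by `Q` -/
theorem hasT_dt {c : V} (hc : HasT X c c) (hp : par (c &&& c) = false) (i : Fin 8) :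
    HasT X (dt i c) (dt i c) := by
  obtain ⟨t, ht, htv⟩ := hc
  obtain ⟨q, hq, hqv⟩ := h.d_mem i
  obtain ⟨j, hj⟩ := (h.mem _).mp (inv_mem hq)
  refine ⟨q * t * q⁻¹, mul_mem (mul_mem (h.le hq) ht) (inv_mem (h.le hq)), fun v => ?_⟩
  have e : (q * t * q⁻¹) v = q (t (q⁻¹ v)) := rfl
  rw [e, hj, htv, hqv]
  apply T_conj_dt i j _ c hp v
  intro v
  rw [← hqv, ← hj]
  simp

omit h in
theorem dt_trans : ∀ c ∈ ({5, 6, 9, 10} : Finset V), ∀ d ∈ ({5, 6, 9, 10} : Finset V),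
    ∃ i : Fin 8, dt i c = d := by decide +kernel

set_option maxRecDepth 100000 in
omit h in
theorem key4 : ∀ c : V, par (c &&& c) = false → c ≠ 0 → c ≠ 15 →
    (∃ i : Fin 8, dt i c = 3) ∨ (c ∈ ({5, 6, 9, 10} : Finset V) ∧ ∃ i : Fin 8, T c c (dt i c) = 3) := by
  decide +kernel

/-- if `X` contains one of the other four transpositions then `S₄ ≤ X` -/
theorem S4_le {c : V} (hc : c ∈ ({5, 6, 9, 10} : Finset V)) (hT : HasT X c c)
    {g : Equiv.Perm V} (hg : InS4 g) : g ∈ X := by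
  have hp : ∀ c ∈ ({5, 6, 9, 10} : Finset V), par (c &&& c) = false := by decide +kernel
  have hall : ∀ d ∈ ({5, 6, 9, 10} : Finset V), HasT X d d := by
    intro d hd
    obtain ⟨i, hi⟩ := dt_trans c hc d hd
    rw [← hi]
    exact h.hasT_dt hT (hp c hc) i
  -- an element of `S₄` fixing `3`
  have hfix : ∀ k : Equiv.Perm V, InS4 k → k 3 = 3 → k ∈ Q := by
    intro k hk h3
    have e12 : k 12 = k 15 ^^^ k 3 := by rw [← hk.1]; rfl
    rw [h3, inS4_15 hk] at e12
    have e3 : k 3 = k 1 ^^^ k 2 := by rw [← hk.1]; rfl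
    have e12' : k 12 = k 4 ^^^ k 8 := by rw [← hk.1]; rfl
    have key : ∀ a ∈ ({1, 2, 4, 8} : Finset V), ∀ b ∈ ({1, 2, 4, 8} : Finset V),
        (a ^^^ b = 3 → a = 1 ∨ a = 2) ∧ (a ^^^ b = 12 → a = 4 ∨ a = 8) := by decide +kernel
    refine h.mem_Q_of hk.1 h3 (by rw [e12]; decide) ?_ ?_
    · exact (key _ (hk.2 1 (by decide)) _ (hk.2 2 (by decide))).1 (by rw [← e3, h3])
    · exact (key _ (hk.2 4 (by decide)) _ (hk.2 8 (by decide))).2
        (by rw [← e12', e12]; decide)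
  have hpar : par (g 3 &&& g 3) = false ∧ g 3 ≠ 0 ∧ g 3 ≠ 15 := by
    have e3 : g 3 = g 1 ^^^ g 2 := by rw [← hg.1]; rfl
    have key : ∀ a ∈ ({1, 2, 4, 8} : Finset V), ∀ b ∈ ({1, 2, 4, 8} : Finset V), a ≠ b →
        par ((a ^^^ b) &&& (a ^^^ b)) = false ∧ (a ^^^ b) ≠ 0 ∧ (a ^^^ b) ≠ 15 := by
      decide +kernel
    rw [e3]
    exact key _ (hg.2 1 (by decide)) _ (hg.2 2 (by decide))
      (fun he => absurd (g.injective he) (by decide))
  rcases key4 (g 3) hpar.1 hpar.2.1 hpar.2.2 with ⟨i, hi⟩ | ⟨hm, i, hi⟩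
  · obtain ⟨q, hq, hqv⟩ := h.d_mem i
    have h1 : q * g ∈ Q := hfix _ (inS4_mul (h.inS4_of_mem_Q hq) hg)
      (by rw [Equiv.Perm.mul_apply, hqv, hi])
    exact mem_of_mul (h.le hq) (h.le h1)
  · obtain ⟨q, hq, hqv⟩ := h.d_mem i
    obtain ⟨t, ht, htv⟩ := hall _ hm
    have htS : InS4 t := ⟨h.lin t ht, fun v hv => by
      rw [htv]; exact T_S4 _ hpar.1 hpar.2.1 hpar.2.2 v hv⟩
    have h1 : t * (q * g) ∈ Q := hfix _ (inS4_mul htS (inS4_mul (h.inS4_of_mem_Q hq) hg))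
      (by rw [Equiv.Perm.mul_apply, Equiv.Perm.mul_apply, hqv, htv, hi])
    exact mem_of_mul (h.le hq) (mem_of_mul ht (h.le h1))

/-- `X_z` is `Q` or `S₄` -/
theorem fix_cases : (∀ g ∈ X, g 15 = 15 → g ∈ Q) ∨ (∀ g, InS4 g → g ∈ X) := by
  by_cases hall : ∀ g ∈ X, g 15 = 15 → g ∈ Q
  · exact Or.inl hall
  right
  push Not at hall
  obtain ⟨g, hg, h15, hgQ⟩ := hall
  obtain ⟨hT, a1, -, h0⟩ := h.fix_conj hg h15
  have hc15 : g 3 ≠ 15 := h.nz g hg
  have hpar : par (g 3 &&& g 3) = false := by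
    rw [← a1]; decide +kernel
  rcases key4 (g 3) hpar h0 hc15 with ⟨i, hi⟩ | ⟨hm, -⟩
  · exfalso
    obtain ⟨q, hq, hqv⟩ := h.d_mem i
    have h1 : q * g ∈ Q := h.mem_Q_of_fix (mul_mem (h.le hq) hg)
      (by rw [Equiv.Perm.mul_apply, hqv, hi])
      (by rw [Equiv.Perm.mul_apply, h15]; exact inS4_15 (h.inS4_of_mem_Q hq))
    have := mul_mem (inv_mem hq) h1
    rw [inv_mul_cancel_left] at this
    exact hgQ this
  · intro k hk
    exact h.S4_le hm hT hk


/-! ### the orbit of `15` -/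

/-- `v` is in the orbit of `15` -/
def _root_.Cfsg.Agent.TypeLFive.OrbitX.Orb (X : Subgroup (Equiv.Perm V)) (v : V) : Prop :=
  ∃ g ∈ X, g 15 = v

omit h in
theorem orb_apply {g : Equiv.Perm V} (hg : g ∈ X) {v : V} (hv : Orb X v) : Orb X (g v) := by
  obtain ⟨k, hk, rfl⟩ := hv
  exact ⟨g * k, mul_mem hg hk, rfl⟩

omit h in
theorem orb_iff {g : Equiv.Perm V} (hg : g ∈ X) (v : V) : Orb X (g v) ↔ Orb X v := by
  refine ⟨fun hv => ?_, orb_apply hg⟩
  have := orb_apply (inv_mem hg) hv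
  simpa using this

theorem orb_dt (i : Fin 8) (v : V) : Orb X (dt i v) ↔ Orb X v := by
  obtain ⟨q, hq, hqv⟩ := h.d_mem i
  rw [← hqv]
  exact orb_iff (h.le hq) v

theorem orb_3 : ¬ Orb X 3 := by
  rintro ⟨g, hg, h1⟩
  exact h.ne_three hg h1

theorem orb_12 : ¬ Orb X 12 := by
  rintro ⟨g, hg, h1⟩
  exact h.ne_twelve hg h1

theorem orb_0 : ¬ Orb X 0 := by
  rintro ⟨g, hg, h1⟩
  have h2 : g 15 = g 0 := by rw [h1, lin_zero (h.lin g hg)]
  exact absurd (g.injective h2) (by decide)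

omit h in
theorem orb_15 : Orb X 15 := ⟨1, one_mem X, rfl⟩

theorem orb_wt1 : (Orb X 2 ↔ Orb X 1) ∧ (Orb X 4 ↔ Orb X 1) ∧ (Orb X 8 ↔ Orb X 1) :=
  ⟨h.orb_dt 1 1, h.orb_dt 4 1, h.orb_dt 5 1⟩

theorem orb_wt2 : (Orb X 6 ↔ Orb X 5) ∧ (Orb X 9 ↔ Orb X 5) ∧ (Orb X 10 ↔ Orb X 5) :=
  ⟨h.orb_dt 1 5, h.orb_dt 2 5, h.orb_dt 3 5⟩

theorem orb_wt3 : (Orb X 11 ↔ Orb X 7) ∧ (Orb X 13 ↔ Orb X 7) ∧ (Orb X 14 ↔ Orb X 7) :=
  ⟨h.orb_dt 2 7, h.orb_dt 4 7, h.orb_dt 6 7⟩

/-- the possible orbits of `15` -/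
theorem orb_cases :
    (∀ v, Orb X v ↔ v ∈ ({15} : Finset V)) ∨ (∀ v, Orb X v ↔ v ∈ ({15, 7, 11, 13, 14} : Finset V)) ∨
    (∀ v, Orb X v ↔ v ∈ ({15, 1, 2, 4, 8} : Finset V)) ∨
    (∀ v, Orb X v ↔ v ∈ ({15, 7, 11, 13, 14, 5, 6, 9, 10} : Finset V)) ∨
    (∀ v, Orb X v ↔ v ∈ ({15, 1, 2, 4, 8, 5, 6, 9, 10} : Finset V)) := by
  obtain ⟨a1, a2, a3⟩ := h.orb_wt1
  obtain ⟨b1, b2, b3⟩ := h.orb_wt2
  obtain ⟨c1, c2, c3⟩ := h.orb_wt3
  have n0 := h.orb_0
  have n3 := h.orb_3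
  have n12 := h.orb_12
  have n15 : Orb X 15 := orb_15
  -- if the orbit is given by a set then elements of `X` preserve it
  have hset : ∀ s : Finset V, (∀ v, Orb X v ↔ v ∈ s) → ∀ g ∈ X, ∀ v, g v ∈ s ↔ v ∈ s := by
    intro s hs g hg v
    rw [← hs, ← hs]
    exact orb_iff hg v
  by_cases o1 : Orb X 1 <;> by_cases o5 : Orb X 5 <;> by_cases o7 : Orb X 7
  · -- 13
    exfalso
    have hs : ∀ v, Orb X v ↔ v ∈ ({15, 1, 2, 4, 8, 5, 6, 9, 10, 7, 11, 13, 14} : Finset V) := by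
      intro v
      fin_cases v <;> simp [*]
    obtain ⟨g, hg, h1⟩ := o1
    have h3 := (hset _ hs g hg 3).not.mpr (by decide)
    have h12 := (hset _ hs g hg 12).not.mpr (by decide)
    have e : g 15 = g 3 ^^^ g 12 := by rw [← h.lin g hg]; rfl
    have hne : g 3 ≠ g 12 := fun he => absurd (g.injective he) (by decide)
    have hn3 : g 3 ≠ 0 := fun he => by
      rw [← lin_zero (h.lin g hg)] at he
      exact absurd (g.injective he) (by decide)
    have hn12 : g 12 ≠ 0 := fun he => by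
      rw [← lin_zero (h.lin g hg)] at he
      exact absurd (g.injective he) (by decide)
    rw [h1] at e
    have key : ∀ x y : V, x ∉ ({15, 1, 2, 4, 8, 5, 6, 9, 10, 7, 11, 13, 14} : Finset V) →
        y ∉ ({15, 1, 2, 4, 8, 5, 6, 9, 10, 7, 11, 13, 14} : Finset V) → x ≠ y → x ≠ 0 → y ≠ 0 →
        1 ≠ x ^^^ y := by decide +kernel
    exact key _ _ h3 h12 hne hn3 hn12 e
  · right; right; right; right
    intro v
    fin_cases v <;> simp [*]
  · -- wt1 + wt3
    exfalso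
    have hs : ∀ v, Orb X v ↔ v ∈ ({15, 1, 2, 4, 8, 7, 11, 13, 14} : Finset V) := by
      intro v
      fin_cases v <;> simp [*]
    obtain ⟨g, hg, h1⟩ := o1
    have h3 := (hset _ hs g hg 3).not.mpr (by decide)
    have h12 := (hset _ hs g hg 12).not.mpr (by decide)
    have e : g 15 = g 3 ^^^ g 12 := by rw [← h.lin g hg]; rfl
    rw [h1] at e
    have key : ∀ x y : V, x ∉ ({15, 1, 2, 4, 8, 7, 11, 13, 14} : Finset V) →
        y ∉ ({15, 1, 2, 4, 8, 7, 11, 13, 14} : Finset V) → 1 ≠ x ^^^ y := by decide +kernel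
    exact key _ _ h3 h12 e
  · right; right; left
    intro v
    fin_cases v <;> simp [*]
  · right; right; right; left
    intro v
    fin_cases v <;> simp [*]
  · -- 2'
    exfalso
    have hs : ∀ v, Orb X v ↔ v ∈ ({15, 5, 6, 9, 10} : Finset V) := by
      intro v
      fin_cases v <;> simp [*]
    obtain ⟨g, hg, h1⟩ := o5
    have h5 := (hset _ hs g hg 5).mpr (by decide)
    have h10 := (hset _ hs g hg 10).mpr (by decide)
    have h6 := (hset _ hs g hg 6).mpr (by decide)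
    have h9 := (hset _ hs g hg 9).mpr (by decide)
    have e : g 15 = g 5 ^^^ g 10 := by rw [← h.lin g hg]; rfl
    have e' : g 15 = g 6 ^^^ g 9 := by rw [← h.lin g hg]; rfl
    rw [h1] at e e'
    have key : ∀ x ∈ ({15, 5, 6, 9, 10} : Finset V), ∀ y ∈ ({15, 5, 6, 9, 10} : Finset V),
        5 = x ^^^ y → (x = 15 ∧ y = 10) ∨ (x = 10 ∧ y = 15) := by decide +kernel
    have hne : g 5 ≠ g 6 := fun he => absurd (g.injective he) (by decide)
    have hne' : g 5 ≠ g 9 := fun he => absurd (g.injective he) (by decide)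
    rcases key _ h5 _ h10 e with ⟨k1, k2⟩ | ⟨k1, k2⟩ <;> rcases key _ h6 _ h9 e' with ⟨l1, l2⟩ | ⟨l1, l2⟩
    · exact hne (k1.trans l1.symm)
    · exact hne' (k1.trans l2.symm)
    · exact hne' (k1.trans l2.symm)
    · exact hne (k1.trans l1.symm)
  · right; left
    intro v
    fin_cases v <;> simp [*]
  · left
    intro v
    fin_cases v <;> simp [*]


/-! ### the case of five points -/

/-- linear maps preserving the set `s` -/
def _root_.Cfsg.Agent.TypeLFive.OrbitX.Pres (s : Finset V) (g : Equiv.Perm V) : Prop :=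
  Lin g ∧ ∀ v ∈ s, g v ∈ s

omit h in
theorem pres_mul {s : Finset V} {g k : Equiv.Perm V} (hg : Pres s g) (hk : Pres s k) :
    Pres s (g * k) :=
  ⟨lin_mul hg.1 hk.1, fun v hv => hg.2 _ (hk.2 v hv)⟩

/-- masks and centres of the transvections conjugate under `Q` -/
theorem hasT_dt' {m c : V} (hc : HasT X m c) (i : Fin 8) :
    ∃ α, (∀ v, par (m &&& v) = par (α &&& dt i v)) ∧ HasT X α (dt i c) := by
  obtain ⟨q, hq, hqv⟩ := h.d_mem i
  obtain ⟨α, h1, h2⟩ := h.hasT_conj (h.le hq) hc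
  rw [hqv] at h2
  refine ⟨α, fun v => ?_, h2⟩
  rw [h1 v, hqv]

omit h in
/-- the transposition `(15, w)` is `T w (15 + w)` -/
theorem key5 : ∀ α : V, ∀ a ∈ ({15, 7, 11, 13, 14} : Finset V),
    ∀ b ∈ ({15, 7, 11, 13, 14} : Finset V), a ≠ b →
    (∀ v ∈ ({15, 7, 11, 13, 14} : Finset V), par (α &&& v) = true ↔ v = a ∨ v = b) →
    (a = 15 → α = b) ∧ (b = 15 → α = a) ∧ (a ≠ 15 → b ≠ 15 → α = a ^^^ b) := by
  decide +kernel

/-- Orbit of `15` of length five: `X` consists of all linear maps preserving it. -/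
theorem five (ho : ∀ v, Orb X v ↔ v ∈ ({15, 7, 11, 13, 14} : Finset V)) (g : Equiv.Perm V) :
    g ∈ X ↔ Pres {15, 7, 11, 13, 14} g := by
  have hX : ∀ g ∈ X, Pres {15, 7, 11, 13, 14} g := fun g hg =>
    ⟨h.lin g hg, fun v hv => (ho _).mp (orb_apply hg ((ho v).mpr hv))⟩
  refine ⟨hX g, ?_⟩
  -- the transposition `(15, w)` for some `w`
  have hone : ∃ w ∈ ({7, 11, 13, 14} : Finset V), HasT X w (15 ^^^ w) := by
    obtain ⟨k, hk, hk7⟩ := (ho 7).mpr (by decide)
    have hkX := hX k hk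
    -- conjugates of the transpositions `(13, 14)` and `(7, 11)`
    obtain ⟨α, a1, a2⟩ := h.hasT_conj hk h.hasT_one
    obtain ⟨β, b1, b2⟩ := h.hasT_conj hk h.hasT_two
    have hkinv : ∀ v ∈ ({15, 7, 11, 13, 14} : Finset V), k⁻¹ v ∈ ({15, 7, 11, 13, 14} : Finset V) :=
      inv_preserves hkX.2
    have hα : ∀ v ∈ ({15, 7, 11, 13, 14} : Finset V), par (α &&& v) = true ↔ v = k 13 ∨ v = k 14 := by
      intro v hv
      have h1 := a1 (k⁻¹ v)
      rw [show k (k⁻¹ v) = v by simp] at h1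
      rw [← h1]
      have key : ∀ u ∈ ({15, 7, 11, 13, 14} : Finset V), par (3 &&& u) = true ↔ u = 13 ∨ u = 14 := by
        decide +kernel
      rw [key _ (hkinv v hv), Equiv.Perm.inv_eq_iff_eq, Equiv.Perm.inv_eq_iff_eq]
    have hβ : ∀ v ∈ ({15, 7, 11, 13, 14} : Finset V), par (β &&& v) = true ↔ v = k 7 ∨ v = k 11 := by
      intro v hv
      have h1 := b1 (k⁻¹ v)
      rw [show k (k⁻¹ v) = v by simp] at h1
      rw [← h1]
      have key : ∀ u ∈ ({15, 7, 11, 13, 14} : Finset V), par (12 &&& u) = true ↔ u = 7 ∨ u = 11 := by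
        decide +kernel
      rw [key _ (hkinv v hv), Equiv.Perm.inv_eq_iff_eq, Equiv.Perm.inv_eq_iff_eq]
    have e3 : k 3 = k 13 ^^^ k 14 := by rw [← hkX.1]; rfl
    have e12 : k 12 = k 7 ^^^ k 11 := by rw [← hkX.1]; rfl
    have hne : ∀ u v : V, u ≠ v → k u ≠ k v := fun u v huv he => huv (k.injective he)
    have ka := key5 α _ (hkX.2 13 (by decide)) _ (hkX.2 14 (by decide)) (hne _ _ (by decide)) hα
    have kb := key5 β _ (hkX.2 7 (by decide)) _ (hkX.2 11 (by decide)) (hne _ _ (by decide)) hβ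
    rw [e3] at a2
    rw [e12] at b2
    have hmem : ∀ v ∈ ({15, 7, 11, 13, 14} : Finset V), v ≠ 15 → v ∈ ({7, 11, 13, 14} : Finset V) := by
      decide
    have hcomm : ∀ x y : V, x ^^^ y = y ^^^ x := by decide +kernel
    -- `15` is the image of one of `7, 11, 13, 14`
    have h15 := hkinv 15 (by decide)
    have hcases : ∀ u ∈ ({15, 7, 11, 13, 14} : Finset V), u = 15 ∨ u = 7 ∨ u = 11 ∨ u = 13 ∨ u = 14 := by
      decide
    rcases hcases _ h15 with h1 | h1 | h1 | h1 | h1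
    · exfalso
      have h2 : k (k⁻¹ 15) = 15 := by simp
      rw [h1, hk7] at h2
      exact absurd h2 (by decide)
    · have h2 : k 7 = 15 := by rw [← h1]; simp
      refine ⟨k 11, hmem _ (hkX.2 11 (by decide)) ?_, ?_⟩
      · rw [← h2]; exact hne _ _ (by decide)
      · rw [kb.1 h2, h2] at b2
        exact b2
    · have h2 : k 11 = 15 := by rw [← h1]; simp
      refine ⟨k 7, hmem _ (hkX.2 7 (by decide)) ?_, ?_⟩
      · rw [← h2]; exact hne _ _ (by decide)
      · rw [kb.2.1 h2, h2, hcomm] at b2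
        exact b2
    · have h2 : k 13 = 15 := by rw [← h1]; simp
      refine ⟨k 14, hmem _ (hkX.2 14 (by decide)) ?_, ?_⟩
      · rw [← h2]; exact hne _ _ (by decide)
      · rw [ka.1 h2, h2] at a2
        exact a2
    · have h2 : k 14 = 15 := by rw [← h1]; simp
      refine ⟨k 13, hmem _ (hkX.2 13 (by decide)) ?_, ?_⟩
      · rw [← h2]; exact hne _ _ (by decide)
      · rw [ka.2.1 h2, h2, hcomm] at a2
        exact a2
  -- all the transpositions `(15, w)`
  have hall : ∀ w ∈ ({7, 11, 13, 14} : Finset V), HasT X w (15 ^^^ w) := by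
    obtain ⟨w, hw, hT⟩ := hone
    intro w' hw'
    have key : ∀ w ∈ ({7, 11, 13, 14} : Finset V), ∀ w' ∈ ({7, 11, 13, 14} : Finset V),
        ∃ i : Fin 8, dt i (15 ^^^ w) = 15 ^^^ w' ∧
          ∀ α : V, (∀ v, par (w &&& v) = par (α &&& dt i v)) → α = w' := by decide +kernel
    obtain ⟨i, hi1, hi2⟩ := key w hw w' hw'
    obtain ⟨α, h1, h2⟩ := h.hasT_dt' hT i
    rw [hi1, hi2 α h1] at h2
    exact h2
  -- `S₄ ≤ X`
  have hS4 : ∀ g, InS4 g → g ∈ X := by
    intro g hg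
    refine h.S4_le (c := 5) (by decide) ?_ hg
    obtain ⟨t1, ht1, hv1⟩ := hall 14 (by decide)
    obtain ⟨t2, ht2, hv2⟩ := hall 11 (by decide)
    refine ⟨t1 * (t2 * t1), mul_mem ht1 (mul_mem ht2 ht1), fun v => ?_⟩
    rw [Equiv.Perm.mul_apply, Equiv.Perm.mul_apply, hv1, hv2, hv1]
    have : ∀ v, T 14 (15 ^^^ 14) (T 11 (15 ^^^ 11) (T 14 (15 ^^^ 14) v)) = T 5 5 v := by
      decide +kernel
    exact this v
  intro hg
  have hfix : ∀ k, Pres {15, 7, 11, 13, 14} k → k 15 = 15 → k ∈ X := by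
    intro k hk h15
    apply hS4
    refine ⟨hk.1, fun v hv => ?_⟩
    have key0 : ∀ v ∈ ({1, 2, 4, 8} : Finset V), v = 15 ^^^ (15 ^^^ v) ∧
        15 ^^^ v ∈ ({15, 7, 11, 13, 14} : Finset V) ∧ 15 ^^^ v ≠ 15 := by decide +kernel
    obtain ⟨c1, c2, c3⟩ := key0 v hv
    have e : k v = k 15 ^^^ k (15 ^^^ v) := by
      rw [← hk.1, ← c1]
    have h1 := hk.2 (15 ^^^ v) c2
    have h2 : k (15 ^^^ v) ≠ 15 := by
      intro he
      rw [← h15] at he
      have h3 := k.injective he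
      rw [h15] at h3
      exact c3 h3
    rw [e, h15]
    have key : ∀ u ∈ ({15, 7, 11, 13, 14} : Finset V), u ≠ 15 →
        15 ^^^ u ∈ ({1, 2, 4, 8} : Finset V) := by decide +kernel
    exact key _ h1 h2
  by_cases h15 : g 15 = 15
  · exact hfix g hg h15
  · have h1 := hg.2 15 (by decide)
    have hmem : ∀ v ∈ ({15, 7, 11, 13, 14} : Finset V), v ≠ 15 → v ∈ ({7, 11, 13, 14} : Finset V) := by
      decide
    obtain ⟨t, ht, htv⟩ := hall _ (hmem _ h1 h15)
    apply mem_of_mul ht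
    apply hfix
    · exact pres_mul (hX t ht) hg
    · rw [Equiv.Perm.mul_apply, htv]
      have key : ∀ w ∈ ({7, 11, 13, 14} : Finset V), T w (15 ^^^ w) w = 15 := by decide +kernel
      exact key _ (hmem _ h1 h15)


/-! ### the case of nine points -/

set_option maxRecDepth 100000 in
omit h in
theorem key9 : ∀ c ∈ ({1, 2, 3, 4, 8, 12} : Finset V), ∀ d ∈ ({1, 2, 3, 4, 8, 12} : Finset V),
    c ^^^ d ≠ 0 → c ^^^ d ∉ ({1, 2, 3, 4, 8, 12} : Finset V) →
    ∃ i : Fin 8, ∃ x ∈ ({(0, 0), (2, 1), (1, 2)} : Finset (V × V)),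
      ∃ y ∈ ({(0, 0), (8, 4), (4, 8)} : Finset (V × V)),
      T x.1 x.2 (T y.1 y.2 (dt i c)) = 3 ∧ T x.1 x.2 (T y.1 y.2 (dt i d)) = 12 := by
  decide +kernel

/-- Orbit of `15` of length nine: `X` consists of all linear maps preserving
`{1, 2, 3} ∪ {4, 8, 12}`. -/
theorem nine (ho : ∀ v, Orb X v ↔ v ∈ ({15, 7, 11, 13, 14, 5, 6, 9, 10} : Finset V))
    (g : Equiv.Perm V) : g ∈ X ↔ Pres {1, 2, 3, 4, 8, 12} g := by
  have hX : ∀ g ∈ X, Pres {1, 2, 3, 4, 8, 12} g := by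
    intro g hg
    refine ⟨h.lin g hg, fun v hv => ?_⟩
    have key : ∀ v : V, v ∈ ({1, 2, 3, 4, 8, 12} : Finset V) ↔
        v ∉ ({15, 7, 11, 13, 14, 5, 6, 9, 10} : Finset V) ∧ v ≠ 0 := by decide +kernel
    rw [key] at hv ⊢
    refine ⟨?_, ?_⟩
    · rw [← ho, orb_iff hg, ho]
      exact hv.1
    · intro h1
      rw [← lin_zero (h.lin g hg)] at h1
      exact hv.2 (g.injective h1)
  refine ⟨hX g, ?_⟩
  have hone : HasT X 8 4 := by
    obtain ⟨k, hk, hk7⟩ := (ho 7).mpr (by decide)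
    have hkX := hX k hk
    obtain ⟨α, a1, a2⟩ := h.hasT_conj hk h.hasT_one
    obtain ⟨β, b1, b2⟩ := h.hasT_conj hk h.hasT_two
    have e3 : k 3 = k 1 ^^^ k 2 := by rw [← hkX.1]; rfl
    have e12 : k 12 = k 4 ^^^ k 8 := by rw [← hkX.1]; rfl
    have e15 : k 15 = k 3 ^^^ k 12 := by rw [← hkX.1]; rfl
    have k1 := hkX.2 1 (by decide)
    have k2 := hkX.2 2 (by decide)
    have k4 := hkX.2 4 (by decide)
    have k8 := hkX.2 8 (by decide)
    have k3 := hkX.2 3 (by decide)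
    have k12 := hkX.2 12 (by decide)
    have key : ∀ x ∈ ({1, 2, 3, 4, 8, 12} : Finset V), ∀ y ∈ ({1, 2, 3, 4, 8, 12} : Finset V),
        7 = x ^^^ y → (x = 3 ∧ y = 4) ∨ (x = 4 ∧ y = 3) := by decide +kernel
    have key' : ∀ x ∈ ({1, 2, 3, 4, 8, 12} : Finset V), ∀ y ∈ ({1, 2, 3, 4, 8, 12} : Finset V),
        (4 = x ^^^ y → (x = 8 ∧ y = 12) ∨ (x = 12 ∧ y = 8)) ∧
        (3 = x ^^^ y → (x = 1 ∧ y = 2) ∨ (x = 2 ∧ y = 1)) := by decide +kernel
    have key'' : ∀ α : V, par (α &&& 8) = true → par (α &&& 12) = true → par (α &&& 1) = false →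
        par (α &&& 2) = false → α = 8 := by decide +kernel
    have t1 : par (3 &&& 1) = true := by decide +kernel
    have t2 : par (3 &&& 2) = true := by decide +kernel
    have t4 : par (3 &&& 4) = false := by decide +kernel
    have t8 : par (3 &&& 8) = false := by decide +kernel
    have s1 : par (12 &&& 1) = false := by decide +kernel
    have s2 : par (12 &&& 2) = false := by decide +kernel
    have s4 : par (12 &&& 4) = true := by decide +kernel
    have s8 : par (12 &&& 8) = true := by decide +kernel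
    rw [hk7] at e15
    rcases key _ k3 _ k12 e15 with ⟨c3, c12⟩ | ⟨c3, c12⟩
    · rw [c3] at e3
      rw [c12] at e12 b2
      have hβ : β = 8 := by
        rcases (key' _ k4 _ k8).1 e12 with ⟨l1, l2⟩ | ⟨l1, l2⟩ <;>
        rcases (key' _ k1 _ k2).2 e3 with ⟨m1, m2⟩ | ⟨m1, m2⟩ <;>
        · apply key''
          all_goals
            first
            | (rw [← l1, ← b1]; assumption)
            | (rw [← l2, ← b1]; assumption)
            | (rw [← m1, ← b1]; assumption)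
            | (rw [← m2, ← b1]; assumption)
      rw [hβ] at b2
      exact b2
    · rw [c3] at e3 a2
      rw [c12] at e12
      have hα : α = 8 := by
        rcases (key' _ k4 _ k8).2 e12 with ⟨l1, l2⟩ | ⟨l1, l2⟩ <;>
        rcases (key' _ k1 _ k2).1 e3 with ⟨m1, m2⟩ | ⟨m1, m2⟩ <;>
        · apply key''
          all_goals
            first
            | (rw [← l1, ← a1]; assumption)
            | (rw [← l2, ← a1]; assumption)
            | (rw [← m1, ← a1]; assumption)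
            | (rw [← m2, ← a1]; assumption)
      rw [hα] at a2
      exact a2
  have hall : ∀ x ∈ ({(0, 0), (2, 1), (1, 2), (8, 4), (4, 8)} : Finset (V × V)),
      HasT X x.1 x.2 := by
    intro x hx
    have key : ∀ x ∈ ({(2, 1), (1, 2), (8, 4), (4, 8)} : Finset (V × V)),
        ∃ i : Fin 8, dt i 4 = x.2 ∧ ∀ α : V, (∀ v, par (8 &&& v) = par (α &&& dt i v)) → α = x.1 := by
      decide +kernel
    have hx' : x = (0, 0) ∨ x ∈ ({(2, 1), (1, 2), (8, 4), (4, 8)} : Finset (V × V)) := by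
      rwa [Finset.mem_insert] at hx
    rcases hx' with rfl | hx'
    · refine ⟨1, one_mem X, fun v => ?_⟩
      have : ∀ v : V, v = T 0 0 v := by decide +kernel
      exact this v
    · obtain ⟨i, hi1, hi2⟩ := key x hx'
      obtain ⟨α, h1, h2⟩ := h.hasT_dt' hone i
      rw [hi1, hi2 α h1] at h2
      exact h2
  intro hg
  have e3 : g 3 = g 1 ^^^ g 2 := by rw [← hg.1]; rfl
  have e15 : g 15 = g 3 ^^^ g 12 := by rw [← hg.1]; rfl
  have h15 : g 15 ≠ 0 := by
    intro h1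
    rw [← lin_zero hg.1] at h1
    exact absurd (g.injective h1) (by decide)
  have h15' : g 15 ∉ ({1, 2, 3, 4, 8, 12} : Finset V) := by
    intro h1
    have h2 := inv_preserves hg.2 _ h1
    rw [show g⁻¹ (g 15) = 15 by simp] at h2
    exact absurd h2 (by decide)
  rw [e15] at h15 h15'
  obtain ⟨i, x, hx, y, hy, h1, h2⟩ := key9 _ (hg.2 3 (by decide)) _ (hg.2 12 (by decide)) h15 h15'
  have hsub : ∀ x ∈ ({(0, 0), (2, 1), (1, 2)} : Finset (V × V)),
      x ∈ ({(0, 0), (2, 1), (1, 2), (8, 4), (4, 8)} : Finset (V × V)) := by decide +kernel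
  have hsub' : ∀ x ∈ ({(0, 0), (8, 4), (4, 8)} : Finset (V × V)),
      x ∈ ({(0, 0), (2, 1), (1, 2), (8, 4), (4, 8)} : Finset (V × V)) := by decide +kernel
  obtain ⟨t, ht, htv⟩ := hall x (hsub x hx)
  obtain ⟨t', ht', htv'⟩ := hall y (hsub' y hy)
  obtain ⟨q, hq, hqv⟩ := h.d_mem i
  apply mem_of_mul (h.le hq)
  apply mem_of_mul ht'
  apply mem_of_mul ht
  apply h.le
  have hk : Pres {1, 2, 3, 4, 8, 12} (t * (t' * (q * g))) :=
    pres_mul (hX t ht) (pres_mul (hX t' ht') (pres_mul (hX q (h.le hq)) hg))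
  set k := t * (t' * (q * g)) with hkd
  have k3 : k 3 = 3 := by
    rw [hkd]
    simp only [Equiv.Perm.mul_apply]
    rw [hqv, htv', htv, h1]
  have k12 : k 12 = 12 := by
    rw [hkd]
    simp only [Equiv.Perm.mul_apply]
    rw [hqv, htv', htv, h2]
  have f3 : k 3 = k 1 ^^^ k 2 := by rw [← hk.1]; rfl
  have f12 : k 12 = k 4 ^^^ k 8 := by rw [← hk.1]; rfl
  have key : ∀ x ∈ ({1, 2, 3, 4, 8, 12} : Finset V), ∀ y ∈ ({1, 2, 3, 4, 8, 12} : Finset V),
      (3 = x ^^^ y → x = 1 ∨ x = 2) ∧ (12 = x ^^^ y → x = 4 ∨ x = 8) := by decide +kernel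
  rw [k3] at f3
  rw [k12] at f12
  exact h.mem_Q_of hk.1 k3 k12 ((key _ (hk.2 1 (by decide)) _ (hk.2 2 (by decide))).1 f3)
    ((key _ (hk.2 4 (by decide)) _ (hk.2 8 (by decide))).2 f12)

/-! ### the twist -/

omit h in
/-- the transvection with centre `15` and mask `15` -/
def _root_.Cfsg.Agent.TypeLFive.OrbitX.sg : Equiv.Perm V where
  toFun := T 15 15
  invFun := T 15 15
  left_inv := by decide +kernel
  right_inv := by decide +kernel

omit h in
theorem sg_lin : Lin sg := by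
  have : Lin (T 15 15) := by decide +kernel
  exact this

omit h in
theorem sg_inv : (sg⁻¹ : Equiv.Perm V) = sg := rfl

omit h in
theorem sg_dt : ∀ i : Fin 8, ∀ v, T 15 15 (dt i (T 15 15 v)) = dt i v := by decide +kernel

theorem sg_conj_Q {q : Equiv.Perm V} (hq : q ∈ Q) : sg * q * sg⁻¹ = q := by
  obtain ⟨i, hi⟩ := (h.mem q).mp hq
  ext v
  have e : (sg * q * sg⁻¹) v = T 15 15 (q (T 15 15 v)) := rfl
  rw [e, hi, hi, sg_dt]

theorem twist : HX (X.map (MulAut.conj sg).toMonoidHom) Q where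
  lin := by
    rintro _ ⟨g, hg, rfl⟩
    exact lin_mul (lin_mul sg_lin (h.lin g hg)) (lin_inv sg_lin)
  le := by
    intro q hq
    exact ⟨q, h.le hq, h.sg_conj_Q hq⟩
  mem := h.mem
  idx := by
    have hQ : Q = Q.map (MulAut.conj sg).toMonoidHom := by
      ext q
      constructor
      · intro hq
        exact ⟨q, hq, h.sg_conj_Q hq⟩
      · rintro ⟨q, hq, rfl⟩
        have := h.sg_conj_Q hq
        show sg * q * sg⁻¹ ∈ Q
        rw [this]
        exact hq
    rw [hQ, relIndex_map_map_of_injective _ _ (MulAut.conj sg).injective]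
    exact h.idx
  nz := by
    rintro _ ⟨g, hg, rfl⟩ h1
    have e : ((MulAut.conj sg).toMonoidHom g : Equiv.Perm V) 3 = T 15 15 (g (T 15 15 3)) := rfl
    rw [e] at h1
    have e3 : T 15 15 3 = 3 := by decide +kernel
    have e15 : ∀ v, T 15 15 v = 15 → v = 15 := by decide +kernel
    rw [e3] at h1
    exact h.nz g hg (e15 _ h1)

omit h in
theorem orb_twist (v : V) : Orb (X.map (MulAut.conj sg).toMonoidHom) v ↔ Orb X (T 15 15 v) := by
  have hinv : ∀ v, T 15 15 (T 15 15 v) = v := by decide +kernel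
  constructor
  · rintro ⟨_, ⟨g, hg, rfl⟩, rfl⟩
    have e : ((MulAut.conj sg).toMonoidHom g : Equiv.Perm V) 15 = T 15 15 (g (T 15 15 15)) := rfl
    have e15 : T 15 15 15 = 15 := by decide +kernel
    rw [e, e15, hinv]
    exact ⟨g, hg, rfl⟩
  · rintro ⟨g, hg, h1⟩
    refine ⟨_, ⟨g, hg, rfl⟩, ?_⟩
    have e : ((MulAut.conj sg).toMonoidHom g : Equiv.Perm V) 15 = T 15 15 (g (T 15 15 15)) := rfl
    have e15 : T 15 15 15 = 15 := by decide +kernel
    rw [e, e15, h1, hinv]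

omit h in
theorem pres_twist {s s' : Finset V} (hs : ∀ v, v ∈ s ↔ T 15 15 v ∈ s') (g : Equiv.Perm V) :
    Pres s (MulAut.conj sg g) ↔ Pres s' g := by
  have hinv : ∀ v, T 15 15 (T 15 15 v) = v := by decide +kernel
  constructor
  · rintro ⟨h1, h2⟩
    refine ⟨?_, fun v hv => ?_⟩
    · have h3 := lin_mul (lin_mul (lin_inv sg_lin) h1) sg_lin
      have e : (sg⁻¹ * (MulAut.conj sg g) * sg : Equiv.Perm V) = g := by
        rw [MulAut.conj_apply]; group
      rwa [e] at h3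
    · have h3 := h2 (T 15 15 v) (by rw [hs, hinv]; exact hv)
      have e : (MulAut.conj sg g) (T 15 15 v) = T 15 15 (g (T 15 15 (T 15 15 v))) := rfl
      rw [e, hinv, hs, hinv] at h3
      exact h3
  · rintro ⟨h1, h2⟩
    refine ⟨lin_mul (lin_mul sg_lin h1) (lin_inv sg_lin), fun v hv => ?_⟩
    have e : (MulAut.conj sg g) v = T 15 15 (g (T 15 15 v)) := rfl
    rw [e, hs, hinv]
    exact h2 _ ((hs v).mp hv)

theorem five' (ho : ∀ v, Orb X v ↔ v ∈ ({15, 1, 2, 4, 8} : Finset V)) (g : Equiv.Perm V) :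
    g ∈ X ↔ Pres {15, 1, 2, 4, 8} g := by
  have h1 := h.twist.five (fun v => by
    rw [orb_twist, ho]
    revert v
    decide +kernel) (MulAut.conj sg g)
  have h2 : MulAut.conj sg g ∈ X.map (MulAut.conj sg).toMonoidHom ↔ g ∈ X := by
    constructor
    · rintro ⟨k, hk, e⟩
      have : k = g := (MulAut.conj sg).injective e
      rwa [← this]
    · intro hg
      exact ⟨g, hg, rfl⟩
  rw [← h2, h1]
  exact pres_twist (by decide +kernel) g

theorem nine' (ho : ∀ v, Orb X v ↔ v ∈ ({15, 1, 2, 4, 8, 5, 6, 9, 10} : Finset V))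
    (g : Equiv.Perm V) : g ∈ X ↔ Pres {14, 13, 3, 11, 7, 12} g := by
  have h1 := h.twist.nine (fun v => by
    rw [orb_twist, ho]
    revert v
    decide +kernel) (MulAut.conj sg g)
  have h2 : MulAut.conj sg g ∈ X.map (MulAut.conj sg).toMonoidHom ↔ g ∈ X := by
    constructor
    · rintro ⟨k, hk, e⟩
      have : k = g := (MulAut.conj sg).injective e
      rwa [← this]
    · intro hg
      exact ⟨g, hg, rfl⟩
  rw [← h2, h1]
  exact pres_twist (by decide +kernel) g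

omit h in
theorem inS4_iff (g : Equiv.Perm V) : InS4 g ↔ Pres {1, 2, 4, 8} g := Iff.rfl

/-- **Classification.** -/
theorem classify :
    X = Q ∨ (∀ g, g ∈ X ↔ Pres {1, 2, 4, 8} g) ∨ (∀ g, g ∈ X ↔ Pres {15, 7, 11, 13, 14} g) ∨
      (∀ g, g ∈ X ↔ Pres {15, 1, 2, 4, 8} g) ∨ (∀ g, g ∈ X ↔ Pres {1, 2, 3, 4, 8, 12} g) ∨
      (∀ g, g ∈ X ↔ Pres {14, 13, 3, 11, 7, 12} g) := by
  rcases h.orb_cases with ho | ho | ho | ho | ho
  · have h15 : ∀ g ∈ X, g 15 = 15 := by
      intro g hg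
      have := (ho (g 15)).mp ⟨g, hg, rfl⟩
      simpa using this
    rcases h.fix_cases with h1 | h1
    · left
      exact le_antisymm (fun g hg => h1 g hg (h15 g hg)) h.le
    · right; left
      intro g
      exact ⟨fun hg => h.inS4_of_fix hg (h15 g hg), h1 g⟩
  · right; right; left
    exact h.five ho
  · right; right; right; left
    exact h.five' ho
  · right; right; right; right; left
    exact h.nine ho
  · right; right; right; right; right
    exact h.nine' ho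

end HX

/-! ### application to groups acting on an elementary abelian group of order 16 -/

/-- `β` numbers an elementary abelian group `E` of order 16 normalised by `N`, the Sylow 2-subgroup
`S0` of `N` induces the dihedral group, `β 3` is not `N`-conjugate to `β 15`. -/
structure Frame {G : Type*} [Group G] (N S0 : Subgroup G) (β : V → G) : Prop where
  inj : Function.Injective β
  add : ∀ u v, β (u ^^^ v) = β u * β v
  norm : ∀ g ∈ N, ∀ v, ∃ w, g * β v * g⁻¹ = β w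
  le : S0 ≤ N
  idx : ¬ 2 ∣ S0.relIndex N
  dih : ∀ s ∈ S0, ∃ i : Fin 8, ∀ v, s * β v * s⁻¹ = β (dt i v)
  dih' : ∀ i : Fin 8, ∃ s ∈ S0, ∀ v, s * β v * s⁻¹ = β (dt i v)
  nz : ∀ g ∈ N, g * β 3 * g⁻¹ ≠ β 15

/-- `N` contains an element inducing `f` -/
def Real {G : Type*} [Group G] (N : Subgroup G) (β : V → G) (f : V → V) : Prop :=
  ∃ g ∈ N, ∀ v, g * β v * g⁻¹ = β (f v)

namespace Frame

variable {G : Type*} [Group G] {N S0 : Subgroup G} {β : V → G} (h : Frame N S0 β)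

include h

/-- the action on `V` -/
noncomputable def act : N →* Equiv.Perm V :=
  MonoidHom.toHomPerm
    { toFun := fun g v => Classical.choose (h.norm g.1 g.2 v)
      map_one' := by
        funext v
        apply h.inj
        have := Classical.choose_spec (h.norm (1 : N).1 (1 : N).2 v)
        rw [← this]
        simp only [coe_one, one_mul, inv_one, mul_one]
        rfl
      map_mul' := by
        intro g k
        funext v
        apply h.inj
        have h1 := Classical.choose_spec (h.norm (g * k : N).1 (g * k : N).2 v)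
        have h2 := Classical.choose_spec (h.norm k.1 k.2 v)
        have h3 := Classical.choose_spec (h.norm g.1 g.2 (Classical.choose (h.norm k.1 k.2 v)))
        show β (Classical.choose (h.norm (g * k : N).1 (g * k : N).2 v)) =
          β (Classical.choose (h.norm g.1 g.2 (Classical.choose (h.norm k.1 k.2 v))))
        rw [← h1, ← h3, ← h2]
        simp only [coe_mul, mul_inv_rev, mul_assoc] }

theorem act_spec (g : N) (v : V) : (g : G) * β v * (g : G)⁻¹ = β (h.act g v) :=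
  Classical.choose_spec (h.norm g.1 g.2 v)

theorem act_eq_of {g : N} {f : V → V} (hf : ∀ v, (g : G) * β v * (g : G)⁻¹ = β (f v)) (v : V) :
    h.act g v = f v := by
  apply h.inj
  rw [← h.act_spec, hf]

theorem act_lin (g : N) : Lin (h.act g) := by
  intro u v
  apply h.inj
  rw [← h.act_spec, h.add, h.add, ← h.act_spec, ← h.act_spec]
  group

theorem hx [Finite G] : HX h.act.range ((S0.subgroupOf N).map h.act) where
  lin := by
    rintro _ ⟨g, rfl⟩
    exact h.act_lin g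
  le := by
    rintro _ ⟨g, -, rfl⟩
    exact ⟨g, rfl⟩
  mem := by
    intro p
    constructor
    · rintro ⟨g, hg, rfl⟩
      obtain ⟨i, hi⟩ := h.dih g hg
      exact ⟨i, h.act_eq_of hi⟩
    · rintro ⟨i, hi⟩
      obtain ⟨s, hs, hsv⟩ := h.dih' i
      refine ⟨⟨s, h.le hs⟩, hs, ?_⟩
      ext v
      rw [h.act_eq_of (g := ⟨s, h.le hs⟩) hsv, hi]
  idx := by
    intro h2
    have h1 : ((S0.subgroupOf N).map h.act).relIndex h.act.range ∣ S0.relIndex N := by
      have e : h.act.range = (⊤ : Subgroup N).map h.act := (MonoidHom.range_eq_map h.act)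
      rw [e, relIndex_map_map]
      have : (⊤ : Subgroup N) ⊔ h.act.ker = ⊤ := top_sup_eq _
      rw [this, relIndex_top_right]
      exact index_dvd_of_le le_sup_left
    exact h.idx (h2.trans h1)
  nz := by
    rintro _ ⟨g, rfl⟩ h1
    apply h.nz g g.2
    rw [h.act_spec, h1]

theorem real_iff (f : Equiv.Perm V) : Real N β f ↔ f ∈ h.act.range := by
  constructor
  · rintro ⟨g, hg, hf⟩
    refine ⟨⟨g, hg⟩, ?_⟩
    ext v
    rw [h.act_eq_of (g := ⟨g, hg⟩) hf]
  · rintro ⟨g, rfl⟩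
    exact ⟨g, g.2, h.act_spec g⟩

theorem exists_perm {g : G} (hg : g ∈ N) :
    ∃ f : Equiv.Perm V, (∀ v, g * β v * g⁻¹ = β (f v)) ∧ Real N β f :=
  ⟨h.act ⟨g, hg⟩, h.act_spec ⟨g, hg⟩, g, hg, h.act_spec ⟨g, hg⟩⟩

theorem lin_of_real {f : V → V} (hf : Real N β f) : Lin f := by
  obtain ⟨g, hg, hv⟩ := hf
  intro u v
  apply h.inj
  rw [← hv, h.add, h.add, ← hv, ← hv]
  group

/-- `Aut_N(E)` is the dihedral group or one of five other groups. -/
theorem classify [Finite G] :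
    (∀ f : Equiv.Perm V, Real N β f ↔ ∃ i : Fin 8, ∀ v, f v = dt i v) ∨
      (∀ f : Equiv.Perm V, Real N β f ↔ Pres {1, 2, 4, 8} f) ∨
      (∀ f : Equiv.Perm V, Real N β f ↔ Pres {15, 7, 11, 13, 14} f) ∨
      (∀ f : Equiv.Perm V, Real N β f ↔ Pres {15, 1, 2, 4, 8} f) ∨
      (∀ f : Equiv.Perm V, Real N β f ↔ Pres {1, 2, 3, 4, 8, 12} f) ∨
      (∀ f : Equiv.Perm V, Real N β f ↔ Pres {14, 13, 3, 11, 7, 12} f) := by
  rcases h.hx.classify with h1 | h1 | h1 | h1 | h1 | h1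
  · left
    intro f
    rw [h.real_iff, h1]
    exact h.hx.mem f
  · right; left
    intro f
    rw [h.real_iff, h1]
  · right; right; left
    intro f
    rw [h.real_iff, h1]
  · right; right; right; left
    intro f
    rw [h.real_iff, h1]
  · right; right; right; right; left
    intro f
    rw [h.real_iff, h1]
  · right; right; right; right; right
    intro f
    rw [h.real_iff, h1]

/-- the stabiliser of `β 15` is the dihedral group or the symmetric group of degree four -/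
theorem fix_cases [Finite G] :
    (∀ f : Equiv.Perm V, Real N β f → f 15 = 15 → ∃ i : Fin 8, ∀ v, f v = dt i v) ∨
      ∀ f : Equiv.Perm V, (Real N β f ∧ f 15 = 15) ↔ Pres {1, 2, 4, 8} f := by
  rcases h.hx.fix_cases with h1 | h1
  · left
    intro f hf h15
    exact (h.hx.mem f).mp (h1 f ((h.real_iff f).mp hf) h15)
  · right
    intro f
    constructor
    · rintro ⟨hf, h15⟩
      exact h.hx.inS4_of_fix ((h.real_iff f).mp hf) h15
    · intro hf
      exact ⟨(h.real_iff f).mpr (h1 f hf), HX.inS4_15 hf⟩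

end Frame

end Cfsg.Agent.TypeLFive.OrbitX
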