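import Mathlib
import Cfsg.Agent.TypeLFive.WRFive
import Cfsg.Agent.TypeLFive.WRWeak

/-!
# S0511 (F), step (5), wreathed case: from the raw form of `ρ`
-/

set_option autoImplicit false

namespace Cfsg.Agent.TypeLFive.WRFiveOut

open Cfsg.Agent.TypeLFive.Model Cfsg.Agent.TypeLFive.Facts
open Cfsg.Agent.TwoFusion.QDBasic Cfsg.Agent.TwoFusion.WreathedBasic

variable {G W : Type*} [Group G] [Group W] {n : ℕ}

/-- `w ~ t ~ (d, d)` in the wreathed case; `ρ` centralises `Z(W₁) × W₂` and maps `(i, 1)` to `(j, v)`. -/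
theorem conj_w [Finite G] {S : Sylow 2 G} {f : W × W →* G} {w : G}
    {u : ZMod (2 ^ n) → ZMod (2 ^ n) → W} {s : W} (h : Wr (S : Subgroup G) f w)
    (hc : IsWCoord n u s) (hG : ∀ M : Subgroup G, M.index ≠ 2) {ρ : G} {v : W}
    (hv : v = 1 ∨ v = u (2 ^ (n - 1)) (2 ^ (n - 1)))
    (h1 : ∀ a y, ρ * f (u a a, y) = f (u a a, y) * ρ)
    (h2 : ρ * f (u (-(2 ^ (n - 2))) (2 ^ (n - 2)), 1) * ρ⁻¹ =
      f (u (2 ^ (n - 2)) (2 ^ (n - 2)) * s, v)) :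
    IsConj (f (u (2 ^ (n - 1)) (2 ^ (n - 1)), 1)) w ∧
      IsConj (f (u (2 ^ (n - 1)) (2 ^ (n - 1)), 1))
        (f (u (2 ^ (n - 1)) 0, u (2 ^ (n - 1)) 0)) := by
  have hb := wr_base hc
  have hvv : v * v = 1 := by
    rcases hv with rfl | rfl
    · rw [mul_one]
    · exact wr_zeta_sq hc
  have hρ' : ∀ a y, ρ⁻¹ * f (u a a, y) = f (u a a, y) * ρ⁻¹ := by
    intro a y
    rw [inv_mul_eq_iff_eq_mul, ← mul_assoc, h1, mul_inv_cancel_right]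
  refine WRFive.Ctx.main (S := S) (w := w) (u := u) (s := s) ⟨h, hc, ?_, TNotZ.not_conj h hb, ρ⁻¹, v, hv,
    hρ', ?_⟩ hG
  · intro g hg a b c d
    have h3 := WRWeak.weak h hc g (by
      rintro _ ⟨x, hx, rfl⟩
      obtain ⟨a, b, c, d, rfl⟩ := (WRWeak.mem_abA f hc x).1 hx
      exact hg a b c d)
    rw [← WRWeak.mem_abA f hc, ← h3]
    exact ⟨_, WRWeak.f_mem_abA f hc a b c d, rfl⟩
  · rw [inv_inv]
    have e1 : f (s, 1) = f (u (-(2 ^ (n - 2))) (-(2 ^ (n - 2))), v) *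
        f (u (2 ^ (n - 2)) (2 ^ (n - 2)) * s, v) := by
      rw [h.f_mul_f, hvv, ← mul_assoc, hc.u_mul, neg_add_cancel, hc.u_zero, one_mul]
    have e2 : ρ⁻¹ * f (u (2 ^ (n - 2)) (2 ^ (n - 2)) * s, v) * ρ =
        f (u (-(2 ^ (n - 2))) (2 ^ (n - 2)), 1) := by rw [← h2]; group
    have e3 : ρ⁻¹ * f (u (-(2 ^ (n - 2))) (-(2 ^ (n - 2))), v) * ρ =
        f (u (-(2 ^ (n - 2))) (-(2 ^ (n - 2))), v) := by rw [hρ']; group
    calc ρ⁻¹ * f (s, 1) * ρ = (ρ⁻¹ * f (u (-(2 ^ (n - 2))) (-(2 ^ (n - 2))), v) * ρ) *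
        (ρ⁻¹ * f (u (2 ^ (n - 2)) (2 ^ (n - 2)) * s, v) * ρ) := by rw [e1]; group
      _ = f (u (2 ^ (n - 1)) 0, v) := by
        rw [e2, e3, h.f_mul_f, hc.u_mul, mul_one, neg_add_cancel]
        congr 3
        have e4 := wr_half hc
        have e5 := wr_neg_half hc
        linear_combination e4 + e5

end Cfsg.Agent.TypeLFive.WRFiveOut
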