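import Mathlib

/-!
# The wreath product structure `S = W ≀ Z₂`

`Wr S f w`: `f : W → W → G` is an injective homomorphism `W × W → G`, `w` is an involution swapping
the two factors, and `S = f(W × W)⟨w⟩`.
-/

set_option autoImplicit false

namespace Cfsg.Agent.TypeLFive.Wreath

/-- `S` is the wreath product `W ≀ ⟨w⟩`, with base `f W W`. -/
structure Wr {G : Type*} [Group G] {W : Type*} [Group W] (S : Subgroup G) (f : W → W → G)
    (w : G) : Prop where
  f_mul : ∀ a b a' b', f a b * f a' b' = f (a * a') (b * b')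
  f_inj : ∀ a b, f a b = 1 → a = 1 ∧ b = 1
  w_w : w * w = 1
  w_f : ∀ a b, w * f a b = f b a * w
  w_ne : ∀ a b, w ≠ f a b
  mem_iff : ∀ g, g ∈ S ↔ (∃ a b, g = f a b) ∨ ∃ a b, g = f a b * w

namespace Wr

variable {G : Type*} [Group G] {W : Type*} [Group W] {S : Subgroup G} {f : W → W → G} {w : G}

theorem f_one (h : Wr S f w) : f 1 1 = 1 := by
  have h1 := h.f_mul 1 1 1 1
  rw [one_mul] at h1
  exact mul_eq_left.1 h1

theorem f_inv (h : Wr S f w) (a b : W) : (f a b)⁻¹ = f a⁻¹ b⁻¹ := by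
  rw [inv_eq_iff_mul_eq_one, h.f_mul, mul_inv_cancel, mul_inv_cancel, h.f_one]

theorem f_injective (h : Wr S f w) {a b a' b' : W} (he : f a b = f a' b') : a = a' ∧ b = b' := by
  have h1 : f (a'⁻¹ * a) (b'⁻¹ * b) = 1 := by
    rw [← h.f_mul, ← h.f_inv, he, inv_mul_cancel]
  obtain ⟨h2, h3⟩ := h.f_inj _ _ h1
  exact ⟨(inv_mul_eq_one.1 h2).symm, (inv_mul_eq_one.1 h3).symm⟩

theorem f_mem (h : Wr S f w) (a b : W) : f a b ∈ S := (h.mem_iff _).2 (Or.inl ⟨a, b, rfl⟩)

theorem w_mem (h : Wr S f w) : w ∈ S :=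
  (h.mem_iff _).2 (Or.inr ⟨1, 1, by rw [h.f_one, one_mul]⟩)

theorem w_inv (h : Wr S f w) : w⁻¹ = w := inv_eq_of_mul_eq_one_left h.w_w

theorem w_conj (h : Wr S f w) (a b : W) : w * f a b * w⁻¹ = f b a := by
  rw [h.w_f]; group

/-- the base group -/
def T (h : Wr S f w) : Subgroup G where
  carrier := {g | ∃ a b, g = f a b}
  one_mem' := ⟨1, 1, h.f_one.symm⟩
  mul_mem' := by
    rintro _ _ ⟨a, b, rfl⟩ ⟨a', b', rfl⟩
    exact ⟨a * a', b * b', h.f_mul _ _ _ _⟩
  inv_mem' := by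
    rintro _ ⟨a, b, rfl⟩
    exact ⟨a⁻¹, b⁻¹, h.f_inv _ _⟩

theorem mem_T (h : Wr S f w) (g : G) : g ∈ h.T ↔ ∃ a b, g = f a b := Iff.rfl

/-- transport by a conjugation -/
theorem conj (h : Wr S f w) (g : G) :
    Wr (S.map (MulAut.conj g).toMonoidHom) (fun a b => g * f a b * g⁻¹) (g * w * g⁻¹) where
  f_mul a b a' b' := by
    rw [← h.f_mul]; group
  f_inj a b hab := by
    apply h.f_inj
    have h1 : f a b = g⁻¹ * (g * f a b * g⁻¹) * g := by group
    have hab' : g * f a b * g⁻¹ = 1 := hab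
    rw [h1, hab']; group
  w_w := by
    have h1 : g * w * g⁻¹ * (g * w * g⁻¹) = g * (w * w) * g⁻¹ := by group
    rw [h1, h.w_w]; group
  w_f a b := by
    have h1 : g * w * g⁻¹ * (g * f a b * g⁻¹) = g * (w * f a b) * g⁻¹ := by group
    rw [h1, h.w_f]; group
  w_ne a b := by
    intro hc
    apply h.w_ne a b
    exact mul_left_cancel (mul_right_cancel hc)
  mem_iff x := by
    simp only [Subgroup.mem_map, MulEquiv.coe_toMonoidHom, MulAut.conj_apply]
    constructor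
    · rintro ⟨y, hy, rfl⟩
      rcases (h.mem_iff y).1 hy with ⟨a, b, rfl⟩ | ⟨a, b, rfl⟩
      · exact Or.inl ⟨a, b, rfl⟩
      · exact Or.inr ⟨a, b, by group⟩
    · rintro (⟨a, b, rfl⟩ | ⟨a, b, rfl⟩)
      · exact ⟨f a b, h.f_mem a b, rfl⟩
      · exact ⟨f a b * w, S.mul_mem (h.f_mem a b) h.w_mem, by group⟩

/-- transport by an isomorphism of the two subgroups -/
theorem of_equiv {H : Type*} [Group H] {P : Subgroup H} (h : Wr S f w) (e : S ≃* P) :
    Wr P (fun a b => ((e ⟨f a b, h.f_mem a b⟩ : P) : H)) ((e ⟨w, h.w_mem⟩ : P) : H) where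
  f_mul a b a' b' := by
    rw [← Subgroup.coe_mul, ← map_mul]
    congr 2
    exact Subtype.ext (h.f_mul _ _ _ _)
  f_inj a b hab := by
    apply h.f_inj
    have h1 : e ⟨f a b, h.f_mem a b⟩ = 1 := Subtype.ext hab
    have h2 := (MulEquiv.map_eq_one_iff e).1 h1
    exact congrArg Subtype.val h2
  w_w := by
    rw [← Subgroup.coe_mul, ← map_mul]
    have h1 : (⟨w, h.w_mem⟩ * ⟨w, h.w_mem⟩ : S) = 1 := Subtype.ext h.w_w
    rw [h1, map_one]; rfl
  w_f a b := by
    rw [← Subgroup.coe_mul, ← Subgroup.coe_mul, ← map_mul, ← map_mul]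
    congr 2
    exact Subtype.ext (h.w_f _ _)
  w_ne a b := by
    intro hc
    apply h.w_ne a b
    have h1 := e.injective (Subtype.ext hc : e ⟨w, h.w_mem⟩ = e ⟨f a b, h.f_mem a b⟩)
    exact congrArg Subtype.val h1
  mem_iff x := by
    constructor
    · intro hx
      obtain ⟨y, hy⟩ := e.surjective ⟨x, hx⟩
      have hx' : x = ((e y : P) : H) := by rw [hy]
      rcases (h.mem_iff y).1 y.2 with ⟨a, b, hab⟩ | ⟨a, b, hab⟩
      · refine Or.inl ⟨a, b, ?_⟩
        rw [hx']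
        congr 2
        exact Subtype.ext hab
      · refine Or.inr ⟨a, b, ?_⟩
        rw [hx', ← Subgroup.coe_mul, ← map_mul]
        congr 2
        exact Subtype.ext hab
    · rintro (⟨a, b, rfl⟩ | ⟨a, b, rfl⟩)
      · exact (e _).2
      · rw [← Subgroup.coe_mul]
        exact (e _ * e _).2

/-- twist by a homomorphism `μ : W → Z(W)` -/
theorem twist (h : Wr S f w) (μ : W →* W) (hz : ∀ a b, μ a * b = b * μ a)
    (hi : ∀ a b, a * μ b = 1 → b * μ a = 1 → a = 1 ∧ b = 1)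
    (hs : ∀ a b, ∃ a' b', a' * μ b' = a ∧ b' * μ a' = b) :
    Wr S (fun a b => f (a * μ b) (b * μ a)) w where
  f_mul a b a' b' := by
    rw [h.f_mul, map_mul, map_mul]
    congr 1
    · calc a * μ b * (a' * μ b') = a * (μ b * a') * μ b' := by group
        _ = a * (a' * μ b) * μ b' := by rw [hz]
        _ = _ := by group
    · calc b * μ a * (b' * μ a') = b * (μ a * b') * μ a' := by group
        _ = b * (b' * μ a) * μ a' := by rw [hz]
        _ = _ := by group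
  f_inj a b hab := by
    obtain ⟨h1, h2⟩ := h.f_inj _ _ hab
    exact hi a b h1 h2
  w_w := h.w_w
  w_f a b := h.w_f _ _
  w_ne a b := h.w_ne _ _
  mem_iff g := by
    rw [h.mem_iff]
    constructor
    · rintro (⟨a, b, rfl⟩ | ⟨a, b, rfl⟩)
      · obtain ⟨a', b', h1, h2⟩ := hs a b
        exact Or.inl ⟨a', b', by rw [h1, h2]⟩
      · obtain ⟨a', b', h1, h2⟩ := hs a b
        exact Or.inr ⟨a', b', by rw [h1, h2]⟩
    · rintro (⟨a, b, rfl⟩ | ⟨a, b, rfl⟩)
      · exact Or.inl ⟨_, _, rfl⟩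
      · exact Or.inr ⟨_, _, rfl⟩

theorem f_mul_w_ne (h : Wr S f w) (a b a' b' : W) : f a b * w ≠ f a' b' := by
  intro hc
  apply h.w_ne (a⁻¹ * a') (b⁻¹ * b')
  rw [← h.f_mul, ← h.f_inv, ← hc, inv_mul_cancel_left]

/-- `|S| = 2 |W|²` -/
theorem card_eq (h : Wr S f w) : Nat.card S = 2 * Nat.card W ^ 2 := by
  let F : (W × W) ⊕ (W × W) → S := Sum.elim (fun p => ⟨f p.1 p.2, h.f_mem _ _⟩)
    (fun p => ⟨f p.1 p.2 * w, S.mul_mem (h.f_mem _ _) h.w_mem⟩)
  have hF : Function.Bijective F := by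
    constructor
    · rintro (⟨a, b⟩ | ⟨a, b⟩) (⟨a', b'⟩ | ⟨a', b'⟩) he
      · have h1 : f a b = f a' b' := congrArg Subtype.val he
        obtain ⟨h2, h3⟩ := h.f_injective h1
        rw [h2, h3]
      · exact absurd (congrArg Subtype.val he).symm (h.f_mul_w_ne _ _ _ _)
      · exact absurd (congrArg Subtype.val he) (h.f_mul_w_ne _ _ _ _)
      · have h1 : f a b * w = f a' b' * w := congrArg Subtype.val he
        obtain ⟨h2, h3⟩ := h.f_injective (mul_right_cancel h1)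
        rw [h2, h3]
    · rintro ⟨x, hx⟩
      rcases (h.mem_iff x).1 hx with ⟨a, b, rfl⟩ | ⟨a, b, rfl⟩
      · exact ⟨Sum.inl (a, b), rfl⟩
      · exact ⟨Sum.inr (a, b), rfl⟩
  rw [← Nat.card_congr (Equiv.ofBijective F hF)]
  rcases finite_or_infinite W with hW | hW
  · rw [Nat.card_sum, Nat.card_prod]; ring
  · rw [Nat.card_eq_zero_of_infinite, Nat.card_eq_zero_of_infinite]; norm_num

end Wr

end Cfsg.Agent.TypeLFive.Wreath
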